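import Mathlib
import Cfsg.Agent.Lib.FGS83.SecRank
import Cfsg.Agent.Lib.FGS83.MacA
import Cfsg.Agent.Lib.Core.Coprime
import Cfsg.Agent.Lib.Core.MinNormal
import Cfsg.Agent.Lib.Core.GrpBasic
import Cfsg.Agent.Lib.TwoGrp.Three
import Cfsg.Agent.Lib.PGroup.Basic

/-!
Normal 2-subgroups of groups of sectional 2-rank four: general tools.
-/

set_option autoImplicit false

namespace H83.R4

open Subgroup

variable {X : Type*} [Group X]

/-- The subgroup generated by the squares of the elements of `Q`. -/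
def sqs (Q : Subgroup X) : Subgroup X := closure {y | ∃ x ∈ Q, x * x = y}

theorem sq_mem {Q : Subgroup X} {x : X} (hx : x ∈ Q) : x * x ∈ sqs Q := subset_closure ⟨x, hx, rfl⟩

theorem sqs_le_iff {Q K : Subgroup X} : sqs Q ≤ K ↔ ∀ x ∈ Q, x * x ∈ K := by
  rw [sqs, closure_le]
  exact ⟨fun h x hx => h ⟨x, hx, rfl⟩, by rintro h _ ⟨x, hx, rfl⟩; exact h x hx⟩

theorem sqs_le (Q : Subgroup X) : sqs Q ≤ Q := sqs_le_iff.2 fun _ hx => Q.mul_mem hx hx

theorem map_sqs {Y : Type*} [Group Y] (f : X →* Y) (Q : Subgroup X) :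
    (sqs Q).map f = sqs (Q.map f) := by
  apply le_antisymm
  · rw [map_le_iff_le_comap, sqs_le_iff]
    intro x hx
    rw [mem_comap, map_mul]
    exact sq_mem ⟨x, hx, rfl⟩
  · rw [sqs_le_iff]
    rintro _ ⟨x, hx, rfl⟩
    exact ⟨x * x, sq_mem hx, map_mul _ _ _⟩

theorem conj_mem_sqs {Q : Subgroup X} {g : X} (hg : ∀ x ∈ Q, g * x * g⁻¹ ∈ Q) {f : X}
    (hf : f ∈ sqs Q) : g * f * g⁻¹ ∈ sqs Q := by
  have : sqs Q ≤ (sqs Q).comap (MulAut.conj g).toMonoidHom := by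
    rw [sqs_le_iff]
    intro x hx
    have := sq_mem (hg x hx)
    simpa [mul_assoc] using this
  exact this hf

theorem mem_norm (Q : Subgroup X) [Q.Normal] (g : X) : g ∈ normalizer (Q : Set X) := by
  rw [normalizer_eq_top]; trivial

theorem mem_norm_sqs {Q : Subgroup X} {g : X} (hg : g ∈ normalizer (Q : Set X)) :
    g ∈ normalizer (sqs Q : Set X) := by
  rw [mem_normalizer_iff]
  intro f
  refine ⟨conj_mem_sqs fun x hx => (mem_normalizer_iff.1 hg x).1 hx, fun hf => ?_⟩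
  have := conj_mem_sqs (g := g⁻¹) (fun x hx => (mem_normalizer_iff.1 (inv_mem hg) x).1 hx) hf
  simpa [mul_assoc] using this

instance sqs_normal (Q : Subgroup X) [hQ : Q.Normal] : (sqs Q).Normal :=
  ⟨fun _ hf g => conj_mem_sqs (fun x hx => hQ.conj_mem x hx g) hf⟩

theorem comm_mem {Q : Subgroup X} {x y : X} (hx : x ∈ Q) (hy : y ∈ Q) :
    x * y * x⁻¹ * y⁻¹ ∈ sqs Q := by
  have : x * y * x⁻¹ * y⁻¹ = (x * x) * ((x⁻¹ * y) * (x⁻¹ * y)) * (y⁻¹ * y⁻¹) := by group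
  rw [this]
  exact mul_mem (mul_mem (sq_mem hx) (sq_mem (Q.mul_mem (Q.inv_mem hx) hy))) (sq_mem (Q.inv_mem hy))

variable [Finite X]

theorem sqs_le_frattini {Q : Subgroup X} (h2 : IsPGroup 2 Q) :
    sqs Q ≤ (frattini Q).map Q.subtype :=
  sqs_le_iff.2 fun x hx => by
    rw [← pow_two]; exact H5.pow_mem_map_frattini h2 hx

theorem eq_of_sup {Q K : Subgroup X} (h2 : IsPGroup 2 Q) (hK : K ≤ Q) (h : Q ≤ sqs Q ⊔ K) : K = Q :=
  H2.eq_of_sup_frattini hK (h.trans (sup_le_sup_right (sqs_le_frattini h2) _))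

omit [Finite X] in
theorem conj_pow_eq_one {s : X} {r : ℕ} (hs : s ^ r = 1) : (MulAut.conj s) ^ r = 1 := by
  rw [← map_pow, hs, map_one]

theorem card_modEq {r : ℕ} [Fact r.Prime] {s : X} (hs : s ^ r = 1) {H : Subgroup X}
    (hn : ∀ x ∈ H, s * x * s⁻¹ ∈ H) :
    Nat.card H ≡ Nat.card ↥(H ⊓ centralizer {s}) [MOD r] := by
  have := H13.TG.ncard_modEq (conj_pow_eq_one hs) (H : Set X) hn
  rw [Mac.card_eq_ncard, Mac.card_eq_ncard]
  convert this using 2
  ext x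
  simp only [coe_inf, Set.mem_inter_iff, SetLike.mem_coe, mem_centralizer_singleton_iff,
    H5.mem_fixedSub, MulAut.conj_apply, mul_inv_eq_iff_eq_mul]
  exact and_congr_right fun _ => eq_comm

theorem pow_le_four {a : ℕ} (h : 2 ^ a ≤ 16) : a ≤ 4 := by
  by_contra hc
  have : 2 ^ 5 ≤ 2 ^ a := Nat.pow_le_pow_right (by norm_num) (by omega)
  omega

/-- Orders of `H` and of the fixed subgroup. -/
theorem exists_exps {H : Subgroup X} (h2 : IsPGroup 2 H) (h16 : Nat.card H ≤ 16) {s x : X}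
    (hx : x ∈ H) (hne : s * x * s⁻¹ ≠ x) :
    ∃ a b, Nat.card H = 2 ^ a ∧ Nat.card ↥(H ⊓ centralizer {s}) = 2 ^ b ∧ b < a ∧ a ≤ 4 := by
  haveI : Fact (Nat.Prime 2) := ⟨Nat.prime_two⟩
  obtain ⟨a, ha⟩ := h2.exists_card_eq
  obtain ⟨b, hb⟩ := (h2.to_le (inf_le_left : H ⊓ centralizer {s} ≤ H)).exists_card_eq
  refine ⟨a, b, ha, hb, ?_, pow_le_four (ha ▸ h16)⟩
  have : H ⊓ centralizer {s} < H := lt_of_le_of_ne inf_le_left fun e => hne (by
    have := mem_centralizer_singleton_iff.1 (e.ge hx).2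
    rw [← this]; group)
  have := H1.card_lt_of_lt this
  rw [ha, hb] at this
  exact (Nat.pow_lt_pow_iff_right (by norm_num)).1 this

theorem five {H : Subgroup X} (h2 : IsPGroup 2 H) (h16 : Nat.card H ≤ 16) {s x : X} (hs : s ^ 5 = 1)
    (hn : ∀ x ∈ H, s * x * s⁻¹ ∈ H) (hx : x ∈ H) (hne : s * x * s⁻¹ ≠ x) :
    Nat.card H = 16 ∧ ∀ y ∈ H, s * y * s⁻¹ = y → y = 1 := by
  haveI : Fact (Nat.Prime 5) := ⟨by norm_num⟩
  obtain ⟨a, b, ha, hb, hab, ha4⟩ := exists_exps h2 h16 hx hne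
  have hm := card_modEq hs hn
  rw [ha, hb] at hm
  have : a = 4 ∧ b = 0 := by
    have hb3 : b ≤ 3 := by omega
    interval_cases a <;> interval_cases b <;> simp_all [Nat.ModEq]
  obtain ⟨rfl, rfl⟩ := this
  refine ⟨ha, fun y hy e => ?_⟩
  have h1 : H ⊓ centralizer {s} = ⊥ := card_eq_one.1 hb
  have : y ∈ H ⊓ centralizer {s} := ⟨hy, mem_centralizer_singleton_iff.2 (by
    conv_lhs => rw [← e]
    group)⟩
  rwa [h1, mem_bot] at this

/-- A dihedral group of order ten: the involution has few fixed points. -/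
theorem d10 {H : Subgroup X} {s t : X} (hs : s ^ 5 = 1) (hst : t * s * t⁻¹ = s⁻¹)
    (hn : ∀ x ∈ H, s * x * s⁻¹ ∈ H) (hf : ∀ y ∈ H, s * y * s⁻¹ = y → y = 1) :
    Nat.card ↥(H ⊓ centralizer {t}) * Nat.card ↥(H ⊓ centralizer {t}) ≤ Nat.card H := by
  rw [← Nat.card_prod]
  refine Nat.card_le_card_of_injective
    (fun p => (⟨p.1.1 * (s * p.2.1 * s⁻¹), H.mul_mem p.1.2.1 (hn _ p.2.2.1)⟩ : H)) ?_
  rintro ⟨⟨a, ha, ha'⟩, ⟨b, hb, hb'⟩⟩ ⟨⟨c, hc, hc'⟩, ⟨d, hd, hd'⟩⟩ e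
  have e : a * (s * b * s⁻¹) = c * (s * d * s⁻¹) := congrArg Subtype.val e
  have h1 : c⁻¹ * a ∈ centralizer {t} := mul_mem (inv_mem hc') ha'
  have h2 : d * b⁻¹ ∈ centralizer {t} := mul_mem hd' (inv_mem hb')
  rw [mem_centralizer_singleton_iff] at h1 h2
  have h3 : c⁻¹ * a = s * (d * b⁻¹) * s⁻¹ := by
    calc c⁻¹ * a = c⁻¹ * (a * (s * b * s⁻¹)) * (s * b⁻¹ * s⁻¹) := by group
      _ = _ := by rw [e]; group
  set y := d * b⁻¹ with hy
  have hyH : y ∈ H := H.mul_mem hd (H.inv_mem hb)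
  have h4 : s * s * y = y * (s * s) := by
    rw [h3] at h1
    have k1 : s * t = t * s⁻¹ := by
      have : t * s⁻¹ * t⁻¹ = s := by
        calc t * s⁻¹ * t⁻¹ = (t * s * t⁻¹)⁻¹ := by group
          _ = s := by rw [hst, inv_inv]
      conv_lhs => rw [← this]
      group
    have k1' : s⁻¹ * t = t * s := by rw [← hst]; group
    have k2 : t * (s⁻¹ * y * s) = t * (s * y * s⁻¹) := by
      calc t * (s⁻¹ * y * s) = s * t * y * s := by rw [k1]; group
        _ = s * (y * t) * s := by rw [h2]; group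
        _ = s * y * (t * s) := by group
        _ = s * y * s⁻¹ * t := by rw [← k1']; group
        _ = _ := h1
    have k3 := mul_left_cancel k2
    calc s * s * y = s * (s * y * s⁻¹) * s := by group
      _ = s * (s⁻¹ * y * s) * s := by rw [k3]
      _ = _ := by group
  have h5 : s * y * s⁻¹ = y := by
    have : s = (s * s) ^ 3 := by
      calc s = s ^ 5 * s := by rw [hs, one_mul]
        _ = _ := by rw [← pow_two, ← pow_mul, ← pow_succ]
    have hc : Commute (s * s) y := h4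
    rw [this, (hc.pow_left 3).eq]; group
  have h6 := hf y hyH h5
  have hb1 : d = b := by rw [hy] at h6; exact mul_inv_eq_one.1 h6
  subst hb1
  have : a = c := mul_right_cancel e
  subst this
  rfl

/-- An involution acting on an elementary abelian group has many fixed points. -/
theorem card_le_sq {H : Subgroup X} (he : ∀ x ∈ H, x * x = 1) {t : X}
    (hn : ∀ x ∈ H, t * x * t⁻¹ ∈ H) (ht : ∀ x ∈ H, t * (t * x * t⁻¹) * t⁻¹ = x) :
    Nat.card H ≤ Nat.card ↥(H ⊓ centralizer {t}) * Nat.card ↥(H ⊓ centralizer {t}) := by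
  have hi : ∀ x ∈ H, x⁻¹ = x := fun x hx => inv_eq_of_mul_eq_one_right (he x hx)
  have hc : ∀ x ∈ H, ∀ y ∈ H, x * y = y * x := fun x hx y hy => by
    rw [← hi _ (H.mul_mem hx hy), mul_inv_rev, hi x hx, hi y hy]
  rw [Mac.card_eq_ncard H]
  conv_rhs => rhs; rw [Mac.card_eq_ncard]
  refine Mac.ncard_le_mul (fun x => x * (t * x * t⁻¹)) (fun a ha => ?_) _ ?_
  · refine ⟨H.mul_mem ha (hn a ha), ?_⟩
    show _ ∈ centralizer {t}
    rw [mem_centralizer_singleton_iff]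
    calc a * (t * a * t⁻¹) * t = (t * a * t⁻¹) * a * t := by rw [hc a ha _ (hn a ha)]
      _ = (t * a * t⁻¹) * (t * (t * a * t⁻¹) * t⁻¹) * t := by rw [ht a ha]
      _ = _ := by group
  · intro a ha
    rw [Mac.card_eq_ncard]
    refine Mac.ncard_le_of_inj (fun x => a * x) ?_ (fun x _ y _ e => mul_left_cancel e)
    rintro x ⟨hx, e⟩
    refine ⟨H.mul_mem ha hx, ?_⟩
    show _ ∈ centralizer {t}
    rw [mem_centralizer_singleton_iff]
    have e : x * (t * x * t⁻¹) = a * (t * a * t⁻¹) := e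
    have h1 : t * (a * x) * t⁻¹ = a * x := by
      calc t * (a * x) * t⁻¹ = (t * a * t⁻¹) * (t * x * t⁻¹) := by group
        _ = (a⁻¹ * (a * (t * a * t⁻¹))) * (t * x * t⁻¹) := by group
        _ = a⁻¹ * x * ((t * x * t⁻¹) * (t * x * t⁻¹)) := by rw [← e]; group
        _ = _ := by rw [he _ (hn x hx), mul_one, hi a ha]
    conv_lhs => rw [← h1]
    group

/-- A minimal normal subgroup inside a normal 2-subgroup is central in it and elementary. -/
theorem minNormal_two {Q M : Subgroup X} [Q.Normal] (h2 : IsPGroup 2 Q) (hM : H3.IsMinNormal M)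
    (hMQ : M ≤ Q) : (∀ m ∈ M, ∀ x ∈ Q, x * m = m * x) ∧ ∀ m ∈ M, m * m = 1 := by
  haveI : Fact (Nat.Prime 2) := ⟨Nat.prime_two⟩
  haveI := hM.1
  obtain ⟨z, hz, hzc, hz2⟩ := H5.exists_mem_centralizer_orderOf_eq h2 hMQ le_normalizer_of_normal hM.2
  have hz1 : z ≠ 1 := by rintro rfl; simp at hz2
  have h1 : M ≤ centralizer (Q : Set X) := by
    rcases hM.inf_eq_bot_or_le (centralizer (Q : Set X)) with h | h
    · exact absurd (mem_bot.1 (h ▸ (⟨hz, hzc⟩ : z ∈ M ⊓ centralizer (Q : Set X)))) hz1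
    · exact h
  refine ⟨fun m hm x hx => h1 hm x hx, ?_⟩
  let K : Subgroup X :=
    { carrier := {m | m ∈ M ∧ m * m = 1}
      one_mem' := ⟨M.one_mem, one_mul _⟩
      mul_mem' := by
        rintro a b ⟨ha, ha'⟩ ⟨hb, hb'⟩
        refine ⟨M.mul_mem ha hb, ?_⟩
        calc a * b * (a * b) = a * (b * a) * b := by group
          _ = a * a * (b * b) := by rw [h1 ha b (hMQ hb)]; group
          _ = 1 := by rw [ha', hb', one_mul]
      inv_mem' := by
        rintro a ⟨ha, ha'⟩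
        exact ⟨M.inv_mem ha, by rw [← mul_inv_rev, ha', inv_one]⟩ }
  haveI : K.Normal := ⟨by
    rintro a ⟨ha, ha'⟩ g
    refine ⟨hM.1.conj_mem a ha g, ?_⟩
    calc g * a * g⁻¹ * (g * a * g⁻¹) = g * (a * a) * g⁻¹ := by group
      _ = 1 := by rw [ha']; group⟩
  rcases hM.inf_eq_bot_or_le K with h | h
  · refine absurd (mem_bot.1 (h ▸ (⟨hz, hz, ?_⟩ : z ∈ M ⊓ K))) hz1
    rw [← pow_two, ← hz2, pow_orderOf_eq_one]
  · exact fun m hm => (h hm).2

end H83.R4
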