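import Mathlib
import Cfsg.Agent.Lib.FGS83.R4A
import Cfsg.Agent.Lib.TwoFusion.QD

/-!
Class two calculus, and a normal 2-subgroup with an automorphism of order five.
-/

set_option autoImplicit false

namespace H83.R4

open Subgroup
open scoped commutatorElement

variable {X : Type*} [Group X]

/-- The commutator. -/
def b (x y : X) : X := x * y * x⁻¹ * y⁻¹

theorem b_conj (g x y : X) : b (g * x * g⁻¹) (g * y * g⁻¹) = g * b x y * g⁻¹ := by
  simp only [b]; group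

theorem b_self (x : X) : b x x = 1 := by simp only [b]; group

theorem b_eq_one_iff {x y : X} : b x y = 1 ↔ x * y = y * x := by
  rw [b, mul_inv_eq_one, mul_inv_eq_iff_eq_mul]

theorem mul_eq_b (x y : X) : x * y = b x y * (y * x) := by simp only [b]; group

/-- `F` is an elementary abelian central subgroup of `Q` containing all squares. -/
structure C2 (Q F : Subgroup X) : Prop where
  le : F ≤ Q
  sq : ∀ x ∈ Q, x * x ∈ F
  cent : ∀ f ∈ F, ∀ x ∈ Q, x * f = f * x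
  el : ∀ f ∈ F, f * f = 1

namespace C2

variable {Q F : Subgroup X} (h : C2 Q F)
include h

theorem b_mem {x y : X} (hx : x ∈ Q) (hy : y ∈ Q) : b x y ∈ F :=
  sqs_le_iff.2 h.sq (comm_mem hx hy)

theorem inv {f : X} (hf : f ∈ F) : f⁻¹ = f := inv_eq_of_mul_eq_one_right (h.el f hf)

theorem comm {f g : X} (hf : f ∈ F) (hg : g ∈ F) : f * g = g * f := (h.cent f hf g (h.le hg)).symm

theorem conj {f x : X} (hf : f ∈ F) (hx : x ∈ Q) : x * f * x⁻¹ = f := by
  rw [h.cent f hf x hx]; group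

theorem b_comm {x y : X} (hx : x ∈ Q) (hy : y ∈ Q) : b x y = b y x := by
  rw [← h.inv (h.b_mem hx hy)]; simp only [b]; group

theorem b_mul_left {x y z : X} (hx : x ∈ Q) (hy : y ∈ Q) (hz : z ∈ Q) :
    b (x * y) z = b x z * b y z := by
  rw [h.comm (h.b_mem hx hz) (h.b_mem hy hz), ← h.conj (h.b_mem hy hz) hx]
  simp only [b]; group

theorem b_mul_right {x y z : X} (hx : x ∈ Q) (hy : y ∈ Q) (hz : z ∈ Q) :
    b x (y * z) = b x y * b x z := by
  rw [h.b_comm hx (Q.mul_mem hy hz), h.b_mul_left hy hz hx, h.b_comm hy hx, h.b_comm hz hx]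

theorem b_left {f x : X} (hf : f ∈ F) (hx : x ∈ Q) : b f x = 1 :=
  b_eq_one_iff.2 (h.cent f hf x hx).symm

theorem b_right {f x : X} (hf : f ∈ F) (hx : x ∈ Q) : b x f = 1 :=
  b_eq_one_iff.2 (h.cent f hf x hx)

theorem b_inv_left {x y : X} (hx : x ∈ Q) (hy : y ∈ Q) : b x⁻¹ y = b x y := by
  have h1 := h.b_mul_left hx (Q.inv_mem hx) hy
  rw [mul_inv_cancel, h.b_left F.one_mem hy] at h1
  rw [← h.inv (h.b_mem hx hy)]
  exact (eq_inv_of_mul_eq_one_right h1.symm)

theorem b_inv_right {x y : X} (hx : x ∈ Q) (hy : y ∈ Q) : b x y⁻¹ = b x y := by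
  rw [h.b_comm hx (Q.inv_mem hy), h.b_inv_left hy hx, h.b_comm hy hx]

theorem q_mul {x y : X} (hx : x ∈ Q) (hy : y ∈ Q) :
    x * y * (x * y) = x * x * (y * y) * b x y := by
  have h1 : x * y * (x * y) = x * (b y x) * x⁻¹ * (x * x * (y * y)) := by simp only [b]; group
  rw [h1, h.conj (h.b_mem hy hx) hx, h.b_comm hy hx]
  exact h.comm (h.b_mem hx hy) (F.mul_mem (h.sq x hx) (h.sq y hy))

theorem q_inv {x : X} (hx : x ∈ Q) : x⁻¹ * x⁻¹ = x * x := by
  rw [← mul_inv_rev, h.inv (h.sq x hx)]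

theorem q_mul_F {x f : X} (hx : x ∈ Q) (hf : f ∈ F) : x * f * (x * f) = x * x := by
  rw [h.q_mul hx (h.le hf), h.el f hf, h.b_right hf hx, mul_one, mul_one]

theorem q_F_mul {x f : X} (hx : x ∈ Q) (hf : f ∈ F) : f * x * (f * x) = x * x := by
  rw [← h.cent f hf x hx, h.q_mul_F hx hf]

theorem q_congr {x y : X} (hx : x ∈ Q) (hf : x⁻¹ * y ∈ F) : y * y = x * x := by
  rw [← h.q_mul_F hx hf]; group

end C2

variable [Finite X]

theorem coprime_zpowers {Q : Subgroup X} (h2 : IsPGroup 2 Q) {s : X} {r : ℕ} (hr : Odd r)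
    (hs : s ^ r = 1) : (Nat.card (zpowers s)).Coprime (Nat.card Q) := by
  haveI : Fact (Nat.Prime 2) := ⟨Nat.prime_two⟩
  refine H2.coprime_card_of_isPGroup ?_ h2
  rw [Nat.card_zpowers]
  exact Nat.Coprime.coprime_dvd_left (orderOf_dvd_of_pow_eq_one hs) (Nat.coprime_two_right.2 hr)

omit [Finite X] in
theorem zpowers_le_cent {s : X} {K : Subgroup X} (h : ∀ x ∈ K, s * x * s⁻¹ = x) :
    zpowers s ≤ centralizer (K : Set X) := by
  rw [zpowers_le]
  intro x hx
  conv_lhs => rw [← h x hx]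
  group

omit [Finite X] in
theorem conj_eq_of_cent {s x : X} {K : Subgroup X} (h : s ∈ centralizer (K : Set X)) (hx : x ∈ K) :
    s * x * s⁻¹ = x := by
  rw [← h x hx]; group

omit [Finite X] in
theorem conj_eq_of_cent' {s x : X} (h : x ∈ centralizer (zpowers s : Set X)) :
    s * x * s⁻¹ = x := by
  rw [h s (mem_zpowers s)]; group

/-- If `s` has odd order, has no fixed point on `Q / Φ(Q)` and centralises `Φ(Q)`, then `Φ(Q)` is
central and elementary. -/
theorem c2_of_fpf {Q : Subgroup X} (h2 : IsPGroup 2 Q) {s : X} {r : ℕ} (hr : Odd r) (hs : s ^ r = 1)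
    (hn : s ∈ normalizer (Q : Set X)) (hf : ∀ x ∈ Q, s * x * s⁻¹ = x → x ∈ sqs Q)
    (hc : ∀ f ∈ sqs Q, s * f * s⁻¹ = f) : C2 Q (sqs Q) := by
  have hA : zpowers s ≤ normalizer (Q : Set X) := zpowers_le.2 hn
  have gen : ∀ K : Subgroup X, K ≤ Q → (∀ g ∈ Q, ∀ a ∈ zpowers s, ⁅g, a⁆ ∈ K) → K = Q := by
    intro K hK hg
    refine eq_of_sup h2 hK ?_
    conv_lhs => rw [← H2.commutator_sup_centralizer hA (coprime_zpowers h2 hr hs)
      (Or.inl (H2.isSolvable_zpowers s))]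
    refine sup_le (le_sup_of_le_right (commutator_le.2 hg)) (le_sup_of_le_left ?_)
    exact fun x hx => hf x hx.1 (conj_eq_of_cent' hx.2)
  have hz := zpowers_le_cent hc
  have hQ : ∀ g ∈ Q, ∀ a ∈ zpowers s, a * g * a⁻¹ ∈ Q := fun g hg a ha =>
    H2.conj_mem_of_le_normalizer hA ha hg
  have hQ' : ∀ g ∈ Q, ∀ a ∈ zpowers s, ⁅g, a⁆ ∈ Q := fun g hg a ha => by
    have := Q.mul_mem hg (hQ _ (Q.inv_mem hg) a ha)
    rwa [commutatorElement_def, mul_assoc, mul_assoc, ← mul_assoc a]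
  have h1 : ∀ f ∈ sqs Q, ∀ x ∈ Q, x * f = f * x := by
    have := gen (Q ⊓ centralizer (sqs Q : Set X)) inf_le_left (fun g hg a ha => ⟨hQ' g hg a ha, by
      intro f hf
      have e1 := hz ha f hf
      have e2 := hz ha _ (conj_mem_sqs (g := g⁻¹) (fun x hx => by
        simpa using Q.mul_mem (Q.mul_mem (Q.inv_mem hg) hx) hg) hf)
      rw [commutatorElement_def]
      calc f * (g * a * g⁻¹ * a⁻¹) = g * (g⁻¹ * f * g⁻¹⁻¹ * a) * g⁻¹ * a⁻¹ := by group
        _ = g * a * g⁻¹ * a⁻¹ * (a * f) * a⁻¹ := by rw [e2]; group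
        _ = _ := by rw [← e1]; group⟩)
    exact fun f hf x hx => ((this.ge hx).2 f hf).symm
  have h3 : ∀ x ∈ Q, ∀ y ∈ Q, x * y * (x * y) * (x * y * (x * y)) =
      x * x * (x * x) * (y * y * (y * y)) := by
    intro x hx y hy
    have c1 := comm_mem hy hx
    have c2 : y * x * y⁻¹ * x⁻¹ * (y * x * y⁻¹ * x⁻¹) = 1 := by
      calc y * x * y⁻¹ * x⁻¹ * (y * x * y⁻¹ * x⁻¹)
          = y * x * y⁻¹ * (x⁻¹ * (y * x * y⁻¹ * x⁻¹)) := by group
        _ = y * x * y⁻¹ * ((y * x * y⁻¹ * x⁻¹) * x⁻¹) := by rw [h1 _ c1 _ (Q.inv_mem hx)]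
        _ = y * (x * x) * y⁻¹ * (x * x)⁻¹ := by group
        _ = 1 := by rw [h1 _ (sq_mem hx) y hy]; group
    set c := y * x * y⁻¹ * x⁻¹ with hc'
    have c3 : x * y * (x * y) = c * (x * x) * (y * y) := by
      calc x * y * (x * y) = x * c * x * (y * y) := by rw [hc']; group
        _ = _ := by rw [h1 c c1 x hx]; group
    have c4 := h1 c c1 _ (Q.mul_mem (Q.mul_mem hx hx) (Q.mul_mem hy hy))
    have c5 := h1 _ (sq_mem hx) _ (Q.mul_mem hy hy)
    rw [c3]
    calc c * (x * x) * (y * y) * (c * (x * x) * (y * y))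
        = c * (x * x * (y * y) * c) * (x * x) * (y * y) := by group
      _ = c * c * (x * x) * (y * y * (x * x)) * (y * y) := by rw [c4]; group
      _ = _ := by rw [c2, c5]; group
  let K : Subgroup X :=
    { carrier := {x | x ∈ Q ∧ x * x * (x * x) = 1}
      one_mem' := ⟨Q.one_mem, by simp⟩
      mul_mem' := by
        rintro x y ⟨hx, hx'⟩ ⟨hy, hy'⟩
        exact ⟨Q.mul_mem hx hy, by rw [h3 x hx y hy, hx', hy', one_mul]⟩
      inv_mem' := by
        rintro x ⟨hx, hx'⟩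
        refine ⟨Q.inv_mem hx, ?_⟩
        rw [← inv_inj, inv_one, ← hx']; simp only [mul_inv_rev, inv_inv] }
  have h4 : K = Q := gen K (fun x hx => hx.1) (fun g hg a ha => ⟨hQ' g hg a ha, by
    have e : ⁅g, a⁆ = g * (a * g⁻¹ * a⁻¹) := by rw [commutatorElement_def]; group
    rw [e, h3 g hg _ (hQ _ (Q.inv_mem hg) a ha)]
    have := hz ha _ (mul_mem (sq_mem hg) (sq_mem hg))
    calc _ = g * g * (g * g) * a * (g * g * (g * g))⁻¹ * a⁻¹ := by group
      _ = 1 := by rw [this]; group⟩)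
  let L : Subgroup X :=
    { carrier := {x | x ∈ sqs Q ∧ x * x = 1}
      one_mem' := ⟨one_mem _, by simp⟩
      mul_mem' := by
        rintro x y ⟨hx, hx'⟩ ⟨hy, hy'⟩
        refine ⟨mul_mem hx hy, ?_⟩
        calc x * y * (x * y) = x * (y * x) * y := by group
          _ = x * x * (y * y) := by rw [h1 x hx y (sqs_le Q hy)]; group
          _ = 1 := by rw [hx', hy', one_mul]
      inv_mem' := by
        rintro x ⟨hx, hx'⟩
        exact ⟨inv_mem hx, by rw [← mul_inv_rev, hx', inv_one]⟩ }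
  have h5 : sqs Q ≤ L := sqs_le_iff.2 fun x hx => ⟨sq_mem hx, (h4.ge hx).2⟩
  exact ⟨sqs_le Q, fun x hx => sq_mem hx, h1, fun f hf => (h5 hf).2⟩

end H83.R4
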