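import Mathlib
import Cfsg.Agent.Lib.FGS83.R4B

/-!
A normal 2-subgroup with an automorphism of order five in a group of sectional 2-rank four.
-/

set_option autoImplicit false

namespace H83.R4

open Subgroup
open scoped commutatorElement

universe u

variable {X : Type u} [Group X] [Finite X]

omit [Finite X] in
theorem mk_conj_eq_iff {L : Subgroup X} [L.Normal] {s x : X} :
    (QuotientGroup.mk' L s) * (QuotientGroup.mk' L x) * (QuotientGroup.mk' L s)⁻¹ =
      QuotientGroup.mk' L x ↔ s * x * s⁻¹ * x⁻¹ ∈ L := by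
  rw [← mul_inv_eq_one, ← map_inv, ← map_inv, ← map_mul, ← map_mul, ← map_mul]
  exact QuotientGroup.eq_one_iff _

omit [Finite X] in
theorem map_conj_mem {Y : Type*} [Group Y] (f : X →* Y) {K : Subgroup X} {s : X}
    (h : ∀ x ∈ K, s * x * s⁻¹ ∈ K) : ∀ x ∈ K.map f, f s * x * (f s)⁻¹ ∈ K.map f := by
  rintro _ ⟨x, hx, rfl⟩
  exact ⟨_, h x hx, by simp⟩

/-- An odd order element acting nontrivially on `Q` acts nontrivially on `Q / Φ(Q)`. -/
theorem exists_not_mem_sqs {Q : Subgroup X} (h2 : IsPGroup 2 Q) {s : X} {r : ℕ} (hr : Odd r)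
    (hs : s ^ r = 1) (hn : s ∈ normalizer (Q : Set X)) {x : X} (hx : x ∈ Q) (hne : s * x * s⁻¹ ≠ x) :
    ∃ y ∈ Q, s * y * s⁻¹ * y⁻¹ ∉ sqs Q := by
  by_contra hc
  push Not at hc
  apply hne
  have hA : zpowers s ≤ normalizer (Q : Set X) := zpowers_le.2 hn
  have := H2.le_centralizer_of_commutator_le_frattini hA
    ((coprime_zpowers h2 hr hs).coprime_dvd_right (card_subgroup_dvd_card _)) (by
      refine le_trans ?_ (sqs_le_frattini h2)
      rw [commutator_comm]
      refine H2.commutator_closure_le (s := {s}) ?_ ?_ |>.trans' (by rw [zpowers_eq_closure])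
      · rintro _ rfl
        exact mem_norm_sqs hn
      · rintro _ rfl z hz
        exact hc z hz)
  exact conj_eq_of_cent (this (mem_zpowers s)) hx

structure P5 (Q : Subgroup X) (s : X) : Prop where
  n : Q.Normal
  p : IsPGroup 2 Q
  s5 : s ^ 5 = 1
  idx : (sqs Q).relIndex Q = 16
  fpf : ∀ x ∈ Q, s * x * s⁻¹ * x⁻¹ ∈ sqs Q → x ∈ sqs Q

theorem P5.of {Q : Subgroup X} [hQ : Q.Normal] (h2 : IsPGroup 2 Q) (h4 : SR 4 X) {s x : X}
    (hs : s ^ 5 = 1) (hx : x ∈ Q) (hne : s * x * s⁻¹ ≠ x) : P5 Q s := by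
  obtain ⟨y, hy, hy'⟩ := exists_not_mem_sqs h2 (by decide : Odd 5) hs (mem_norm _ _) hx hne
  have hc := H1.card_map_mk'_eq_relIndex (sqs Q) Q
  obtain ⟨h1, h3⟩ := five (H := Q.map (QuotientGroup.mk' (sqs Q))) (h2.map _)
    (hc ▸ h4 Q (sqs Q) (sqs_le Q) fun x hx => sq_mem hx) (s := QuotientGroup.mk' _ s)
    (by rw [← map_pow, hs, map_one]) (map_conj_mem _ fun x hx => hQ.conj_mem x hx s)
    (mem_map_of_mem _ hy) (fun e => hy' (mk_conj_eq_iff.1 e))
  exact ⟨hQ, h2, hs, hc ▸ h1, fun x hx e =>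
    (QuotientGroup.eq_one_iff x).1 (h3 _ (mem_map_of_mem _ hx) (mk_conj_eq_iff.2 e))⟩

namespace P5

variable {Q : Subgroup X} {s : X} (h : P5 Q s)
include h

omit [Finite X] in
theorem conj {x : X} (hx : x ∈ Q) : s * x * s⁻¹ ∈ Q := h.n.conj_mem x hx s

omit [Finite X] in
theorem exists_not_mem : ∃ x ∈ Q, x ∉ sqs Q := by
  by_contra hc
  push Not at hc
  have := h.idx
  rw [relIndex_eq_one.2 hc] at this
  omega

theorem irr {K : Subgroup X} (h1 : sqs Q ≤ K) (h2 : K ≤ Q) (hn : ∀ x ∈ K, s * x * s⁻¹ ∈ K) {x : X}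
    (hx : x ∈ K) (hx' : x ∉ sqs Q) : K = Q := by
  haveI := h.n
  have hc := H1.card_map_mk'_eq_relIndex (sqs Q) Q
  rw [h.idx] at hc
  have hle : K.map (QuotientGroup.mk' (sqs Q)) ≤ Q.map (QuotientGroup.mk' (sqs Q)) := map_mono h2
  obtain ⟨h3, -⟩ := five (H := K.map (QuotientGroup.mk' (sqs Q))) ((h.p.to_le h2).map _)
    (hc ▸ card_le_of_le hle) (s := QuotientGroup.mk' _ s)
    (by rw [← map_pow, h.s5, map_one]) (map_conj_mem _ hn)
    (mem_map_of_mem _ hx) (fun e => hx' (h.fpf x (h2 hx) (mk_conj_eq_iff.1 e)))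
  have := eq_of_le_of_card_ge hle (by rw [hc, h3])
  have e := congrArg (comap (QuotientGroup.mk' (sqs Q))) this
  rwa [comap_map_eq_self (by rwa [QuotientGroup.ker_mk']),
    comap_map_eq_self (by rw [QuotientGroup.ker_mk']; exact sqs_le Q)] at e

theorem c2 (hc : ∀ f ∈ sqs Q, s * f * s⁻¹ = f) : C2 Q (sqs Q) :=
  haveI := h.n
  c2_of_fpf h.p (by decide : Odd 5) h.s5 (mem_norm _ _)
    (fun x hx e => h.fpf x hx (by rw [e, mul_inv_cancel]; exact one_mem _)) hc

theorem card_eq : Nat.card Q = Nat.card (sqs Q) * 16 := by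
  rw [← h.idx, H1.card_mul_relIndex_of_le (sqs_le Q)]

/-- The case of two nontrivial sections of order sixteen is impossible. -/
theorem not_fpf (h4 : SR 4 X) {t : X} (hst : t * s * t⁻¹ = s⁻¹) (ht : t * t ∈ Q) (ht' : t ∉ Q)
    (hc : C2 Q (sqs Q)) (h16 : Nat.card (sqs Q) = 16)
    (hf : ∀ y ∈ sqs Q, s * y * s⁻¹ = y → y = 1) : False := by
  haveI := h.n
  haveI : Fact (Nat.Prime 2) := ⟨Nat.prime_two⟩
  have htt : t * t = 1 := by
    have e : s * (t * t) * s⁻¹ = t * t := by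
      have : t * s⁻¹ * t⁻¹ = s := by
        calc t * s⁻¹ * t⁻¹ = (t * s * t⁻¹)⁻¹ := by group
          _ = s := by rw [hst, inv_inv]
      calc s * (t * t) * s⁻¹ = (t * s⁻¹ * t⁻¹) * (t * t) * s⁻¹ := by rw [this]
        _ = t * (t * s * t⁻¹) * t * s⁻¹ := by rw [hst]; group
        _ = t * t * s * s⁻¹ := by group
        _ = _ := by group
    exact hf _ (h.fpf _ ht (by rw [e, mul_inv_cancel]; exact one_mem _)) e
  set π := QuotientGroup.mk' (sqs Q) with hπ
  have hcQ := H1.card_map_mk'_eq_relIndex (sqs Q) Q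
  rw [h.idx] at hcQ
  have h1 := card_le_sq (H := Q.map π) (by
      rintro _ ⟨x, hx, rfl⟩
      rw [← map_mul]; exact (QuotientGroup.eq_one_iff _).2 (sq_mem hx)) (t := π t)
    (map_conj_mem _ fun x hx => h.n.conj_mem x hx t) (by
      rintro _ ⟨x, hx, rfl⟩
      calc _ = π (t * t) * π x * (π (t * t))⁻¹ := by simp only [map_mul]; group
        _ = _ := by rw [htt]; simp)
  rw [hcQ] at h1
  have h1' : 4 ≤ Nat.card ↥(Q.map π ⊓ centralizer {π t}) := by nlinarith
  have h2 := d10 (H := sqs Q) h.s5 hst (fun x hx => (sqs_normal Q).conj_mem x hx s) hf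
  rw [h16] at h2
  have h2' : Nat.card ↥(sqs Q ⊓ centralizer {t}) ≤ 4 := by nlinarith
  set C := (Q.map π ⊓ centralizer {π t}).comap π with hC
  have hCc : 64 ≤ Nat.card C := by
    rw [hC, hπ, H1.card_comap_mk', h16, ← hπ]; omega
  have hmem : ∀ c, c ∈ C ↔ c ∈ Q ∧ t * c * t⁻¹ * c⁻¹ ∈ sqs Q := by
    intro c
    rw [hC, comap_inf, comap_map_eq_self (by rw [QuotientGroup.ker_mk']; exact sqs_le Q), mem_inf,
      mem_comap, mem_centralizer_singleton_iff, ← mk_conj_eq_iff, mul_inv_eq_iff_eq_mul, eq_comm]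
  have hti : t⁻¹ = t := inv_eq_of_mul_eq_one_right htt
  have hn : t ∈ normalizer (C : Set X) := by
    have : ∀ c ∈ C, t * c * t⁻¹ ∈ C := fun c hc' => by
      obtain ⟨c1, c2⟩ := (hmem c).1 hc'
      refine (hmem _).2 ⟨h.n.conj_mem c c1 t, ?_⟩
      have := (sqs_normal Q).conj_mem _ c2 t
      convert this using 1
      group
    exact mem_normalizer_fintype this
  have hH := H5.card_sup_zpowers Nat.prime_two hn (fun e => ht' ((hmem t).1 e).1)
    (by rw [pow_two, htt]; exact one_mem _)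
  have hK : sqs Q ⊓ centralizer {t} ≤ C ⊔ zpowers t := by
    refine le_sup_of_le_left fun f hf => (hmem f).2 ⟨sqs_le Q hf.1, ?_⟩
    exact mul_mem ((sqs_normal Q).conj_mem _ hf.1 t) (inv_mem hf.1)
  have h5 := h4 _ _ hK (by
    intro x hx
    obtain ⟨c, hc', i, rfl⟩ := (H5.mem_sup_zpowers_iff hn).1 hx
    obtain ⟨c1, c2⟩ := (hmem c).1 hc'
    have e1 : t * (c * c) * t⁻¹ = c * c := by
      have := hc.q_F_mul c1 c2
      conv_rhs => rw [← this]
      group
    have e2 : c * c ∈ sqs Q ⊓ centralizer {t} := ⟨sq_mem c1, mem_centralizer_singleton_iff.2 (by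
      conv_lhs => rw [← e1]
      group)⟩
    have hi : t ^ i = 1 ∨ t ^ i = t := by
      rcases Int.even_or_odd' i with ⟨j, rfl | rfl⟩
      · left; rw [zpow_mul, zpow_two, htt, one_zpow]
      · right; rw [zpow_add_one, zpow_mul, zpow_two, htt, one_zpow, one_mul]
    rcases hi with hi | hi <;> rw [hi]
    · rwa [mul_one]
    · have e3 : c * t * (c * t) = (t * c * t⁻¹ * c⁻¹) * (c * c) := by
        rw [← hc.cent _ c2 _ (Q.mul_mem c1 c1), mul_assoc c c, hc.cent _ c2 c c1, hti]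
        group
      refine ⟨e3 ▸ mul_mem c2 (sq_mem c1), mem_centralizer_singleton_iff.2 ?_⟩
      have e4 : t * c * (t * c) = c * t * (c * t) := by
        calc t * c * (t * c) = (t * c * t⁻¹ * c⁻¹) * (c * c) := by rw [hti]; group
          _ = _ := e3.symm
      calc c * t * (c * t) * t = t * c * (t * c) * t := by rw [e4]
        _ = _ := by group)
  have h6 := H1.card_mul_relIndex_of_le hK
  have : Nat.card ↥(sqs Q ⊓ centralizer {t}) * (sqs Q ⊓ centralizer {t}).relIndex (C ⊔ zpowers t)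
      ≤ 4 * 2 ^ 4 := Nat.mul_le_mul h2' h5
  omega

end P5

theorem cent_aux : ∀ (n : ℕ) (X : Type u) [Group X] [Finite X], Nat.card X = n → SR 4 X →
    ∀ (Q : Subgroup X) (s t : X), P5 Q s → t * s * t⁻¹ = s⁻¹ → t * t ∈ Q → t ∉ Q →
      ∀ f ∈ sqs Q, s * f * s⁻¹ = f := by
  intro n
  induction n using Nat.strong_induction_on with
  | _ n ih =>
  intro X _ _ hn h4 Q s t h hst ht ht'
  haveI := h.n
  by_cases hF : sqs Q = ⊥
  · intro f hf
    rw [hF, mem_bot] at hf
    simp [hf]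
  obtain ⟨M, hM, hMF⟩ := H3.exists_isMinNormal_le (sqs Q) hF
  haveI := hM.1
  have hMQ := hMF.trans (sqs_le Q)
  obtain ⟨hM1, hM2⟩ := minNormal_two h.p hM hMQ
  set π := QuotientGroup.mk' M with hπ
  haveI : (Q.map π).Normal := h.n.map _ (QuotientGroup.mk'_surjective M)
  obtain ⟨x, hx, hx'⟩ := h.exists_not_mem
  have hP : P5 (Q.map π) (π s) := P5.of (h.p.map _) (h4.quotient M)
    (by rw [← map_pow, h.s5, map_one]) (mem_map_of_mem _ hx)
    (fun e => hx' (h.fpf x hx (hMF (mk_conj_eq_iff.1 e))))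
  have hI := ih _ (hn ▸ H3.card_quotient_lt M hM.2) (X ⧸ M) rfl (h4.quotient M) _ _ (π t) hP
    (by rw [← map_inv, ← map_inv, ← map_mul, ← map_mul, hst]) (by rw [← map_mul]; exact mem_map_of_mem _ ht)
    (fun e => ht' (by
      have : t ∈ (Q.map π).comap π := e
      rwa [comap_map_eq_self (by rwa [QuotientGroup.ker_mk'])] at this))
  have hI' : ∀ f ∈ sqs Q, s * f * s⁻¹ * f⁻¹ ∈ M := fun f hf =>
    mk_conj_eq_iff.1 (hI _ (map_sqs π Q ▸ mem_map_of_mem _ hf))
  have hcomm : ⁅sqs Q, zpowers s⁆ ≤ M := by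
    rw [commutator_comm]
    refine H2.commutator_closure_le (s := {s}) ?_ ?_ |>.trans' (by rw [zpowers_eq_closure])
    · rintro _ rfl
      exact mem_norm _ _
    · rintro _ rfl z hz
      exact hI' z hz
  have hcop := coprime_zpowers (h.p.to_le hMQ) (by decide : Odd 5) h.s5
  by_cases hs : ∀ m ∈ M, s * m * s⁻¹ = m
  · have := H2.le_centralizer_of_commutator_le hcop hcomm (zpowers_le_cent hs)
    exact fun f hf => conj_eq_of_cent (this (mem_zpowers s)) hf
  exfalso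
  push Not at hs
  obtain ⟨m, hm, hm'⟩ := hs
  have hle : ∀ K : Subgroup X, (∀ x ∈ K, x * x = 1) → Nat.card K ≤ 16 := fun K hK => by
    have := h4 K ⊥ bot_le (fun x hx => mem_bot.2 (hK x hx))
    rwa [relIndex_bot_left] at this
  obtain ⟨h16, hf⟩ := five (h.p.to_le hMQ) (hle M hM2) h.s5 (fun x hx => hM.1.conj_mem x hx s) hm hm'
  have hc2 := hP.c2 hI
  have hdec := H2.sup_centralizer_eq_of_commutator_le (le_normalizer_of_normal (H := M)) hMF hcop
    (Or.inl (H2.isSolvable_zpowers s)) hcomm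
  have hel : ∀ f ∈ sqs Q, f * f = 1 := by
    intro f hf'
    rw [← hdec] at hf'
    obtain ⟨m, hm, d, hd, rfl⟩ := (mem_sup_of_normal_left).1 hf'
    have d1 : d * d ∈ M := by
      have := hc2.el _ (map_sqs π Q ▸ mem_map_of_mem π hd.1)
      rw [← map_mul] at this
      exact (QuotientGroup.eq_one_iff _).1 this
    have d2 : d * d = 1 := hf _ d1 (conj_eq_of_cent' (mul_mem hd.2 hd.2))
    calc m * d * (m * d) = m * (d * m) * d := by group
      _ = m * m * (d * d) := by rw [hM1 m hm d (sqs_le Q hd.1)]; group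
      _ = 1 := by rw [hM2 m hm, d2, one_mul]
  have hMe : M = sqs Q := eq_of_le_of_card_ge hMF (h16 ▸ hle _ hel)
  exact h.not_fpf h4 hst ht ht' ⟨sqs_le Q, fun x hx => sq_mem hx, hMe ▸ hM1, hel⟩ (hMe ▸ h16) (hMe ▸ hf)

end H83.R4
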