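import Mathlib
import Cfsg.Agent.Lib.FGS83.R4C

/-!
The structure of `Q` when the element of order five centralises `Φ(Q)`.
-/

set_option autoImplicit false

namespace H83.R4

open Subgroup

theorem mem_zpowers_two {K : Type*} [Group K] {t x : K} (ht : t * t = 1) (hx : x ∈ zpowers t) :
    x = 1 ∨ x = t := by
  obtain ⟨i, rfl⟩ := hx
  rcases Int.even_or_odd' i with ⟨j, rfl | rfl⟩
  · left; simp only [zpow_mul, zpow_two, ht, one_zpow]
  · right; simp only [zpow_add_one, zpow_mul, zpow_two, ht, one_zpow, one_mul]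

/-- Recognising the central product of `Q₈` and `D₈`. -/
theorem ident {K : Type*} [Group K] {z x0 x1 x2 x3 : K} (hz : z * z = 1) (hz1 : z ≠ 1)
    (hzc : ∀ g, g * z = z * g) (e0 : x0 * x0 = 1) (e1 : x1 * x1 = 1) (e2 : x2 * x2 = 1)
    (e3 : x3 * x3 = 1) (e01 : x1 * x0 = z * (x0 * x1)) (e02 : x2 * x0 = z * (x0 * x2))
    (e03 : x3 * x0 = z * (x0 * x3)) (e12 : x2 * x1 = z * (x1 * x2)) (e13 : x3 * x1 = z * (x1 * x3))
    (e23 : x3 * x2 = z * (x2 * x3))
    (gen : ∀ H : Subgroup K, x0 ∈ H → x1 ∈ H → x2 ∈ H → x3 ∈ H → H = ⊤)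
    (hc : ∀ g ∈ center K, g = 1 ∨ g = z) :
    ∃ A B : Subgroup K, Nonempty (↥A ≃* QuaternionGroup 2) ∧ Nonempty (↥B ≃* DihedralGroup 4) ∧
      (∀ a ∈ A, ∀ b ∈ B, a * b = b * a) ∧ A ⊔ B = ⊤ ∧ A ⊓ B = center K := by
  haveI : Fact (Nat.Prime 2) := ⟨Nat.prime_two⟩
  have r : ∀ {a b c : K}, a * b = c → ∀ w, a * (b * w) = c * w := fun h w => by rw [← mul_assoc, h]
  have z0 : ∀ w, x0 * (z * w) = z * (x0 * w) := fun w => by rw [r (hzc x0), mul_assoc]
  have z1 : ∀ w, x1 * (z * w) = z * (x1 * w) := fun w => by rw [r (hzc x1), mul_assoc]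
  have z2 : ∀ w, x2 * (z * w) = z * (x2 * w) := fun w => by rw [r (hzc x2), mul_assoc]
  have z3 : ∀ w, x3 * (z * w) = z * (x3 * w) := fun w => by rw [r (hzc x3), mul_assoc]
  have ord4 : ∀ u : K, u * u = z → orderOf u = 4 := fun u hu =>
    orderOf_eq_prime_pow (p := 2) (n := 1) (by rw [pow_one, pow_two, hu]; exact hz1)
      (by rw [show 2 ^ (1 + 1) = 2 * 2 from rfl, pow_mul, pow_two, pow_two, hu, hz])
  have notm : ∀ u v : K, u * u = z → v * u * v⁻¹ = u⁻¹ → v ∉ zpowers u := by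
    rintro u _ hu hv ⟨i, rfl⟩
    apply hz1
    have : u = u⁻¹ := by rw [← hv]; group
    rw [← hu]
    nth_rewrite 2 [this]
    exact mul_inv_cancel u
  obtain ⟨a, ha⟩ : ∃ a, a = x0 * x1 := ⟨_, rfl⟩
  obtain ⟨u, hu⟩ : ∃ u, u = a * x2 := ⟨_, rfl⟩
  obtain ⟨v, hv⟩ : ∃ v, v = a * x3 := ⟨_, rfl⟩
  have hu2 : u * u = z := by
    simp only [hu, hv, ha, mul_assoc, r e0, r e1, r e2, r e3, r e01, r e02, r e03, r e12, r e13, r e23,
      r hz, z0, z1, z2, z3, one_mul, mul_one, e0, e1, e2, e3, e01, e02, e03, e12, e13, e23]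
  have hv2 : v * v = z := by
    simp only [hu, hv, ha, mul_assoc, r e0, r e1, r e2, r e3, r e01, r e02, r e03, r e12, r e13, r e23,
      r hz, z0, z1, z2, z3, one_mul, mul_one, e0, e1, e2, e3, e01, e02, e03, e12, e13, e23]
  have ha2 : a * a = z := by
    simp only [hu, hv, ha, mul_assoc, r e0, r e1, r e2, r e3, r e01, r e02, r e03, r e12, r e13, r e23,
      r hz, z0, z1, z2, z3, one_mul, mul_one, e0, e1, e2, e3, e01, e02, e03, e12, e13, e23]
  have huv : v * u * v⁻¹ = u⁻¹ := by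
    rw [mul_inv_eq_iff_eq_mul, eq_inv_mul_iff_mul_eq]
    simp only [hu, hv, ha, mul_assoc, r e0, r e1, r e2, r e3, r e01, r e02, r e03, r e12, r e13, r e23,
      r hz, z0, z1, z2, z3, one_mul, mul_one, e0, e1, e2, e3, e01, e02, e03, e12, e13, e23]
  have hba : x0 * a * x0⁻¹ = a⁻¹ := by
    rw [mul_inv_eq_iff_eq_mul, eq_inv_mul_iff_mul_eq]
    simp only [hu, hv, ha, mul_assoc, r e0, r e1, r e2, r e3, r e01, r e02, r e03, r e12, r e13, r e23,
      r hz, z0, z1, z2, z3, one_mul, mul_one, e0, e1, e2, e3, e01, e02, e03, e12, e13, e23]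
  have hA := H41.mem_closure_pair (a := u) (b := v) (huv ▸ inv_mem (mem_zpowers u))
    (by rw [hv2, ← hu2]; exact mul_mem (mem_zpowers u) (mem_zpowers u))
  have hB := H41.mem_closure_pair (a := a) (b := x0) (hba ▸ inv_mem (mem_zpowers a))
    (by rw [e0]; exact one_mem _)
  have c0u : Commute u x0 := by
    show _ = _
    simp only [hu, hv, ha, mul_assoc, r e0, r e1, r e2, r e3, r e01, r e02, r e03, r e12, r e13, r e23,
      r hz, z0, z1, z2, z3, one_mul, mul_one, e0, e1, e2, e3, e01, e02, e03, e12, e13, e23]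
  have c1u : Commute u x1 := by
    show _ = _
    simp only [hu, hv, ha, mul_assoc, r e0, r e1, r e2, r e3, r e01, r e02, r e03, r e12, r e13, r e23,
      r hz, z0, z1, z2, z3, one_mul, mul_one, e0, e1, e2, e3, e01, e02, e03, e12, e13, e23]
  have c0v : Commute v x0 := by
    show _ = _
    simp only [hu, hv, ha, mul_assoc, r e0, r e1, r e2, r e3, r e01, r e02, r e03, r e12, r e13, r e23,
      r hz, z0, z1, z2, z3, one_mul, mul_one, e0, e1, e2, e3, e01, e02, e03, e12, e13, e23]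
  have c1v : Commute v x1 := by
    show _ = _
    simp only [hu, hv, ha, mul_assoc, r e0, r e1, r e2, r e3, r e01, r e02, r e03, r e12, r e13, r e23,
      r hz, z0, z1, z2, z3, one_mul, mul_one, e0, e1, e2, e3, e01, e02, e03, e12, e13, e23]
  have hcomm : ∀ g ∈ closure ({u, v} : Set K), ∀ h ∈ closure ({a, x0} : Set K), g * h = h * g := by
    intro g hg h hh
    have k : ∀ w : K, Commute w x0 → Commute w x1 → Commute w h := fun w w0 w1 => by
      have wa : Commute w a := ha ▸ w0.mul_right w1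
      obtain ⟨i, rfl | rfl⟩ := (hB h).1 hh
      exacts [wa.zpow_right i, (wa.zpow_right i).mul_right w0]
    obtain ⟨i, rfl | rfl⟩ := (hA g).1 hg
    exacts [((k u c0u c1u).zpow_left i).eq, (((k u c0u c1u).zpow_left i).mul_left (k v c0v c1v)).eq]
  have mu : u ∈ closure ({u, v} : Set K) := subset_closure (by simp)
  have mv : v ∈ closure ({u, v} : Set K) := subset_closure (by simp)
  have ma : a ∈ closure ({a, x0} : Set K) := subset_closure (by simp)
  have m0 : x0 ∈ closure ({a, x0} : Set K) := subset_closure (by simp)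
  have htop : closure ({u, v} : Set K) ⊔ closure ({a, x0} : Set K) = ⊤ := by
    refine gen _ (mem_sup_right m0) (mem_sup_right ?_) ?_ ?_
    · have := mul_mem (inv_mem m0) ma
      rwa [show x0⁻¹ * a = x1 by rw [ha, inv_mul_cancel_left]] at this
    · have := mul_mem (inv_mem (mem_sup_right (S := closure ({u, v} : Set K)) ma)) (mem_sup_left mu)
      rwa [show a⁻¹ * u = x2 by rw [hu, inv_mul_cancel_left]] at this
    · have := mul_mem (inv_mem (mem_sup_right (S := closure ({u, v} : Set K)) ma)) (mem_sup_left mv)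
      rwa [show a⁻¹ * v = x3 by rw [hv, inv_mul_cancel_left]] at this
  refine ⟨closure {u, v}, closure {a, x0},
    H41.nonempty_mulEquiv_quaternion two_ne_zero (ord4 u hu2) (by rw [hv2, pow_two, hu2]) huv
      (notm u v hu2 huv) hA,
    H41.nonempty_mulEquiv_dihedral (by norm_num) (ord4 a ha2) e0 hba (notm a x0 ha2 hba) hB,
    hcomm, htop, le_antisymm ?_ ?_⟩
  · intro g hg
    rw [mem_center_iff]
    intro h
    have : closure ({u, v} : Set K) ⊔ closure ({a, x0} : Set K) ≤ centralizer {g} :=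
      sup_le (fun y hy => mem_centralizer_singleton_iff.2 (hcomm y hy g hg.2))
        (fun y hy => mem_centralizer_singleton_iff.2 (hcomm g hg.1 y hy).symm)
    exact mem_centralizer_singleton_iff.1 (this (htop ▸ mem_top h))
  · intro g hg
    rcases hc g hg with rfl | rfl
    · exact one_mem _
    · exact ⟨hu2 ▸ mul_mem mu mu, ha2 ▸ mul_mem ma ma⟩

variable {X : Type*} [Group X] [Finite X]

namespace P5

variable {Q : Subgroup X} {s : X} (h : P5 Q s) (hc : ∀ f ∈ sqs Q, s * f * s⁻¹ = f)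
include h hc

/-- The orbit of `x` under `s`, with its commutators. -/
theorem orbit {x : X} (hx : x ∈ Q) : ∃ x1 x2 x3 x4 α β : X, s * x * s⁻¹ = x1 ∧ s * x1 * s⁻¹ = x2 ∧
    s * x2 * s⁻¹ = x3 ∧ s * x3 * s⁻¹ = x4 ∧ s * x4 * s⁻¹ = x ∧ b x x1 = α ∧ b x x2 = β ∧
    b x x3 = β ∧ b x x4 = α ∧ b x1 x2 = α ∧ b x1 x3 = β ∧ b x2 x3 = α ∧ x * x = α * β ∧
    x * x1 * x2 * x3 * x4 ∈ sqs Q := by
  have C := h.c2 hc
  obtain ⟨x1, e1⟩ : ∃ y, s * x * s⁻¹ = y := ⟨_, rfl⟩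
  obtain ⟨x2, e2⟩ : ∃ y, s * x1 * s⁻¹ = y := ⟨_, rfl⟩
  obtain ⟨x3, e3⟩ : ∃ y, s * x2 * s⁻¹ = y := ⟨_, rfl⟩
  obtain ⟨x4, e4⟩ : ∃ y, s * x3 * s⁻¹ = y := ⟨_, rfl⟩
  have e5 : s * x4 * s⁻¹ = x := by
    rw [← e4, ← e3, ← e2, ← e1]
    calc _ = s ^ 5 * x * (s ^ 5)⁻¹ := by simp only [pow_succ, pow_zero]; group
      _ = x := by rw [h.s5]; group
  have m1 := e1 ▸ h.conj hx
  have m2 := e2 ▸ h.conj m1
  have m3 := e3 ▸ h.conj m2
  have m4 := e4 ▸ h.conj m3
  have st : ∀ {a c a' c' : X}, a ∈ Q → c ∈ Q → s * a * s⁻¹ = a' → s * c * s⁻¹ = c' →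
      b a' c' = b a c := fun ha hc' e e' => by
    rw [← e, ← e', b_conj, hc _ (C.b_mem ha hc')]
  have sq : ∀ {a a' : X}, a ∈ Q → s * a * s⁻¹ = a' → a' * a' = a * a := fun {a a'} ha e => by
    rw [← e, ← hc _ (sq_mem ha)]; group
  have b12 := st hx m1 e1 e2
  have b23 := (st m1 m2 e2 e3).trans b12
  have b34 := (st m2 m3 e3 e4).trans b23
  have b40 := (st m3 m4 e4 e5).trans b34
  have b13 := st hx m2 e1 e3
  have b24 := (st m1 m3 e2 e4).trans b13
  have b30 := (st m2 m4 e3 e5).trans b24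
  have q1 := sq hx e1
  have q2 := (sq m1 e2).trans q1
  have q3 := (sq m2 e3).trans q2
  have q4 := (sq m3 e4).trans q3
  rw [C.b_comm m4 hx] at b40
  rw [C.b_comm m3 hx] at b30
  have m := Q.mul_mem (Q.mul_mem (Q.mul_mem hx m1) m2) m3
  have hy : x * x1 * x2 * x3 * x4 ∈ sqs Q := by
    refine h.fpf _ (Q.mul_mem m m4) ?_
    have := comm_mem (Q.inv_mem hx) (Q.mul_mem m m4)
    convert this using 1
    calc _ = (s * x * s⁻¹) * (s * x1 * s⁻¹) * (s * x2 * s⁻¹) * (s * x3 * s⁻¹) * (s * x4 * s⁻¹) *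
          (x * x1 * x2 * x3 * x4)⁻¹ := by group
      _ = _ := by rw [e1, e2, e3, e4, e5]; group
  refine ⟨x1, x2, x3, x4, _, _, e1, e2, e3, e4, e5, rfl, rfl, b30, b40, b12, b13, b23, ?_, hy⟩
  have k1 := C.q_congr (x := (x * x1 * x2 * x3)⁻¹) (y := x4) (Q.inv_mem m) (by rwa [inv_inv])
  rw [C.q_inv m, q4, C.q_mul (Q.mul_mem (Q.mul_mem hx m1) m2) m3, C.q_mul (Q.mul_mem hx m1) m2,
    C.q_mul hx m1, C.b_mul_left (Q.mul_mem hx m1) m2 m3, C.b_mul_left hx m1 m3,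
    C.b_mul_left hx m1 m2, q1, q2, q3, b12, b13, b23, b30] at k1
  have ha := C.sq x hx
  have hα := C.b_mem hx m1
  have hβ := C.b_mem hx m2
  generalize x * x = a at *
  generalize b x x1 = α at *
  generalize b x x2 = β at *
  have r : ∀ {a b c : X}, a * b = c → ∀ w, a * (b * w) = c * w := fun h w => by rw [← mul_assoc, h]
  have c1 := C.comm hα ha
  have c2 := C.comm hβ ha
  have c3 := C.comm hβ hα
  rw [k1]
  simp only [mul_assoc, r c1, r c2, r c3, c3, r (C.el _ ha), r (C.el _ hα), r (C.el _ hβ), one_mul]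

theorem le_of_mem {x : X} (hx : x ∈ Q) (hx' : x ∉ sqs Q) {N : Subgroup X}
    (h1 : b x (s * x * s⁻¹) ∈ N) (h2 : b x (s * (s * x * s⁻¹) * s⁻¹) ∈ N) : sqs Q ≤ N := by
  have C := h.c2 hc
  obtain ⟨x1, x2, x3, x4, α, β, e1, e2, e3, e4, e5, b1, b2, b3, b4, -, -, -, q, -⟩ := h.orbit hc hx
  rw [e1, b1] at h1
  rw [e1, e2, b2] at h2
  have m1 := e1 ▸ h.conj hx
  have m2 := e2 ▸ h.conj m1
  have m3 := e3 ▸ h.conj m2
  have m4 := e4 ▸ h.conj m3
  have st : ∀ {a c c' : X}, a ∈ Q → c ∈ Q → s * c * s⁻¹ = c' →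
      b (s * a * s⁻¹) c' = b a c := fun ha hc' e' => by
    rw [← e', b_conj, hc _ (C.b_mem ha hc')]
  let K : Set X → Subgroup X := fun S =>
    { carrier := {g | g ∈ Q ∧ ∀ y ∈ Q, y ∈ S → b g y ∈ N}
      one_mem' := ⟨Q.one_mem, fun y hy _ => by rw [C.b_left (one_mem _) hy]; exact N.one_mem⟩
      mul_mem' := by
        rintro g g' ⟨hg, k⟩ ⟨hg', k'⟩
        exact ⟨Q.mul_mem hg hg', fun y hy hS => by
          rw [C.b_mul_left hg hg' hy]; exact N.mul_mem (k y hy hS) (k' y hy hS)⟩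
      inv_mem' := by
        rintro g ⟨hg, k⟩
        exact ⟨Q.inv_mem hg, fun y hy hS => by rw [C.b_inv_left hg hy]; exact k y hy hS⟩ }
  have hK : ∀ S : Set X, (∀ y ∈ Q, y ∈ S → ∃ y' ∈ Q, y' ∈ S ∧ s * y' * s⁻¹ = y) → x ∈ K S → K S = Q := by
    intro S hS hxS
    refine h.irr (fun f hf => ⟨sqs_le Q hf, fun y hy _ => by rw [C.b_left hf hy]; exact N.one_mem⟩)
      (fun g hg => hg.1) ?_ hxS hx'
    rintro g ⟨hg, k⟩
    refine ⟨h.conj hg, fun y hy hS' => ?_⟩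
    obtain ⟨y', hy', hS'', e⟩ := hS y hy hS'
    rw [st hg hy' e]
    exact k y' hy' hS''
  have k1 := hK {x, x1, x2, x3, x4} (by
    rintro y - (rfl | rfl | rfl | rfl | rfl)
    exacts [⟨x4, m4, by simp, e5⟩, ⟨x, hx, by simp, e1⟩, ⟨x1, m1, by simp, e2⟩,
      ⟨x2, m2, by simp, e3⟩, ⟨x3, m3, by simp, e4⟩]) ⟨hx, by
    rintro y - (rfl | rfl | rfl | rfl | rfl)
    exacts [by rw [b_self]; exact N.one_mem, b1 ▸ h1, b2 ▸ h2, b3 ▸ h2, b4 ▸ h1]⟩
  have k2 := hK Set.univ (fun y hy _ => ⟨s⁻¹ * y * s⁻¹⁻¹, h.n.conj_mem y hy _, trivial, by group⟩)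
    ⟨hx, fun y hy _ => by rw [C.b_comm hx hy]; exact (k1.ge hy).2 x hx (by simp)⟩
  let L : Subgroup X :=
    { carrier := {g | g ∈ Q ∧ g * g ∈ N}
      one_mem' := ⟨Q.one_mem, by simp⟩
      mul_mem' := by
        rintro g g' ⟨hg, k⟩ ⟨hg', k'⟩
        exact ⟨Q.mul_mem hg hg', by
          rw [C.q_mul hg hg']; exact N.mul_mem (N.mul_mem k k') ((k2.ge hg).2 g' hg' trivial)⟩
      inv_mem' := by
        rintro g ⟨hg, k⟩
        exact ⟨Q.inv_mem hg, by rwa [C.q_inv hg]⟩ }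
  have k3 : L = Q := h.irr (fun f hf => ⟨sqs_le Q hf, by rw [C.el f hf]; exact N.one_mem⟩)
    (fun g hg => hg.1) (by
      rintro g ⟨hg, k⟩
      refine ⟨h.conj hg, ?_⟩
      have := hc _ (sq_mem hg)
      rw [← this] at k
      convert k using 1
      group) (x := x) ⟨hx, q ▸ N.mul_mem h1 h2⟩ hx'
  exact sqs_le_iff.2 fun g hg => (k3.ge hg).2

theorem exists_invol {ρ y : X} (hρ : ρ ^ 3 = 1) (hy : y ∈ Q) (hy' : ρ * y * ρ⁻¹ ≠ y)
    (hρc : ∀ f ∈ sqs Q, ρ * f * ρ⁻¹ = f) : ∃ x ∈ Q, x ∉ sqs Q ∧ x * x = 1 := by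
  haveI := h.n
  haveI : Fact (Nat.Prime 3) := ⟨by norm_num⟩
  haveI : Fact (Nat.Prime 5) := ⟨by norm_num⟩
  have C := h.c2 hc
  by_contra hn
  push Not at hn
  obtain ⟨x, hx, hx'⟩ := h.exists_not_mem
  obtain ⟨x1, x2, x3, x4, α, β, e1, e2, e3, e4, e5, b1, b2, b3, b4, -, -, -, q, -⟩ := h.orbit hc hx
  have m1 := e1 ▸ h.conj hx
  have m2 := e2 ▸ h.conj m1
  have hα := b1 ▸ C.b_mem hx m1
  have hβ := b2 ▸ C.b_mem hx m2
  have q1 : x1 * x1 = x * x := by rw [← e1, ← hc _ (sq_mem hx)]; group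
  have q2 : x2 * x2 = x * x := by rw [← e2, ← q1, ← hc _ (sq_mem m1)]; group
  have k : ∀ y ∈ Q, x * y ∈ sqs Q → y * x⁻¹ ∈ sqs Q := fun y hy e => by
    have := mul_mem ((sqs_normal Q).conj_mem _ e x⁻¹) (inv_mem (sq_mem hx))
    convert this using 1
    group
  have n1 : x * x1 ∉ sqs Q := fun e => hx' (h.fpf x hx (e1 ▸ k _ m1 e))
  have n2 : x * x2 ∉ sqs Q := fun e => hx' (h.fpf x hx (by
    have a1 := k _ m2 e
    have st : ∀ {a c a' c' : X}, s * a * s⁻¹ = a' → s * c * s⁻¹ = c' → a * c⁻¹ ∈ sqs Q →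
        a' * c'⁻¹ ∈ sqs Q := fun e e' hm => by
      have := (sqs_normal Q).conj_mem _ hm s
      rw [← e, ← e']
      convert this using 1
      group
    have a2 := st e3 e1 a1
    have a3 := st e5 e3 (st e4 e2 a2)
    have := inv_mem (mul_mem a3 a2)
    rw [e1]
    convert this using 1
    group))
  have hα1 : α ≠ 1 := fun e => hn _ (Q.mul_mem hx m1) n1 (by
    rw [C.q_mul hx m1, q1, C.el _ (sq_mem hx), b1, e, one_mul])
  have hβ1 : β ≠ 1 := fun e => hn _ (Q.mul_mem hx m2) n2 (by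
    rw [C.q_mul hx m2, q2, C.el _ (sq_mem hx), b2, e, one_mul])
  have hαβ : β ∉ zpowers α := by
    intro e
    rcases mem_zpowers_two (C.el _ hα) e with e | e
    · exact hβ1 e
    · exact hn x hx hx' (by rw [q, e, C.el _ hα])
  have hn1 : β ∈ normalizer (zpowers α : Set X) := by
    refine centralizer_le_normalizer _ ?_
    rintro _ ⟨i, rfl⟩
    exact (Commute.zpow_left (C.comm hα hβ) i).eq
  have hc4 := H5.card_sup_zpowers Nat.prime_two hn1 hαβ (by rw [pow_two, C.el _ hβ]; exact one_mem _)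
  rw [Nat.card_zpowers, orderOf_eq_prime (p := 2) (by rw [pow_two, C.el _ hα]) hα1] at hc4
  have hF : sqs Q = zpowers α ⊔ zpowers β := le_antisymm
    (h.le_of_mem hc hx hx' (by rw [e1, b1]; exact mem_sup_left (mem_zpowers _))
      (by rw [e1, e2, b2]; exact mem_sup_right (mem_zpowers _)))
    (sup_le (zpowers_le.2 hα) (zpowers_le.2 hβ))
  have h3 : H13.TG.C3 ((sqs Q).subgroupOf Q) :=
    ⟨fun g => ⟨fun hg => Subtype.ext (C.el _ hg), fun hg => by
        by_contra hg'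
        exact hn g g.2 hg' (congrArg Subtype.val hg)⟩,
      fun g => sq_mem g.2, fun g hg => mem_center_iff.2 fun y => Subtype.ext (C.cent _ hg y y.2),
      by rw [H1.card_subgroupOf_of_le (sqs_le Q), hF, hc4]⟩
  refine h3.not_three_five (α := MulAut.conjNormal s) (β := MulAut.conjNormal ρ)
    (orderOf_eq_prime (by rw [← map_pow, h.s5, map_one]) fun e => ?_)
    (orderOf_eq_prime (by rw [← map_pow, hρ, map_one]) fun e => ?_)
    (fun f hf => H5.mem_fixedSub.2 (Subtype.ext (hc _ hf)))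
    (fun f hf => H5.mem_fixedSub.2 (Subtype.ext (hρc _ hf)))
  · have := congrArg (fun φ : MulAut Q => (φ ⟨x, hx⟩ : X)) e
    exact hx' (h.fpf x hx (by
      have e' : s * x * s⁻¹ = x := this
      rw [e', mul_inv_cancel]; exact one_mem _))
  · exact hy' (congrArg (fun φ : MulAut Q => (φ ⟨y, hy⟩ : X)) e)

theorem struct {ρ y : X} (hρ : ρ ^ 3 = 1) (hy : y ∈ Q) (hy' : ρ * y * ρ⁻¹ ≠ y)
    (hρc : ∀ f ∈ sqs Q, ρ * f * ρ⁻¹ = f) :
    ((∀ x ∈ Q, x * x = 1) ∧ Nat.card Q = 16) ∨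
      (Nat.card Q = 32 ∧ ∃ A B : Subgroup Q,
        Nonempty (↥A ≃* QuaternionGroup 2) ∧ Nonempty (↥B ≃* DihedralGroup 4) ∧
        (∀ a ∈ A, ∀ b ∈ B, a * b = b * a) ∧ A ⊔ B = ⊤ ∧ A ⊓ B = center Q) := by
  haveI := h.n
  haveI : Fact (Nat.Prime 2) := ⟨Nat.prime_two⟩
  have C := h.c2 hc
  obtain ⟨x, hx, hx', hxx⟩ := h.exists_invol hc hρ hy hy' hρc
  obtain ⟨x1, x2, x3, x4, α, β, e1, e2, e3, e4, e5, b1, b2, b3, b4, b12, b13, b23, q, hm⟩ :=
    h.orbit hc hx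
  have m1 := e1 ▸ h.conj hx
  have m2 := e2 ▸ h.conj m1
  have m3 := e3 ▸ h.conj m2
  have m4 := e4 ▸ h.conj m3
  have hα := b1 ▸ C.b_mem hx m1
  have hβ := b2 ▸ C.b_mem hx m2
  obtain rfl : α = β := by
    rw [← C.inv hβ]; exact eq_inv_of_mul_eq_one_left (q ▸ hxx)
  have hF : sqs Q = zpowers α := le_antisymm
    (h.le_of_mem hc hx hx' (by rw [e1, b1]; exact mem_zpowers _) (by rw [e1, e2, b2]; exact mem_zpowers _))
    (zpowers_le.2 hα)
  have hcard := h.card_eq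
  rw [hF, Nat.card_zpowers] at hcard
  by_cases h1 : α = 1
  · left
    rw [h1, orderOf_one] at hcard
    refine ⟨fun g hg => ?_, hcard⟩
    have := sq_mem hg
    rwa [hF, h1, zpowers_one_eq_bot, mem_bot] at this
  right
  rw [orderOf_eq_prime (p := 2) (by rw [pow_two, C.el _ hα]) h1] at hcard
  refine ⟨hcard, ?_⟩
  have sq : ∀ {a a' : X}, a * a = 1 → s * a * s⁻¹ = a' → a' * a' = 1 := fun {a a'} ha e => by
    rw [← e]
    calc _ = s * (a * a) * s⁻¹ := by group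
      _ = 1 := by rw [ha]; group
  have q1 := sq hxx e1
  have q2 := sq q1 e2
  have q3 := sq q2 e3
  have sw : ∀ {a c : X}, a ∈ Q → c ∈ Q → b a c = α → c * a = α * (a * c) := fun ha hc' e => by
    rw [← e, C.b_comm ha hc', ← mul_eq_b]
  refine ident (K := Q) (z := ⟨α, sqs_le Q hα⟩) (x0 := ⟨x, hx⟩) (x1 := ⟨x1, m1⟩) (x2 := ⟨x2, m2⟩)
    (x3 := ⟨x3, m3⟩) (Subtype.ext (C.el _ hα)) (fun e => h1 (congrArg Subtype.val e))
    (fun g => Subtype.ext (C.cent _ hα g g.2)) (Subtype.ext hxx) (Subtype.ext q1) (Subtype.ext q2)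
    (Subtype.ext q3) (Subtype.ext (sw hx m1 b1)) (Subtype.ext (sw hx m2 b2)) (Subtype.ext (sw hx m3 b3))
    (Subtype.ext (sw m1 m2 b12)) (Subtype.ext (sw m1 m3 b13)) (Subtype.ext (sw m2 m3 b23)) ?_ ?_
  · intro H h0 h1 h2 h3
    have k0 : x ∈ H.map Q.subtype := ⟨_, h0, rfl⟩
    have k1 : x1 ∈ H.map Q.subtype := ⟨_, h1, rfl⟩
    have k2 : x2 ∈ H.map Q.subtype := ⟨_, h2, rfl⟩
    have k3 : x3 ∈ H.map Q.subtype := ⟨_, h3, rfl⟩
    have kF : sqs Q ≤ H.map Q.subtype := by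
      rw [hF, zpowers_le, ← b1]
      exact mul_mem (mul_mem (mul_mem k0 k1) (inv_mem k0)) (inv_mem k1)
    have k4 : x4 ∈ H.map Q.subtype := by
      have := mul_mem (inv_mem (mul_mem (mul_mem (mul_mem k0 k1) k2) k3)) (kF hm)
      rwa [inv_mul_cancel_left] at this
    have hle : closure {x, x1, x2, x3, x4} ≤ H.map Q.subtype := by
      rw [closure_le]
      rintro _ (rfl | rfl | rfl | rfl | rfl)
      exacts [k0, k1, k2, k3, k4]
    have hs : ∀ g ∈ closure ({x, x1, x2, x3, x4} : Set X), s * g * s⁻¹ ∈ closure {x, x1, x2, x3, x4} := by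
      have : closure ({x, x1, x2, x3, x4} : Set X) ≤
          (closure {x, x1, x2, x3, x4}).comap (MulAut.conj s).toMonoidHom := by
        rw [closure_le]
        rintro _ (rfl | rfl | rfl | rfl | rfl) <;> refine subset_closure ?_ <;> simp [e1, e2, e3, e4, e5]
      exact fun g hg => this hg
    have hx0 : x ∈ closure ({x, x1, x2, x3, x4} : Set X) := subset_closure (by simp)
    have hx1 : x1 ∈ closure ({x, x1, x2, x3, x4} : Set X) := subset_closure (by simp)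
    have := h.irr (K := closure {x, x1, x2, x3, x4}) (by
      rw [hF, zpowers_le, ← b1]
      exact mul_mem (mul_mem (mul_mem hx0 hx1) (inv_mem hx0)) (inv_mem hx1))
      (hle.trans (map_subtype_le H)) hs hx0 hx'
    rw [eq_top_iff]
    intro g _
    obtain ⟨g', hg', e⟩ := hle (this.ge g.2)
    exact (Subtype.ext e : g' = g) ▸ hg'
  · intro g hg
    have hgF : (g : X) ∈ sqs Q := by
      by_contra hn
      have := h.irr (K := Q ⊓ centralizer (Q : Set X))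
        (fun f hf => ⟨sqs_le Q hf, fun y hy => C.cent f hf y hy⟩) inf_le_left
        (fun y hy => (inferInstance : (Q ⊓ centralizer (Q : Set X)).Normal).conj_mem y hy s)
        (x := g) ⟨g.2, fun y hy => congrArg Subtype.val (mem_center_iff.1 hg ⟨y, hy⟩)⟩ hn
      exact h1 (b1 ▸ b_eq_one_iff.2 ((this.ge m1).2 x hx))
    rw [hF] at hgF
    rcases mem_zpowers_two (C.el _ hα) hgF with e | e
    exacts [Or.inl (Subtype.ext e), Or.inr (Subtype.ext e)]

end P5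

end H83.R4
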