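import Mathlib
import Cfsg.Agent.Lib.FGS83.R4D

/-!
A self-centralising normal 2-subgroup with `A₅` above it, in sectional 2-rank four.
-/

set_option autoImplicit false

namespace H83.R4

open Subgroup

variable {X : Type*} [Group X] [Finite X]

omit [Finite X] in
theorem lift_odd {Q : Subgroup X} (h2 : IsPGroup 2 Q) {r : ℕ} (hr : Odd r) {y : X} (hy : y ^ r ∈ Q) :
    ∃ s ∈ zpowers y, s ^ r = 1 ∧ y⁻¹ * s ∈ Q := by
  obtain ⟨k, hk⟩ := h2 ⟨_, hy⟩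
  have hk : (y ^ r) ^ 2 ^ k = 1 := congrArg Subtype.val hk
  obtain ⟨m, h1, h3⟩ := Nat.chineseRemainder
    ((Nat.coprime_two_right.2 hr).pow_right k : r.Coprime (2 ^ k)) (r + 1) 0
  obtain ⟨c, rfl⟩ := (Nat.modEq_zero_iff_dvd).1 h3
  refine ⟨y ^ (2 ^ k * c), ⟨(2 ^ k * c : ℕ), by simp only [zpow_natCast]⟩, ?_, ?_⟩
  · rw [← pow_mul, mul_comm, pow_mul, pow_mul, hk, one_pow]
  · obtain ⟨d, hd⟩ := (Int.natCast_modEq_iff.2 h1).symm.dvd
    have : y⁻¹ * y ^ (2 ^ k * c) = (y ^ r) ^ (d + 1) := by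
      rw [← zpow_natCast y, ← zpow_natCast y r, ← zpow_mul, ← zpow_neg_one, ← zpow_add]
      congr 1
      push_cast at hd ⊢
      linarith
    rw [this]
    exact Q.zpow_mem hy _

theorem lift_norm {Q : Subgroup X} [hQ : Q.Normal] (h2 : IsPGroup 2 Q) {r : ℕ} (hr : Odd r) {s t u : X}
    (hs : s ^ r = 1) (hu : u ∈ zpowers s) (hu' : s ∈ zpowers u) (h : t * s * t⁻¹ * u⁻¹ ∈ Q) :
    ∃ n ∈ Q, (t * n) * s * (t * n)⁻¹ = u := by
  have hcop := coprime_zpowers h2 hr hs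
  obtain ⟨n, hn, h1⟩ := H2.exists_mul_mem_normalizer (A := zpowers s) (N := Q) (g := t)
    le_normalizer_of_normal hcop (Or.inl (H2.isSolvable_zpowers s)) (by
      have : zpowers u ≤ (Q ⊔ zpowers s).comap (MulAut.conj t⁻¹).toMonoidHom := by
        rw [zpowers_le]
        have := mul_mem (mem_sup_left (T := zpowers s) (inv_mem (hQ.conj_mem _ h t⁻¹)))
          (mem_sup_right (S := Q) (mem_zpowers s))
        show t⁻¹ * u * t⁻¹⁻¹ ∈ Q ⊔ zpowers s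
        convert this using 1
        group
      intro a ha
      have := this (zpowers_le.2 hu' ha)
      simpa using this)
  refine ⟨n, hn, mul_inv_eq_one.1 (H2.eq_one_of_mem_of_coprime hcop ?_ ?_)⟩
  · exact mul_mem ((mem_normalizer_iff.1 h1 s).1 (mem_zpowers s)) (inv_mem hu)
  · have := mul_mem (hQ.conj_mem _ (mul_mem hn (hQ.conj_mem _ (inv_mem hn) s)) t) h
    convert this using 1
    group

theorem a5_elts : ∃ σ τ ρ : alternatingGroup (Fin 5), σ ^ 5 = 1 ∧ σ ≠ 1 ∧ τ * τ = 1 ∧ τ ≠ 1 ∧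
    τ * σ * τ⁻¹ = σ⁻¹ ∧ ρ ^ 3 = 1 ∧ ρ ≠ 1 := by
  refine ⟨⟨Equiv.swap 0 1 * Equiv.swap 1 2 * Equiv.swap 2 3 * Equiv.swap 3 4,
      Equiv.Perm.mem_alternatingGroup.2 (by decide)⟩,
    ⟨Equiv.swap 1 4 * Equiv.swap 2 3, Equiv.Perm.mem_alternatingGroup.2 (by decide)⟩,
    ⟨Equiv.swap 0 1 * Equiv.swap 1 2, Equiv.Perm.mem_alternatingGroup.2 (by decide)⟩,
    Subtype.ext ?_, fun h => absurd (congrArg Subtype.val h) ?_, Subtype.ext ?_,
    fun h => absurd (congrArg Subtype.val h) ?_, Subtype.ext ?_, Subtype.ext ?_,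
    fun h => absurd (congrArg Subtype.val h) ?_⟩ <;> decide +kernel

theorem main5 {Q Y : Subgroup X} [hQ : Q.Normal] (h2 : IsPGroup 2 Q)
    (hC : centralizer (Q : Set X) ≤ Q) (h4 : SR 4 X) (hQY : Q ≤ Y)
    (f : Y →* alternatingGroup (Fin 5)) (hf : Function.Surjective f)
    (hk : ∀ y : Y, f y = 1 ↔ (y : X) ∈ Q) :
    ((∀ x ∈ Q, x * x = 1) ∧ Nat.card Q = 16) ∨
      (Nat.card Q = 32 ∧ ∃ A B : Subgroup Q,
        Nonempty (↥A ≃* QuaternionGroup 2) ∧ Nonempty (↥B ≃* DihedralGroup 4) ∧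
        (∀ a ∈ A, ∀ b ∈ B, a * b = b * a) ∧ A ⊔ B = ⊤ ∧ A ⊓ B = center Q) := by
  obtain ⟨σ, τ, ρ, h1, h1', h3, h3', h5, h6, h6'⟩ := a5_elts
  have lift : ∀ (r : ℕ) (a : alternatingGroup (Fin 5)), Odd r → a ^ r = 1 → a ≠ 1 →
      ∃ s : Y, (s : X) ^ r = 1 ∧ f s = a ∧ ∃ x ∈ Q, (s : X) * x * (s : X)⁻¹ ≠ x := by
    intro r a hr ha ha1
    obtain ⟨y, rfl⟩ := hf a
    obtain ⟨s, hs, e1, e2⟩ := lift_odd h2 hr (y := y) ((hk (y ^ r)).1 (by rw [map_pow, ha]))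
    have hsY : s ∈ Y := zpowers_le.2 y.2 hs
    have e3 : f ⟨s, hsY⟩ = f y := by
      have := (hk (y⁻¹ * ⟨s, hsY⟩)).2 e2
      rw [map_mul, map_inv] at this
      exact (inv_mul_eq_one.1 this).symm
    refine ⟨⟨s, hsY⟩, e1, e3, ?_⟩
    by_contra hc
    push Not at hc
    exact ha1 (e3 ▸ (hk ⟨s, hsY⟩).2 (hC (zpowers_le_cent hc (mem_zpowers s))))
  obtain ⟨s, s1, s2, x, hx, hx'⟩ := lift 5 σ (by decide) h1 h1'
  obtain ⟨u, u1, u2, y, hy, hy'⟩ := lift 3 ρ (by decide) h6 h6'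
  obtain ⟨t, ht⟩ := hf τ
  obtain ⟨n, hn, e⟩ := lift_norm h2 (by decide : Odd 5) (t := t) (u := (s : X)⁻¹) s1
    (inv_mem (mem_zpowers _)) (by rw [zpowers_inv]; exact mem_zpowers _)
    ((hk (t * s * t⁻¹ * s⁻¹⁻¹)).1 (by simp only [map_mul, map_inv, s2, ht, h5]; group))
  have hP := P5.of h2 h4 s1 hx hx'
  have ft : f (t * ⟨n, hQY hn⟩) = τ := by rw [map_mul, (hk ⟨n, hQY hn⟩).2 hn, ht, mul_one]
  have hc := cent_aux _ X rfl h4 Q s _ hP e
    ((hk (t * ⟨n, hQY hn⟩ * (t * ⟨n, hQY hn⟩))).1 (by rw [map_mul, ft, h3]))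
    (fun e => h3' (ft ▸ (hk (t * ⟨n, hQY hn⟩)).2 e))
  have C := hP.c2 hc
  refine hP.struct hc u1 hy hy' ?_
  have hN : ((centralizer (sqs Q : Set X)).subgroupOf Y).Normal := inferInstance
  rcases (hN.map f hf).eq_bot_or_eq_top with e | e
  · exact absurd (mem_bot.1 (e ▸ (⟨s, zpowers_le_cent hc (mem_zpowers _), s2⟩ :
      σ ∈ ((centralizer (sqs Q : Set X)).subgroupOf Y).map f))) h1'
  · obtain ⟨v, hv, e'⟩ : ρ ∈ ((centralizer (sqs Q : Set X)).subgroupOf Y).map f := e ▸ mem_top _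
    have : ((v⁻¹ * u : Y) : X) ∈ Q := (hk _).1 (by rw [map_mul, map_inv, e', u2, inv_mul_cancel])
    have h7 : ((v⁻¹ * u : Y) : X) ∈ centralizer (sqs Q : Set X) := fun g hg => (C.cent g hg _ this).symm
    have h8 : (u : X) ∈ centralizer (sqs Q : Set X) := by
      have := mul_mem (mem_subgroupOf.1 hv) h7
      simpa using this
    exact fun g hg => conj_eq_of_cent h8 hg

theorem main5' {Q : Subgroup X} [hQ : Q.Normal] (h2 : IsPGroup 2 Q)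
    (hC : centralizer (Q : Set X) ≤ Q) (h4 : SR 4 X) {A : Subgroup (X ⧸ Q)}
    (e : A ≃* alternatingGroup (Fin 5)) :
    ((∀ x ∈ Q, x * x = 1) ∧ Nat.card Q = 16) ∨
      (Nat.card Q = 32 ∧ ∃ A B : Subgroup Q,
        Nonempty (↥A ≃* QuaternionGroup 2) ∧ Nonempty (↥B ≃* DihedralGroup 4) ∧
        (∀ a ∈ A, ∀ b ∈ B, a * b = b * a) ∧ A ⊔ B = ⊤ ∧ A ⊓ B = center Q) := by
  refine main5 h2 hC h4 (Y := A.comap (QuotientGroup.mk' Q)) (fun x hx => ?_)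
    (e.toMonoidHom.comp ((QuotientGroup.mk' Q).subgroupComap A))
    (e.surjective.comp ((QuotientGroup.mk' Q).subgroupComap_surjective_of_surjective A
      (QuotientGroup.mk'_surjective Q))) fun y => ?_
  · rw [mem_comap, (QuotientGroup.eq_one_iff x).2 hx |> (show QuotientGroup.mk' Q x = 1 from ·)]
    exact A.one_mem
  · rw [MonoidHom.comp_apply, MulEquiv.coe_toMonoidHom, e.map_eq_one_iff, Subtype.ext_iff]
    exact QuotientGroup.eq_one_iff _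

end H83.R4
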