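import Mathlib
import Cfsg.Agent.Lib.FGS83.R4E

/-!
Transvections on an elementary abelian group of order sixteen.
-/

set_option autoImplicit false

namespace H83.R4

open Subgroup H5

section Mod

variable {V : Type*} [CommGroup V] [Finite V] (he : ∀ v : V, v * v = 1) (h16 : Nat.card V ≤ 16)

/-- The kernel of the norm map of an automorphism of order three. -/
def nk (β : MulAut V) : Subgroup V where
  carrier := {v | v * β v * β (β v) = 1}
  one_mem' := by simp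
  mul_mem' := by
    intro a b ha hb
    simp only [Set.mem_setOf_eq, map_mul] at *
    calc _ = (a * β a * β (β a)) * (b * β b * β (β b)) := by ac_rfl
      _ = 1 := by rw [ha, hb, one_mul]
  inv_mem' := by
    intro a ha
    simp only [Set.mem_setOf_eq, map_inv] at *
    rw [← mul_inv, ← mul_inv, ha, inv_one]

omit [Finite V] in
theorem mem_nk {β : MulAut V} {v : V} : v ∈ nk β ↔ v * β v * β (β v) = 1 := Iff.rfl

omit [Finite V] in
theorem cube {β : MulAut V} (h : β ^ 3 = 1) (v : V) : β (β (β v)) = v := by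
  have := congrArg (fun φ : MulAut V => φ v) h
  simpa [pow_succ] using this

omit [Finite V] in
theorem map_nk {β θ : MulAut V} (h : θ * β = β * θ) {w : V} (hw : w ∈ nk β) : θ w ∈ nk β := by
  have e : ∀ v, β (θ v) = θ (β v) := fun v => (congrArg (fun φ : MulAut V => φ v) h).symm
  rw [mem_nk, e, e, ← map_mul, ← map_mul, hw, map_one]

include he

omit [Finite V] in
theorem isP : IsPGroup 2 V := fun v => ⟨1, by rw [pow_one, pow_two, he]⟩

omit [Finite V] in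
theorem decomp {β : MulAut V} (h : β ^ 3 = 1) (v : V) :
    ∃ w ∈ nk β, ∃ u ∈ fixedSub β, v = w * u := by
  refine ⟨β v * β (β v), ?_, v * β v * β (β v), ?_, ?_⟩
  · rw [mem_nk]
    simp only [map_mul, cube h]
    calc _ = (v * v) * (β v * β v) * (β (β v) * β (β v)) := by ac_rfl
      _ = 1 := by simp only [he, one_mul]
  · rw [mem_fixedSub]
    simp only [map_mul, cube h]
    ac_rfl
  · calc v = v * (β v * β v) * (β (β v) * β (β v)) := by simp only [he, mul_one]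
      _ = _ := by ac_rfl

omit [Finite V] in
theorem nk_fix {β : MulAut V} {w : V} (hw : w ∈ nk β) (e : β w = w) : w = 1 := by
  rwa [mem_nk, e, e, he, one_mul] at hw

theorem card_nk {β : MulAut V} (h : β ^ 3 = 1) : Nat.card V = Nat.card (nk β) * Nat.card (fixedSub β) := by
  rw [← Nat.card_prod]
  refine (Nat.card_eq_of_bijective (fun p : nk β × fixedSub β => p.1.1 * p.2.1) ⟨?_, fun v => ?_⟩).symm
  · rintro ⟨⟨a, ha⟩, ⟨b, hb⟩⟩ ⟨⟨c, hc⟩, ⟨d, hd⟩⟩ e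
    have e : a * b = c * d := e
    have h1 : c⁻¹ * a = d * b⁻¹ := by
      calc c⁻¹ * a = c⁻¹ * (a * b) * b⁻¹ := by group
        _ = _ := by rw [e]; group
    have h2 : c⁻¹ * a = 1 := nk_fix he (mul_mem (inv_mem hc) ha)
      (by rw [h1]; exact mul_mem hd (inv_mem hb))
    obtain rfl : c = a := inv_mul_eq_one.1 h2
    obtain rfl : b = d := mul_left_cancel e
    rfl
  · obtain ⟨w, hw, u, hu, rfl⟩ := decomp he h v
    exact ⟨(⟨w, hw⟩, ⟨u, hu⟩), rfl⟩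

include h16

theorem card_nk_eq {β : MulAut V} (h : β ^ 3 = 1) (h1 : β ≠ 1) (h2 : ∃ x, x ≠ 1 ∧ β x = x) :
    Nat.card (nk β) = 4 := by
  haveI : Fact (Nat.Prime 2) := ⟨Nat.prime_two⟩
  haveI : Fact (Nat.Prime 3) := ⟨by norm_num⟩
  obtain ⟨a, ha⟩ := ((isP he).to_subgroup (nk β)).exists_card_eq
  have hm := H13.TG.ncard_modEq h (nk β : Set V) fun x hx => map_nk rfl hx
  have e : (nk β : Set V) ∩ fixedSub β = {1} := by
    ext x
    exact ⟨fun hx => nk_fix he hx.1 hx.2, by rintro rfl; exact ⟨one_mem _, one_mem _⟩⟩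
  rw [e, Set.ncard_singleton, ← Mac.card_eq_ncard, ha] at hm
  have hc := card_nk he h
  obtain ⟨x, hx, hx'⟩ := h2
  have h3 : 1 < Nat.card (fixedSub β) := (one_lt_card_iff_ne_bot _).2 fun e =>
    hx (mem_bot.1 (e ▸ (hx' : x ∈ fixedSub β)))
  have h4 : nk β ≠ ⊥ := fun e => h1 (MulEquiv.ext fun v => by
    obtain ⟨w, hw, u, hu, rfl⟩ := decomp he h v
    rw [e, mem_bot] at hw
    rw [hw, one_mul]; exact hu)
  have h5 := (one_lt_card_iff_ne_bot _).2 h4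
  rw [ha] at hc h5 ⊢
  have h6 : a ≤ 3 := by
    by_contra hn
    have : 2 ^ 4 ≤ 2 ^ a := Nat.pow_le_pow_right (by norm_num) (by omega)
    nlinarith
  interval_cases a <;> simp_all [Nat.ModEq]

theorem fix_nk {β θ : MulAut V} (h : β ^ 3 = 1) (h1 : β ≠ 1) (h2 : ∃ x, x ≠ 1 ∧ β x = x)
    (hc : θ * β = β * θ) (ht : θ * θ = 1) : ∀ w ∈ nk β, θ w = w := by
  haveI : Fact (Nat.Prime 2) := ⟨Nat.prime_two⟩
  have h4 := card_nk_eq he h16 h h1 h2
  have e : ∀ v, β (θ v) = θ (β v) := fun v => (congrArg (fun φ : MulAut V => φ v) hc).symm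
  have ett : ∀ v, θ (θ v) = v := fun v => congrArg (fun φ : MulAut V => φ v) ht
  by_contra hn
  push Not at hn
  obtain ⟨w, hw, hw'⟩ := hn
  have hlt : nk β ⊓ fixedSub θ < nk β := lt_of_le_of_ne inf_le_left fun e => hw' (e.ge hw).2
  have h5 := H1.card_lt_of_lt hlt
  have hp : w * θ w ∈ nk β ⊓ fixedSub θ :=
    mem_inf.2 ⟨mul_mem hw (map_nk hc hw), mem_fixedSub.2 (by rw [map_mul, ett, mul_comm])⟩
  have hp1 : w * θ w ≠ 1 := fun e => hw' (mul_left_cancel (e.trans (he w).symm))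
  set p := w * θ w
  have hq : β p ∈ nk β ⊓ fixedSub θ := mem_inf.2 ⟨map_nk rfl hp.1, mem_fixedSub.2 (by
    rw [← e, mem_fixedSub.1 (mem_inf.1 hp).2])⟩
  have hq1 : β p ≠ p := fun e => hp1 (nk_fix he hp.1 e)
  obtain ⟨a, ha⟩ := ((isP he).to_subgroup (nk β ⊓ fixedSub θ)).exists_card_eq
  have h6 : 3 ≤ Nat.card ↥(nk β ⊓ fixedSub θ) := by
    rw [Mac.card_eq_ncard]
    have : ({1, p, β p} : Set V).ncard = 3 := Set.ncard_eq_three.2
      ⟨_, _, _, hp1.symm, fun e => hp1 (β.map_eq_one_iff.1 e.symm), hq1.symm, rfl⟩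
    rw [← this]
    refine Set.ncard_le_ncard ?_
    rintro _ (rfl | rfl | rfl)
    exacts [one_mem _, hp, hq]
  rw [ha] at h5 h6
  have : a < 2 := (Nat.pow_lt_pow_iff_right (by norm_num : 1 < 2)).1 (by omega)
  interval_cases a <;> omega

theorem nk_le {α β θ : MulAut V} (hα : α ^ 3 = 1) (h : β ^ 3 = 1) (h1 : β ≠ 1)
    (h2 : ∃ x, x ≠ 1 ∧ β x = x) (hαβ : α * β = β * α) (hc : θ * β = β * θ) (ht : θ * θ = 1)
    (hi : θ * α * θ⁻¹ = α⁻¹) : nk β ≤ fixedSub α := by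
  intro w hw
  have h3 := fix_nk he h16 h h1 h2 hc ht
  have h4 : α * θ * α = θ := by rw [mul_assoc, mul_inv_eq_iff_eq_mul.1 hi]; group
  have h5 : α (θ (α w)) = θ w := congrArg (fun φ : MulAut V => φ w) h4
  rw [h3 _ (map_nk hαβ hw), h3 w hw] at h5
  have := cube hα w
  rwa [h5] at this

omit h16 in
theorem side {β θ : MulAut V} (h : β ^ 3 = 1) (hA : ∀ w ∈ nk β, θ w = w)
    (h4 : Nat.card (fixedSub β) = 4) (hc : θ * β = β * θ) (ht : θ * θ = 1) (h1 : θ ≠ 1) :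
    ∃ p, (∀ v, v⁻¹ * θ v = 1 ∨ v⁻¹ * θ v = p) ∧ (∃ u, u⁻¹ * θ u = p) ∧
      ∀ v, β v = v → θ v = v → v = 1 ∨ v = p := by
  haveI : Fact (Nat.Prime 2) := ⟨Nat.prime_two⟩
  have e : ∀ v, β (θ v) = θ (β v) := fun v => (congrArg (fun φ : MulAut V => φ v) hc).symm
  have ett : ∀ v, θ (θ v) = v := fun v => congrArg (fun φ : MulAut V => φ v) ht
  have hi : ∀ v : V, v⁻¹ = v := fun v => inv_eq_of_mul_eq_one_right (he v)
  obtain ⟨u, hu, hu'⟩ : ∃ u ∈ fixedSub β, θ u ≠ u := by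
    by_contra hn
    push Not at hn
    refine h1 (MulEquiv.ext fun v => ?_)
    obtain ⟨w, hw, u, hu, rfl⟩ := decomp he h v
    rw [map_mul, hA w hw, hn u hu]; rfl
  have hm : ∀ u ∈ fixedSub β, u⁻¹ * θ u ∈ fixedSub β ⊓ fixedSub θ := fun u hu =>
    mem_inf.2 ⟨mul_mem (inv_mem hu) (mem_fixedSub.2 (by rw [e, mem_fixedSub.1 hu])),
      mem_fixedSub.2 (by rw [hi, map_mul, ett, mul_comm])⟩
  have hp1 : u⁻¹ * θ u ≠ 1 := fun e => hu' (inv_mul_eq_one.1 e).symm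
  have hlt : fixedSub β ⊓ fixedSub θ < fixedSub β :=
    lt_of_le_of_ne inf_le_left fun e => hu' (e.ge hu).2
  have h5 := H1.card_lt_of_lt hlt
  obtain ⟨a, ha⟩ := ((isP he).to_subgroup (fixedSub β ⊓ fixedSub θ)).exists_card_eq
  have h6 : Nat.card ↥(fixedSub β ⊓ fixedSub θ) ≤ 2 := by
    rw [ha] at h5 ⊢
    have : a < 2 := (Nat.pow_lt_pow_iff_right (by norm_num : 1 < 2)).1 (by omega)
    interval_cases a <;> omega
  have h7 : zpowers (u⁻¹ * θ u) = fixedSub β ⊓ fixedSub θ :=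
    eq_of_le_of_card_ge (zpowers_le.2 (hm u hu)) (by
      rwa [Nat.card_zpowers, orderOf_eq_prime (p := 2) (by rw [pow_two, he]) hp1])
  have h8 : ∀ v ∈ fixedSub β ⊓ fixedSub θ, v = 1 ∨ v = u⁻¹ * θ u := fun v hv =>
    mem_zpowers_two (he _) (h7 ▸ hv)
  refine ⟨_, fun v => ?_, ⟨u, rfl⟩, fun v h1 h2 => h8 v ⟨h1, h2⟩⟩
  obtain ⟨w, hw, y, hy, rfl⟩ := decomp he h v
  have : (w * y)⁻¹ * θ (w * y) = y⁻¹ * θ y := by rw [map_mul, hA w hw]; group
  rw [this]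
  exact h8 _ (hm y hy)

theorem pair {α β θ θ' : MulAut V} (hα : α ^ 3 = 1) (hβ : β ^ 3 = 1) (a1 : α ≠ 1) (b1 : β ≠ 1)
    (a2 : ∃ x, x ≠ 1 ∧ α x = x) (b2 : ∃ x, x ≠ 1 ∧ β x = x) (hαβ : α * β = β * α)
    (hc : θ * β = β * θ) (ht : θ * θ = 1) (hi : θ * α * θ⁻¹ = α⁻¹)
    (hc' : θ' * α = α * θ') (ht' : θ' * θ' = 1) (hi' : θ' * β * θ'⁻¹ = β⁻¹) :
    Nat.card V = 16 ∧ ∃ p p', (∀ v, v⁻¹ * θ v = 1 ∨ v⁻¹ * θ v = p) ∧ (∃ u, u⁻¹ * θ u = p) ∧
      (∀ v, β v = v → θ v = v → v = 1 ∨ v = p) ∧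
      (∀ v, v⁻¹ * θ' v = 1 ∨ v⁻¹ * θ' v = p') ∧ (∃ u, u⁻¹ * θ' u = p') ∧
      (∀ v, α v = v → θ' v = v → v = 1 ∨ v = p') ∧
      ∀ v, θ v = v → θ' v = v → v = 1 ∨ v = p ∨ v = p' ∨ v = p' * p := by
  have l1 := nk_le he h16 hα hβ b1 b2 hαβ hc ht hi
  have l2 := nk_le he h16 hβ hα a1 a2 hαβ.symm hc' ht' hi'
  have c1 := card_nk_eq he h16 hβ b1 b2
  have c2 := card_nk_eq he h16 hα a1 a2
  have d1 := card_nk he hβ
  have d2 := card_nk he hα
  have e1 := card_le_of_le l1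
  have e2 := card_le_of_le l2
  rw [c1] at d1 e1
  rw [c2] at d2 e2
  have f1 : Nat.card (fixedSub β) = 4 := by omega
  have f2 : Nat.card (fixedSub α) = 4 := by omega
  have ne : ∀ {α θ : MulAut V}, α ^ 3 = 1 → α ≠ 1 → θ * α * θ⁻¹ = α⁻¹ → θ ≠ 1 := by
    rintro α _ h h1 h2 rfl
    apply h1
    have h3 : α = α⁻¹ := by simpa using h2
    calc α = α ^ 3 * α⁻¹ * α⁻¹ := by group
      _ = α * α⁻¹ := by rw [h, one_mul, ← h3]
      _ = 1 := mul_inv_cancel α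
  have g1 := fix_nk he h16 hβ b1 b2 hc ht
  have g2 := fix_nk he h16 hα a1 a2 hc' ht'
  obtain ⟨p, p1, p2, p3⟩ := side he hβ g1 f1 hc ht (ne hα a1 hi)
  obtain ⟨q, q1, q2, q3⟩ := side he hα g2 f2 hc' ht' (ne hβ b1 hi')
  refine ⟨by omega, p, q, p1, p2, p3, q1, q2, q3, fun v h1 h2 => ?_⟩
  obtain ⟨w, hw, u, hu, rfl⟩ := decomp he hβ v
  rw [map_mul, g1 w hw, mul_right_inj] at h1
  have : nk α = fixedSub β := eq_of_le_of_card_ge l2 (by omega)
  rw [map_mul, g2 u (this ▸ hu), mul_left_inj] at h2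
  rcases p3 u hu h1 with rfl | rfl <;> rcases q3 w (l1 hw) h2 with rfl | rfl <;> simp

end Mod

end H83.R4
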