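import Mathlib
import Cfsg.Agent.Lib.FGS83.R4F

/-!
No symmetric group of degree six above a self-centralising normal 2-subgroup, in sectional
2-rank four.
-/

set_option autoImplicit false

namespace H83.R4

open Subgroup H5

theorem dich {V : Type*} [CommGroup V] (he : ∀ v : V, v * v = 1) {α β : MulAut V} (hα : α ^ 3 = 1)
    (hβ : β ^ 3 = 1) (hc : α * β = β * α) (h1 : ∀ x, α x = x → x = 1) (h2 : ∀ x, β x = x → x = 1)
    (h3 : ∀ x, (β * α) x = x → x = 1) (h4 : ∀ x, (β⁻¹ * α) x = x → x = 1) (v : V) : v = 1 := by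
  have n : ∀ {α : MulAut V}, α ^ 3 = 1 → (∀ x, α x = x → x = 1) → ∀ v, v * α v * α (α v) = 1 :=
    fun {α} h hf v => hf _ (by simp only [map_mul, cube h]; ac_rfl)
  have e : ∀ v, α (β v) = β (α v) := fun v => congrArg (fun φ : MulAut V => φ v) hc
  have k1 : α (α v * β (β v)) * β (α v * β (β v)) = 1 := by
    have a1 := n hα h1 v
    have a2 := congrArg α (n hβ h2 v)
    simp only [map_mul, map_one, cube hβ, ← e] at a2 ⊢
    calc _ = (v * α v * α (α v)) * (α v * α (β v) * α (β (β v))) * (α v * α v)⁻¹ := by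
          rw [he, inv_one, mul_one]
          calc _ = α (α v) * α (β (β v)) * (α (β v) * v) * (α v * α v) := by rw [he, mul_one]
            _ = _ := by ac_rfl
      _ = 1 := by rw [a1, a2, he (α v)]; simp
  have k2 : α v * β (β v) = 1 := h4 _ (by
    rw [MulAut.mul_apply, mul_left_cancel (k1.trans (he _).symm) |>.symm]
    exact β.symm_apply_apply _)
  refine h3 v ?_
  rw [MulAut.mul_apply, ← mul_left_cancel (k2.trans (he _).symm), cube hβ]

/-- Relations between two commuting involutions and two commuting elements of order three. -/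
structure Pr {G : Type*} [Group G] (τ τ' a b : G) : Prop where
  a3 : a ^ 3 = 1
  b3 : b ^ 3 = 1
  a1 : a ≠ 1
  b1 : b ≠ 1
  ab : a * b = b * a
  tb : τ * b = b * τ
  tt : τ * τ = 1
  ta : τ * a * τ⁻¹ = a⁻¹
  ua : τ' * a = a * τ'
  uu : τ' * τ' = 1
  ub : τ' * b * τ'⁻¹ = b⁻¹
  tu : τ * τ' = τ' * τ

theorem Pr.map {G H : Type*} [Group G] [Group H] {f : G →* H} (hf : Function.Injective f)
    {τ τ' a b : G} (h : Pr τ τ' a b) : Pr (f τ) (f τ') (f a) (f b) := by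
  refine ⟨?_, ?_, fun e => h.a1 (hf (e.trans f.map_one.symm)), fun e => h.b1 (hf (e.trans f.map_one.symm)),
    ?_, ?_, ?_, ?_, ?_, ?_, ?_, ?_⟩ <;>
  simp only [← map_pow, ← map_mul, ← map_inv, h.a3, h.b3, h.ab, h.tb, h.tt, h.ta, h.ua, h.uu, h.ub,
    h.tu, map_one]

theorem sq_closure {X : Type*} [Group X] {T : Set X} {L : Subgroup X}
    (h1 : ∀ x ∈ T, x ∈ normalizer (L : Set X)) (h2 : ∀ x ∈ T, ∀ y ∈ T, b x y ∈ L)
    (h3 : ∀ x ∈ T, x * x ∈ L) : ∀ g ∈ closure T, g * g ∈ L := by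
  let K : Set X → Subgroup X := fun S =>
    { carrier := {x | x ∈ normalizer (L : Set X) ∧ ∀ z ∈ S, b x z ∈ L}
      one_mem' := ⟨one_mem _, fun z _ => by simp [b]⟩
      mul_mem' := by
        rintro x y ⟨hx, hx'⟩ ⟨hy, hy'⟩
        refine ⟨mul_mem hx hy, fun z hz => ?_⟩
        have := L.mul_mem ((mem_normalizer_iff.1 hx _).1 (hy' z hz)) (hx' z hz)
        convert this using 1
        simp only [b]; group
      inv_mem' := by
        rintro x ⟨hx, hx'⟩
        refine ⟨inv_mem hx, fun z hz => ?_⟩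
        have := (mem_normalizer_iff.1 (inv_mem hx) _).1 (L.inv_mem (hx' z hz))
        convert this using 1
        simp only [b]; group }
  have k1 : closure T ≤ K T := (closure_le _).2 fun x hx => ⟨h1 x hx, h2 x hx⟩
  have k2 : closure T ≤ K (closure T) := (closure_le _).2 fun x hx => ⟨h1 x hx, fun z hz => by
    have := L.inv_mem ((k1 hz).2 x hx)
    convert this using 1
    simp only [b]; group⟩
  intro g hg
  induction hg using closure_induction with
  | mem x hx => exact h3 x hx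
  | one => simp
  | mul x y hx hy ix iy =>
    have := L.mul_mem (L.mul_mem ix ((k2 (inv_mem hx)).2 y hy)) iy
    convert this using 1
    simp only [b]; group
  | inv x hx ix => rw [← mul_inv_rev]; exact L.inv_mem ix

section Amb

variable {X G : Type*} [Group X] [Finite X] [Group G] {V : Subgroup X} [hV : V.Normal]
  {π : X →* G}

/-- Some lift of `a` fixes a nontrivial element of `V`. -/
def Fx (V : Subgroup X) (π : X →* G) (a : G) : Prop :=
  ∃ g : X, π g = a ∧ ∃ v ∈ V, v ≠ 1 ∧ g * v * g⁻¹ = v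

omit [Finite X] in
theorem Fx.conj {a : G} (h : Fx V π a) (g : X) : Fx V π (π g * a * (π g)⁻¹) := by
  obtain ⟨x, rfl, v, hv, h1, h2⟩ := h
  refine ⟨g * x * g⁻¹, by simp, g * v * g⁻¹, hV.conj_mem v hv g, fun e => h1 (by simpa using e), ?_⟩
  conv_rhs => rw [← h2]
  group

variable (he : ∀ v ∈ V, v * v = 1) (hk : ∀ g, π g = 1 ↔ g ∈ V)
include he

omit [Finite X] hV in
theorem vcomm {a c : X} (ha : a ∈ V) (hc : c ∈ V) : a * c = c * a :=
  congrArg Subtype.val (comm_of_forall_sq (fun x : V => Subtype.ext (he x x.2)) ⟨a, ha⟩ ⟨c, hc⟩)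

omit [Finite X] hV in
theorem visP : IsPGroup 2 V := fun v => ⟨1, Subtype.ext (by rw [pow_one, pow_two]; exact he v v.2)⟩

include hk

omit [Finite X] in
theorem act_eq {g h : X} (e : π g = π h) : MulAut.conjNormal (H := V) g = MulAut.conjNormal h := by
  have : h⁻¹ * g ∈ V := (hk _).1 (by rw [map_mul, map_inv, e, inv_mul_cancel])
  ext v
  have := vcomm he this v.2
  simp only [MulAut.conjNormal_apply]
  calc g * v * g⁻¹ = h * (h⁻¹ * g * v) * g⁻¹ := by group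
    _ = _ := by rw [this]; group

omit [Finite X] in
theorem lift3 {a : G} (ha : a ^ 3 = 1) (h : ∃ g, π g = a) : ∃ g, π g = a ∧ g ^ 3 = 1 := by
  obtain ⟨g, rfl⟩ := h
  obtain ⟨s, -, h1, h2⟩ := lift_odd (visP he) (by decide : Odd 3) ((hk _).1 (by rw [map_pow, ha]))
  refine ⟨s, ?_, h1⟩
  have := (hk _).2 h2
  rw [map_mul, map_inv] at this
  exact (inv_mul_eq_one.1 this).symm

theorem sq_lift {t y p : X} (hy : y ^ 3 = 1) (hc : π t * π y = π y * π t) (ht : π t * π t = 1)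
    (h1 : ∀ v ∈ V, v⁻¹ * (t * v * t⁻¹) ∈ zpowers p)
    (h2 : ∀ v ∈ V, y * v * y⁻¹ = v → t * v * t⁻¹ = v → v ∈ zpowers p) : t * t ∈ zpowers p := by
  obtain ⟨n, hn, e⟩ := lift_norm (visP he) (by decide : Odd 3) (t := t) hy (mem_zpowers y)
    (mem_zpowers y) ((hk _).1 (by simp only [map_mul, map_inv, hc]; group))
  have m : t * n * (t * n) ∈ V := (hk _).1 (by simp only [map_mul, (hk n).2 hn, mul_one, ht])
  have c : Commute (t * n) y := mul_inv_eq_iff_eq_mul.1 e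
  have k := h2 _ m (by rw [← (c.mul_left c).eq]; group) (by
    calc t * (t * n * (t * n)) * t⁻¹ = t * n * (n⁻¹ * (t * n * (t * n)) * n) * (t * n)⁻¹ := by group
      _ = _ := by rw [vcomm he (V.inv_mem hn) m]; group)
  have m2 : t * t ∈ V := (hk _).1 (by rw [map_mul, ht])
  have m3 := hV.conj_mem n hn t
  have : t * t = t * n * (t * n) * (n⁻¹ * (t * n * t⁻¹)) := by
    calc t * t = (t * n * t⁻¹) * (t * n * t⁻¹) * (t * t) := by rw [he _ m3, one_mul]
      _ = (t * n * t⁻¹) * (t * t) * (t * n * t⁻¹) := by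
          rw [mul_assoc (t * n * t⁻¹) (t * t), ← vcomm he m3 m2, mul_assoc]
      _ = _ := by group
  rw [this]
  exact mul_mem k (h1 n hn)

variable (h4 : SR 4 X) (hC : ∀ g : X, g ^ 3 = 1 → (∀ v ∈ V, g * v * g⁻¹ = v) → g ∈ V)
include h4 hC

theorem apair {t u : X} {a c : G} (h : Pr (π t) (π u) a c) (ha : Fx V π a) (hc : Fx V π c) :
    Nat.card V = 16 ∧ ∃ p q, (∀ v ∈ V, v⁻¹ * (t * v * t⁻¹) ∈ zpowers p) ∧
      (∃ v ∈ V, v⁻¹ * (t * v * t⁻¹) = p) ∧ t * t ∈ zpowers p ∧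
      (∀ v ∈ V, v⁻¹ * (u * v * u⁻¹) ∈ zpowers q) ∧
      (∃ v ∈ V, v⁻¹ * (u * v * u⁻¹) = q) ∧ u * u ∈ zpowers q ∧
      ∀ v ∈ V, t * v * t⁻¹ = v → u * v * u⁻¹ = v → v = 1 ∨ v = p ∨ v = q ∨ v = q * p := by
  obtain ⟨x, hx, x3⟩ := lift3 he hk h.a3 (ha.imp fun _ h => h.1)
  obtain ⟨y, hy, y3⟩ := lift3 he hk h.b3 (hc.imp fun _ h => h.1)
  subst hx hy
  letI : CommGroup V := { (inferInstance : Group V) with
    mul_comm := fun a c => Subtype.ext (vcomm he a.2 c.2) }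
  have h16 : Nat.card V ≤ 16 := by
    have := h4 V ⊥ bot_le (fun x hx => mem_bot.2 (he x hx))
    rwa [relIndex_bot_left] at this
  set φ : X →* MulAut V := MulAut.conjNormal with hφ
  have ae : ∀ {g h : X}, π g = π h → φ g = φ h := fun e => act_eq he hk e
  have n1 : ∀ {x : X}, x ^ 3 = 1 → π x ≠ 1 → φ x ≠ 1 := fun {x} h3 h1 e =>
    h1 ((hk x).2 (hC x h3 fun v hv => congrArg (fun ψ : MulAut V => (ψ ⟨v, hv⟩ : X)) e))
  have n2 : ∀ {x : X}, Fx V π (π x) → ∃ v, v ≠ 1 ∧ φ x v = v := by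
    rintro x ⟨g, e, v, hv, h1, h2⟩
    exact ⟨⟨v, hv⟩, fun e => h1 (congrArg Subtype.val e), by rw [← ae e]; exact Subtype.ext h2⟩
  obtain ⟨c16, p, q, p1, ⟨p2, p2'⟩, p3, q1, ⟨q2, q2'⟩, q3, r⟩ := pair (V := V)
    (fun v => Subtype.ext (he v v.2)) h16 (α := φ x) (β := φ y) (θ := φ t) (θ' := φ u)
    (by rw [← map_pow, x3, map_one]) (by rw [← map_pow, y3, map_one]) (n1 x3 h.a1) (n1 y3 h.b1)
    (n2 ha) (n2 hc) (by rw [← map_mul, ← map_mul]; exact ae (by simp only [map_mul, h.ab]))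
    (by rw [← map_mul, ← map_mul]; exact ae (by simp only [map_mul, h.tb]))
    (by rw [← map_mul, ← φ.map_one]; exact ae (by simp only [map_mul, h.tt, map_one]))
    (by rw [← map_inv, ← map_inv, ← map_mul, ← map_mul]; exact ae (by simp only [map_mul, map_inv, h.ta]))
    (by rw [← map_mul, ← map_mul]; exact ae (by simp only [map_mul, h.ua]))
    (by rw [← map_mul, ← φ.map_one]; exact ae (by simp only [map_mul, h.uu, map_one]))
    (by rw [← map_inv, ← map_inv, ← map_mul, ← map_mul]; exact ae (by simp only [map_mul, map_inv, h.ub]))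
  have z : ∀ {v p : V}, v = 1 ∨ v = p → (v : X) ∈ zpowers (p : X) := by
    rintro v p (rfl | rfl)
    exacts [one_mem _, mem_zpowers _]
  have p1' : ∀ v ∈ V, v⁻¹ * (t * v * t⁻¹) ∈ zpowers (p : X) := fun v hv => z (p1 ⟨v, hv⟩)
  have q1' : ∀ v ∈ V, v⁻¹ * (u * v * u⁻¹) ∈ zpowers (q : X) := fun v hv => z (q1 ⟨v, hv⟩)
  refine ⟨c16, p, q, p1', ⟨p2, p2.2, congrArg Subtype.val p2'⟩,
    sq_lift he hk y3 h.tb h.tt p1' fun v hv e e' => z (p3 ⟨v, hv⟩ (Subtype.ext e) (Subtype.ext e')),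
    q1', ⟨q2, q2.2, congrArg Subtype.val q2'⟩,
    sq_lift he hk x3 h.ua h.uu q1' fun v hv e e' => z (q3 ⟨v, hv⟩ (Subtype.ext e) (Subtype.ext e')),
    fun v hv e e' => ?_⟩
  simpa only [Subtype.ext_iff, coe_mul, coe_one] using r ⟨v, hv⟩ (Subtype.ext e) (Subtype.ext e')

theorem atriple {t1 t2 t3 : X} {a1 c1 a2 c2 a3 c3 : G} (h12 : Pr (π t1) (π t2) a1 c1)
    (h13 : Pr (π t1) (π t3) a2 c2) (h23 : Pr (π t2) (π t3) a3 c3) (f1 : Fx V π a1) (g1 : Fx V π c1)
    (f2 : Fx V π a2) (g2 : Fx V π c2) (f3 : Fx V π a3) (g3 : Fx V π c3)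
    (h8 : 8 ≤ Nat.card (closure {π t1, π t2, π t3} : Subgroup G)) : False := by
  obtain ⟨c16, p, q, p1, ⟨p2, p2m, p2'⟩, p3, q1, ⟨q2, q2m, q2'⟩, q3, r12⟩ := apair he hk h4 hC h12 f1 g1
  obtain ⟨-, p', s, -, ⟨p4, p4m, p4'⟩, p5, s1, ⟨s2, s2m, s2'⟩, s3, r13⟩ := apair he hk h4 hC h13 f2 g2
  obtain ⟨-, q', s', -, ⟨q4, q4m, q4'⟩, q5, -, ⟨s4, s4m, s4'⟩, s5, r23⟩ := apair he hk h4 hC h23 f3 g3
  set L := V ⊓ centralizer {t1} ⊓ centralizer {t2} with hL
  have mL : ∀ v, v ∈ L ↔ v ∈ V ∧ t1 * v * t1⁻¹ = v ∧ t2 * v * t2⁻¹ = v := fun v => by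
    simp only [hL, mem_inf, mem_centralizer_singleton_iff, mul_inv_eq_iff_eq_mul, and_assoc]
    rw [eq_comm, eq_comm (a := v * t2)]
  have hL4 : Nat.card L ≤ 4 := by
    rw [Mac.card_eq_ncard]
    refine le_trans (Set.ncard_le_ncard (t := {1, p, q, q * p}) fun v hv => ?_) ?_
    · obtain ⟨a, b, c⟩ := (mL v).1 hv
      exact r12 v a b c
    · exact (Set.ncard_insert_le _ _).trans (Nat.succ_le_succ ((Set.ncard_insert_le _ _).trans
        (Nat.succ_le_succ ((Set.ncard_insert_le _ _).trans (by simp)))))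
  have fx : ∀ {t u p v : X}, v ∈ V → v⁻¹ * (t * v * t⁻¹) = p →
      (∀ v ∈ V, v⁻¹ * (t * v * t⁻¹) ∈ zpowers p) → π t * π u = π u * π t → u * p * u⁻¹ = p := by
    intro t u p v hv e h1 hc
    have hp : p ∈ V := e ▸ V.mul_mem (V.inv_mem hv) (hV.conj_mem v hv t)
    have k := congrArg (fun ψ : MulAut V => (ψ ⟨v, hv⟩ : X))
      (act_eq he hk (g := t * u) (h := u * t) (by simp only [map_mul, hc]))
    have k : t * u * v * (t * u)⁻¹ = u * t * v * (u * t)⁻¹ := k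
    have k2 : u * p * u⁻¹ = (u * v * u⁻¹)⁻¹ * (t * (u * v * u⁻¹) * t⁻¹) := by
      calc u * p * u⁻¹ = (u * v * u⁻¹)⁻¹ * (u * t * v * (u * t)⁻¹) := by rw [← e]; group
        _ = _ := by rw [← k]; group
    rcases mem_zpowers_two (he p hp) (k2 ▸ h1 _ (hV.conj_mem v hv u)) with e' | e'
    · have : p = 1 := by simpa using e'
      simp [this]
    · exact e'
  have dm : ∀ {t v : X}, v ∈ V → v⁻¹ * (t * v * t⁻¹) ∈ V := fun {t v} hv =>
    V.mul_mem (V.inv_mem hv) (hV.conj_mem v hv t)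
  have pL : zpowers p ≤ L := zpowers_le.2 ((mL p).2 ⟨p2' ▸ dm p2m, fx p2m p2' p1 rfl, fx p2m p2' p1 h12.tu⟩)
  have qL : zpowers q ≤ L :=
    zpowers_le.2 ((mL q).2 ⟨q2' ▸ dm q2m, fx q2m q2' q1 h12.tu.symm, fx q2m q2' q1 rfl⟩)
  have sL : zpowers s ≤ L :=
    zpowers_le.2 ((mL s).2 ⟨s2' ▸ dm s2m, fx s2m s2' s1 h13.tu.symm, fx s2m s2' s1 h23.tu.symm⟩)
  have p'L : p' ∈ L := pL (p4' ▸ p1 _ p4m)
  have q'L : q' ∈ L := qL (q4' ▸ q1 _ q4m)
  have s'L : s' ∈ L := sL (s4' ▸ s1 _ s4m)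
  have cm : ∀ {t u : X}, π t * π u = π u * π t → u * (t * t) * u⁻¹ = t * t →
      t * (u * u) * t⁻¹ = u * u → b t u ∈ V ∧ t * b t u * t⁻¹ = b t u ∧ u * b t u * u⁻¹ = b t u := by
    intro t u hc e1 e2
    have m : b t u ∈ V := (hk _).1 (by simp only [b, map_mul, map_inv, hc]; group)
    refine ⟨m, mul_right_cancel (b := b t u) ?_, mul_left_cancel (a := b t u) ?_⟩ <;> rw [he _ m]
    · calc _ = t * t * (u * (t * t) * u⁻¹)⁻¹ := by simp only [b]; group
        _ = 1 := by rw [e1, mul_inv_cancel]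
    · calc _ = t * (u * u) * t⁻¹ * (u * u)⁻¹ := by simp only [b]; group
        _ = 1 := by rw [e2, mul_inv_cancel]
  have zc : ∀ {u p y : X}, u * p * u⁻¹ = p → y ∈ zpowers p → u * y * u⁻¹ = y := by
    rintro u p _ e ⟨i, rfl⟩
    simp only [← conj_zpow, e]
  have or4 : ∀ {v p q : X}, p ∈ L → q ∈ L → (v = 1 ∨ v = p ∨ v = q ∨ v = q * p) → v ∈ L := by
    rintro v p q hp hq (rfl | rfl | rfl | rfl)
    exacts [one_mem _, hp, hq, mul_mem hq hp]
  have b12 : b t1 t2 ∈ L := (mL _).2 (cm h12.tu (zc (fx p2m p2' p1 h12.tu) p3)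
    (zc (fx q2m q2' q1 h12.tu.symm) q3))
  have b13 : b t1 t3 ∈ L := by
    obtain ⟨a, b, c⟩ := cm h13.tu (zc (fx p2m p2' p1 h13.tu) p3) (zc (fx s2m s2' s1 h13.tu.symm) s3)
    exact or4 p'L (sL (mem_zpowers _)) (r13 _ a b c)
  have b23 : b t2 t3 ∈ L := by
    obtain ⟨a, b, c⟩ := cm h23.tu (zc (fx q2m q2' q1 h23.tu) q3) (zc (fx s2m s2' s1 h23.tu.symm) s3)
    exact or4 q'L s'L (r23 _ a b c)
  have bs : ∀ {x y : X}, b x y ∈ L → b y x ∈ L := fun {x y} h => by
    have := L.inv_mem h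
    convert this using 1
    simp only [b]; group
  have bv : ∀ {t v : X}, (∀ v ∈ V, v⁻¹ * (t * v * t⁻¹) ∈ L) → v ∈ V → b v t ∈ L := fun {t v} h hv => by
    have := h _ (V.inv_mem hv)
    convert this using 1
    simp only [b]; group
  have v1 := fun v hv => pL (p1 v hv)
  have v2 := fun v hv => qL (q1 v hv)
  have v3 := fun v hv => sL (s1 v hv)
  have b0 : ∀ x, b x x ∈ L := fun x => b_self x ▸ L.one_mem
  have hLV : L ≤ V := fun v hv => ((mL v).1 hv).1
  have nL : ∀ {t : X}, (∀ v ∈ V, v⁻¹ * (t * v * t⁻¹) ∈ L) → t ∈ normalizer (L : Set X) := fun {t} h =>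
    mem_normalizer_fintype fun v hv => by
      have := L.mul_mem hv (h v (hLV hv))
      rwa [mul_inv_cancel_left] at this
  have hsq := sq_closure (T := (V : Set X) ∪ {t1, t2, t3}) (L := L) (by
      rintro x (hx | rfl | rfl | rfl)
      exacts [nL fun v hv => by rw [vcomm he hx hv]; simp, nL v1, nL v2, nL v3]) (by
      rintro x (hx | rfl | rfl | rfl) y (hy | rfl | rfl | rfl)
      exacts [by rw [b_eq_one_iff.2 (vcomm he hx hy)]; exact L.one_mem, bv v1 hx, bv v2 hx, bv v3 hx,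
        bs (bv v1 hy), b0 _, b12, b13, bs (bv v2 hy), bs b12, b0 _, b23,
        bs (bv v3 hy), bs b13, bs b23, b0 _]) (by
      rintro x (hx | rfl | rfl | rfl)
      exacts [by rw [he x hx]; exact L.one_mem, pL p3, qL q3, sL s3])
  set H := closure ((V : Set X) ∪ {t1, t2, t3}) with hH
  have hVH : V ≤ H := fun v hv => subset_closure (Or.inl hv)
  have k1 := h4 H L (hLV.trans hVH) hsq
  have k2 := H1.card_mul_relIndex_of_le (hLV.trans hVH)
  have k3 := H1.card_map_mul_card_inf_ker π H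
  have k4 : π.ker ⊓ H = V := le_antisymm (fun x hx => (hk x).1 hx.1) fun x hx => ⟨(hk x).2 hx, hVH hx⟩
  haveI : Finite (H.map π) := Finite.of_surjective _ (π.subgroupMap_surjective H)
  have k5 : Nat.card (closure {π t1, π t2, π t3} : Subgroup G) ≤ Nat.card (H.map π) :=
    card_le_of_le ((closure_le _).2 (by
      rintro _ (rfl | rfl | rfl) <;> exact ⟨_, subset_closure (by simp), rfl⟩))
  rw [k4, c16] at k3
  have : Nat.card L * L.relIndex H ≤ 4 * 2 ^ 4 := Nat.mul_le_mul hL4 k1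
  omega

/-- A product of transpositions. -/
def P (l : List (Fin 6 × Fin 6)) : Equiv.Perm (Fin 6) := (l.map fun x => Equiv.swap x.1 x.2).prod

theorem acfg (ι : Equiv.Perm (Fin 6) →* G) (hι : Function.Injective ι) (hr : ∀ σ, ∃ g, π g = ι σ)
    (t1 t2 t3 e g1 g2 g3 g4 g5 g6 : Equiv.Perm (Fin 6)) (hf : Fx V π (ι e))
    (h12 : Pr t1 t2 (g1 * e * g1⁻¹) (g2 * e * g2⁻¹)) (h13 : Pr t1 t3 (g3 * e * g3⁻¹) (g4 * e * g4⁻¹))
    (h23 : Pr t2 t3 (g5 * e * g5⁻¹) (g6 * e * g6⁻¹))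
    (h8 : Function.Injective fun x : Fin 2 × Fin 2 × Fin 2 => t1 ^ x.1.1 * t2 ^ x.2.1.1 * t3 ^ x.2.2.1) :
    False := by
  have c : ∀ g, Fx V π (ι (g * e * g⁻¹)) := fun g => by
    obtain ⟨x, hx⟩ := hr g
    rw [map_mul, map_mul, map_inv, ← hx]
    exact hf.conj x
  obtain ⟨x1, e1⟩ := hr t1
  obtain ⟨x2, e2⟩ := hr t2
  obtain ⟨x3, e3⟩ := hr t3
  refine atriple he hk h4 hC (t1 := x1) (t2 := x2) (t3 := x3) (e1 ▸ e2 ▸ h12.map hι)
    (e1 ▸ e3 ▸ h13.map hι) (e2 ▸ e3 ▸ h23.map hι) (c _) (c _) (c _) (c _) (c _) (c _) ?_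
  have : (closure {π x1, π x2, π x3} : Subgroup G) = (closure {t1, t2, t3}).map ι := by
    rw [MonoidHom.map_closure, e1, e2, e3]; simp only [Set.image_insert_eq, Set.image_singleton]
  rw [this, card_map_of_injective hι]
  have m : ∀ t ∈ ({t1, t2, t3} : Set (Equiv.Perm (Fin 6))), t ∈ closure {t1, t2, t3} :=
    fun t ht => subset_closure ht
  have := Nat.card_le_card_of_injective (fun x : Fin 2 × Fin 2 × Fin 2 =>
    (⟨_, mul_mem (mul_mem (pow_mem (m t1 (by simp)) x.1.1) (pow_mem (m t2 (by simp)) x.2.1.1))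
      (pow_mem (m t3 (by simp)) x.2.2.1)⟩ : closure ({t1, t2, t3} : Set (Equiv.Perm (Fin 6)))))
    fun x y e => h8 (congrArg Subtype.val e)
  simpa using this

theorem no_s6 (ι : Equiv.Perm (Fin 6) →* G) (hι : Function.Injective ι) (hr : ∀ σ, ∃ g, π g = ι σ) :
    False := by
  have n1 : ¬ Fx V π (ι (P [(0, 1), (1, 2)])) := fun hf =>
    acfg he hk h4 hC ι hι hr (P [(0, 1)]) (P [(2, 3)]) (P [(4, 5)]) _ (P [(2, 4), (3, 4)])
      (P [(0, 2), (1, 3), (2, 5), (3, 5), (4, 5)]) (P []) (P [(0, 3), (1, 4), (2, 5)])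
      (P [(0, 1), (1, 2), (2, 3)]) (P [(1, 4), (2, 5), (3, 4), (4, 5)]) hf
      (by constructor <;> decide +kernel) (by constructor <;> decide +kernel)
      (by constructor <;> decide +kernel) (by decide +kernel)
  have n2 : ¬ Fx V π (ι (P [(0, 1), (1, 2), (3, 4), (4, 5)])) := fun hf =>
    acfg he hk h4 hC ι hι hr (P [(0, 1), (2, 3), (4, 5)]) (P [(0, 2), (1, 3), (4, 5)])
      (P [(0, 3), (1, 2), (4, 5)]) _ (P [(1, 3), (2, 5)]) (P [(1, 3), (2, 5), (4, 5)])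
      (P [(1, 2), (2, 5), (3, 5)]) (P [(1, 2), (2, 5), (3, 5), (4, 5)]) (P [(2, 4), (3, 4), (4, 5)])
      (P [(2, 4), (3, 4)]) hf
      (by constructor <;> decide +kernel) (by constructor <;> decide +kernel)
      (by constructor <;> decide +kernel) (by decide +kernel)
  have c : ∀ g e, Fx V π (ι e) → Fx V π (ι (g * e * g⁻¹)) := fun g e hf => by
    obtain ⟨x, hx⟩ := hr g
    rw [map_mul, map_mul, map_inv, ← hx]
    exact hf.conj x
  obtain ⟨x, hx, x3⟩ := lift3 he hk (a := ι (P [(0, 1), (1, 2)]))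
    (by rw [← map_pow, show P [(0, 1), (1, 2)] ^ 3 = 1 by decide +kernel, map_one]) (hr _)
  obtain ⟨y, hy, y3⟩ := lift3 he hk (a := ι (P [(3, 4), (4, 5)]))
    (by rw [← map_pow, show P [(3, 4), (4, 5)] ^ 3 = 1 by decide +kernel, map_one]) (hr _)
  letI : CommGroup V := { (inferInstance : Group V) with
    mul_comm := fun a c => Subtype.ext (vcomm he a.2 c.2) }
  set φ : X →* MulAut V := MulAut.conjNormal with hφ
  have nf : ∀ {g : X} {e : Equiv.Perm (Fin 6)}, π g = ι e → ¬ Fx V π (ι e) → ∀ v, φ g v = v → v = 1 := by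
    intro g e h1 h2 v hv
    by_contra hn
    exact h2 ⟨g, h1, v, v.2, fun e => hn (Subtype.ext e), congrArg Subtype.val hv⟩
  have := dich (V := V) (fun v => Subtype.ext (he v v.2)) (α := φ x) (β := φ y)
    (by rw [← map_pow, x3, map_one]) (by rw [← map_pow, y3, map_one])
    (by
      rw [← map_mul, ← map_mul]
      refine act_eq he hk ?_
      rw [map_mul, map_mul, hx, hy, ← map_mul, ← map_mul]
      congr 1
      decide +kernel)
    (nf hx n1) (nf hy fun hf => n1 (by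
      have := c (P [(0, 3), (1, 4), (2, 5)]) _ hf
      convert this using 2
      decide +kernel))
    (by
      rw [← map_mul]
      refine nf ?_ n2
      rw [map_mul, hx, hy, ← map_mul]
      congr 1
      decide +kernel)
    (by
      rw [← map_inv, ← map_mul]
      refine nf (e := (P [(3, 4), (4, 5)])⁻¹ * P [(0, 1), (1, 2)]) ?_ fun hf => n2 ?_
      · rw [map_mul, map_inv, hx, hy, map_mul, map_inv]
      · have := c (P [(4, 5)]) _ hf
        convert this using 2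
        decide +kernel)
  have hxV := (hk x).2 (hC x x3 fun v hv => by
    have : v = 1 := congrArg Subtype.val (this ⟨v, hv⟩)
    simp [this])
  rw [hx, ← ι.map_one] at hxV
  exact absurd (hι hxV) (by decide +kernel)

end Amb

theorem no_s6' {X : Type*} [Group X] [Finite X] {Q : Subgroup X} [hQ : Q.Normal] (h2 : IsPGroup 2 Q)
    (hC : centralizer (Q : Set X) ≤ Q) (h4 : SR 4 X) (ι : Equiv.Perm (Fin 6) →* X ⧸ Q)
    (hι : Function.Injective ι) : False := by
  haveI : (Q.map (QuotientGroup.mk' (sqs Q))).Normal := hQ.map _ (QuotientGroup.mk'_surjective _)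
  have hm : ∀ g : X, QuotientGroup.mk' (sqs Q) g ∈ Q.map (QuotientGroup.mk' (sqs Q)) ↔ g ∈ Q := fun g => by
    rw [← mem_comap, comap_map_eq_self (by rw [QuotientGroup.ker_mk']; exact sqs_le Q)]
  refine no_s6 (V := Q.map (QuotientGroup.mk' (sqs Q)))
    (π := QuotientGroup.lift (sqs Q) (QuotientGroup.mk' Q) fun x hx =>
      (QuotientGroup.eq_one_iff x).2 (sqs_le Q hx)) ?_ ?_ (h4.quotient _) ?_ ι hι ?_
  · rintro _ ⟨x, hx, rfl⟩
    rw [← map_mul]; exact (QuotientGroup.eq_one_iff _).2 (sq_mem hx)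
  · intro g
    obtain ⟨g, rfl⟩ := QuotientGroup.mk'_surjective _ g
    rw [hm]
    exact QuotientGroup.eq_one_iff g
  · intro g h3 hc
    obtain ⟨g, rfl⟩ := QuotientGroup.mk'_surjective _ g
    rw [← map_pow] at h3
    obtain ⟨s, -, s3, hs⟩ := lift_odd (h2.to_le (sqs_le Q)) (by decide : Odd 3)
      ((QuotientGroup.eq_one_iff _).1 h3)
    have e : QuotientGroup.mk' (sqs Q) g = QuotientGroup.mk' (sqs Q) s := QuotientGroup.eq.2 hs
    rw [e] at hc ⊢
    rw [hm]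
    refine hC (zpowers_le_cent (fun x hx => ?_) (mem_zpowers s))
    by_contra hn
    obtain ⟨y, hy, hy'⟩ := exists_not_mem_sqs h2 (by decide : Odd 3) s3 (mem_norm _ _) hx hn
    exact hy' (mk_conj_eq_iff.1 (hc _ (mem_map_of_mem _ hy)))
  · intro σ
    obtain ⟨g, hg⟩ := QuotientGroup.mk'_surjective Q (ι σ)
    exact ⟨QuotientGroup.mk' _ g, hg⟩

end H83.R4
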