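import Mathlib
import Cfsg.Agent.Lib.FGS83.R4G
import Cfsg.Agent.Lib.H81.SubA8
import Cfsg.Agent.Lib.TwoGrp.Sec4A8
import Cfsg.Agent.Lib.Core.PCore

/-!
Nonsolvable subgroups of `A₈` with a nontrivial solvable normal subgroup of odd order.
-/

set_option autoImplicit false

namespace H83.R4

open Subgroup Equiv Equiv.Perm

universe u

theorem solv_aux : ∀ (n : ℕ) (G : Type u) [Group G] [Finite G], Nat.card G = n → n < 60 →
    Group.IsSolvable G := by
  intro n
  induction n using Nat.strong_induction_on with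
  | _ n ih =>
  intro G _ _ hn h60
  rcases subsingleton_or_nontrivial G with h | h
  · infer_instance
  obtain ⟨M, hM, hM1, -, hM2⟩ := H3.exists_maximal_normal_ge (⊥ : Subgroup G) bot_ne_top
  haveI := H3.isSimpleGroup_quotient_of_maximal_normal M hM1 hM2
  have h1 := H3.card_lt_of_ne_top M hM1
  haveI := ih _ (hn ▸ h1) M rfl (by omega)
  have h2 : Nat.card (G ⧸ M) ≤ Nat.card G :=
    Nat.card_le_card_of_surjective _ (QuotientGroup.mk'_surjective M)
  haveI : Group.IsSolvable (G ⧸ M) := by
    refine H2.isSolvable_of_isMulCommutative ?_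
    by_contra hc
    have h3 := H4.Sv.not_kill hc
    have key : ∀ m < 60, 0 < m → H4.Sv.kill m = true := by decide +kernel
    rw [key _ (by omega) Nat.card_pos] at h3
    exact absurd h3 (by decide)
  exact solvable_of_ker_le_range M.subtype (QuotientGroup.mk' M) (by simp)

theorem sixty_le {G : Type*} [Group G] [Finite G] (h : ¬ Group.IsSolvable G) : 60 ≤ Nat.card G := by
  by_contra hc
  exact h (solv_aux _ G rfl (by omega))

theorem exists_s6_a8 : ∃ f : Perm (Fin 6) →* alternatingGroup (Fin 8), Function.Injective f := by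
  let ψ : ℤˣ →* Perm (Fin 2) :=
    { toFun := fun u => if u = 1 then 1 else swap 0 1
      map_one' := by simp
      map_mul' := by decide }
  have hψ : ∀ u, sign (ψ u) = u := by decide
  let f : Perm (Fin 6) →* Perm (Fin 8) := (permCongrHom finSumFinEquiv).toMonoidHom.comp
    ((sumCongrHom (Fin 6) (Fin 2)).comp ((MonoidHom.id _).prod (ψ.comp sign)))
  have hf : Function.Injective f := (permCongrHom finSumFinEquiv).injective.comp
    (sumCongrHom_injective.comp fun a b e => congrArg Prod.fst e)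
  refine ⟨f.codRestrict _ fun σ => ?_, fun a b e => hf (congrArg Subtype.val e)⟩
  rw [mem_alternatingGroup]
  simp [f, hψ]

theorem cent_three {x : Perm (Fin 8)} (hx : (orderOf x).Prime) (h2 : orderOf x ≠ 2)
    (h : 60 ≤ Nat.card (centralizer ({x} : Set (Perm (Fin 8))))) :
    x.IsThreeCycle ∧ Nat.card (centralizer ({x} : Set (Perm (Fin 8)))) = 360 := by
  obtain ⟨n, hn⟩ := cycleType_prime_order hx
  have h1 := x.sum_cycleType_le
  have h3 := hx.two_le
  rw [nat_card_centralizer, hn] at h ⊢
  rw [hn] at h1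
  rw [IsThreeCycle, hn]
  generalize orderOf x = p at *
  simp only [Multiset.sum_replicate, Multiset.prod_replicate, Fintype.card_fin, smul_eq_mul] at *
  have hp : p ≤ 8 := by nlinarith
  have hn' : n ≤ 3 := by nlinarith
  interval_cases p <;> interval_cases n <;> first | omega | (revert hx; decide) | (revert h; decide)

theorem pCore_three_le {K : Type*} [Group K] [Finite K] (φ : K →* Perm (Fin 5))
    (h : alternatingGroup (Fin 5) ≤ φ.range) : Cfsg.pCore 3 K ≤ φ.ker := by
  haveI : Fact (Nat.Prime 3) := ⟨by norm_num⟩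
  set N := (Cfsg.pCore 3 K).map φ with hN
  have h3 : IsPGroup 3 N := H1.isPGroup_pCore.map φ
  obtain ⟨k, hk⟩ := h3.exists_card_eq
  have hA : N ≤ alternatingGroup (Fin 5) := by
    intro g hg
    rw [mem_alternatingGroup]
    obtain ⟨j, hj⟩ := h3 ⟨g, hg⟩
    have : sign g ^ 3 ^ j = 1 := by rw [← map_pow, show g ^ 3 ^ j = 1 from congrArg Subtype.val hj, map_one]
    rcases Int.units_eq_one_or (sign g) with e | e
    · exact e
    · rw [e, Odd.neg_one_pow (Odd.pow (by decide))] at this
      exact absurd this (by decide)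
  have hn : (N.subgroupOf (alternatingGroup (Fin 5))).Normal := ⟨by
    rintro ⟨_, _⟩ ⟨n, hn, rfl⟩ ⟨g, hg⟩
    obtain ⟨y, rfl⟩ := h hg
    exact ⟨_, (inferInstance : (Cfsg.pCore 3 K).Normal).conj_mem n hn y, by simp⟩⟩
  rcases hn.eq_bot_or_eq_top with e | e
  · intro g hg
    have : (⟨φ g, hA ⟨g, hg, rfl⟩⟩ : alternatingGroup (Fin 5)) ∈ N.subgroupOf _ := ⟨g, hg, rfl⟩
    rw [e, mem_bot] at this
    exact congrArg Subtype.val this
  · exfalso
    have := H1.card_subgroupOf_of_le hA
    rw [e, card_top, H81.A8.card_alt 5 (by norm_num), hk] at this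
    have h2 : 2 ∣ 3 ^ k := this ▸ (by decide)
    exact absurd (Nat.prime_two.dvd_of_dvd_pow h2) (by decide)

theorem z3_case {H : Type*} [Group H] [Finite H] (f : H →* alternatingGroup (Fin 8))
    (hf : Function.Injective f) (hns : ¬ Group.IsSolvable H) (h2 : Cfsg.pCore 2 H = ⊥)
    {K : Subgroup H} [K.Normal] (hK : K ≠ ⊥) (hs : Group.IsSolvable K) :
    Nat.card (Cfsg.pCore 3 H) = 3 ∧ (Nonempty (H ⧸ Cfsg.pCore 3 H ≃* alternatingGroup (Fin 5)) ∨
      Nonempty (H ⧸ Cfsg.pCore 3 H ≃* Perm (Fin 5))) := by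
  classical
  obtain ⟨N, hN, -, hc, p, hp, hpd, he, hpg⟩ := H3.exists_normal_elementary_le K hK hs
  haveI := hN.1
  haveI := Fact.mk hp
  have hp2 : p ≠ 2 := by
    rintro rfl
    exact hN.2 (eq_bot_iff.2 (h2 ▸ H1.le_pCore hpg))
  have hd := (H81.A8.card_cases f hf).1
  obtain ⟨k, hk⟩ := hpg.exists_card_eq
  have hk1 : p ^ k ∣ 20160 := hk ▸ (card_subgroup_dvd_card N).trans hd
  have hk0 : k ≠ 0 := by
    rintro rfl
    exact hN.2 (card_eq_one.1 hk)
  have hpk : ∃ n, Nat.card N ≤ p ^ n ∧ Nat.card (GL (Fin n) (ZMod p)) < 60 := by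
    have h1 : p ∣ 20160 := (dvd_pow_self p hk0).trans hk1
    have h3 : p = 3 ∨ p = 5 ∨ p = 7 := by
      have h4 : p ∣ 2 ^ 6 * 3 ^ 2 * 5 * 7 := h1
      rcases (Nat.Prime.dvd_mul hp).1 h4 with h | h
      · rcases (Nat.Prime.dvd_mul hp).1 h with h | h
        · rcases (Nat.Prime.dvd_mul hp).1 h with h | h
          · exact absurd ((Nat.prime_dvd_prime_iff_eq hp Nat.prime_two).1 (hp.dvd_of_dvd_pow h)) hp2
          · exact Or.inl ((Nat.prime_dvd_prime_iff_eq hp Nat.prime_three).1 (hp.dvd_of_dvd_pow h))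
        · exact Or.inr (Or.inl ((Nat.prime_dvd_prime_iff_eq hp Nat.prime_five).1 h))
      · exact Or.inr (Or.inr ((Nat.prime_dvd_prime_iff_eq hp (by norm_num)).1 h))
    have le : ∀ m, ¬ p ^ (m + 1) ∣ 20160 → Nat.card N ≤ p ^ m := fun m hm => by
      rw [hk]
      refine Nat.pow_le_pow_right hp.pos ?_
      by_contra hc
      exact hm ((pow_dvd_pow p (by omega)).trans hk1)
    rcases h3 with rfl | rfl | rfl
    · exact ⟨2, le 2 (by norm_num), by rw [Matrix.card_GL_field]; simp [Fin.prod_univ_two]⟩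
    · exact ⟨1, le 1 (by norm_num), by rw [Matrix.card_GL_field]; simp⟩
    · exact ⟨1, le 1 (by norm_num), by rw [Matrix.card_GL_field]; simp⟩
  obtain ⟨n, hn1, hn2⟩ := hpk
  obtain ⟨γ, hγ⟩ := H13.TG.exists_aut_GL hc (fun w => Subtype.ext (he w w.2)) hn1
  set C := (MulAut.conjNormal : H →* MulAut N).ker with hC
  have hCs : ¬ Group.IsSolvable C := fun h => by
    haveI : Group.IsSolvable (MulAut N) :=
      solv_aux _ _ rfl ((Nat.card_le_card_of_injective _ hγ).trans_lt hn2)
    exact hns (solvable_of_ker_le_range C.subtype (MulAut.conjNormal : H →* MulAut N) (by simp [hC]))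
  set F : H →* Perm (Fin 8) := (alternatingGroup (Fin 8)).subtype.comp f with hF
  have hFi : Function.Injective F := Subtype.val_injective.comp hf
  obtain ⟨x, hx, hxo⟩ := H1.exists_mem_orderOf_eq_prime hp hpd
  have hxo' : orderOf (F x) = p := by rw [orderOf_injective F hFi, hxo]
  have hCle : Nat.card C ≤ Nat.card (centralizer ({F x} : Set (Perm (Fin 8)))) := by
    rw [← card_map_of_injective hFi]
    refine card_le_of_le ?_
    rintro _ ⟨c, hc, rfl⟩
    rw [mem_centralizer_singleton_iff, ← map_mul, ← map_mul]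
    have := congrArg (fun ψ : MulAut N => (ψ ⟨x, hx⟩ : H)) (MonoidHom.mem_ker.1 hc)
    exact congrArg F (mul_inv_eq_iff_eq_mul.1 this)
  obtain ⟨h3c, h360⟩ := cent_three (hxo' ▸ hp) (hxo' ▸ hp2) ((sixty_le hCs).trans hCle)
  obtain rfl : p = 3 := hxo'.symm.trans h3c.orderOf
  have hNC : N ≤ C := fun y hy => MonoidHom.mem_ker.2 (by
    ext w
    have := congrArg Subtype.val (hc.1.1 ⟨y, hy⟩ w)
    exact mul_inv_eq_iff_eq_mul.2 this)
  have hN3 : Nat.card N = 3 := by
    have q : ¬ Group.IsSolvable (C ⧸ N.subgroupOf C) := fun h => by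
      haveI : Group.IsSolvable (N.subgroupOf C) := H2.isSolvable_of_isMulCommutative inferInstance
      exact hCs (solvable_of_ker_le_range (N.subgroupOf C).subtype (QuotientGroup.mk' (N.subgroupOf C)) (by simp))
    have q1 := sixty_le q
    have q2 := card_eq_card_quotient_mul_card_subgroup (N.subgroupOf C)
    rw [H1.card_subgroupOf_of_le hNC] at q2
    have q3 : Nat.card N ≤ 6 := by nlinarith
    rw [hk] at q3 ⊢
    have : k < 2 := (Nat.pow_lt_pow_iff_right (by norm_num : 1 < 3)).1 (by omega)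
    interval_cases k <;> simp_all
  have hNx : zpowers x = N := eq_of_le_of_card_ge (zpowers_le.2 hx) (by rw [Nat.card_zpowers, hxo, hN3])
  have inv : ∀ g : H, ∀ a, F x a = a → F x (F g a) = F g a := by
    intro g a ha
    obtain ⟨i, hi⟩ : g⁻¹ * x * g⁻¹⁻¹ ∈ zpowers x := hNx ▸ hN.1.conj_mem x hx g⁻¹
    have e : x * g = g * x ^ i := by simp only at hi; rw [hi]; group
    rw [← mul_apply, ← map_mul, e, map_mul, map_zpow, mul_apply, zpow_apply_eq_self_of_apply_eq_self ha]
  have inv' : ∀ g : H, ∀ a, F x (F g a) = F g a ↔ F x a = a := fun g a => ⟨fun h => by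
    have := inv g⁻¹ _ h
    rwa [← mul_apply (F g⁻¹), ← map_mul, inv_mul_cancel, map_one, one_apply] at this, inv g a⟩
  have hc5 : Fintype.card {a // F x a = a} = 5 := by
    have := h3c.card_support
    rw [Fintype.card_subtype]
    have h1 := Finset.card_filter_add_card_filter_not (s := Finset.univ) (fun a => F x a = a)
    rw [support] at this
    simp only [Finset.card_univ, Fintype.card_fin] at h1
    simp only [ne_eq] at this
    omega
  let φ0 : H →* Perm {a // F x a = a} := MonoidHom.mk' (fun g => (F g).subtypePerm (inv' g))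
    fun g h => Equiv.ext fun a => Subtype.ext (congrArg (fun σ : Perm (Fin 8) => σ a) (F.map_mul g h))
  let φ : H →* Perm (Fin 5) := (permCongrHom (Fintype.equivFinOfCardEq hc5)).toMonoidHom.comp φ0
  have hker : ∀ g ∈ φ.ker, g ^ 3 = 1 := by
    intro g hg
    have h0 : φ0 g = 1 := (permCongrHom (Fintype.equivFinOfCardEq hc5)).map_eq_one_iff.1 hg
    have h1 : (F g).support ⊆ (F x).support := fun a ha => by
      rw [mem_support] at ha ⊢
      exact fun e => ha (congrArg (fun σ : Perm {a // F x a = a} => (σ ⟨a, e⟩ : Fin 8)) h0)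
    have h3 := Finset.card_le_card h1
    rw [h3c.card_support] at h3
    apply hFi
    rw [map_pow, map_one]
    have h4 := card_support_ne_one (F g)
    have h5 : (F g).support.card ≠ 2 := fun e => by
      have := (card_support_eq_two.1 e).sign_eq
      rw [mem_alternatingGroup.1 (f g).2 |> (show sign (F g) = 1 from ·)] at this
      exact absurd this (by decide)
    have : (F g).support.card = 0 ∨ (F g).support.card = 3 := by omega
    rcases this with e | e
    · rw [card_support_eq_zero.1 e, one_pow]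
    · rw [← (card_support_eq_three_iff.1 e).orderOf, pow_orderOf_eq_one]
  have hk3 : IsPGroup 3 φ.ker := fun g => ⟨1, Subtype.ext (by rw [pow_one]; exact hker g g.2)⟩
  have hr : ¬ Group.IsSolvable φ.range := fun h => by
    haveI := hk3.isNilpotent
    exact hns (solvable_of_ker_le_range φ.ker.subtype φ.rangeRestrict (by simp))
  have r1 := sixty_le hr
  have r2 := φ.range.index_mul_card
  have h120 : Nat.card (Perm (Fin 5)) = 120 := by rw [Nat.card_perm]; simp; rfl
  rw [h120] at r2
  have r3 : φ.range = alternatingGroup (Fin 5) ∨ φ.range = ⊤ := by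
    have : φ.range.index = 2 ∨ φ.range.index = 1 := by
      have : φ.range.index ≤ 2 := by nlinarith
      have : φ.range.index ≠ 0 := index_ne_zero_of_finite
      omega
    exact this.imp eq_alternatingGroup_of_index_eq_two index_eq_one.1
  have r4 : alternatingGroup (Fin 5) ≤ φ.range := by rcases r3 with e | e <;> simp [e]
  have hO : Cfsg.pCore 3 H = φ.ker := le_antisymm (pCore_three_le φ r4) (H1.le_pCore hk3)
  have e := (QuotientGroup.quotientMulEquivOfEq hO).trans (QuotientGroup.quotientKerEquivRange φ)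
  refine ⟨?_, r3.imp (fun h => ⟨e.trans (MulEquiv.subgroupCongr h)⟩)
    fun h => ⟨e.trans ((MulEquiv.subgroupCongr h).trans topEquiv)⟩⟩
  obtain ⟨j, hj⟩ := hk3.exists_card_eq
  have s1 := card_eq_card_quotient_mul_card_subgroup φ.ker
  rw [Nat.card_congr (QuotientGroup.quotientKerEquivRange φ).toEquiv, hj] at s1
  have s2 : 60 ∣ Nat.card φ.range := by
    have := card_dvd_of_le r4
    rwa [H81.A8.card_alt 5 (by norm_num)] at this
  have s3 : 60 * 3 ^ j ∣ 20160 := (Nat.mul_dvd_mul_right s2 _).trans (s1 ▸ hd)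
  have s4 := card_le_of_le (H1.le_pCore hpg : N ≤ Cfsg.pCore 3 H)
  rw [hO, hj] at s4 ⊢
  have : j < 2 := by
    by_contra hc
    exact absurd ((Nat.mul_dvd_mul_left 60 (pow_dvd_pow 3 (not_lt.1 hc))).trans s3) (by norm_num)
  interval_cases j <;> omega

end H83.R4
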