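import Mathlib
import Cfsg.Agent.Lib.FGS83.R4H
import Cfsg.Agent.Lib.JJ.Frame

/-!
A central involution with `A₅` above `O₂`: the Clifford frame.
-/

set_option autoImplicit false

namespace H83.R5

open Subgroup H83.R4 H74.JJ H95 Equiv

theorem d10 {H : Type*} [Group H] [Finite H] {n : ℕ} (hn : 5 ≤ n) (hn' : n ≤ 8)
    (φ : H →* Perm (Fin n)) (hr : alternatingGroup (Fin n) ≤ φ.range) (hk : Nat.card φ.ker ∣ 3) :
    ∃ σ τ : H, σ ^ 5 = 1 ∧ σ ≠ 1 ∧ τ * τ = 1 ∧ τ ≠ 1 ∧ τ * σ * τ⁻¹ = σ⁻¹ ∧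
      ∀ N : Subgroup H, N.Normal → σ ∈ N → 3 ∣ Nat.card N := by
  haveI : Fact (Nat.Prime 5) := ⟨by norm_num⟩
  obtain ⟨a, c, ma, mc, a5, a1, c2, c1, ca⟩ : ∃ a c : Perm (Fin n), Perm.sign a = 1 ∧
      Perm.sign c = 1 ∧ a ^ 5 = 1 ∧ a ≠ 1 ∧ c * c = 1 ∧ c ≠ 1 ∧ c * a * c⁻¹ = a⁻¹ := by
    interval_cases n <;> exact ⟨swap 0 1 * swap 1 2 * swap 2 3 * swap 3 4, swap 1 4 * swap 2 3,
      by decide +kernel⟩
  have k3 : ∀ g, φ g = 1 → g ^ 3 = 1 := fun g hg =>
    orderOf_dvd_iff_pow_eq_one.1 ((φ.ker.orderOf_dvd_natCard hg).trans hk)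
  obtain ⟨y, rfl⟩ := hr (Perm.mem_alternatingGroup.2 ma)
  obtain ⟨t, rfl⟩ := hr (Perm.mem_alternatingGroup.2 mc)
  have e1 : φ (y ^ 6) = φ y := by rw [map_pow, pow_succ, a5, one_mul]
  have e2 : φ (t ^ 3) = φ t := by rw [map_pow, pow_succ, pow_two, c2, one_mul]
  have s5 : (y ^ 6) ^ 5 = 1 := by
    rw [← pow_mul, show 6 * 5 = 5 * 3 * 2 from rfl, pow_mul, pow_mul, k3 _ (by rw [map_pow, a5]), one_pow]
  generalize y ^ 6 = s at e1 s5
  refine ⟨s, t ^ 3, s5, by rintro rfl; exact a1 (e1 ▸ map_one φ), by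
    rw [← (Commute.refl t).mul_pow, k3 _ (by rw [map_mul, c2])], fun e => c1 (by rw [← e2, e, map_one]),
    ?_, fun N hN hs => ?_⟩
  · generalize t ^ 3 = u at e2
    have m : u * s * u⁻¹ * s ∈ φ.ker := by
      rw [MonoidHom.mem_ker, map_mul, map_mul, map_mul, map_inv, e1, e2, ca, inv_mul_cancel]
    have c := card_modEq s5 (H := φ.ker) fun x hx => Normal.conj_mem inferInstance x hx s
    have c' := card_le_of_le (inf_le_left : φ.ker ⊓ centralizer {s} ≤ _)
    have c3 := Nat.le_of_dvd three_pos hk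
    have c4 : Commute (u * s * u⁻¹ * s) s := mem_centralizer_singleton_iff.1
      ((eq_of_le_of_card_ge (inf_le_left : φ.ker ⊓ centralizer {s} ≤ _)
        (by unfold Nat.ModEq at c; omega)).ge m).2
    have k5 : (u * s * u⁻¹ * s) ^ 5 = 1 := by
      have c5 : Commute (u * s * u⁻¹) s := by simpa using c4.mul_left (Commute.refl s).inv_left
      rw [c5.mul_pow, conj_pow, s5]; simp
    have := k3 _ m
    refine eq_inv_of_mul_eq_one_left ?_
    calc _ = (u * s * u⁻¹ * s) ^ (3 * 2) * ((u * s * u⁻¹ * s) ^ 5)⁻¹ := by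
          rw [show 3 * 2 = 1 + 5 from rfl, pow_add]; simp
      _ = 1 := by rw [pow_mul, this, k5]; simp
  · haveI := alternatingGroup.isSimpleGroup (α := Fin n) (by simpa using hn)
    have hn : ((N.map φ).subgroupOf (alternatingGroup (Fin n))).Normal := ⟨by
      rintro ⟨_, _⟩ ⟨k, hk, rfl⟩ ⟨g, hg⟩
      obtain ⟨x, rfl⟩ := hr hg
      exact ⟨_, hN.conj_mem k hk x, by simp⟩⟩
    rcases hn.eq_bot_or_eq_top with e | e
    · have : (⟨φ y, Perm.mem_alternatingGroup.2 ma⟩ : alternatingGroup (Fin n)) ∈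
          (N.map φ).subgroupOf _ := ⟨s, hs, e1⟩
      rw [e, mem_bot] at this
      exact absurd (congrArg Subtype.val this) a1
    · refine (Dvd.dvd.trans ?_ (card_dvd_of_le (subgroupOf_eq_top.1 e))).trans (card_map_dvd N φ)
      rw [H81.A8.card_alt n (by omega)]
      interval_cases n <;> decide

variable {X : Type*} [Group X]

theorem mkCl {z a b c d : X} (zz : z * z = 1) (z1 : z ≠ 1) (cz : ∀ g, z * g = g * z)
    (a2 : a * a = 1) (b2 : b * b = 1) (c2 : c * c = 1) (d2 : d * d = 1)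
    (ab : b * a = a * (b * z)) (ac : c * a = a * (c * z)) (ad : d * a = a * (d * z))
    (bc : c * b = b * (c * z)) (bd : d * b = b * (d * z)) (cd : d * c = c * (d * z)) :
    Cl z ![a, b, c, d, a * (b * (c * d))] := by
  have r : ∀ {a b c : X}, a * b = c → ∀ w, a * (b * w) = c * w := fun h w => by rw [← mul_assoc, h]
  have zl : ∀ g w, z * (g * w) = g * (z * w) := fun g w => by rw [r (cz g), mul_assoc]
  refine ⟨zz, z1, fun i => ?_, fun i => cz _, fun i j e => ?_, rfl⟩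
  · fin_cases i <;> simp [mul_assoc, r a2, r b2, r c2, r d2, r ab, r ac, r ad, r bc, r bd, r cd, r zz,
      zl a, zl b, zl c, zl d, cz a, cz b, cz c, cz d, a2, b2, c2, d2, ab, ac, ad, bc, bd, cd, zz]
  · fin_cases i <;> fin_cases j <;> first | exact absurd rfl e | simp [mul_assoc, r a2, r b2, r c2,
      r d2, r ab, r ac, r ad, r bc, r bd, r cd, r zz, zl a, zl b, zl c, zl d, cz a, cz b, cz c, cz d,
      a2, b2, c2, d2, ab, ac, ad, bc, bd, cd, zz]

/-- The Clifford frame of a normal subgroup. -/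
structure Cf (Q : Subgroup X) (z : X) (s : Fin 5 → X) : Prop extends L3 Q z where
  cl : Cl z s
  cz' : ∀ g, g * z = z * g
  gen : closure (insert z (Set.range s)) = Q
  card : Nat.card Q = 32

theorem cf_of [Finite X] {H : Type*} [Group H] {π : X →* H} (hπ : Function.Surjective π)
    {Q : Subgroup X} (hk : ∀ g, π g = 1 ↔ g ∈ Q) (h2 : IsPGroup 2 Q)
    (hC : centralizer (Q : Set X) ≤ Q) (h4 : SR 4 X) {z : X} (zz : z * z = 1) (z1 : z ≠ 1)
    (cz : ∀ g, g * z = z * g) {σ τ : H} (h1 : σ ^ 5 = 1) (h1' : σ ≠ 1) (h3 : τ * τ = 1)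
    (h3' : τ ≠ 1) (h5 : τ * σ * τ⁻¹ = σ⁻¹) (h6 : ∀ N : Subgroup H, N.Normal → σ ∈ N → 3 ∣ Nat.card N) :
    ∃ s, Cf Q z s := by
  haveI : Fact (Nat.Prime 3) := ⟨by norm_num⟩
  haveI hQ : Q.Normal := (Subgroup.ext hk : π.ker = Q) ▸ inferInstance
  have mv : ∀ {s : X}, s ∉ Q → ∃ x ∈ Q, s * x * s⁻¹ ≠ x := fun {s} hs => by
    by_contra hc
    push Not at hc
    exact hs (hC (zpowers_le_cent hc (mem_zpowers s)))
  obtain ⟨y, rfl⟩ := hπ σ
  obtain ⟨s, -, s1, s2⟩ := lift_odd h2 (by decide : Odd 5) (y := y) ((hk _).1 (by rw [map_pow, h1]))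
  have s3 : π y = π s := by
    have := (hk _).2 s2
    rwa [map_mul, map_inv, inv_mul_eq_one] at this
  rw [s3] at h1' h5 h6
  obtain ⟨x, hx, hx'⟩ := mv fun m => h1' ((hk s).2 m)
  obtain ⟨t, rfl⟩ := hπ τ
  obtain ⟨n, hn, e⟩ := lift_norm h2 (by decide : Odd 5) (t := t) (u := s⁻¹) s1
    (inv_mem (mem_zpowers _)) (by rw [zpowers_inv]; exact mem_zpowers _)
    ((hk _).1 (by simp only [map_mul, map_inv, h5]; group))
  have P := P5.of h2 h4 s1 hx hx'
  have ft : π (t * n) = π t := by rw [map_mul, (hk n).2 hn, mul_one]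
  have hc := cent_aux _ X rfl h4 Q s _ P e ((hk _).1 (by rw [map_mul, ft, h3]))
    fun e => h3' (ft ▸ (hk _).2 e)
  have C := P.c2 hc
  obtain ⟨⟨ρ, hρ⟩, o3⟩ := exists_prime_orderOf_dvd_card' (G := centralizer (sqs Q : Set X)) 3
    ((h6 _ (Normal.map inferInstance π hπ) (mem_map_of_mem π (zpowers_le_cent hc (mem_zpowers s)))).trans
      (card_map_dvd _ π))
  rw [← orderOf_coe] at o3
  obtain ⟨u, hu, hu'⟩ := mv (s := ρ) fun m => by
    obtain ⟨k, hk⟩ := h2.exists_card_eq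
    have := Q.orderOf_dvd_natCard m
    rw [hk, show orderOf ρ = 3 from o3] at this
    exact absurd (Nat.prime_three.dvd_of_dvd_pow this) (by decide)
  obtain ⟨x0, m0, n0, q0⟩ := P.exists_invol hc (ρ := ρ) (o3 ▸ pow_orderOf_eq_one ρ) hu hu'
    fun f hf => conj_eq_of_cent hρ hf
  obtain ⟨x1, x2, x3, x4, α, β, e1, e2, e3, e4, e5, b1, b2, b3, -, b12, b13, b23, q, m⟩ := P.orbit hc m0
  have m1 := e1 ▸ P.conj m0
  have m2 := e2 ▸ P.conj m1
  have m3 := e3 ▸ P.conj m2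
  have hα := C.el _ (b1 ▸ C.b_mem m0 m1)
  obtain rfl : α = β := by rw [← mul_one α, ← q0, q, ← mul_assoc, hα, one_mul]
  have zQ : z ∈ Q := hC fun g _ => cz g
  have F := P.le_of_mem hc m0 n0 (N := zpowers α) (by rw [e1, b1]; exact mem_zpowers _)
    (by rw [e1, e2, b2]; exact mem_zpowers _)
  have zF : z ∈ sqs Q := P.fpf z zQ (by rw [cz s]; simp)
  obtain rfl : z = α := (mem_zpowers_two hα (F zF)).resolve_left z1
  have F' : ∀ {f}, f ∈ sqs Q → f = 1 ∨ f = z := fun hf => mem_zpowers_two hα (F hf)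
  have sq : ∀ {a a' : X}, s * a * s⁻¹ = a' → a * a = 1 → a' * a' = 1 := fun e h => by
    rw [← e, conj_mul, h, mul_one, mul_inv_cancel]
  have ac : ∀ {a c : X}, a ∈ Q → c ∈ Q → b a c = z → c * a = a * (c * z) := fun {a c} ha hc e => by
    rw [mul_eq_b c a, C.b_comm hc ha, e, ← cz, mul_assoc]
  have c := mkCl zz z1 (fun g => (cz g).symm) q0 (sq e1 q0) (sq e2 (sq e1 q0))
    (sq e3 (sq e2 (sq e1 q0))) (ac m0 m1 b1) (ac m0 m2 b2) (ac m0 m3 b3) (ac m1 m2 b12)
    (ac m1 m3 b13) (ac m2 m3 b23)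
  have na : x0 * x1 ≠ x1 * x0 := fun e => z1 (by rw [← b1, b_eq_one_iff.2 e])
  have nd : ∀ g ∈ Q, (∀ y ∈ Q, g * y = y * g) → g = 1 ∨ g = z := fun g hg e => F' (by
    by_contra hn
    have := P.irr (K := Q ⊓ centralizer (Q : Set X)) (fun f hf => ⟨C.le hf, C.cent f hf⟩) inf_le_left
      (fun x hx => Normal.conj_mem inferInstance x hx s) ⟨hg, fun y hy => (e y hy).symm⟩ hn
    exact na ((this.ge m1).2 x0 m0))
  refine ⟨_, ⟨⟨zQ, z1, zz, fun x _ => cz x, fun x hx y hy => ?_, nd, x0, m0, x1, m1, na⟩,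
    fun g e => nd g (hC e) fun y hy => (e y hy).symm, fun g _ => mem_norm Q g⟩, c, cz, ?_, by
      rw [P.card_eq, show sqs Q = zpowers z from le_antisymm F (zpowers_le.2 zF), Nat.card_zpowers,
        orderOf_eq_two_of zz z1]⟩
  · rcases F' (C.b_mem hx hy) with e | e
    · exact Or.inl (b_eq_one_iff.1 e)
    · exact Or.inr (by rw [mul_eq_b x y, e, cz])
  obtain ⟨K, hK⟩ : ∃ K, K = closure (insert z (Set.range ![x0, x1, x2, x3, x0 * (x1 * (x2 * x3))])) :=
    ⟨_, rfl⟩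
  have k : ∀ i, ![x0, x1, x2, x3, x0 * (x1 * (x2 * x3))] i ∈ K := fun i =>
    hK ▸ subset_closure (Or.inr ⟨i, rfl⟩)
  have kz : sqs Q ≤ K := F.trans (zpowers_le.2 (hK ▸ subset_closure (Or.inl rfl)))
  have k4 : x4 ∈ K :=
    (mul_mem_cancel_left (mul_mem (mul_mem (mul_mem (k 0) (k 1)) (k 2)) (k 3))).1 (kz m)
  rw [← hK]
  refine P.irr kz (hK ▸ (closure_le _).2 ?_) (fun x hx => (hK ▸ (closure_le _).2 ?_ :
    K ≤ K.comap (MulAut.conj s).toMonoidHom) hx) (k 0) n0
  · rintro _ (rfl | ⟨i, rfl⟩)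
    · exact zQ
    · fin_cases i
      exacts [m0, m1, m2, m3, mul_mem m0 (mul_mem m1 (mul_mem m2 m3))]
  · rw [← hK]
    have t : ∀ {a a' : X}, s * a * s⁻¹ = a' → a' ∈ K → a ∈ K.comap (MulAut.conj s).toMonoidHom :=
      fun e h => by rw [← e] at h; exact h
    rintro _ (rfl | ⟨i, rfl⟩)
    · exact t (hc _ zF) (kz zF)
    · fin_cases i
      exacts [t e1 (k 1), t e2 (k 2), t e3 (k 3), t e4 k4, mul_mem (t e1 (k 1)) (mul_mem (t e2 (k 2))
        (mul_mem (t e3 (k 3)) (t e4 k4)))]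

/-- `θ` is the permutation action on the frame. -/
def Th (z : X) (s : Fin 5 → X) (θ : X →* Perm (Fin 5)) : Prop :=
  ∀ g i j, θ g i = j ↔ g * s i * g⁻¹ = s j ∨ g * s i * g⁻¹ = s j * z

namespace Cf

variable {Q : Subgroup X} {z : X} {s : Fin 5 → X} (h : Cf Q z s)
include h

theorem sQ (i : Fin 5) : s i ∈ Q := h.gen ▸ subset_closure (Or.inr ⟨i, rfl⟩)

theorem gz (g : X) : g * z * g⁻¹ = z := by rw [h.cz', mul_inv_cancel_right]

theorem cq (g : X) {u : X} (hu : u ∈ Q) : g * u * g⁻¹ ∈ Q :=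
  conj_mem_of_normalizer (h.norm g (h.cz' g)) hu

theorem normal : Q.Normal := ⟨fun _ hu g => h.cq g hu⟩

theorem isP : IsPGroup 2 Q := IsPGroup.of_card (n := 5) h.card

theorem inv' {u : X} (hu : u ∈ Q) (h2 : u * u = 1) : u = 1 ∨ u = z ∨ ∃ j, u = s j ∨ u = s j * z :=
  h.cl.invol (h.gen ▸ hu) h2

theorem triv {g : X} (e : ∀ i, g * s i * g⁻¹ = s i) : g = 1 ∨ g = z := by
  refine h.cent g fun u hu => ?_
  rw [← h.gen] at hu
  refine mem_cent_iff.1 ((show Subgroup.closure _ ≤ centralizer {g} from (closure_le _).2 ?_) hu)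
  rintro _ (rfl | ⟨i, rfl⟩)
  exacts [mem_cent_iff.2 (h.cz' g).symm, mem_cent_iff.2 (mul_inv_eq_iff_eq_mul.1 (e i)).symm]

theorem theta [Finite X] : ∃ θ, Th z s θ ∧ ∀ g, θ g = 1 ↔ g ∈ Q := by
  have c := h.cl
  have ex : ∀ (g : X) i, ∃ j, g * s i * g⁻¹ = s j ∨ g * s i * g⁻¹ = s j * z := by
    intro g i
    rcases h.inv' (h.cq g (h.sQ i)) (by rw [conj_mul, c.sq, mul_one, mul_inv_cancel]) with e | e | e
    · exact absurd (by simpa using e) (c.ne_one i).1
    · exact absurd (by simpa using e.trans (h.gz g).symm) (c.ne_one i).2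
    · exact e
  choose f hf using ex
  let F : X →* Function.End (Fin 5) :=
    { toFun := f
      map_one' := funext fun i => c.eq_of_or (hf 1 i) (Or.inl (by simp; rfl))
      map_mul' := fun g k => funext fun i => c.eq_of_or (hf (g * k) i) (by
        show _ = s (f g (f k i)) ∨ _ = s (f g (f k i)) * z
        rw [show g * k * s i * (g * k)⁻¹ = g * (k * s i * k⁻¹) * g⁻¹ by group]
        rcases hf k i with e1 | e1 <;> rw [e1]
        · exact hf g _
        · rw [← conj_mul, h.gz]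
          rcases hf g (f k i) with e3 | e3 <;> rw [e3]
          exacts [Or.inr rfl, Or.inl (by rw [mul_assoc, c.zz, mul_one])]) }
  have h1 : Th z s F.toHomPerm :=
    fun g i j => ⟨fun e => e ▸ hf g i, fun e => c.eq_of_or (hf g i) e⟩
  refine ⟨_, h1, fun g => ⟨fun e => h.mem_of_trivial fun u hu => ?_, fun e => Perm.ext fun i =>
    (h1 g i i).2 (h.toES.conj (h.sQ i) e)⟩⟩
  rw [← h.gen] at hu
  let K : Subgroup X :=
    { carrier := {u | g * u * g⁻¹ = u ∨ g * u * g⁻¹ = u * z}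
      one_mem' := Or.inl (by simp)
      mul_mem' := by
        rintro u v (e | e) (e' | e') <;> simp only [Set.mem_setOf_eq] <;> rw [← conj_mul, e, e']
        · exact Or.inl rfl
        · exact Or.inr (mul_assoc _ _ _).symm
        · exact Or.inr (by rw [mul_assoc, ← h.cz', mul_assoc])
        · exact Or.inl (by rw [h.cz' v, mul_assoc, c.zz'])
      inv_mem' := by
        rintro u (e | e) <;> simp only [Set.mem_setOf_eq] <;> rw [← conj_inv, e]
        · exact Or.inl rfl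
        · exact Or.inr (by rw [mul_inv_rev, c.zinv, h.cz']) }
  refine (show Subgroup.closure _ ≤ K from (closure_le _).2 ?_) hu
  rintro _ (rfl | ⟨i, rfl⟩)
  exacts [Or.inl (h.gz g), (h1 g i i).1 (by rw [e]; rfl)]

theorem sign {t : Fin 5 → X} {g : X} (h1 : ∀ i, g * s i * g⁻¹ = t i ∨ g * s i * g⁻¹ = t i * z)
    (h2 : t 0 * (t 1 * (t 2 * t 3)) = t 4) : ∃ k, ∀ i, k * s i * k⁻¹ = t i := by
  have c := h.cl
  have key : ∀ m : ℕ, m ≤ 4 → ∃ g, (∀ i, g * s i * g⁻¹ = t i ∨ g * s i * g⁻¹ = t i * z) ∧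
      ∀ i : Fin 5, (i : ℕ) < m → g * s i * g⁻¹ = t i := by
    intro m
    induction m with
    | zero => exact fun _ => ⟨g, h1, fun i hi => absurd hi (Nat.not_lt_zero _)⟩
    | succ m ih =>
      intro hm
      obtain ⟨g, h1, h3⟩ := ih (by omega)
      let k : Fin 5 := ⟨m, by omega⟩
      have hk : k ≠ 4 := fun e => by have := congrArg Fin.val e; simp [k] at this; omega
      rcases h1 k with e | e
      · refine ⟨g, h1, fun i hi => ?_⟩
        rcases Nat.lt_succ_iff_lt_or_eq.1 hi with e' | e'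
        exacts [h3 i e', by rw [show i = k from Fin.ext e']; exact e]
      · have h4 : ∀ i, g * (s k * s 4) * s i * (g * (s k * s 4))⁻¹ =
            if i = k ∨ i = 4 then g * s i * g⁻¹ * z else g * s i * g⁻¹ := fun i => by
          calc _ = g * (s k * s 4 * s i * (s k * s 4)⁻¹) * g⁻¹ := by group
            _ = _ := by
              rw [c.flip hk]
              split_ifs
              · rw [← conj_mul, h.gz]
              · rfl
        refine ⟨g * (s k * s 4), fun i => ?_, fun i hi => ?_⟩ <;> rw [h4]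
        · split_ifs
          · rcases h1 i with e' | e' <;> rw [e']
            exacts [Or.inr rfl, Or.inl (by rw [mul_assoc, c.zz, mul_one])]
          · exact h1 i
        · rcases Nat.lt_succ_iff_lt_or_eq.1 hi with e' | e'
          · rw [if_neg, h3 i e']
            rintro (f | f) <;> have := congrArg Fin.val f <;> simp [k] at this <;> omega
          · rw [show i = k from Fin.ext e', if_pos (Or.inl rfl), e, mul_assoc, c.zz, mul_one]
  obtain ⟨k, -, h3⟩ := key 4 le_rfl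
  refine ⟨k, fun i => ?_⟩
  by_cases hi : (i : ℕ) < 4
  · exact h3 i hi
  · obtain rfl : i = 4 := Fin.ext (by have := i.2; simp; omega)
    rw [← h2, ← h3 0 (by decide), ← h3 1 (by decide), ← h3 2 (by decide), ← h3 3 (by decide), c.prod]
    group

theorem not_flip {i j k : Fin 5} (e : i ≠ j) {y : X} (hy : y = s k ∨ y = s k * z)
    (hc : y * (s i * s j) = s i * s j * y) : k ≠ i ∧ k ≠ j := by
  have c := h.cl
  have : s i * s j * s k * (s i * s j)⁻¹ = s k := by
    rcases hy with rfl | rfl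
    · rw [← hc, mul_inv_cancel_right]
    · rw [mul_assoc, ← h.cz', ← mul_assoc, ← mul_assoc _ (s k)] at hc
      rw [← mul_right_cancel hc, mul_inv_cancel_right]
  rw [c.flip e] at this
  by_contra hn
  rw [if_pos (by tauto)] at this
  exact c.z1 (by simpa using this)

theorem pair {θ : X →* Perm (Fin 5)} (hθ : Th z s θ) {i j k : Fin 5} (e : i ≠ j) {y : X}
    (hc : y * (s i * s j) = s i * s j * y) (hk : k ≠ i ∧ k ≠ j) : θ y k ≠ i ∧ θ y k ≠ j := by
  refine h.not_flip e ((hθ y k _).1 rfl) ?_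
  have := h.cl.flip e k
  rw [if_neg (by tauto), mul_inv_eq_iff_eq_mul] at this
  calc _ = y * (s k * (y⁻¹ * (s i * s j * y))) * y⁻¹ := by group
    _ = y * (s i * s j) * s k * y⁻¹ := by rw [← hc, inv_mul_cancel_left, ← this]; group
    _ = _ := by rw [hc]; group

end Cf

end H83.R5
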