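import Mathlib
import Cfsg.Agent.Lib.FGS83.R4G
import Cfsg.Agent.Lib.FF.EAGL
import Cfsg.Agent.Lib.Transfer.Control

/-!
Coordinates for `GL₃(2)` acting on an elementary abelian group of order eight.
-/

set_option autoImplicit false

namespace H83.R4

open Subgroup

/-- The elementary abelian group of order eight. -/
abbrev E : Type := Fin 3 → Multiplicative (ZMod 2)

def e1 : E := ![Multiplicative.ofAdd 1, 1, 1]
def e2 : E := ![1, Multiplicative.ofAdd 1, 1]
def e3 : E := ![1, 1, Multiplicative.ofAdd 1]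

def sm (a : Multiplicative (ZMod 2)) (u : E) : E := if a = 1 then 1 else u

theorem sm_mul : ∀ (a b : Multiplicative (ZMod 2)) (u : E), sm (a * b) u = sm a u * sm b u := by
  decide +kernel

/-- The linear map with the given images of the basis. -/
def lf (u v w x : E) : E := sm (x 0) u * sm (x 1) v * sm (x 2) w

def lin (u v w : E) : E →* E := MonoidHom.mk' (lf u v w) fun a b => by
  simp only [lf, Pi.mul_apply, sm_mul]; ac_rfl

theorem E_sq : ∀ v : E, v * v = 1 := by decide +kernel

theorem card_E : Nat.card E = 8 := by simp [Nat.card_fun]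

theorem card_autE : Nat.card (MulAut E) = 168 := by
  haveI : Fact (Nat.Prime 2) := ⟨Nat.prime_two⟩
  obtain ⟨e⟩ := H23.nonempty_mulAut_equiv_GL (W := E) (p := 2) (n := 3) ⟨⟨mul_comm⟩⟩
    (fun w => by rw [pow_two, E_sq]) card_E
  rw [Nat.card_congr e.toEquiv, Matrix.card_GL_field]
  simp [Fin.prod_univ_three]

/-- `φ` is the linear map sending the basis to `u, v, w`. -/
def Is (φ : MulAut E) (u v w : E) : Prop := ∀ x, φ x = lf u v w x

theorem is_self (φ : MulAut E) : Is φ (φ e1) (φ e2) (φ e3) := by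
  intro x
  have h1 : ∀ x : E, x = lf e1 e2 e3 x := by decide +kernel
  have h2 : ∀ a u, φ (sm a u) = sm a (φ u) := fun a u => by unfold sm; split_ifs <;> simp
  conv_lhs => rw [h1 x]
  simp only [lf, map_mul, h2]

theorem exists_is {u v w : E} (h : Function.Injective (lf u v w)) : ∃ φ : MulAut E, Is φ u v w :=
  ⟨MulEquiv.ofBijective (lin u v w) (Finite.injective_iff_bijective.1 h), fun _ => rfl⟩

theorem Is.inj {φ : MulAut E} {u v w : E} (h : Is φ u v w) : Function.Injective (lf u v w) := by
  rw [← funext h]; exact φ.injective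

theorem exists_equiv_E {W : Type*} [Group W] [Finite W] (he : ∀ w : W, w * w = 1)
    (h8 : Nat.card W = 8) : Nonempty (E ≃* W) := by
  letI : CommGroup W := { (inferInstance : Group W) with mul_comm := comm_of_forall_sq he }
  haveI : Fact (Nat.Prime 2) := ⟨Nat.prime_two⟩
  letI : Module (ZMod 2) (Additive W) := AddCommGroup.zmodModule (n := 2) (fun x => by
    change Additive.ofMul (x.toMul ^ 2) = 0
    rw [pow_two, he]; rfl)
  haveI : Module.Finite (ZMod 2) (Additive W) := Module.Finite.of_finite
  have hfr : Module.finrank (ZMod 2) (Additive W) = 3 := by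
    have h1 := Module.natCard_eq_pow_finrank (K := ZMod 2) (V := Additive W)
    rw [Nat.card_zmod, show Nat.card (Additive W) = 2 ^ 3 from h8] at h1
    exact (Nat.pow_right_injective le_rfl h1).symm
  let b := (Module.finBasisOfFinrankEq (ZMod 2) (Additive W) hfr).equivFun.toAddEquiv
  exact ⟨((MulEquiv.piMultiplicative _).symm.trans (AddEquiv.toMultiplicativeRight b).symm)⟩

/-- Words in two generators. -/
def wd {M : Type*} [Monoid M] (a b : M) (l : List Bool) : M := (l.map fun i => if i then a else b).prod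

def wdf (f g : E → E) (l : List Bool) (x : E) : E := l.foldr (fun i y => if i then f y else g y) x

theorem map_wd {X : Type*} [Group X] (ψ : X →* MulAut E) (a b : X) (l : List Bool) (x : E) :
    ψ (wd a b l) x = wdf (ψ a) (ψ b) l x := by
  induction l with
  | nil => simp [wd, wdf]
  | cons i l ih =>
    have : wd a b (i :: l) = (if i then a else b) * wd a b l := by simp [wd]
    rw [this, map_mul, MulAut.mul_apply, ih]
    cases i <;> rfl

theorem wd_mem {X : Type*} [Group X] {K : Subgroup X} {a b : X} (ha : a ∈ K) (hb : b ∈ K)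
    (l : List Bool) : wd a b l ∈ K := by
  refine K.list_prod_mem fun x hx => ?_
  obtain ⟨i, -, rfl⟩ := List.mem_map.1 hx
  cases i
  exacts [hb, ha]

section Psi

variable {X : Type*} [Group X] {Q : Subgroup X} {ψ : X →* MulAut E}

theorem mem_of_eq (hk : ∀ g, ψ g = 1 ↔ g ∈ Q) {x y : X} (h : ∀ v, ψ x v = ψ y v) : x * y⁻¹ ∈ Q :=
  (hk _).1 (by rw [map_mul, map_inv, (MulEquiv.ext h : ψ x = ψ y), mul_inv_cancel])

theorem mem_of_eq' (hk : ∀ g, ψ g = 1 ↔ g ∈ Q) {x y : X} (h : ∀ v, ψ x v = ψ y v) : y⁻¹ * x ∈ Q :=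
  (hk _).1 (by rw [map_mul, map_inv, (MulEquiv.ext h : ψ x = ψ y), inv_mul_cancel])

theorem mem_of_one (hk : ∀ g, ψ g = 1 ↔ g ∈ Q) {x : X} (h : ∀ v, ψ x v = v) : x ∈ Q :=
  (hk _).1 (MulEquiv.ext h)

theorem exists_lift (hs : Function.Surjective ψ) {u v w : E} (h : Function.Injective (lf u v w)) :
    ∃ g, Is (ψ g) u v w := by
  obtain ⟨φ, hφ⟩ := exists_is h
  obtain ⟨g, rfl⟩ := hs φ
  exact ⟨g, hφ⟩

theorem gen_of_words (hk : ∀ g, ψ g = 1 ↔ g ∈ Q) {K : Subgroup X} (hQ : Q ≤ K) {a b g : X}
    (ha : a ∈ K) (hb : b ∈ K) {l : List Bool} (h : ∀ x, ψ g x = wdf (ψ a) (ψ b) l x) : g ∈ K := by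
  have := mul_mem (hQ (mem_of_eq hk (y := wd a b l) fun v => (h v).trans (map_wd ψ a b l v).symm))
    (wd_mem ha hb l)
  simpa using this

theorem gen_S4 (hk : ∀ g, ψ g = 1 ↔ g ∈ Q) {K : Subgroup X} (hQ : Q ≤ K) {a b : X} (ha : a ∈ K)
    (hb : b ∈ K) (ia : Is (ψ a) e1 e3 (e2 * e3)) (ib : Is (ψ b) e1 e2 (e1 * e2 * e3)) {g : X}
    (hg : ψ g e1 = e1) : g ∈ K := by
  have key : ∀ v w : E, Function.Injective (lf e1 v w) → ∃ l ∈ [[], [true], [false], [true, true],
      [false, true], [true, false], [false, true, true], [true, false, true], [true, true, false],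
      [false, true, false], [true, false, true, true], [true, true, false, true],
      [false, true, false, true], [false, true, true, false], [true, false, true, false],
      [true, true, false, true, true], [false, true, false, true, true],
      [false, true, true, false, true], [true, false, true, true, false],
      [true, true, false, true, false], [true, false, true, true, false, true],
      [false, true, false, true, true, false], [false, true, true, false, true, false],
      [false, true, false, true, true, false, true]], ∀ x, lf e1 v w x =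
        wdf (lf e1 e3 (e2 * e3)) (lf e1 e2 (e1 * e2 * e3)) l x := by decide +kernel
  have h := is_self (ψ g)
  rw [hg] at h
  obtain ⟨l, -, hl⟩ := key _ _ h.inj
  exact gen_of_words hk hQ ha hb (l := l) fun x => by rw [h x, hl x, funext ia, funext ib]

theorem gen_D8 (hk : ∀ g, ψ g = 1 ↔ g ∈ Q) {K : Subgroup X} (hQ : Q ≤ K) {a b : X} (ha : a ∈ K)
    (hb : b ∈ K) (ia : Is (ψ a) e1 e2 (e2 * e3)) (ib : Is (ψ b) e1 (e1 * e2) e3) {g : X}
    (hg : ψ g e1 = e1) (hg' : ψ g e2 = e2 ∨ ψ g e2 = e1 * e2) : g ∈ K := by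
  have key : ∀ v w : E, (v = e2 ∨ v = e1 * e2) → Function.Injective (lf e1 v w) →
      ∃ l ∈ [[], [true], [false], [false, true], [true, false], [true, false, true],
        [false, true, false], [false, true, false, true]], ∀ x, lf e1 v w x =
        wdf (lf e1 e2 (e2 * e3)) (lf e1 (e1 * e2) e3) l x := by decide +kernel
  have h := is_self (ψ g)
  rw [hg] at h
  obtain ⟨l, -, hl⟩ := key _ _ hg' h.inj
  exact gen_of_words hk hQ ha hb (l := l) fun x => by rw [h x, hl x, funext ia, funext ib]

end Psi

/-- The stabiliser of a flag. -/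
def flag : Subgroup (MulAut E) where
  carrier := {φ | φ e1 = e1 ∧ (φ e2 = e2 ∨ φ e2 = e1 * e2)}
  one_mem' := ⟨rfl, Or.inl rfl⟩
  mul_mem' := by
    rintro a b ⟨ha, ha'⟩ ⟨hb, hb'⟩
    refine ⟨by rw [MulAut.mul_apply, hb, ha], ?_⟩
    rw [MulAut.mul_apply]
    rcases hb' with h | h <;> rcases ha' with h' | h' <;> simp only [h, map_mul, ha, h'] <;> decide +kernel
  inv_mem' := by
    rintro a ⟨ha, ha'⟩
    refine ⟨a.symm_apply_eq.2 ha.symm, ?_⟩
    rcases ha' with h | h
    · exact Or.inl (a.symm_apply_eq.2 h.symm)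
    · exact Or.inr (a.symm_apply_eq.2 (by rw [map_mul, ha, h, ← mul_assoc, E_sq, one_mul]))

theorem flag_isP : IsPGroup 2 flag := by
  rintro ⟨φ, h1, h2⟩
  refine ⟨2, Subtype.ext (MulEquiv.ext fun x => ?_)⟩
  have key : ∀ v w : E, (v = e2 ∨ v = e1 * e2) → Function.Injective (lf e1 v w) →
      ∀ x, lf e1 v w (lf e1 v w (lf e1 v w (lf e1 v w x))) = x := by decide +kernel
  have h := is_self φ
  rw [h1] at h
  have := key _ _ h2 h.inj x
  simp only [← h _] at this
  simpa [pow_succ] using this

theorem index_flag : flag.index = 21 := by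
  obtain ⟨k, hk⟩ := flag_isP.exists_card_eq
  have h1 := flag.index_mul_card
  rw [card_autE, hk] at h1
  have h2 : 8 ≤ Nat.card flag := by
    have inj : ∀ a b c : Multiplicative (ZMod 2),
        Function.Injective (lf e1 (sm a e1 * e2) (sm b e1 * sm c e2 * e3)) := by decide +kernel
    choose φ hφ using fun a b c => exists_is (inj a b c)
    have m : ∀ a b c, φ a b c ∈ flag := fun a b c => by
      refine ⟨by rw [hφ]; revert a b c; decide +kernel, ?_⟩
      rw [hφ]; revert a b c; decide +kernel
    have := Nat.card_le_card_of_injective (fun x : E => (⟨φ (x 0) (x 1) (x 2), m _ _ _⟩ : flag))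
      fun x y e0 => by
        have e : φ (x 0) (x 1) (x 2) = φ (y 0) (y 1) (y 2) := congrArg Subtype.val e0
        have a2 := hφ (x 0) (x 1) (x 2) e2
        have a3 := hφ (x 0) (x 1) (x 2) e3
        rw [e, hφ] at a2 a3
        clear e e0
        revert x y
        decide +kernel
    rwa [card_E] at this
  rw [hk] at h2
  have h3 : k ≤ 3 := by
    by_contra hc
    have : 2 ^ 4 ∣ 168 := (pow_dvd_pow 2 (by omega)).trans (Dvd.intro_left _ h1)
    omega
  interval_cases k <;> omega

theorem comm_closure {X : Type*} [Group X] {T : Set X} {L : Subgroup X}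
    (h1 : ∀ x ∈ T, x ∈ normalizer (L : Set X)) (h2 : ∀ x ∈ T, ∀ y ∈ T, b x y ∈ L) :
    ∀ g ∈ closure T, ∀ h ∈ closure T, b g h ∈ L := by
  let K : Set X → Subgroup X := fun S =>
    { carrier := {x | x ∈ normalizer (L : Set X) ∧ ∀ z ∈ S, b x z ∈ L}
      one_mem' := ⟨one_mem _, fun z _ => by simp [b]⟩
      mul_mem' := by
        rintro x y ⟨hx, hx'⟩ ⟨hy, hy'⟩
        refine ⟨mul_mem hx hy, fun z hz => ?_⟩
        have := L.mul_mem ((mem_normalizer_iff.1 hx _).1 (hy' z hz)) (hx' z hz)
        convert this using 1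
        simp only [b]; group
      inv_mem' := by
        rintro x ⟨hx, hx'⟩
        refine ⟨inv_mem hx, fun z hz => ?_⟩
        have := (mem_normalizer_iff.1 (inv_mem hx) _).1 (L.inv_mem (hx' z hz))
        convert this using 1
        simp only [b]; group }
  have k1 : closure T ≤ K T := (closure_le _).2 fun x hx => ⟨h1 x hx, h2 x hx⟩
  have k2 : closure T ≤ K (closure T) := (closure_le _).2 fun x hx => ⟨h1 x hx, fun z hz => by
    have := L.inv_mem ((k1 hz).2 x hx)
    convert this using 1
    simp only [b]; group⟩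
  exact fun g hg => (k2 hg).2

end H83.R4
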