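import Mathlib
import Cfsg.Agent.Lib.FGS83.R4I

/-!
A transfer argument for extensions of `GL₃(2)`.
-/

set_option autoImplicit false

namespace H83.R4

open Subgroup

theorem mem_flag {φ : MulAut E} : φ ∈ flag ↔ φ e1 = e1 ∧ (φ e2 = e2 ∨ φ e2 = e1 * e2) := Iff.rfl

theorem tr_central {Y : Type*} [Group Y] [Finite Y] {Z : Subgroup Y} {ψ : Y →* MulAut E}
    (hs : Function.Surjective ψ) (hk : ∀ g, ψ g = 1 ↔ g ∈ Z) (h2 : IsPGroup 2 Z)
    (hc : ∀ z ∈ Z, ∀ g, g * z = z * g) :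
    ∃ κ, Is (ψ κ) e1 e2 (e1 * e3) ∧ κ * κ * (κ * κ) = 1 ∧
      ∀ u ∈ Z, u ∈ commutator Y → u = 1 ∨ u = κ * κ := by
  obtain ⟨t1, i1⟩ := exists_lift hs (u := e1) (v := e2) (w := e2 * e3) (by decide +kernel)
  obtain ⟨t2, i2⟩ := exists_lift hs (u := e1) (v := e1 * e2) (w := e3) (by decide +kernel)
  have s1 : t1 * t1 ∈ Z := mem_of_one hk fun v => by
    simp only [map_mul, MulAut.mul_apply, i1 _]; revert v; decide +kernel
  have s2 : t2 * t2 ∈ Z := mem_of_one hk fun v => by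
    simp only [map_mul, MulAut.mul_apply, i2 _]; revert v; decide +kernel
  have iκ : Is (ψ (b t1 t2)) e1 e2 (e1 * e3) := fun v => by
    have e : ψ (b t1 t2) = ψ (t1 * t2 * t1 * t2) := by
      have : b t1 t2 = t1 * t2 * t1 * (t1 * t1)⁻¹ * (t2 * (t2 * t2)⁻¹) := by simp only [b]; group
      rw [this]
      simp only [map_mul, map_inv, (hk _).2 s1, (hk _).2 s2, inv_one, mul_one]
    rw [e]
    simp only [map_mul, MulAut.mul_apply, i1 _, i2 _]; revert v; decide +kernel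
  set κ := b t1 t2 with hκ
  have c1 : t1 * κ * t1⁻¹ = κ⁻¹ := by
    refine eq_inv_of_mul_eq_one_left ?_
    calc _ = t1 * t1 * (t2 * (t1 * t1)⁻¹) * t2⁻¹ := by simp only [hκ, b]; group
      _ = 1 := by rw [hc _ (Z.inv_mem s1)]; group
  have c2 : t2 * κ * t2⁻¹ = κ⁻¹ := by
    refine eq_inv_of_mul_eq_one_right ?_
    calc _ = t1 * (t2 * t2) * t1⁻¹ * (t2 * t2)⁻¹ := by simp only [hκ, b]; group
      _ = 1 := by rw [hc _ s2]; group
  have k2 : κ * κ ∈ Z := mem_of_one hk fun v => by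
    simp only [map_mul, MulAut.mul_apply, iκ _]; revert v; decide +kernel
  have k4 : κ * κ * (κ * κ) = 1 := by
    calc _ = t1 * (κ * κ) * t1⁻¹ * (κ * κ) := by rw [hc _ k2 t1]; group
      _ = (t1 * κ * t1⁻¹) * (t1 * κ * t1⁻¹) * (κ * κ) := by group
      _ = 1 := by rw [c1]; group
  refine ⟨κ, iκ, k4, fun u hu hu' => ?_⟩
  have hH : IsPGroup 2 (flag.comap ψ) := flag_isP.comap_of_ker_isPGroup ψ (by
    rwa [show ψ.ker = Z from Subgroup.ext hk])
  obtain ⟨k, hk'⟩ := hH.exists_card_eq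
  have m := H4.inf_commutator_inf_center_le (H := flag.comap ψ) (by
    rw [hk', index_comap_of_surjective _ hs, index_flag]
    exact Nat.Coprime.pow_left _ (by norm_num))
    (⟨⟨mem_comap.2 (by rw [(hk u).2 hu]; exact one_mem _), hu'⟩, mem_center_iff.2 (hc u hu)⟩ :
      u ∈ flag.comap ψ ⊓ commutator Y ⊓ center Y)
  have n : ∀ {t : Y}, t * κ * t⁻¹ ∈ zpowers κ → t ∈ normalizer (zpowers κ : Set Y) := fun {t} h =>
    mem_normalizer_fintype (by
      rintro _ ⟨i, rfl⟩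
      simp only [← conj_zpow]
      exact zpow_mem h i)
  have bz : ∀ {z g : Y}, z ∈ Z → b g z ∈ zpowers κ := fun {z g} hz => by
    rw [b_eq_one_iff.2 (hc z hz g)]; exact one_mem _
  have bz' : ∀ {z g : Y}, z ∈ Z → b z g ∈ zpowers κ := fun {z g} hz => by
    rw [b_eq_one_iff.2 (hc z hz g).symm]; exact one_mem _
  have b0 : ∀ x, b x x ∈ zpowers κ := fun x => b_self x ▸ one_mem _
  have cc := comm_closure (T := (Z : Set Y) ∪ {t1, t2}) (L := zpowers κ) (by
      rintro x (hx | rfl | rfl)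
      exacts [n (by rw [← hc x hx]; simp), n (c1 ▸ inv_mem (mem_zpowers _)),
        n (c2 ▸ inv_mem (mem_zpowers _))]) (by
      rintro x (hx | rfl | rfl) y (hy | rfl | rfl)
      exacts [bz hy, bz' hx, bz' hx, bz hy, b0 _, mem_zpowers _, bz hy, by
        have := inv_mem (mem_zpowers κ)
        convert this using 1
        simp only [hκ, b]; group, b0 _])
  have le : flag.comap ψ ≤ closure ((Z : Set Y) ∪ {t1, t2}) := fun g hg => by
    obtain ⟨g1, g2⟩ := mem_flag.1 (mem_comap.1 hg)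
    have m1 : t1 ∈ closure ((Z : Set Y) ∪ {t1, t2}) := subset_closure (Or.inr (Or.inl rfl))
    have m2 : t2 ∈ closure ((Z : Set Y) ∪ {t1, t2}) := subset_closure (Or.inr (Or.inr rfl))
    exact gen_D8 hk (fun z hz => subset_closure (Or.inl hz)) m1 m2 i1 i2 g1 g2
  obtain ⟨i, hi⟩ := (commutator_le.2 fun g hg h hh => cc g (le hg) h (le hh) :
    ⁅flag.comap ψ, flag.comap ψ⁆ ≤ zpowers κ) m
  rcases Int.even_or_odd' i with ⟨j, rfl | rfl⟩
  · exact mem_zpowers_two k4 ⟨j, by rw [← hi]; simp only [zpow_mul, zpow_two]⟩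
  · exfalso
    have hi : κ ^ (2 * j + 1) = u := hi
    have : κ ∈ Z := by
      have := Z.mul_mem (Z.inv_mem (Z.zpow_mem k2 j)) hu
      rwa [← hi, zpow_add_one, zpow_mul, zpow_two, inv_mul_cancel_left] at this
    have := iκ e3
    rw [(hk κ).2 ‹_›, MulAut.one_apply] at this
    exact absurd this (by decide +kernel)

theorem tr {X : Type*} [Group X] [Finite X] {Q W : Subgroup X} [W.Normal] {ψ : X →* MulAut E}
    (hs : Function.Surjective ψ) (hk : ∀ g, ψ g = 1 ↔ g ∈ Q) (h2 : IsPGroup 2 Q) (hW : W ≤ Q)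
    (hc : ∀ u ∈ Q, ∀ g, b g u ∈ W) :
    ∃ κ, Is (ψ κ) e1 e2 (e1 * e3) ∧ κ * κ * (κ * κ) ∈ W ∧
      ∀ u ∈ Q, u ∈ commutator X → u ∈ W ∨ u⁻¹ * (κ * κ) ∈ W := by
  obtain ⟨κ, h1, h3, h4⟩ := tr_central (Z := Q.map (QuotientGroup.mk' W))
    (ψ := QuotientGroup.lift W ψ fun x hx => (hk x).2 (hW hx))
    (fun φ => by obtain ⟨g, rfl⟩ := hs φ; exact ⟨QuotientGroup.mk g, rfl⟩)
    (fun g => by
      obtain ⟨g, rfl⟩ := QuotientGroup.mk'_surjective W g
      rw [← mem_comap, comap_map_eq_self (by rwa [QuotientGroup.ker_mk'])]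
      exact hk g) (h2.map _) (by
      rintro _ ⟨u, hu, rfl⟩ g
      obtain ⟨g, rfl⟩ := QuotientGroup.mk'_surjective W g
      rw [← b_eq_one_iff]
      exact (QuotientGroup.eq_one_iff (b g u)).2 (hc u hu g))
  obtain ⟨κ, rfl⟩ := QuotientGroup.mk'_surjective W κ
  refine ⟨κ, h1, (QuotientGroup.eq_one_iff _).1 h3, fun u hu hu' => ?_⟩
  rcases h4 _ (mem_map_of_mem _ hu) (by
    rw [commutator_def, ← map_top_of_surjective _ (QuotientGroup.mk'_surjective W), ← map_commutator]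
    exact mem_map_of_mem _ hu') with e | e
  · exact Or.inl ((QuotientGroup.eq_one_iff _).1 e)
  · exact Or.inr (QuotientGroup.eq.1 e)

end H83.R4
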