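import Mathlib
import Cfsg.Agent.Lib.FGS83.R4J
import Cfsg.Agent.Lib.Invol.Count
import Cfsg.Agent.Lib.Core.CoprimeAbelian

/-!
An element of order seven acting on a 2-group.
-/

set_option autoImplicit false

namespace H83.R4

open Subgroup

variable {X : Type*} [Group X] [Finite X]

theorem ncard7 {s : X} (hs : s ^ 7 = 1) (S : Set X) (hS : ∀ x ∈ S, s * x * s⁻¹ ∈ S) :
    S.ncard ≡ {x | x ∈ S ∧ s * x * s⁻¹ = x}.ncard [MOD 7] := by
  haveI : Fact (Nat.Prime 7) := ⟨by norm_num⟩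
  exact H13.TG.ncard_modEq (conj_pow_eq_one hs) S hS

theorem orb7 {P F : Subgroup X} (hF : IsPGroup 2 F) (hFP : F ≤ P) (h8 : Nat.card P = 8 * Nat.card F)
    {s : X} (hs : s ^ 7 = 1) {S : Set X} (h1 : ∀ x ∈ S, x ∈ P ∧ x ∉ F)
    (h2 : ∀ x ∈ S, ∀ f ∈ F, x * f ∈ S) (h3 : ∀ x ∈ S, s * x * s⁻¹ ∈ S)
    (h4 : ∀ x ∈ S, s * x * s⁻¹ ≠ x) (h5 : S.Nonempty) : ∀ x ∈ P, x ∉ F → x ∈ S := by
  have d7 : 7 ∣ S.ncard := by
    have := ncard7 hs S h3
    rw [show {x | x ∈ S ∧ s * x * s⁻¹ = x} = ∅ from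
      Set.eq_empty_of_forall_notMem fun x hx => h4 x hx.1 hx.2, Set.ncard_empty] at this
    exact Nat.modEq_zero_iff_dvd.1 this
  have dF : Nat.card F ∣ S.ncard := by
    have := QuotientGroup.card_preimage_mk F (QuotientGroup.mk '' S)
    rw [show (QuotientGroup.mk ⁻¹' (QuotientGroup.mk '' S) : Set X) = S from
      Set.Subset.antisymm (by
        rintro y ⟨x, hx, e⟩
        simpa using h2 x hx _ (QuotientGroup.eq.1 e)) (Set.subset_preimage_image _ _)] at this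
    exact ⟨_, this⟩
  obtain ⟨k, hk⟩ := hF.exists_card_eq
  have d := Nat.Coprime.mul_dvd_of_dvd_of_dvd (by rw [hk]; exact Nat.Coprime.pow_right _ (by norm_num))
    d7 dF
  have le : S ⊆ (P : Set X) \ F := fun x hx => h1 x hx
  have e := Set.eq_of_subset_of_ncard_le le (by
    rw [Set.ncard_diff hFP, ← Mac.card_eq_ncard, ← Mac.card_eq_ncard]
    have := Nat.le_of_dvd ((Set.ncard_pos (Set.toFinite S)).2 h5) d
    omega)
  exact fun x hx hx' => e ▸ ⟨hx, hx'⟩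

theorem orb7' {P : Subgroup X} (h8 : Nat.card P = 8) {s : X} (hs : s ^ 7 = 1) {S : Set X}
    (h1 : ∀ x ∈ S, x ∈ P ∧ x ≠ 1) (h3 : ∀ x ∈ S, s * x * s⁻¹ ∈ S)
    (h4 : ∀ x ∈ P, s * x * s⁻¹ = x → x = 1) (h5 : S.Nonempty) : ∀ x ∈ P, x ≠ 1 → x ∈ S :=
  orb7 (F := ⊥) IsPGroup.of_bot bot_le (by simpa using h8) hs h1
    (fun x hx f hf => by rwa [mem_bot.1 hf, mul_one]) h3
    (fun x hx e => (h1 x hx).2 (h4 x (h1 x hx).1 e)) h5

structure S7 (Q P : Subgroup X) (s : X) : Prop where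
  le : P ≤ Q
  card : Nat.card P = 8
  el : ∀ p ∈ P, p * p = 1
  cent : ∀ p ∈ P, ∀ x ∈ Q, x * p = p * x
  inv : ∀ p ∈ P, s * p * s⁻¹ ∈ P
  fpf : ∀ p ∈ P, s * p * s⁻¹ = p → p = 1
  dec : ∀ x ∈ Q, ∃ p ∈ P, ∃ c ∈ Q, s * c * s⁻¹ = c ∧ x = p * c

omit [Finite X] in
theorem cent_zpowers (s : X) : centralizer (zpowers s : Set X) = centralizer {s} := by
  rw [zpowers_eq_closure, centralizer_closure]

omit [Finite X] in
theorem mem_cent_iff {s x : X} : x ∈ centralizer ({s} : Set X) ↔ s * x * s⁻¹ = x := by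
  rw [mem_centralizer_singleton_iff, mul_inv_eq_iff_eq_mul, eq_comm]

theorem pow_mod7 {a c : ℕ} (h : 2 ^ a ≡ 2 ^ c [MOD 7]) : a % 3 = c % 3 := by
  have k : ∀ n, 2 ^ n ≡ 2 ^ (n % 3) [MOD 7] := fun n => by
    conv_lhs => rw [← Nat.div_add_mod n 3, pow_add, pow_mul]
    have : (2 ^ 3) ^ (n / 3) ≡ 1 ^ (n / 3) [MOD 7] := Nat.ModEq.pow _ (by decide)
    simpa using this.mul_right (2 ^ (n % 3))
  have := (k a).symm.trans (h.trans (k c))
  have h1 : a % 3 < 3 := Nat.mod_lt _ (by norm_num)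
  have h2 : c % 3 < 3 := Nat.mod_lt _ (by norm_num)
  revert this
  interval_cases a % 3 <;> interval_cases c % 3 <;> decide

theorem struct7 {Q : Subgroup X} (h2 : IsPGroup 2 Q) {s : X} (hs : s ^ 7 = 1)
    (hn : s ∈ normalizer (Q : Set X)) (h8 : Nat.card Q ≤ 8 * Nat.card ↥(Q ⊓ centralizer {s}))
    {x : X} (hx : x ∈ Q) (hne : s * x * s⁻¹ ≠ x) : ∃ P, S7 Q P s := by
  haveI : Fact (Nat.Prime 7) := ⟨by norm_num⟩
  have hA : zpowers s ≤ normalizer (Q : Set X) := zpowers_le.2 hn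
  have hcop := coprime_zpowers h2 (by decide : Odd 7) hs
  obtain ⟨P, hP⟩ : ∃ P, P = ⁅Q, zpowers s⁆ := ⟨_, rfl⟩
  have le : P ≤ Q := hP ▸ le_normalizer_iff_commutator_le_left.1 hA
  have nQ : Q ≤ normalizer (P : Set X) := hP ▸ normalizer_commutator_ge_left _ _
  have ns : zpowers s ≤ normalizer (P : Set X) := hP ▸ normalizer_commutator_ge_right _ _
  have hsP : s ∈ normalizer (P : Set X) := ns (mem_zpowers s)
  have inv : ∀ p ∈ P, s * p * s⁻¹ ∈ P := fun p hp => (mem_normalizer_iff.1 hsP p).1 hp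
  have dec : ∀ x ∈ Q, ∃ p ∈ P, ∃ c ∈ Q, s * c * s⁻¹ = c ∧ x = p * c := fun x hx => by
    obtain ⟨p, hp, c, hc, e⟩ := H2.exists_commutator_mul_centralizer hA hcop
      (Or.inl (H2.isSolvable_zpowers s)) hx
    exact ⟨p, hP ▸ hp, c, hc.1, conj_eq_of_cent' hc.2, e⟩
  have p2 : IsPGroup 2 P := h2.to_le le
  have k1 := H1.card_sup_mul_card_inf_of_le_normalizer (H := Q ⊓ centralizer {s}) (N := P)
    (inf_le_left.trans nQ)
  rw [show Q ⊓ centralizer {s} ⊔ P = Q from by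
    rw [sup_comm, hP, ← cent_zpowers]
    exact H2.commutator_sup_centralizer hA hcop (Or.inl (H2.isSolvable_zpowers s)),
    show Q ⊓ centralizer {s} ⊓ P = P ⊓ centralizer {s} from by
      rw [inf_right_comm, inf_eq_right.2 le]] at k1
  have k2 : Nat.card P ≤ 8 * Nat.card ↥(P ⊓ centralizer {s}) := by
    have : 0 < Nat.card ↥(Q ⊓ centralizer {s}) := Nat.card_pos
    nlinarith
  have k3 : P ⊓ centralizer {s} ≤ sqs P := by
    rw [← cent_zpowers]
    refine (H2.inf_centralizer_le_commutator ns (coprime_zpowers p2 (by decide : Odd 7) hs)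
      (by rw [hP]; exact (H2.commutator_commutator_eq hA hcop).ge)).trans
      (commutator_le.2 fun x hx y hy => comm_mem hx hy)
  have k4 : sqs P < P := lt_of_le_of_ne (sqs_le P) fun e => by
    have := eq_of_sup p2 bot_le (by rw [sup_bot_eq, e])
    obtain ⟨p, hp, c, -, e1, rfl⟩ := dec x hx
    rw [← this, mem_bot] at hp
    exact hne (by rw [hp, one_mul, e1])
  obtain ⟨a, ha⟩ := p2.exists_card_eq
  obtain ⟨b', hb⟩ := (p2.to_le k4.le).exists_card_eq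
  obtain ⟨c, hc⟩ := (p2.to_le (inf_le_left : P ⊓ centralizer {s} ≤ P)).exists_card_eq
  have m1 := card_modEq hs inv
  have m2 := card_modEq hs (H := sqs P) fun f hf => conj_mem_sqs inv hf
  rw [show sqs P ⊓ centralizer {s} = P ⊓ centralizer {s} from
    le_antisymm (inf_le_inf_right _ k4.le) (le_inf k3 inf_le_right)] at m2
  have l1 := H1.card_lt_of_lt k4
  have l2 := card_le_of_le k3
  rw [ha, hc] at m1 k2
  rw [hb, hc] at m2 l2
  rw [ha, hb] at l1
  have m1 := pow_mod7 m1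
  have m2 := pow_mod7 m2
  rw [show 8 * 2 ^ c = 2 ^ (c + 3) by ring] at k2
  have k2 := (Nat.pow_le_pow_iff_right (by norm_num)).1 k2
  have l1 := (Nat.pow_lt_pow_iff_right (by norm_num)).1 l1
  have l2 := (Nat.pow_le_pow_iff_right (by norm_num)).1 l2
  obtain rfl : b' = c := by omega
  obtain rfl : a = b' + 3 := by omega
  have e : P ⊓ centralizer {s} = sqs P := eq_of_le_of_card_ge k3 (by rw [hb, hc])
  have hf : ∀ x ∈ P, s * x * s⁻¹ = x → x ∈ sqs P := fun x hx h => e.le ⟨hx, mem_cent_iff.2 h⟩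
  have C := c2_of_fpf p2 (by decide : Odd 7) hs hsP hf fun f hf => mem_cent_iff.1 (e.ge hf).2
  have c8 : Nat.card P = 8 * Nat.card (sqs P) := by rw [ha, hb]; ring
  obtain ⟨x, hx, hx'⟩ := SetLike.exists_of_lt k4
  have qc : ∀ y ∈ P, y ∉ sqs P → y * y = x * x := orb7 (p2.to_le k4.le) k4.le c8 hs
    (S := {y | (y ∈ P ∧ y ∉ sqs P) ∧ y * y = x * x}) (fun y hy => hy.1)
    (fun y hy f hf => ⟨⟨mul_mem hy.1.1 (k4.le hf), fun h => hy.1.2 ((mul_mem_cancel_right hf).1 h)⟩,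
      (C.q_mul_F hy.1.1 hf).trans hy.2⟩)
    (fun y hy => ⟨⟨inv y hy.1.1, fun h => hy.1.2 ((mem_normalizer_iff.1 (mem_norm_sqs hsP) y).2 h)⟩, by
      rw [conj_mul, mem_cent_iff.1 (e.ge (sq_mem hy.1.1)).2, hy.2]⟩)
    (fun y hy h => hy.1.2 (hf y hy.1.1 h)) ⟨x, ⟨hx, hx'⟩, rfl⟩ |> fun h y hy hy' => (h y hy hy').2
  have step : ∀ {K : Subgroup X}, sqs P ≤ K → K ≤ P → ∀ {y}, y ∈ P → y ∉ K →
      Nat.card ↥(K ⊔ zpowers y) = Nat.card K * 2 := fun {K} k1 k2 y hy hy' =>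
    H5.card_sup_zpowers Nat.prime_two (mem_normalizer_fintype fun u hu =>
      conj_mem_of_sq_mem k2 (fun x hx => k1 (sq_mem hx)) hy hu) hy' (by rw [pow_two]; exact k1 (sq_mem hy))
  have ex : ∀ {K : Subgroup X}, Nat.card K < Nat.card P → ∃ y ∈ P, y ∉ K := fun {K} h => by
    by_contra hc
    push Not at hc
    exact absurd (card_le_of_le (H := P) (K := K) hc) (by omega)
  have pos : 0 < Nat.card (sqs P) := Nat.card_pos
  have n1 := step le_rfl k4.le hx hx'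
  obtain ⟨y, hy, hy'⟩ := ex (K := sqs P ⊔ zpowers x) (by omega)
  have n2 := step le_sup_left (sup_le k4.le (zpowers_le.2 hx)) hy hy'
  obtain ⟨w, hw, hw'⟩ := ex (K := sqs P ⊔ zpowers x ⊔ zpowers y) (by omega)
  have bb : ∀ u ∈ P, u ∉ sqs P ⊔ zpowers x → b x u = x * x := fun u hu hu' => by
    have := C.q_mul hx hu
    rw [qc _ (mul_mem hx hu) fun h => hu' ((mul_mem_cancel_left (mem_sup_right (mem_zpowers x))).1
      (mem_sup_left h)), qc u hu fun h => hu' (mem_sup_left h), C.el _ (sq_mem hx), one_mul] at this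
    exact this.symm
  have x1 : x * x = 1 := by
    have := C.b_mul_right hx hy hw
    rwa [bb y hy hy', bb w hw fun h => hw' (mem_sup_left h), bb _ (mul_mem hy hw) fun h =>
      hw' ((mul_mem_cancel_left (mem_sup_right (mem_zpowers y))).1 (mem_sup_left h)),
      C.el _ (sq_mem hx)] at this
  have el : ∀ p ∈ P, p * p = 1 := fun p hp => by
    by_cases h : p ∈ sqs P
    exacts [C.el p h, (qc p hp h).trans x1]
  have e0 : sqs P = ⊥ := eq_bot_iff.2 (sqs_le_iff.2 el)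
  rw [e0, card_bot] at c8
  have fpf : ∀ p ∈ P, s * p * s⁻¹ = p → p = 1 := fun p hp h => mem_bot.1 (e0 ▸ hf p hp h)
  refine ⟨P, le, c8, el, fun p hp u hu => ?_, inv, fpf, dec⟩
  obtain ⟨p', hp', c, hc, e1, rfl⟩ := dec u hu
  have cm : p' * p = p * p' :=
    congrArg Subtype.val (comm_of_forall_sq (fun v : P => Subtype.ext (el v v.2)) ⟨p', hp'⟩ ⟨p, hp⟩)
  have : c * p = p * c := by
    obtain ⟨z, hz, hz', -, o⟩ := H5.exists_mem_centralizer_of_normalizes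
      (h2.to_le (zpowers_le.2 hc)) p2 ((zpowers_le.2 hc).trans nQ) (fun e => by
        rw [e, card_bot] at c8; omega)
    by_cases h : p = 1
    · rw [h, mul_one, one_mul]
    refine (orb7' c8 hs (S := {v | (v ∈ P ∧ v ≠ 1) ∧ c * v = v * c}) (fun v hv => hv.1)
      (fun v hv => ⟨⟨inv v hv.1.1, fun h => hv.1.2 (by simpa using h)⟩, ?_⟩) fpf
      ⟨z, ⟨hz, fun h => by simp [h] at o⟩, hz' c (mem_zpowers c)⟩ p hp h).2
    conv_lhs => rw [← e1, conj_mul, hv.2, ← conj_mul, e1]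
  rw [mul_assoc, this, ← mul_assoc, cm, mul_assoc]

omit [Finite X] in
theorem ncard_class (x : X) : {y | ∃ g, g * x * g⁻¹ = y}.ncard = (centralizer ({x} : Set X)).index := by
  rw [← H9.card_isConj_eq_index, ← Nat.card_coe_set_eq]
  exact Nat.card_congr (Equiv.subtypeEquivRight fun y => isConj_iff.symm)

theorem mem_or {K W : Subgroup X} (hK : K ≤ W) (h : Nat.card W = Nat.card K * 2) {z : X} (hz : z ∈ W)
    (hz' : z ∉ K) {w : X} (hw : w ∈ W) : w ∈ K ∨ z⁻¹ * w ∈ K := by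
  have h1 := H1.card_mul_relIndex_of_le hK
  have h2 : (K.subgroupOf W).index = 2 := Nat.eq_of_mul_eq_mul_left Nat.card_pos (h1.trans h)
  have := mul_mem_iff_of_index_two h2 (a := (⟨z, hz⟩ : W)⁻¹) (b := ⟨w, hw⟩)
  rw [inv_mem_iff] at this
  by_cases hw' : w ∈ K
  · exact Or.inl hw'
  · exact Or.inr (this.2 (iff_of_false hz' hw'))

theorem E16 {W P : Subgroup X} [hW : W.Normal] {s : X} (hs : s ^ 7 = 1) (h : S7 W P s)
    (el : ∀ w ∈ W, w * w = 1) (h16 : Nat.card W = 16) (h5 : ¬ 5 ∣ Nat.card X) :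
    (∃ z ∈ W, z ∉ P ∧ ∀ g, g * z * g⁻¹ = z) ∨ P.Normal := by
  obtain ⟨z, hz, hzP, hsz⟩ : ∃ z ∈ W, z ∉ P ∧ s * z * s⁻¹ = z := by
    obtain ⟨w, hw, hw'⟩ := SetLike.exists_of_lt (lt_of_le_of_ne h.le fun e => by
      have := h.card; rw [e] at this; omega)
    obtain ⟨p, hp, c, hc, e, rfl⟩ := h.dec w hw
    exact ⟨c, hc, fun h => hw' (mul_mem hp h), e⟩
  have z1 : z ≠ 1 := fun e => hzP (e ▸ one_mem _)
  have mo : ∀ {w}, w ∈ W → w ∈ P ∨ z⁻¹ * w ∈ P := mem_or h.le (by rw [h16, h.card]) hz hzP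
  obtain ⟨K, hK⟩ : ∃ K, K = {y | ∃ g, g * z * g⁻¹ = y} := ⟨_, rfl⟩
  have Kc : ∀ {y} (g : X), y ∈ K → g * y * g⁻¹ ∈ K := by
    subst hK
    rintro _ g ⟨a, rfl⟩
    exact ⟨g * a, by group⟩
  have Kc' : ∀ {y} (g : X), g * y * g⁻¹ ∈ K → y ∈ K := fun {y} g h => by simpa [mul_assoc] using Kc g⁻¹ h
  have zK : z ∈ K := hK ▸ ⟨1, by simp⟩
  have K1 : (1 : X) ∉ K := by
    subst hK
    rintro ⟨g, e⟩
    exact z1 (by simpa using e)
  have A : (∃ p ∈ P, p ∈ K) → ∀ p ∈ P, p ≠ 1 → p ∈ K := fun ⟨p, hp, hp'⟩ q hq hq' =>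
    (orb7' h.card hs (S := {p | (p ∈ P ∧ p ≠ 1) ∧ p ∈ K}) (fun _ h => h.1)
      (fun v hv => ⟨⟨h.inv v hv.1.1, fun h => hv.1.2 (by simpa using h)⟩, Kc s hv.2⟩) h.fpf
      ⟨p, ⟨hp, fun e => K1 (e ▸ hp')⟩, hp'⟩ q hq hq').2
  have B : (∃ p ∈ P, p ≠ 1 ∧ z * p ∈ K) → ∀ p ∈ P, z * p ∈ K := fun ⟨p, hp, hp1, hp'⟩ q hq => by
    by_cases hq' : q = 1
    · rwa [hq', mul_one]
    exact (orb7' h.card hs (S := {p | (p ∈ P ∧ p ≠ 1) ∧ z * p ∈ K}) (fun _ h => h.1)
      (fun v hv => ⟨⟨h.inv v hv.1.1, fun h => hv.1.2 (by simpa using h)⟩, by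
        have := Kc s hv.2
        rwa [← conj_mul, hsz] at this⟩) h.fpf ⟨p, ⟨hp, hp1⟩, hp'⟩ q hq hq').2
  by_cases a : ∃ p ∈ P, p ∈ K <;> by_cases c : ∃ p ∈ P, p ≠ 1 ∧ z * p ∈ K
  · exfalso
    have e : K = (W : Set X) \ {1} := by
      refine Set.Subset.antisymm ?_ ?_
      · intro y hy
        refine ⟨?_, fun e => K1 ((e : y = 1) ▸ hy)⟩
        subst hK
        obtain ⟨g, rfl⟩ := hy
        exact hW.conj_mem z hz g
      · rintro w ⟨hw, hw'⟩
        rcases mo hw with m | m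
        · exact A a w m hw'
        · simpa using B c _ m
    have := ncard_class z
    rw [← hK, e, Set.ncard_diff_singleton_of_mem (SetLike.mem_coe.2 W.one_mem), ← Mac.card_eq_ncard,
      h16] at this
    exact h5 (dvd_trans (this ▸ by norm_num) (centralizer {z}).index_dvd_card)
  · push Not at c
    have k : ∀ u ∈ P, u ≠ 1 → ∀ g, z⁻¹ * (g * (z * u) * g⁻¹) ∈ P := fun u hu hu' g => by
      refine (mo (hW.conj_mem _ (mul_mem hz (h.le hu)) g)).resolve_left fun m => ?_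
      refine c u hu hu' (Kc' g (A a _ m fun e => hzP ?_))
      have : z * u = 1 := by simpa using e
      rw [eq_inv_of_mul_eq_one_left this]
      exact inv_mem hu
    refine Or.inr ⟨fun p hp g => ?_⟩
    obtain ⟨u, hu, hu'⟩ : ∃ u ∈ P, u ∉ zpowers p := by
      by_contra hc
      push Not at hc
      have h1 := card_le_of_le (H := P) (K := zpowers p) hc
      have h2 := orderOf_le_of_pow_eq_one (x := p) two_pos (by rw [pow_two, h.el p hp])
      rw [h.card, Nat.card_zpowers] at h1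
      omega
    have := P.mul_mem (P.inv_mem (k u hu (fun e => hu' (e ▸ one_mem _)) g))
      (k _ (mul_mem hu hp) (fun e => hu' (by
        rw [eq_inv_of_mul_eq_one_left e]; exact inv_mem (mem_zpowers p))) g)
    convert this using 1
    group
  · push Not at a
    refine Or.inr ⟨fun p hp g => (mo (hW.conj_mem p (h.le hp) g)).resolve_right fun m => ?_⟩
    exact a p hp (Kc' g (by simpa using B c _ m))
  · push Not at a c
    refine Or.inl ⟨z, hz, hzP, fun g => ?_⟩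
    rcases mo (hW.conj_mem z hz g) with m | m
    · exact absurd (Kc g zK) (a _ m)
    · by_contra hc
      exact c _ m (fun e => hc (inv_mul_eq_one.1 e).symm) (by simpa using Kc g zK)

end H83.R4
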