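import Mathlib
import Cfsg.Agent.Lib.FGS83.R4K

/-!
Extensions of a 2-group by the simple group of order 168: the setting.
-/

set_option autoImplicit false

namespace H83.R4

open Subgroup

structure H7 {X G : Type*} [Group X] [Group G] (π : X →* G) (Q : Subgroup X) (s : X) : Prop where
  surj : Function.Surjective π
  ker : ∀ g, π g = 1 ↔ g ∈ Q
  simple : IsSimpleGroup G
  card : Nat.card G = 168
  perf : commutator G = ⊤
  two : IsPGroup 2 Q
  sr : SR 4 X
  s7 : s ^ 7 = 1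
  sQ : s ∉ Q

/-- Coordinates on a normal eight-group with kernel of the action `Q`. -/
structure Nt {X : Type*} [Group X] (Q : Subgroup X) (j : E →* X) (ψ : X →* MulAut E) : Prop where
  inj : Function.Injective j
  conj : ∀ g v, g * j v * g⁻¹ = j (ψ g v)
  surj : Function.Surjective ψ
  ker : ∀ g, ψ g = 1 ↔ g ∈ Q
  mem : ∀ v, j v ∈ Q

namespace H7

variable {X G : Type*} [Group X] [Group G] {π : X →* G} {Q : Subgroup X} {s : X} (h : H7 π Q s)
include h

theorem ker_eq : π.ker = Q := Subgroup.ext h.ker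

theorem normal : Q.Normal := h.ker_eq ▸ inferInstance

theorem top {L : Subgroup X} (hL : L.Normal) (hQ : Q ≤ L) {x : X} (hx : x ∈ L) (hx' : x ∉ Q) (g : X) :
    g ∈ L := by
  haveI := h.simple
  rcases (hL.map π h.surj).eq_bot_or_eq_top with e | e
  · exact absurd ((h.ker x).1 (mem_bot.1 (e ▸ mem_map_of_mem π hx))) hx'
  · rw [← comap_map_eq_self (f := π) (H := L) (h.ker_eq ▸ hQ), e]
    trivial

theorem exists_comm (g : X) : ∃ x ∈ commutator X, π x = π g := by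
  have : π g ∈ (commutator X).map π := by
    rw [commutator_def, map_commutator, map_top_of_surjective _ h.surj, ← commutator_def, h.perf]
    trivial
  exact this

theorem mem_comm : s ∈ commutator X := by
  obtain ⟨x, hx, e⟩ := h.exists_comm s
  obtain ⟨k, hk⟩ := h.two ⟨x⁻¹ * s, (h.ker _).1 (by rw [map_mul, map_inv, e, inv_mul_cancel])⟩
  have hk : (x⁻¹ * s) ^ 2 ^ k = 1 := congrArg Subtype.val hk
  rw [← Abelianization.ker_of] at hx ⊢
  have h1 := congrArg Abelianization.of hk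
  have h2 := congrArg Abelianization.of h.s7
  rw [map_pow, map_mul, map_inv, (hx : Abelianization.of x = 1), inv_one, one_mul, map_one] at h1
  rw [map_pow, map_one] at h2
  exact orderOf_eq_one_iff.1 (Nat.eq_one_of_dvd_coprimes
    (Nat.Coprime.pow_left k (by norm_num : Nat.Coprime 2 7)) (orderOf_dvd_of_pow_eq_one h1)
    (orderOf_dvd_of_pow_eq_one h2))

theorem quot (N : Subgroup X) [N.Normal] (hN : N ≤ Q) :
    H7 (QuotientGroup.lift N π fun x hx => (h.ker x).2 (hN hx)) (Q.map (QuotientGroup.mk' N))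
      (QuotientGroup.mk' N s) := by
  have k : ∀ g, QuotientGroup.mk' N g ∈ Q.map (QuotientGroup.mk' N) ↔ g ∈ Q := fun g => by
    rw [← mem_comap, comap_map_eq_self (by rwa [QuotientGroup.ker_mk'])]
  refine ⟨fun a => ?_, fun g => ?_, h.simple, h.card, h.perf, h.two.map _, h.sr.quotient N,
    by rw [← map_pow, h.s7, map_one], fun e => h.sQ ((k s).1 e)⟩
  · obtain ⟨g, rfl⟩ := h.surj a
    exact ⟨QuotientGroup.mk g, rfl⟩
  · obtain ⟨g, rfl⟩ := QuotientGroup.mk'_surjective N g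
    rw [k]
    exact h.ker g

theorem sub (Y : Subgroup X) [hY : Y.Normal] (hs : s ∈ Y) :
    H7 (π.comp Y.subtype) (Q.subgroupOf Y) ⟨s, hs⟩ := by
  haveI := h.simple
  refine ⟨fun a => ?_, fun g => h.ker g, h.simple, h.card, h.perf, h.two.comap_subtype, h.sr.subgroup Y,
    Subtype.ext h.s7, h.sQ⟩
  rcases (hY.map π h.surj).eq_bot_or_eq_top with e | e
  · exact absurd ((h.ker s).1 (mem_bot.1 (e ▸ mem_map_of_mem π hs))) h.sQ
  · obtain ⟨g, hg, rfl⟩ : a ∈ Y.map π := e ▸ mem_top a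
    exact ⟨⟨g, hg⟩, rfl⟩

variable [Finite X]

theorem index_eq : Q.index = 168 := by
  rw [← h.ker_eq, index_ker, MonoidHom.range_eq_top.2 h.surj, card_top, h.card]

theorem not_five : ¬ 5 ∣ Nat.card X := by
  obtain ⟨k, hk⟩ := h.two.exists_card_eq
  rw [← Q.card_mul_index, hk, h.index_eq]
  intro e
  rcases (Nat.Prime.dvd_mul (by norm_num)).1 e with e | e
  · exact absurd (Nat.Prime.dvd_of_dvd_pow (by norm_num) e) (by norm_num)
  · omega

theorem nofix {M : Subgroup X} [hM : M.Normal] (h8 : Nat.card M = 8)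
    (fpf : ∀ m ∈ M, s * m * s⁻¹ = m → m = 1) {c : X} (hc : ∀ g, c⁻¹ * (g * c * g⁻¹) ∈ M)
    (hQ : ∀ u ∈ Q, u * c = c * u) (hn : ∀ m ∈ M, ∃ g, g * (c * m) * g⁻¹ ≠ c * m) {t : X}
    (ht : t * t ∈ Q) (e : t * c * t⁻¹ = c) : t ∈ Q := by
  obtain ⟨T, hT⟩ : ∃ T, T = {x | c⁻¹ * x ∈ M} := ⟨_, rfl⟩
  have T8 : T.ncard = 8 := by
    rw [← h8, Mac.card_eq_ncard, hT]
    exact Set.ncard_preimage_of_injective_subset_range (mul_right_injective _)
      fun m _ => ⟨c * m, inv_mul_cancel_left c m⟩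
  have Tc : ∀ g, ∀ x ∈ T, g * x * g⁻¹ ∈ T := by
    subst hT
    intro g x hx
    have := M.mul_mem (hc g) (hM.conj_mem _ hx g)
    show _ ∈ M
    convert this using 1
    group
  obtain ⟨d, hd, sd⟩ : {x | x ∈ T ∧ s * x * s⁻¹ = x}.Nonempty := by
    have := ncard7 h.s7 T (Tc s)
    rw [Set.nonempty_iff_ne_empty]
    intro e
    rw [e, T8] at this
    simp [Nat.ModEq] at this
  obtain ⟨K, hK⟩ : ∃ K, K = {y | ∃ g, g * d * g⁻¹ = y} := ⟨_, rfl⟩
  have KT : K ⊆ T := by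
    subst hK
    rintro _ ⟨g, rfl⟩
    exact Tc g d hd
  have k1 := ncard7 h.s7 K (by
    subst hK
    rintro _ ⟨g, rfl⟩
    exact ⟨s * g, by group⟩)
  rw [show {x | x ∈ K ∧ s * x * s⁻¹ = x} = {d} from by
    refine Set.eq_singleton_iff_unique_mem.2 ⟨⟨hK ▸ ⟨1, by simp⟩, sd⟩, fun x hx => ?_⟩
    have m : d⁻¹ * x ∈ M := by
      have := KT hx.1
      subst hT
      simpa using M.mul_mem (M.inv_mem hd) this
    exact (inv_mul_eq_one.1 (fpf _ m (by rw [← conj_mul, ← conj_inv, sd, hx.2]))).symm,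
    Set.ncard_singleton] at k1
  have k2 : 1 < K.ncard := by
    obtain ⟨g, hg⟩ := hn _ (by simpa [hT] using hd : c⁻¹ * d ∈ M)
    rw [mul_inv_cancel_left] at hg
    exact (Set.one_lt_ncard (Set.toFinite K)).2 ⟨_, hK ▸ ⟨g, rfl⟩, d, hK ▸ ⟨1, by simp⟩, hg⟩
  have k3 := Set.ncard_le_ncard KT
  have k8 : K.ncard = 8 := by unfold Nat.ModEq at k1; omega
  obtain ⟨a, ha⟩ : ∃ a, a * d * a⁻¹ = c := by
    have : c ∈ K := Set.eq_of_subset_of_ncard_le KT (by omega) ▸ (by simp [hT])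
    rwa [hK] at this
  have i8 : (centralizer ({c} : Set X)).index = 8 := by
    rw [← ncard_class, ← k8, hK]
    congr 1
    ext y
    exact ⟨fun ⟨g, e⟩ => ⟨g * a, by rw [← e, ← ha]; group⟩, fun ⟨g, e⟩ => ⟨g * a⁻¹, by rw [← e, ← ha]; group⟩⟩
  have i9 := ((centralizer ({c} : Set X)).map π).index_mul_card
  rw [index_map_eq _ h.surj (h.ker_eq ▸ fun u hu => mem_centralizer_singleton_iff.2 (hQ u hu)), i8,
    h.card] at i9
  have o1 := H1.orderOf_dvd_card_of_mem (mem_map_of_mem π (mem_centralizer_singleton_iff.2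
    (mul_inv_eq_iff_eq_mul.1 e)))
  rw [show Nat.card ↥((centralizer ({c} : Set X)).map π) = 21 by omega] at o1
  have o2 : orderOf (π t) ∣ 2 := orderOf_dvd_of_pow_eq_one (by rw [pow_two, ← map_mul, (h.ker _).2 ht])
  exact (h.ker t).1 (orderOf_eq_one_iff.1 (Nat.eq_one_of_dvd_coprimes (by norm_num) o1 o2))

theorem nat {M : Subgroup X} [hM : M.Normal] (hMQ : M ≤ Q) (h8 : Nat.card M = 8)
    (el : ∀ m ∈ M, m * m = 1) (hc : ∀ m ∈ M, ∀ u ∈ Q, u * m = m * u) {x : X} (hx : x ∈ M)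
    (hne : s * x * s⁻¹ ≠ x) : ∃ j ψ, Nt Q j ψ ∧ ∀ m, m ∈ M ↔ ∃ v, j v = m := by
  obtain ⟨e⟩ := exists_equiv_E (W := M) (fun m => Subtype.ext (el m m.2)) h8
  let ψ : X →* MulAut E := (MulAut.congr e.symm).toMonoidHom.comp MulAut.conjNormal
  have cj : ∀ g v, g * (e v : X) * g⁻¹ = e (ψ g v) := fun g v => by simp [ψ]
  have k1 : Q ≤ ψ.ker := fun u hu => MulEquiv.ext fun v => e.injective (Subtype.ext (by
    rw [← cj, hc _ (e v).2 u hu]; simp))
  have k2 : ∀ g, ψ g = 1 ↔ g ∈ Q := fun g => ⟨fun hg => by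
    by_contra hg'
    have := cj s (e.symm ⟨x, hx⟩)
    rw [(h.top inferInstance k1 hg hg' s : ψ s = 1)] at this
    exact hne (by simpa using this), fun hg => k1 hg⟩
  refine ⟨M.subtype.comp e.toMonoidHom, ψ, ⟨M.subtype_injective.comp e.injective, cj, ?_, k2,
    fun v => hMQ (e v).2⟩, fun m => ⟨fun hm => ⟨e.symm ⟨m, hm⟩, by simp⟩, ?_⟩⟩
  · rw [← MonoidHom.range_eq_top, ← card_eq_iff_eq_top, card_autE, ← index_ker,
      show ψ.ker = Q from Subgroup.ext k2, h.index_eq]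
  · rintro ⟨v, rfl⟩
    exact (e v).2

end H7

end H83.R4
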