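import Mathlib
import Cfsg.Agent.Lib.FGS83.R4L

/-!
Two noncentral chief factors: the common structure.
-/

set_option autoImplicit false

namespace H83.R4

open Subgroup

variable {X : Type*} [Group X] {Q W : Subgroup X} {j : E →* X} {ψ : X →* MulAut E} {z : X}

theorem j_sq (j : E →* X) (v : E) : j v * j v = 1 := by rw [← map_mul, E_sq, map_one]

theorem j_inv (j : E →* X) (v : E) : (j v)⁻¹ = j v := inv_eq_of_mul_eq_one_left (j_sq j v)

namespace Nt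

variable (h : Nt Q j ψ)
include h

theorem normal : Q.Normal := (show ψ.ker = Q from Subgroup.ext h.ker) ▸ inferInstance

theorem jq {u : X} (hu : u ∈ Q) (v : E) : u * j v * u⁻¹ = j v := by
  rw [h.conj, (h.ker u).2 hu, MulAut.one_apply]

theorem jc {u : X} (hu : u ∈ Q) (v : E) : u * j v = j v * u := mul_inv_eq_iff_eq_mul.1 (h.jq hu v)

theorem sq_conj {x : X} {u : E} (e : x * x = j u) (g : X) :
    g * x * g⁻¹ * (g * x * g⁻¹) = j (ψ g u) := by rw [conj_mul, e, h.conj]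

theorem lift1 {u : E} (hu : u ≠ 1) : ∃ g, ψ g e1 = u := by
  obtain ⟨v, w, hi⟩ := (by decide +kernel : ∀ u : E, u ≠ 1 → ∃ v w, Function.Injective (lf u v w)) u hu
  obtain ⟨g, hg⟩ := exists_lift h.surj hi
  exact ⟨g, (hg e1).trans ((by decide +kernel : ∀ u v w : E, lf u v w e1 = u) u v w)⟩

theorem lift2 {u v : E} (hu : u ≠ 1) (hv : v ≠ 1) (huv : u ≠ v) : ∃ g, ψ g e1 = u ∧ ψ g e2 = v := by
  obtain ⟨w, hi⟩ := (by decide +kernel :
    ∀ u v : E, u ≠ 1 → v ≠ 1 → u ≠ v → ∃ w, Function.Injective (lf u v w)) u v hu hv huv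
  obtain ⟨g, hg⟩ := exists_lift h.surj hi
  exact ⟨g, (hg e1).trans ((by decide +kernel : ∀ u v w : E, lf u v w e1 = u) u v w),
    (hg e2).trans ((by decide +kernel : ∀ u v w : E, lf u v w e2 = v) u v w)⟩

end Nt

structure ZZ (Q W : Subgroup X) (j : E →* X) (ψ : X →* MulAut E) (z : X) : Prop extends Nt Q j ψ where
  nrm : W.Normal
  le : W ≤ Q
  jW : ∀ v, j v ∈ W
  sq : ∀ w ∈ W, ∃ v, w * w = j v
  cm : ∀ u ∈ Q, ∀ w ∈ W, ∃ v, b u w = j v
  tp : ∀ g, ∀ u ∈ Q, b g u ∈ W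
  onto : ∀ v, ∃ w ∈ W, w * w = j v
  qi : ∀ x ∈ W, ∀ y ∈ W, x * x = y * y → ∃ v, y = x * j v ∨ y = x * (z * j v)
  zW : z ∈ W
  zc : ∀ w ∈ W, w * z = z * w
  z2 : z * z = 1
  zg : ∀ g, ∃ v, g * z * g⁻¹ = z * j v
  noc : ∀ d ∈ Q, (∀ g, g * d * g⁻¹ = d) → d = 1

namespace ZZ

variable (h : ZZ Q W j ψ z)
include h

theorem cj (g : X) {w : X} (hw : w ∈ W) : g * w * g⁻¹ ∈ W := h.nrm.conj_mem w hw g

theorem qi' {x y : X} (hx : x ∈ W) (hy : y ∈ W) (e : x * x = y * y) :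
    ∃ n ∈ W, y = x * n ∧ n * n = 1 ∧ ∀ u ∈ Q, u * z = z * u → u * n = n * u := by
  obtain ⟨v, e | e⟩ := h.qi x hx y hy e
  · exact ⟨_, h.jW v, e, j_sq j v, fun u hu _ => h.jc hu v⟩
  · refine ⟨_, mul_mem h.zW (h.jW v), e, ?_, fun u hu e => ?_⟩
    · rw [mul_assoc, ← mul_assoc (j v), h.zc _ (h.jW v), mul_assoc, j_sq, mul_one, h.z2]
    · rw [← mul_assoc, e, mul_assoc, h.jc hu, mul_assoc]

theorem qi1 {x y : X} (hx : x ∈ W) (hy : y ∈ W) (e : x * x = y * y) :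
    ∃ n ∈ W, y = x * n ∧ n * n = 1 ∧ ∀ u ∈ W, u * n = n * u := by
  obtain ⟨n, h1, h2, h3, h4⟩ := h.qi' hx hy e
  exact ⟨n, h1, h2, h3, fun u hu => h4 u (h.le hu) (h.zc u hu)⟩

theorem c2 : C2 W j.range :=
  ⟨by rintro _ ⟨v, rfl⟩; exact h.jW v, fun x hx => (h.sq x hx).imp fun _ e => e.symm,
    by rintro _ ⟨v, rfl⟩ x hx; exact h.jc (h.le hx) v, by rintro _ ⟨v, rfl⟩; exact j_sq j v⟩

theorem j_ne {u v : E} (huv : u ≠ v) : j u ≠ j v := h.inj.ne huv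

theorem abel0 {x y : X} (hx : x ∈ W) (hy : y ∈ W) (ex : x * x = j e1) (ey : y * y = j e2) :
    x * y = y * x := by
  obtain ⟨t, it⟩ := exists_lift h.surj (u := e1) (v := e2) (w := e1 * e3) (by decide +kernel)
  obtain ⟨n, hn, en, -, cn⟩ := h.qi1 hx (h.cj t hx) (by
    rw [h.sq_conj ex, it, ex]; congr 1; decide +kernel)
  obtain ⟨n', hn', en', -, cn'⟩ := h.qi1 hy (h.cj t hy) (by
    rw [h.sq_conj ey, it, ey]; congr 1; decide +kernel)
  obtain ⟨w, hw⟩ := h.cm x (h.le hx) y hy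
  have e1' : b (x * n) (y * n') = b x y := by
    rw [h.c2.b_mul_left hx hn (mul_mem hy hn'), h.c2.b_mul_right hx hy hn',
      b_eq_one_iff.2 (cn _ (mul_mem hy hn')).symm, b_eq_one_iff.2 (cn' x hx), mul_one, mul_one]
  rw [← en, ← en', b_conj, hw, h.conj, it] at e1'
  have q := h.c2.q_mul hx hy
  rw [ex, ey, hw, ← map_mul, ← map_mul] at q
  have hxy := mul_mem hx hy
  rcases (by decide +kernel : ∀ w : E, lf e1 e2 (e1 * e3) w = w → w = 1 ∨ w = e1 ∨ w = e2 ∨ w = e1 * e2)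
    w (h.inj e1') with rfl | rfl | rfl | rfl
  · exact b_eq_one_iff.1 (hw.trans (map_one j))
  · obtain ⟨m, -, em, m2, cm⟩ := h.qi1 hy hxy (by rw [q, ey]; congr 1; decide +kernel)
    rw [cm y hy, mul_left_inj] at em
    rw [em, m2, ← map_one j] at ex
    exact absurd ex (h.j_ne (by decide +kernel))
  · obtain ⟨m, -, em, m2, cm⟩ := h.qi1 hx hxy (by rw [q, ex]; congr 1; decide +kernel)
    rw [mul_right_inj] at em
    rw [em, m2, ← map_one j] at ey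
    exact absurd ey (h.j_ne (by decide +kernel))
  · obtain ⟨m, -, em, m2, cm⟩ := h.qi1 (one_mem W) hxy (by
      rw [q, one_mul, ← map_one j]; congr 1; decide +kernel)
    rw [one_mul, ← eq_inv_mul_iff_mul_eq] at em
    have : y * y = (x * x)⁻¹ := by
      rw [em, mul_assoc, ← mul_assoc m, ← cm _ (inv_mem hx), mul_assoc, m2]; group
    rw [ex, ey, j_inv] at this
    exact absurd this (h.j_ne (by decide +kernel))

theorem abel {x y : X} (hx : x ∈ W) (hy : y ∈ W) : x * y = y * x := by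
  obtain ⟨u, hu⟩ := h.sq x hx
  obtain ⟨v, hv⟩ := h.sq y hy
  by_cases u1 : u = 1
  · obtain ⟨m, -, em, -, cm⟩ := h.qi1 (one_mem W) hx (by rw [hu, u1, map_one, one_mul])
    rw [em, one_mul, cm y hy]
  by_cases v1 : v = 1
  · obtain ⟨m, -, em, -, cm⟩ := h.qi1 (one_mem W) hy (by rw [hv, v1, map_one, one_mul])
    rw [em, one_mul, cm x hx]
  by_cases uv : u = v
  · obtain ⟨m, -, em, -, cm⟩ := h.qi1 hx hy (by rw [hu, hv, uv])
    rw [em, mul_assoc, ← cm x hx]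
  obtain ⟨g, g1, g2⟩ := h.lift2 u1 v1 uv
  have := h.abel0 (h.cj g⁻¹ hx) (h.cj g⁻¹ hy) (by rw [h.sq_conj hu, ← g1]; simp)
    (by rw [h.sq_conj hv, ← g2]; simp)
  rw [conj_mul, conj_mul] at this
  simpa using this

theorem fixW {u w : X} (hu : u ∈ W) (hw : w ∈ W) : u * w * u⁻¹ = w := by
  rw [h.abel hu hw, mul_inv_cancel_right]

theorem eqv {c : X} (hc : c ∈ Q) (g : X) {w : X} (hw : w ∈ W) :
    g * (c * w * c⁻¹) * g⁻¹ = c * (g * w * g⁻¹) * c⁻¹ := by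
  conv_rhs => rw [← h.fixW (h.tp g⁻¹ _ (inv_mem hc)) hw]
  simp only [b]
  group

theorem zQ {c : X} (hc : c ∈ Q) : c * z = z * c := by
  obtain ⟨v, hv⟩ := h.cm c hc z h.zW
  have e : c * z * c⁻¹ = j v * z := by rw [← hv]; simp [b]
  rw [← b_eq_one_iff, hv]
  refine h.noc _ (h.mem v) fun g => ?_
  obtain ⟨u, hu⟩ := h.zg g
  have := h.eqv hc g h.zW
  rw [hu, e, ← conj_mul, ← conj_mul, hu, e, h.jq hc, mul_assoc (j v)] at this
  exact mul_right_cancel this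

theorem qi2 {x y : X} (hx : x ∈ W) (hy : y ∈ W) (e : x * x = y * y) :
    ∃ n ∈ W, y = x * n ∧ n * n = 1 ∧ ∀ u ∈ Q, u * n * u⁻¹ = n := by
  obtain ⟨n, h1, h2, h3, h4⟩ := h.qi' hx hy e
  exact ⟨n, h1, h2, h3, fun u hu => mul_inv_eq_iff_eq_mul.2 (h4 u hu (h.zQ hu))⟩

theorem inv_or {c : X} (hc : c ∈ Q) :
    (∀ w ∈ W, c * w * c⁻¹ = w) ∨ ∀ w ∈ W, c * w * c⁻¹ = w⁻¹ := by
  obtain ⟨x, hx, ex⟩ := h.onto e1
  obtain ⟨g, ig⟩ := exists_lift h.surj (u := e1) (v := e3) (w := e2 * e3) (by decide +kernel)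
  obtain ⟨v, hv⟩ := h.cm c hc x hx
  have e : c * x * c⁻¹ = j v * x := by rw [← hv]; simp [b]
  obtain ⟨n, hn, en, -, cn⟩ := h.qi2 hx (h.cj g hx) (by
    rw [h.sq_conj ex, ig, ex]; congr 1; decide +kernel)
  have := h.eqv hc g hx
  rw [e, ← conj_mul, en, ← conj_mul, e, cn c hc, h.conj, ig, mul_assoc (j v)] at this
  have k : ∀ w ∈ W, ∃ n ∈ W, n * n = 1 ∧ c * n * c⁻¹ = n ∧ (w = n ∨ ∃ a, w = a * x * a⁻¹ * n) := by
    intro w hw
    obtain ⟨u, hu⟩ := h.sq w hw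
    by_cases u1 : u = 1
    · obtain ⟨m, hm, em, m2, cm⟩ := h.qi2 (one_mem W) hw (by rw [hu, u1, map_one, one_mul])
      exact ⟨m, hm, m2, cm c hc, Or.inl (em.trans (one_mul m))⟩
    · obtain ⟨a, ha⟩ := h.lift1 u1
      obtain ⟨m, hm, em, m2, cm⟩ := h.qi2 (h.cj a hx) hw (by rw [h.sq_conj ex, ha, hu])
      exact ⟨m, hm, m2, cm c hc, Or.inr ⟨a, em⟩⟩
  rcases (by decide +kernel : ∀ w : E, lf e1 e3 (e2 * e3) w = w → w = 1 ∨ w = e1) v
    (h.inj (mul_right_cancel this)) with rfl | rfl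
  · rw [map_one, one_mul] at e
    refine Or.inl fun w hw => ?_
    obtain ⟨n, -, -, cn, rfl | ⟨a, rfl⟩⟩ := k w hw
    · exact cn
    · rw [← conj_mul, ← h.eqv hc a hx, e, cn]
  · have e' : c * x * c⁻¹ = x⁻¹ := by
      rw [e]
      exact eq_inv_of_mul_eq_one_left (by rw [mul_assoc, ex, j_sq])
    refine Or.inr fun w hw => ?_
    obtain ⟨n, hn, n2, cn, rfl | ⟨a, rfl⟩⟩ := k w hw
    · rw [cn, eq_inv_iff_mul_eq_one, n2]
    · rw [← conj_mul, ← h.eqv hc a hx, e', cn, mul_inv_rev (a * x * a⁻¹),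
        inv_eq_of_mul_eq_one_left n2, h.abel (h.cj a (inv_mem hx)) hn]
      group

theorem sq_one {c : X} (hc : c ∈ Q) (hi : ∀ w ∈ W, c * w * c⁻¹ = w⁻¹) : c * c = 1 := by
  refine h.noc _ (mul_mem hc hc) fun g => ?_
  calc _ = b g c * (c * b g c * c⁻¹) * (c * c) := by simp only [b]; group
    _ = _ := by rw [hi _ (h.tp g c hc)]; group

end ZZ

end H83.R4
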