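import Mathlib
import Cfsg.Agent.Lib.FGS83.R4M

/-!
Two noncentral chief factors: the case of an extra central factor.
-/

set_option autoImplicit false

namespace H83.R4

open Subgroup

variable {X G : Type*} [Group X] [Group G] {π : X →* G} {Q W : Subgroup X} {j : E →* X}
  {ψ : X →* MulAut E} {z s : X}

namespace Nt

variable (h : Nt Q j ψ)
include h

theorem range_normal : j.range.Normal := ⟨by rintro _ ⟨v, rfl⟩ g; exact ⟨_, (h.conj g v).symm⟩⟩

theorem card_range : Nat.card j.range = 8 :=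
  (Nat.card_congr (MonoidHom.ofInjective h.inj).toEquiv).symm.trans card_E

theorem range_le : j.range ≤ Q := by rintro _ ⟨v, rfl⟩; exact h.mem v

variable [Finite X] (H : H7 π Q s)
include H

theorem fpf : ∀ m ∈ j.range, s * m * s⁻¹ = m → m = 1 := by
  haveI : Fact (Nat.Prime 7) := ⟨by norm_num⟩
  obtain ⟨v, hv⟩ : ∃ v, s * j v * s⁻¹ ≠ j v := by
    by_contra hc
    push Not at hc
    exact H.sQ (mem_of_one h.ker fun v => h.inj (by rw [← h.conj, hc]))
  obtain ⟨a, c, ha, hc, h1, -⟩ := exists_exps (H.two.to_le h.range_le) (by rw [h.card_range]; norm_num)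
    (⟨v, rfl⟩ : j v ∈ j.range) hv
  have m := card_modEq H.s7 (H := j.range) fun x hx => h.range_normal.conj_mem x hx s
  rw [ha, hc] at m
  have m := pow_mod7 m
  obtain rfl : a = 3 := Nat.pow_right_injective le_rfl (ha.symm.trans h.card_range)
  obtain rfl : c = 0 := by omega
  exact fun m hm e => mem_bot.1 (card_eq_one.1 hc ▸ (⟨hm, mem_cent_iff.2 e⟩ : m ∈ j.range ⊓ centralizer {s}))

theorem nofix (noc : ∀ d ∈ Q, (∀ g, g * d * g⁻¹ = d) → d = 1) {c : X} (hcQ : c ∈ Q)
    (hc : ∀ g, ∃ v, g * c * g⁻¹ = c * j v) (hQ : ∀ u ∈ Q, u * c = c * u) (hcM : c ∉ j.range) {t : X}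
    {v : E} (ht : t * t ∈ Q) (e : t * (c * j v) * t⁻¹ = c * j v) : t ∈ Q := by
  haveI := h.range_normal
  refine H.nofix h.card_range (h.fpf H) (fun g => ?_) (fun u hu => ?_) (fun m hm => ?_) ht e
  · obtain ⟨u, hu⟩ := hc g
    refine ⟨v⁻¹ * u * ψ g v, ?_⟩
    rw [← conj_mul, hu, h.conj, map_mul, map_mul, map_inv]
    group
  · rw [← mul_assoc, hQ u hu, mul_assoc, h.jc hu, mul_assoc]
  · by_contra hn
    push Not at hn
    have := noc _ (mul_mem (mul_mem hcQ (h.mem v)) (h.range_le hm)) hn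
    rw [mul_assoc] at this
    exact hcM (eq_inv_of_mul_eq_one_left this ▸ inv_mem (mul_mem ⟨v, rfl⟩ hm))

end Nt

theorem five_rank [Finite X] (h4 : SR 4 X) {H K : Subgroup X} (hK : K ≤ H) (hs : ∀ x ∈ H, x * x ∈ K) :
    Nat.card H ≤ Nat.card K * 16 := by
  rw [← H1.card_mul_relIndex_of_le hK]
  exact Nat.mul_le_mul_left _ (h4 H K hK hs)

theorem ZZ.caseB [Finite X] (h : ZZ Q W j ψ z) (H : H7 π Q s) (hz : z ∉ j.range)
    (hW : Nat.card W = 128) {y : X} (hy : y ∈ W) (ey : y * y = j e1) {g : X} (hg : ψ g e1 = e1) :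
    ∃ v, g * y * g⁻¹ = y * j v := by
  let K : Subgroup X :=
    { carrier := {g | ∃ v, g * y * g⁻¹ = y * j v}
      one_mem' := ⟨1, by simp⟩
      mul_mem' := by
        rintro a c ⟨u, hu⟩ ⟨v, hv⟩
        refine ⟨u * ψ a v, ?_⟩
        rw [map_mul, ← mul_assoc, ← hu, ← h.conj, conj_mul, ← hv]
        group
      inv_mem' := by
        rintro a ⟨u, hu⟩
        refine ⟨ψ a⁻¹ u⁻¹, ?_⟩
        rw [← h.conj, map_inv j]
        calc _ = a⁻¹ * (y * j u) * ((j u)⁻¹ * a) := by group
          _ = _ := by rw [← hu]; group }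
  have hQ : Q ≤ K := fun u hu => by
    obtain ⟨v, hv⟩ := h.cm u hu y hy
    exact ⟨v, by rw [h.jc (h.le hy), ← hv]; simp [b]⟩
  have alt : ∀ g, ψ g e1 = e1 → ∃ v, g * y * g⁻¹ = y * j v ∨ g * y * g⁻¹ = y * (z * j v) :=
    fun g hg => h.qi y hy _ (h.cj g hy) (by rw [h.sq_conj ey, hg, ey])
  obtain ⟨a, ia⟩ := exists_lift h.surj (u := e1) (v := e3) (w := e2 * e3) (by decide +kernel)
  obtain ⟨t, it⟩ := exists_lift h.surj (u := e1) (v := e2) (w := e1 * e2 * e3) (by decide +kernel)
  have a2 : a * a ∈ K := by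
    obtain ⟨v, e | e⟩ := alt a (by rw [ia]; decide +kernel)
    · exact K.mul_mem ⟨v, e⟩ ⟨v, e⟩
    · obtain ⟨u, hu⟩ := h.zg a
      refine ⟨v * u * ψ a v, ?_⟩
      calc _ = a * (a * y * a⁻¹) * a⁻¹ := by group
        _ = y * (z * (j v * z)) * j u * j (ψ a v) := by
          rw [e, ← conj_mul, ← conj_mul, e, hu, h.conj]; group
        _ = _ := by
          rw [h.zc _ (h.jW v), ← mul_assoc z, h.z2, map_mul, map_mul]; group
  obtain ⟨v, e | e⟩ := alt t (by rw [it]; decide +kernel)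
  · exact gen_S4 h.ker hQ (K.mul_mem a2 a2) (⟨v, e⟩ : t ∈ K) (fun x => by
      simp only [map_mul, MulAut.mul_apply, ia _]; revert x; decide +kernel) it hg
  exfalso
  have t2 : t * t ∈ Q := mem_of_one h.ker fun x => by
    simp only [map_mul, MulAut.mul_apply, it _]; revert x; decide +kernel
  rcases h.inv_or t2 with c | c
  · have e2 : t * (z * j v) * t⁻¹ = z * j v := by
      have := c y hy
      rw [show t * t * y * (t * t)⁻¹ = t * (t * y * t⁻¹) * t⁻¹ by group, e, ← conj_mul, e, mul_assoc,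
        mul_eq_left] at this
      rw [eq_inv_of_mul_eq_one_right this, mul_inv_rev, j_inv, inv_eq_of_mul_eq_one_left h.z2,
        h.zc _ (h.jW v)]
    have := it e3
    rw [(h.ker t).2 (h.nofix H h.noc (h.le h.zW) h.zg (fun u hu => h.zQ hu) hz t2 e2),
      MulAut.one_apply] at this
    exact absurd this (by decide +kernel)
  · have c2 := h.sq_one t2 c
    haveI := h.nrm
    have hn : t * t ∉ W := fun m => by
      have := c y hy
      rw [h.fixW m hy, eq_inv_iff_mul_eq_one, ey, ← map_one j] at this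
      exact absurd this (h.j_ne (by decide +kernel))
    have := five_rank H.sr (H := W ⊔ zpowers (t * t)) (K := j.range) (h.c2.le.trans le_sup_left) (by
      intro x hx
      obtain ⟨w, hw, i, rfl⟩ := (H5.mem_sup_zpowers_iff (mem_norm W _)).1 hx
      rcases mem_zpowers_two c2 (zpow_mem (mem_zpowers _) i) with e | e
      · rw [e, mul_one]; exact h.c2.sq w hw
      · rw [e, show w * (t * t) * (w * (t * t)) = w * (t * t * w * (t * t)⁻¹) * (t * t * (t * t)) by
          simp [mul_assoc], c w hw, c2]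
        simp)
    rw [H5.card_sup_zpowers Nat.prime_two (mem_norm W _) hn (by rw [pow_two, c2]; exact one_mem _), hW,
      h.card_range] at this
    omega

end H83.R4
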