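import Mathlib
import Cfsg.Agent.Lib.FGS83.R4N

/-!
Two noncentral chief factors: the homocyclic case.
-/

set_option autoImplicit false

namespace H83.R4

open Subgroup

variable {X G : Type*} [Group X] [Group G] {π : X →* G} {Q W : Subgroup X} {j : E →* X}
  {ψ : X →* MulAut E} {z s : X}

/-- The stabiliser of a vector. -/
def stb (ψ : X →* MulAut E) (v : E) : Subgroup X := (MulAction.stabilizer (MulAut E) v).comap ψ

theorem mem_stb {v : E} {g : X} : g ∈ stb ψ v ↔ ψ g v = v := Iff.rfl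

theorem cmul (g x y : X) : g * (x * y) * g⁻¹ = g * x * g⁻¹ * (g * y * g⁻¹) := conj_mul.symm

theorem big [Finite X] (hk : ∀ g, ψ g = 1 ↔ g ∈ Q) {K H : Subgroup X} (hK : K ≤ H ⊓ Q) {n r t : X}
    (hn : n ∈ H) (hnQ : n ∈ Q) (hnK : n ∉ K) (hr : r ∈ H) (ht : t ∈ H) (ir : Is (ψ r) e1 e2 (e1 * e3))
    (it : Is (ψ t) e1 (e1 * e2) e3) : Nat.card K * 8 ≤ Nat.card H := by
  have l : H ⊓ Q ≤ H ⊓ stb ψ e2 := inf_le_inf_left _ fun u hu => by rw [mem_stb, (hk u).2 hu]; rfl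
  rw [← H1.card_mul_relIndex_of_le (hK.trans inf_le_left)]
  refine Nat.mul_le_mul_left _ (eight_le_relIndex hK l inf_le_left (fun e => hnK (e ⟨hn, hnQ⟩))
    (fun e => ?_) fun e => ?_)
  · have := ir e3
    rw [(hk r).2 (e ⟨hr, mem_stb.2 (by rw [ir]; decide +kernel)⟩).2, MulAut.one_apply] at this
    exact absurd this (by decide +kernel)
  · have := mem_stb.1 (e ht).2
    rw [it] at this
    exact absurd this (by decide +kernel)

theorem ZZ.sqm (h : ZZ Q W j ψ z) {x y : X} {u v : E} (hx : x ∈ W) (hy : y ∈ W) (ex : x * x = j u)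
    (ey : y * y = j v) : x * y * (x * y) = j (u * v) := by
  rw [h.c2.q_mul hx hy, b_eq_one_iff.2 (h.abel hx hy), ex, ey, mul_one, map_mul]

theorem ZZ.sqi (h : ZZ Q W j ψ z) {x : X} {u : E} (hx : x ∈ W) (ex : x * x = j u) :
    x⁻¹ * x⁻¹ = j u := by rw [h.c2.q_inv hx, ex]

namespace ZZ

variable (h : ZZ Q W j ψ 1)
include h

theorem qa {x y : X} (hx : x ∈ W) (hy : y ∈ W) (e : x * x = y * y) : ∃ v, y = x * j v := by
  simpa using h.qi x hx y hy e

theorem qa1 {y : X} (hy : y ∈ W) (e : y * y = 1) : ∃ v, y = j v := by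
  simpa using h.qa (one_mem W) hy (by rw [e, one_mul])

theorem centQ [Finite X] (H : H7 π Q s) (hp : ∀ x, x ∈ commutator X) :
    (∀ u ∈ Q, ∀ w ∈ W, u * w * u⁻¹ = w) ∧ ∃ κ, Is (ψ κ) e1 e2 (e1 * e3) ∧ κ * κ * (κ * κ) ∈ W ∧
      ∀ u ∈ Q, u ∈ W ∨ u⁻¹ * (κ * κ) ∈ W := by
  haveI := h.nrm
  obtain ⟨κ, iκ, k4, hκ⟩ := tr h.surj h.ker H.two h.le fun u hu g => h.tp g u hu
  refine ⟨fun u hu w hw => ?_, κ, iκ, k4, fun u hu => hκ u hu (hp u)⟩
  rcases hκ u hu (hp u) with m | m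
  · exact h.fixW m hw
  rcases h.inv_or (c := κ * κ) (mem_of_one h.ker fun x => by
    simp only [map_mul, MulAut.mul_apply, iκ _]; revert x; decide +kernel) with c | c
  · calc _ = u * (u⁻¹ * (κ * κ) * w * (u⁻¹ * (κ * κ))⁻¹) * u⁻¹ := by rw [h.fixW m hw]
      _ = κ * κ * w * (κ * κ)⁻¹ := by group
      _ = w := c w hw
  · exfalso
    obtain ⟨y, hy, ey⟩ := h.onto e2
    obtain ⟨v, hv⟩ := h.qa hy (h.cj κ hy) (by rw [h.sq_conj ey, iκ, ey]; congr 1; decide +kernel)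
    have := c y hy
    rw [show κ * κ * y * (κ * κ)⁻¹ = κ * (κ * y * κ⁻¹) * κ⁻¹ by group, hv, ← conj_mul, hv, h.conj, iκ,
      eq_inv_iff_mul_eq_one, mul_assoc, mul_assoc, ← h.jc (h.le hy), ← mul_assoc (j v),
      ← h.jc (h.le hy), ← mul_assoc, ← mul_assoc, ey, ← map_mul, ← map_mul, ← map_one j] at this
    exact (by decide +kernel : ∀ v : E, e2 * v * lf e1 e2 (e1 * e3) v ≠ 1) v (h.inj this)

variable (hc : ∀ u ∈ Q, ∀ w ∈ W, u * w * u⁻¹ = w)
include hc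

theorem act {g g' : X} (e : ∀ v, ψ g v = ψ g' v) {w : X} (hw : w ∈ W) :
    g * w * g⁻¹ = g' * w * g'⁻¹ := by
  conv_rhs => rw [← hc _ (mem_of_eq' h.ker e) w hw]
  group

theorem fix_n {t x : X} (it : Is (ψ t) e1 e2 (e1 * e3)) (hx : x ∈ W) :
    t * (x * (t * x * t⁻¹)) * t⁻¹ = x * (t * x * t⁻¹) := by
  rw [← conj_mul, show t * (t * x * t⁻¹) * t⁻¹ = t * t * x * (t * t)⁻¹ by group, hc (t * t) (mem_of_one h.ker
    fun x => by simp only [map_mul, MulAut.mul_apply, it _]; revert x; decide +kernel) x hx,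
    h.abel hx (h.cj t hx)]

theorem tA {t a : X} (it : Is (ψ t) e1 e2 (e1 * e3)) (ha : a ∈ W) (ea : a * a = 1 ∨ a * a = j e1) :
    t * a * t⁻¹ = a ∨ t * a * t⁻¹ = a * j e1 := by
  have k : ∀ v, t * j v * t⁻¹ = j v ∨ t * j v * t⁻¹ = j v * j e1 := fun v => by
    rw [h.conj, it, ← map_mul]
    exact ((by decide +kernel : ∀ v : E, lf e1 e2 (e1 * e3) v = v ∨ lf e1 e2 (e1 * e3) v = v * e1)
      v).imp (congrArg j) (congrArg j)
  rcases ea with ea | ea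
  · obtain ⟨v, rfl⟩ := h.qa1 ha ea
    exact k v
  · obtain ⟨x, hx, ex⟩ := h.onto e3
    obtain ⟨v, rfl⟩ := h.qa (mul_mem hx (h.cj t hx)) ha (by
      rw [h.sqm hx (h.cj t hx) ex (h.sq_conj ex t), it, ea]; congr 1; decide +kernel)
    rw [cmul t _ (j v), h.fix_n hc it hx, mul_assoc (x * _) (j v)]
    exact (k v).imp (congrArg _) (congrArg _)

theorem tT {t y : X} (it : Is (ψ t) e1 e2 (e1 * e3)) (hy : y ∈ W) (ey : y * y = j e2) :
    y * (t * y * t⁻¹) = 1 ∨ y * (t * y * t⁻¹) = j e1 := by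
  obtain ⟨g, ig⟩ := exists_lift h.surj (u := e1) (v := e1 * e2) (w := e2 * e3) (by decide +kernel)
  obtain ⟨w, hw, ew⟩ := h.onto e3
  have m := mul_mem hw (h.cj g hw)
  have e0 : w * (g * w * g⁻¹) * (w * (g * w * g⁻¹)) = j e2 := by
    rw [h.sqm hw (h.cj g hw) ew (h.sq_conj ew g), ig]; congr 1; decide +kernel
  have gt : ∀ {x}, x ∈ W → g * (g * x * g⁻¹) * g⁻¹ = t * x * t⁻¹ := fun {x} hx => by
    rw [← h.act hc (g := g * g) (g' := t) (fun x => by
      simp only [map_mul, MulAut.mul_apply, it _, ig _]; revert x; decide +kernel) hx]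
    group
  obtain ⟨v, hv⟩ := h.qa1 (mul_mem m (h.cj t m)) (by
    rw [h.sqm m (h.cj t m) e0 (h.sq_conj e0 t), it, ← map_one j]; congr 1; decide +kernel)
  have fx : g * j v * g⁻¹ = j v := by
    have e4 : g * (t * (g * w * g⁻¹) * t⁻¹) * g⁻¹ = w := by
      conv_rhs => rw [← hc (g * t * g) (mem_of_one h.ker fun x => by
        simp only [map_mul, MulAut.mul_apply, it _, ig _]; revert x; decide +kernel) w hw]
      group
    have e5 : g * (t * w * t⁻¹) * g⁻¹ = t * (g * w * g⁻¹) * t⁻¹ := by rw [← gt hw, gt (h.cj g hw)]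
    rw [← hv, cmul t w, cmul g, cmul g w, cmul g (t * w * t⁻¹), e4, e5, gt hw, ← mul_assoc,
      h.abel (mul_mem (mul_mem (h.cj g hw) (h.cj t hw)) (h.cj t (h.cj g hw))) hw]
    simp only [mul_assoc]
  rw [h.conj, ig] at fx
  obtain ⟨u, rfl⟩ := h.qa m hy (e0.trans ey.symm)
  generalize w * (g * w * g⁻¹) = y at m hv ⊢
  rw [cmul t, h.conj, it, mul_assoc y, ← mul_assoc (j u), ← h.jc (h.le (h.cj t m)),
    mul_assoc _ (j u), ← mul_assoc, hv, ← map_mul, ← map_mul, ← map_one j]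
  exact ((by decide +kernel : ∀ v u : E, lf e1 (e1 * e2) (e2 * e3) v = v →
    v * (u * lf e1 e2 (e1 * e3) u) = 1 ∨ v * (u * lf e1 e2 (e1 * e3) u) = e1) v u (h.inj fx)).imp
    (congrArg j) (congrArg j)

end ZZ

end H83.R4
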