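import Mathlib
import Cfsg.Agent.Lib.FGS83.R4O

/-!
Two noncentral chief factors: the homocyclic case is impossible.
-/

set_option autoImplicit false

namespace H83.R4

open Subgroup

variable {X G : Type*} [Group X] [Group G] {π : X →* G} {Q W : Subgroup X} {j : E →* X}
  {ψ : X →* MulAut E} {s : X}

namespace ZZ

variable [Finite X] (h : ZZ Q W j ψ 1) (H : H7 π Q s)
include h H

theorem le_W (hp : ∀ x, x ∈ commutator X) : Q ≤ W := by
  obtain ⟨hc, κ, iκ, k4, hκ⟩ := h.centQ H hp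
  intro u0 hu0
  by_contra hn
  have k2 : κ * κ ∉ W := fun m => hn ((hκ u0 hu0).elim id fun m' => by
    simpa [mul_assoc] using W.mul_mem m (W.inv_mem m'))
  obtain ⟨g, ig⟩ := exists_lift h.surj (u := e1) (v := e1 * e2) (w := e2 * e3) (by decide +kernel)
  obtain ⟨t, ht⟩ : ∃ t, t = g * g := ⟨_, rfl⟩
  have it : Is (ψ t) e1 e2 (e1 * e3) := fun x => by
    simp only [ht, map_mul, MulAut.mul_apply, ig _]; revert x; decide +kernel
  obtain ⟨d, hd⟩ : ∃ d, d = t * t := ⟨_, rfl⟩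
  have dQ : d ∈ Q := mem_of_one h.ker fun x => by
    simp only [hd, map_mul, MulAut.mul_apply, it _]; revert x; decide +kernel
  have sqW : ∀ u ∈ Q, u * u ∈ W := fun u hu => (hκ u hu).elim (fun m => mul_mem m m) fun m => by
    have := W.mul_mem (W.mul_mem (h.cj (κ * κ) (W.inv_mem m)) k4) (W.inv_mem m)
    convert this using 1
    simp [mul_assoc]
  have dW : d ∉ W := fun m => k2 (by
    have hu : κ * t⁻¹ ∈ Q := mem_of_eq h.ker fun v => by rw [iκ, it]
    have := W.mul_mem (W.mul_mem (h.cj (κ * t⁻¹) (h.tp t _ hu)) (sqW _ hu)) m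
    convert this using 1
    simp [hd, b, mul_assoc])
  have cw : ∀ w ∈ W, d * w = w * d := fun w hw => mul_inv_eq_iff_eq_mul.1 (hc d dQ w hw)
  have cQ : ∀ u ∈ Q, u * d = d * u := fun u hu => by
    rcases hκ u hu with m | m
    · exact (cw u m).symm
    · have := cw _ (W.mul_mem ((hκ d dQ).resolve_left dW) (W.inv_mem m))
      simp only [mul_inv_rev, inv_inv, mul_assoc, mul_inv_cancel_left] at this
      calc _ = d * (d⁻¹ * (u * d)) := by group
        _ = _ := by rw [← this]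
  have sqω : ∀ w ∈ W, w * d * (w * d) = w * w * (d * d) := fun w hw => by
    rw [mul_assoc, ← mul_assoc d, cw w hw]; simp only [mul_assoc]
  obtain ⟨v0, e0⟩ := h.qa1 (sqW d dQ) (h.noc _ (mul_mem (mul_mem dQ dQ) (mul_mem dQ dQ)) fun a => by
    obtain ⟨v, hv⟩ := h.sq _ (h.tp a d dQ)
    rw [cmul a, cmul a, show a * d * a⁻¹ = b a d * d by simp [b], sqω _ (h.tp a d dQ), hv, mul_assoc,
      ← mul_assoc (d * d), h.jc (mul_mem dQ dQ), mul_assoc (j v), ← mul_assoc (j v), j_sq, one_mul])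
  obtain ⟨x, hx, ex⟩ := h.onto v0
  have cx : ∀ w ∈ W, w * (d * x⁻¹) = d * x⁻¹ * w := fun w hw => by
    rw [← mul_assoc, ← cw w hw, mul_assoc, h.abel hw (inv_mem hx), mul_assoc]
  have c2 : d * x⁻¹ * (d * x⁻¹) = 1 := by
    rw [cw _ (inv_mem hx), sqω _ (inv_mem hx), h.sqi hx ex, e0, j_sq]
  have gd : g * d * g⁻¹ = d := by rw [hd, ht]; simp [mul_assoc]
  have td : t * d * t⁻¹ = d := by rw [hd]; simp [mul_assoc]
  have v1 : x * x = 1 ∨ x * x = j e1 := by
    have : j (ψ g v0) = j v0 := by rw [← h.conj, ← e0, cmul, gd]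
    rw [ig] at this
    rw [ex, ← map_one j]
    exact ((by decide +kernel : ∀ v : E, lf e1 (e1 * e2) (e2 * e3) v = v → v = 1 ∨ v = e1) v0
      (h.inj this)).imp (congrArg j) (congrArg j)
  have cQ' : d * x⁻¹ ∈ Q := mul_mem dQ (inv_mem (h.le hx))
  obtain ⟨v, hv⟩ : ∃ v, t * (d * x⁻¹ * j v) * t⁻¹ = d * x⁻¹ * j v := by
    rcases h.tA hc it (inv_mem hx) (by rwa [h.c2.q_inv hx]) with e | e
    · exact ⟨1, by rw [map_one, mul_one, cmul, td, e]⟩
    · refine ⟨e3, ?_⟩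
      rw [cmul, cmul, td, e, h.conj, it, mul_assoc, mul_assoc, mul_assoc, ← map_mul]
      congr 3
      decide +kernel
  have := it e3
  rw [(h.ker t).2 (h.nofix H h.noc cQ' (fun a => ?_) (fun u hu => ?_) (fun m => ?_) (hd ▸ dQ) hv),
    MulAut.one_apply] at this
  · exact absurd this (by decide +kernel)
  · have m := h.tp a _ cQ'
    have e : a * (d * x⁻¹) * a⁻¹ = b a (d * x⁻¹) * (d * x⁻¹) := by simp only [b]; group
    obtain ⟨v, hv⟩ := h.qa1 m (by
      have : a * (d * x⁻¹) * a⁻¹ * (a * (d * x⁻¹) * a⁻¹) = 1 := by rw [conj_mul, c2]; simp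
      rwa [e, mul_assoc, ← mul_assoc (d * x⁻¹), ← cx _ m, mul_assoc, c2, mul_one] at this)
    exact ⟨v, by rw [e, cx _ m, hv]⟩
  · rw [← mul_assoc, cQ u hu, mul_assoc, mul_assoc, mul_inv_eq_iff_eq_mul.1 (hc u hu _ (inv_mem hx))]
  · exact dW (by simpa using W.mul_mem (h.c2.le m) hx)

theorem exists_r (hQ : Q ≤ W) : ∃ r, Is (ψ r) e1 e2 (e1 * e3) ∧ r * r = 1 := by
  have hc : ∀ u ∈ Q, ∀ w ∈ W, u * w * u⁻¹ = w := fun u hu w hw => h.fixW (hQ hu) hw
  obtain ⟨g, ig⟩ := exists_lift h.surj (u := e1) (v := e1 * e2) (w := e2 * e3) (by decide +kernel)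
  obtain ⟨p, ip⟩ := exists_lift h.surj (u := e2) (v := e1) (w := e3) (by decide +kernel)
  obtain ⟨q, iq⟩ := exists_lift h.surj (u := e1) (v := e3) (w := e2) (by decide +kernel)
  obtain ⟨t, ht⟩ : ∃ t, t = g * g := ⟨_, rfl⟩
  have it : Is (ψ t) e1 e2 (e1 * e3) := fun x => by
    simp only [ht, map_mul, MulAut.mul_apply, ig _]; revert x; decide +kernel
  obtain ⟨x, hx, ex⟩ := h.onto e3
  obtain ⟨n, hn⟩ : ∃ n, n = x * (t * x * t⁻¹) := ⟨_, rfl⟩
  have nW : n ∈ W := hn ▸ mul_mem hx (h.cj t hx)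
  have en : n * n = j e1 := by
    rw [hn, h.sqm hx (h.cj t hx) ex (h.sq_conj ex t), it]; congr 1; decide +kernel
  have T : ∀ (a : X) {y}, y ∈ W → y * y = j (ψ a⁻¹ e2) → y * (a⁻¹ * t * a * y * (a⁻¹ * t * a)⁻¹) = 1 ∨
      y * (a⁻¹ * t * a * y * (a⁻¹ * t * a)⁻¹) = j (ψ a⁻¹ e1) := fun a y hy ey => by
    have := h.tT hc it (h.cj a hy) (by rw [h.sq_conj ey]; simp)
    have e : y * (a⁻¹ * t * a * y * (a⁻¹ * t * a)⁻¹) =
        a⁻¹ * (a * y * a⁻¹ * (t * (a * y * a⁻¹) * t⁻¹)) * a⁻¹⁻¹ := by group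
    rw [e, ← h.conj]
    rcases this with e | e <;> rw [e] <;> simp
  have inv : ∀ {a : X} {u v w : E}, Is (ψ a) u v w → (∀ x, lf u v w (lf u v w x) = x) →
      Is (ψ a⁻¹) u v w := fun {a u v w} ia e x => by
    rw [map_inv]
    exact (ψ a).symm_apply_eq.2 (by rw [ia, e])
  have ip' := inv ip (by decide +kernel)
  have iq' := inv iq (by decide +kernel)
  have i1 : Is (ψ (p⁻¹ * t * p)) e1 e2 (e2 * e3) := fun x => by
    simp only [map_mul, MulAut.mul_apply, it _, ip _, ip' _]; revert x; decide +kernel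
  have i2 : Is (ψ (q⁻¹ * t * q)) e1 (e1 * e2) e3 := fun x => by
    simp only [map_mul, MulAut.mul_apply, it _, iq _, iq' _]; revert x; decide +kernel
  have T1 := T p nW (by rw [en, ip']; congr 1; decide +kernel)
  have T2 := T q hx (by rw [ex, iq']; congr 1; decide +kernel)
  rw [ip', show lf e2 e1 e3 e1 = e2 by decide +kernel] at T1
  rw [iq', show lf e1 e3 e2 e1 = e1 by decide +kernel] at T2
  generalize p⁻¹ * t * p = t1 at i1 T1
  generalize q⁻¹ * t * q = t2 at i2 T2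
  have te : t * j e1 * t⁻¹ = j e1 := by rw [h.conj, it]; congr 1; decide +kernel
  have n2 : n * (t2 * n * t2⁻¹) = 1 := by
    have e : t2 * (t * x * t⁻¹) * t2⁻¹ = t * (t2 * x * t2⁻¹) * t⁻¹ := by
      have := h.act hc (g := t2 * t) (g' := t * t2) (fun x => by
        simp only [map_mul, MulAut.mul_apply, it _, i2 _]; revert x; decide +kernel) hx
      simpa [mul_assoc] using this
    rw [hn, cmul t2, e, mul_assoc, ← mul_assoc (t * x * t⁻¹), h.abel (h.cj t hx) (h.cj t2 hx), mul_assoc,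
      ← mul_assoc x, ← cmul]
    rcases T2 with e | e <;> rw [e]
    · simp
    · rw [te, j_sq]
  have n1 : n * (t1 * n * t1⁻¹) = 1 := by
    have e : t1 * (t * x * t⁻¹) * t1⁻¹ = t * (t1 * x * t1⁻¹) * t⁻¹ := by
      have := h.act hc (g := t1 * t) (g' := t * t1) (fun x => by
        simp only [map_mul, MulAut.mul_apply, it _, i1 _]; revert x; decide +kernel) hx
      simpa [mul_assoc] using this
    have yW := mul_mem (inv_mem hx) (h.cj t1 hx)
    have := h.tT hc it yW (by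
      rw [h.sqm (inv_mem hx) (h.cj t1 hx) (h.sqi hx ex) (h.sq_conj ex t1), i1]; congr 1; decide +kernel)
    have e' : t1 * n * t1⁻¹ = n * (x⁻¹ * (t1 * x * t1⁻¹) * (t * (x⁻¹ * (t1 * x * t1⁻¹)) * t⁻¹)) := by
      rw [hn, cmul t1, e, mul_assoc x, ← mul_assoc (t * x * t⁻¹), h.abel (h.cj t hx) yW]
      group
    refine T1.resolve_right fun e2' => ?_
    rw [e', ← mul_assoc, en] at e2'
    rcases this with e | e <;> rw [e] at e2'
    · exact absurd ((mul_one _).symm.trans e2') (h.j_ne (by decide +kernel))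
    · rw [← map_mul] at e2'
      exact absurd e2' (h.j_ne (by decide +kernel))
  have gn : g * n * g⁻¹ = n := by
    rw [h.act hc (g := g) (g' := t1 * t2) (fun x => by
      simp only [map_mul, MulAut.mul_apply, ig _, i1 _, i2 _]; revert x; decide +kernel) nW,
      show t1 * t2 * n * (t1 * t2)⁻¹ = t1 * (t2 * n * t2⁻¹) * t1⁻¹ by group,
      eq_inv_of_mul_eq_one_right n2, ← conj_inv, eq_inv_of_mul_eq_one_right n1, inv_inv]
  have dW : t * t ∈ W := hQ (mem_of_one h.ker fun x => by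
    simp only [map_mul, MulAut.mul_apply, it _]; revert x; decide +kernel)
  have gd : g * (t * t) * g⁻¹ = t * t := by rw [ht]; simp [mul_assoc]
  have fx : ∀ v, g * j v * g⁻¹ = j v → v = 1 ∨ v = e1 := fun v e => by
    rw [h.conj, ig] at e
    exact (by decide +kernel : ∀ v : E, lf e1 (e1 * e2) (e2 * e3) v = v → v = 1 ∨ v = e1) v (h.inj e)
  obtain ⟨w, hw, ew⟩ : ∃ w ∈ W, w * (t * w * t⁻¹) * (t * t) = 1 := by
    obtain ⟨v0, e0⟩ := h.sq _ dW
    rcases fx v0 (by rw [← e0, cmul, gd]) with rfl | rfl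
    · obtain ⟨v, e⟩ := h.qa1 dW (e0.trans (map_one j))
      rcases fx v (by rw [← e, gd]) with rfl | rfl
      · exact ⟨1, one_mem _, by simp [e]⟩
      · refine ⟨j e3, h.jW _, ?_⟩
        rw [e, h.conj, it, ← map_mul, ← map_mul, ← map_one j]; congr 1; decide +kernel
    · obtain ⟨v, e⟩ := h.qa nW dW (en.trans e0.symm)
      rcases fx v (by rw [e, cmul, gn] at gd; exact mul_left_cancel gd) with rfl | rfl
      · refine ⟨x⁻¹, inv_mem hx, ?_⟩
        rw [e, map_one, mul_one, h.abel (inv_mem hx) (h.cj t (inv_mem hx)), hn]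
        group
      · exact ⟨x, hx, by rw [e, ← hn, ← mul_assoc, en, j_sq]⟩
  refine ⟨w * t, fun v => by rw [map_mul, (h.ker w).2 (h.le hw), one_mul, it], ?_⟩
  rw [← ew]
  simp [mul_assoc]

theorem caseA (hp : ∀ x, x ∈ commutator X) : False := by
  have hQ := h.le_W H hp
  have hc : ∀ u ∈ Q, ∀ w ∈ W, u * w * u⁻¹ = w := fun u hu w hw => h.fixW (hQ hu) hw
  obtain ⟨r, ir, r2⟩ := h.exists_r H hQ
  obtain ⟨a, ia⟩ := exists_lift h.surj (u := e1) (v := e3) (w := e2 * e3) (by decide +kernel)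
  have ia' : Is (ψ a⁻¹) e1 (e2 * e3) e2 := fun x => by
    rw [map_inv]
    exact (ψ a).symm_apply_eq.2 (by rw [ia]; revert x; decide +kernel)
  have ri : r⁻¹ = r := inv_eq_of_mul_eq_one_left r2
  let A : Subgroup X :=
    { carrier := {x | x ∈ W ∧ (x * x = j 1 ∨ x * x = j e1)}
      one_mem' := ⟨one_mem _, Or.inl (by simp)⟩
      mul_mem' := by
        rintro x y ⟨hx, ex⟩ ⟨hy, ey⟩
        refine ⟨mul_mem hx hy, ?_⟩
        rcases ex with ex | ex <;> rcases ey with ey | ey <;> rw [h.sqm hx hy ex ey] <;> simp [E_sq]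
      inv_mem' := fun ⟨hx, ex⟩ => ⟨inv_mem hx, ex.imp (h.sqi hx) (h.sqi hx)⟩ }
  have cA : ∀ g, ψ g e1 = e1 → ∀ x ∈ A, g * x * g⁻¹ ∈ A := fun g hg x hx =>
    ⟨h.cj g hx.1, hx.2.imp (fun e => by rw [h.sq_conj e, map_one]) fun e => by rw [h.sq_conj e, hg]⟩
  have L1 : ∀ g, ψ g e1 = e1 → ∀ l ∈ zpowers (j e1), g * l * g⁻¹ ∈ zpowers (j e1) := by
    rintro g hg _ ⟨i, rfl⟩
    simp only [← conj_zpow, h.conj, hg]
    exact ⟨i, rfl⟩
  have ae : ψ a e1 = e1 := by rw [ia]; decide +kernel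
  have ae' : ψ a⁻¹ e1 = e1 := by rw [ia']; decide +kernel
  have b1 : ∀ x ∈ A, b r x ∈ zpowers (j e1) := fun x hx => by
    rcases h.tA hc ir hx.1 (by simpa using hx.2) with e | e <;> rw [b, e]
    · simp
    · rw [h.jc (h.le hx.1)]; simp
  have bc : ∀ {t}, (∀ x ∈ A, b t x ∈ zpowers (j e1)) → ∀ x ∈ A, b (a * t * a⁻¹) x ∈ zpowers (j e1) :=
    fun {t} ht x hx => by
      have := L1 a ae _ (ht _ (cA a⁻¹ ae' x hx))
      rw [← b_conj] at this
      simpa [mul_assoc] using this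
  obtain ⟨r', hr'⟩ : ∃ r', r' = a * r * a⁻¹ := ⟨_, rfl⟩
  obtain ⟨r'', hr''⟩ : ∃ r'', r'' = a * r' * a⁻¹ := ⟨_, rfl⟩
  have ir' : Is (ψ r') e1 (e1 * e2) e3 := fun x => by
    simp only [hr', map_mul, MulAut.mul_apply, ir _, ia _, ia' _]; revert x; decide +kernel
  have ir'' : Is (ψ r'') e1 (e1 * e2) (e1 * e3) := fun x => by
    simp only [hr'', map_mul, MulAut.mul_apply, ir' _, ia _, ia' _]; revert x; decide +kernel
  have b2 := hr' ▸ bc b1
  have b3 := hr'' ▸ bc b2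
  have s2 : r' * r' = 1 := by rw [hr', conj_mul, r2]; simp
  have s3 : r'' * r'' = 1 := by rw [hr'', conj_mul, s2]; simp
  have vW : r * r' * r'' ∈ W := hQ (mem_of_one h.ker fun x => by
    simp only [map_mul, MulAut.mul_apply, ir _, ir' _, ir'' _]; revert x; decide +kernel)
  have kW : a * a * a ∈ W := hQ (mem_of_one h.ker fun x => by
    simp only [map_mul, MulAut.mul_apply, ia _]; revert x; decide +kernel)
  have vA : r * r' * r'' ∈ A := by
    obtain ⟨u, hu⟩ := h.sq _ vW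
    obtain ⟨k, hk⟩ := h.sq _ kW
    have e1' := h.sq_conj hu a
    have e : a * (r * r' * r'') * a⁻¹ = r⁻¹ * (r * r' * r'') * r⁻¹⁻¹ *
        (r⁻¹ * (a * a * a) * r⁻¹⁻¹ * (a * a * a)⁻¹) := by
      rw [cmul, cmul, ← hr', ← hr'']
      conv_lhs => rw [hr'', hr']
      conv_rhs => rw [hr'', hr']
      group
    rw [e, h.sqm (h.cj _ vW) (mul_mem (h.cj _ kW) (inv_mem kW)) (h.sq_conj hu _)
      (h.sqm (h.cj _ kW) (inv_mem kW) (h.sq_conj hk _) (h.sqi kW hk)), ri, ir, ir, ia] at e1'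
    refine ⟨vW, ?_⟩
    rw [hu]
    exact ((by decide +kernel : ∀ u k : E, lf e1 e2 (e1 * e3) u * (lf e1 e2 (e1 * e3) k * k) =
      lf e1 e3 (e2 * e3) u → u = 1 ∨ u = e1) u k (h.inj e1')).imp (congrArg j) (congrArg j)
  have sA : ∀ x ∈ A, x * x ∈ zpowers (j e1) := fun x hx => by
    rcases hx.2 with e | e <;> rw [e] <;> simp
  have b4 : b r r' ∈ zpowers (j e1) := by
    have := mul_mem (L1 _ (by rw [(h.ker _).2 (h.le vW)]; rfl) _ (b3 _ vA)) (sA _ vA)
    convert this using 1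
    calc _ = r * r' * (r'' * r'') * r * r' := by
          rw [s3, b, ri, inv_eq_of_mul_eq_one_left s2, mul_one]
      _ = _ := by simp [b, mul_assoc]
  have bs : ∀ {x y : X}, b x y ∈ zpowers (j e1) → b y x ∈ zpowers (j e1) := fun {x y} m => by
    have := inv_mem m
    convert this using 1
    simp only [b]; group
  have b0 : ∀ x, b x x ∈ zpowers (j e1) := fun x => b_self x ▸ one_mem _
  have nz : ∀ g, ψ g e1 = e1 → g ∈ normalizer (zpowers (j e1) : Set X) := fun g hg =>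
    mem_normalizer_fintype (L1 g hg)
  have sq := sq_closure (T := (A : Set X) ∪ {r, r'}) (L := zpowers (j e1)) (by
      rintro x (hx | rfl | rfl)
      exacts [nz _ (by rw [(h.ker x).2 (h.le hx.1)]; rfl), nz _ (by rw [ir]; decide +kernel),
        nz _ (by rw [ir']; decide +kernel)]) (by
      rintro x (hx | rfl | rfl) y (hy | rfl | rfl)
      exacts [by rw [b_eq_one_iff.2 (h.abel hx.1 hy.1)]; exact one_mem _, bs (b1 x hx), bs (b2 x hx),
        b1 y hy, b0 _, b4, b2 y hy, bs b4, b0 _]) (by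
      rintro x (hx | rfl | rfl)
      exacts [sA x hx, r2 ▸ one_mem _, s2 ▸ one_mem _])
  have jA : ∀ v, j v ∈ closure ((A : Set X) ∪ {r, r'}) := fun v =>
    subset_closure (Or.inl ⟨h.jW v, Or.inl (by rw [j_sq, map_one])⟩)
  have k1 := five_rank H.sr (zpowers_le.2 (jA e1)) sq
  obtain ⟨n, hn, en⟩ := h.onto e1
  have k2 := big h.ker (K := j.range) (H := closure ((A : Set X) ∪ {r, r'}))
    (by rintro _ ⟨v, rfl⟩; exact ⟨jA v, h.mem v⟩) (subset_closure (Or.inl ⟨hn, Or.inr en⟩)) (h.le hn)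
    (by
      rintro ⟨v, rfl⟩
      rw [j_sq, ← map_one j] at en
      exact absurd en (h.j_ne (by decide +kernel)))
    (subset_closure (Or.inr (Or.inl rfl))) (subset_closure (Or.inr (Or.inr rfl))) ir ir'
  have k3 := orderOf_le_of_pow_eq_one (x := j e1) two_pos (by rw [pow_two, j_sq])
  rw [h.card_range] at k2
  rw [Nat.card_zpowers] at k1
  omega

end ZZ

end H83.R4
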