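import Mathlib
import Cfsg.Agent.Lib.FGS83.R4P

/-!
Two noncentral chief factors: the subgroup of order 64.
-/

set_option autoImplicit false

namespace H83.R4

open Subgroup

variable {X G : Type*} [Group X] [Group G] {π : X →* G} {Q P W : Subgroup X} {j : E →* X}
  {ψ : X →* MulAut E} {s z : X}

set_option synthInstance.maxSize 1000 in
theorem exists_three : ∀ u : E, u ≠ 1 → ∃ a1 a2 a3, Function.Injective (lf a1 a2 a3) ∧
    lf a1 a2 a3 u = u ∧ ∀ x, lf a1 a2 a3 (lf a1 a2 a3 x) = x → x = 1 ∨ x = u := by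
  decide +kernel

/-- Elements acting trivially on `Q` modulo `W`. -/
theorem tp_of (hQ : Q.Normal) (hW : W.Normal) {S : Set X} (hS : ∀ s ∈ S, ∀ u ∈ Q, b s u ∈ W)
    (all : ∀ L : Subgroup X, L.Normal → S ⊆ L → ∀ g, g ∈ L) (g : X) {u : X} (hu : u ∈ Q) : b g u ∈ W := by
  haveI := hQ.map _ (QuotientGroup.mk'_surjective W)
  have k : ∀ {g u : X}, QuotientGroup.mk' W u * QuotientGroup.mk' W g =
      QuotientGroup.mk' W g * QuotientGroup.mk' W u ↔ b g u ∈ W := fun {g u} => by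
    rw [eq_comm, ← b_eq_one_iff]
    exact QuotientGroup.eq_one_iff (b g u)
  exact k.1 (all ((centralizer (Q.map (QuotientGroup.mk' W) : Set (X ⧸ W))).comap (QuotientGroup.mk' W))
    inferInstance (fun s hs => by rintro _ ⟨u, hu, rfl⟩; exact k.2 (hS s hs u hu)) g _ ⟨u, hu, rfl⟩)

structure P64 (Q P : Subgroup X) (j : E →* X) (ψ : X →* MulAut E) (s : X) : Prop extends Nt Q j ψ where
  le : P ≤ Q
  jP : ∀ v, j v ∈ P
  card : Nat.card P = 64
  sq : ∀ w ∈ P, ∃ v, w * w = j v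
  cm : ∀ u ∈ Q, ∀ w ∈ P, ∃ v, b u w = j v
  inv : ∀ p ∈ P, s * p * s⁻¹ ∈ P
  fx : ∀ p ∈ P, s * p * s⁻¹ = p → p = 1
  sb : ∀ u ∈ Q, b s u ∈ P
  noc : ∀ d ∈ Q, (∀ g, g * d * g⁻¹ = d) → d = 1
  all : ∀ L : Subgroup X, L.Normal → s ∈ L → ∀ g, g ∈ L

namespace P64

variable [Finite X] (h : P64 Q P j ψ s) (H : H7 π Q s)
include h

omit [Finite X] in
theorem rle : j.range ≤ P := by rintro _ ⟨v, rfl⟩; exact h.jP v

omit [Finite X] in
theorem sqj {x : X} (hx : x ∈ Q) (v : E) : x * j v * (x * j v) = x * x := by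
  rw [mul_assoc, ← mul_assoc (j v), ← h.jc hx, mul_assoc, j_sq, mul_one]

omit [Finite X] in
theorem tp (hW : W.Normal) (hP : P ≤ W) (g : X) {u : X} (hu : u ∈ Q) : b g u ∈ W :=
  tp_of h.normal hW (S := {s}) (by rintro _ rfl u hu; exact hP (h.sb u hu))
    (fun L hL hs => h.all L hL (hs rfl)) g hu

include H

theorem orb {S : Set X} (h1 : ∀ x ∈ S, x ∈ P ∧ x ∉ j.range) (h2 : ∀ x ∈ S, ∀ v, x * j v ∈ S)
    (h3 : ∀ x ∈ S, s * x * s⁻¹ ∈ S) (h5 : S.Nonempty) : ∀ x ∈ P, x ∉ j.range → x ∈ S :=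
  orb7 (H.two.to_le h.range_le) h.rle (by rw [h.card, h.card_range]) H.s7 h1
    (by rintro x hx _ ⟨v, rfl⟩; exact h2 x hx v) h3
    (fun x hx e => (h1 x hx).2 (h.fx x (h1 x hx).1 e ▸ one_mem _)) h5

theorem orb' {p : X → Prop} (h2 : ∀ x ∈ P, ∀ v, p x → p (x * j v))
    (h3 : ∀ x ∈ P, p x → p (s * x * s⁻¹)) {y : X} (hy : y ∈ P) (hy' : y ∉ j.range) (py : p y) :
    ∀ x ∈ P, x ∉ j.range → p x := fun x hx hx' =>
  (h.orb H (S := {x | (x ∈ P ∧ x ∉ j.range) ∧ p x}) (fun _ hx => hx.1)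
    (fun x hx v => ⟨⟨mul_mem hx.1.1 (h.jP v), fun m => hx.1.2 ((mul_mem_cancel_right (⟨v, rfl⟩ : j v ∈ j.range)).1 m)⟩,
      h2 x hx.1.1 v hx.2⟩)
    (fun x hx => ⟨⟨h.inv x hx.1.1, fun m => hx.1.2 (by
      simpa [mul_assoc] using h.range_normal.conj_mem _ m s⁻¹)⟩, h3 x hx.1.1 hx.2⟩)
    ⟨y, ⟨hy, hy'⟩, py⟩ x hx hx').2

theorem n1 {p : X} (hp : p ∈ P) (e : p * p = 1) : p ∈ j.range := by
  by_contra hn
  have k := h.orb' H (p := fun x => x * x = 1) (fun x hx v e => (h.sqj (h.le hx) v).trans e)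
    (fun x hx e => by rw [conj_mul, e]; simp) hp hn e
  have := five_rank H.sr (H := P) (K := ⊥) bot_le fun x hx => by
    by_cases m : x ∈ j.range
    · obtain ⟨v, rfl⟩ := m
      exact j_sq j v
    · exact k x hx m
  rw [h.card, card_bot] at this
  omega

theorem exP : ∃ p ∈ P, p ∉ j.range := SetLike.exists_of_lt (lt_of_le_of_ne h.rle fun e => by
  have := h.card_range
  rw [e, h.card] at this
  omega)

theorem onto (v : E) : ∃ p ∈ P, p * p = j v := by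
  by_cases v1 : v = 1
  · exact ⟨1, one_mem _, by simp [v1]⟩
  obtain ⟨p, hp, hp'⟩ := h.exP H
  exact (orb7' h.card_range H.s7 (S := {m | (m ∈ j.range ∧ m ≠ 1) ∧ ∃ p ∈ P, p * p = m})
    (fun _ hx => hx.1) (by
      rintro _ ⟨⟨m1, m2⟩, p, hp, rfl⟩
      exact ⟨⟨h.range_normal.conj_mem _ m1 s, fun e => m2 (by simpa using e)⟩, _, h.inv p hp, conj_mul⟩)
    (h.fpf H) ⟨_, ⟨(h.sq p hp).imp fun _ e => e.symm, fun e => hp' (h.n1 H hp e)⟩, p, hp, rfl⟩ (j v)
    ⟨v, rfl⟩ (fun e => v1 (h.inj (e.trans (map_one j).symm)))).2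

theorem qi {x y : X} (hx : x ∈ P) (hy : y ∈ P) (e : x * x = y * y) : ∃ v, y = x * j v := by
  choose σ hσ eσ using h.onto H
  have sj : Function.Surjective fun a : E × E => (⟨σ a.1 * j a.2, mul_mem (hσ _) (h.jP _)⟩ : P) := by
    refine ((Nat.bijective_iff_injective_and_card _).2 ⟨?_, by simp [card_E, h.card]⟩).2
    rintro ⟨a, c⟩ ⟨a', c'⟩ e
    have e : σ a * j c = σ a' * j c' := congrArg Subtype.val e
    have := h.sqj (h.le (hσ a)) c
    rw [e, h.sqj (h.le (hσ a')), eσ, eσ] at this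
    obtain rfl := h.inj this
    rw [h.inj (mul_left_cancel e)]
  obtain ⟨⟨a, c⟩, e1⟩ := sj ⟨x, hx⟩
  obtain ⟨⟨a', c'⟩, e2⟩ := sj ⟨y, hy⟩
  obtain rfl : σ a * j c = x := congrArg Subtype.val e1
  obtain rfl : σ a' * j c' = y := congrArg Subtype.val e2
  rw [h.sqj (h.le (hσ a)), h.sqj (h.le (hσ a')), eσ, eσ] at e
  obtain rfl := h.inj e
  exact ⟨c⁻¹ * c', by simp [mul_assoc]⟩

theorem not_normal (hP : P.Normal) : False :=
  ZZ.caseA (W := P) ⟨h.toNt, hP, h.le, h.jP, h.sq, h.cm, fun g u hu => h.tp hP le_rfl g hu, h.onto H,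
    fun x hx y hy e => (h.qi H hx hy e).imp fun _ e => Or.inl e, one_mem _, by simp, by simp,
    fun g => ⟨1, by simp⟩, h.noc⟩ H (h.all _ inferInstance H.mem_comm)

theorem normal_of (hW : W.Normal) (hP : P ≤ W) (hWQ : W ≤ Q) (hc : Nat.card W = 128)
    (sq : ∀ w ∈ W, ∃ v, w * w = j v) (cm : ∀ u ∈ Q, ∀ w ∈ W, ∃ v, b u w = j v) (hz : z ∈ W) (hz' : z ∉ P)
    (zg : ∀ g, ∃ v, g * z * g⁻¹ = z * j v) : P.Normal := by
  have mo : ∀ {w}, w ∈ W → w ∈ P ∨ ∃ p ∈ P, w = z * p := fun {w} hw =>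
    (mem_or hP (by rw [hc, h.card]) hz hz' hw).imp id fun m => ⟨_, m, by simp⟩
  have z2 : z * z = 1 := h.noc _ (hWQ (mul_mem hz hz)) fun g => by
    obtain ⟨v, hv⟩ := zg g
    rw [cmul, hv, h.sqj (hWQ hz)]
  have C : C2 W j.range := ⟨h.rle.trans hP, fun x hx => (sq x hx).imp fun _ e => e.symm,
    by rintro _ ⟨v, rfl⟩ x hx; exact h.jc (hWQ hx) v, by rintro _ ⟨v, rfl⟩; exact j_sq j v⟩
  have nM : ∀ g, ∀ p ∈ j.range, g * p * g⁻¹ ∈ P := fun g p hp => h.rle (h.range_normal.conj_mem p hp g)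
  have fz : ∀ g, ∀ w ∈ W, b z (g * w * g⁻¹) = g * b z w * g⁻¹ := fun g w hw => by
    obtain ⟨v, hv⟩ := zg g
    rw [← b_conj, hv, C.b_mul_left hz (hP (h.jP v)) (hW.conj_mem w hw g),
      C.b_left ⟨v, rfl⟩ (hW.conj_mem w hw g), mul_one]
  by_cases hk : ∃ p ∈ P, p ∉ j.range ∧ b z p = 1
  · obtain ⟨p, hp, hp', e⟩ := hk
    have zP : ∀ p ∈ P, p * z = z * p := fun x hx => by
      refine (b_eq_one_iff.1 ?_).symm
      by_cases m : x ∈ j.range
      · exact C.b_right m hz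
      refine h.orb' H (p := fun x => b z x = 1) (fun x hx v e => ?_) (fun x hx e => ?_) hp hp' e x hx m
      · rw [C.b_mul_right hz (hP hx) (hP (h.jP v)), e, C.b_right ⟨v, rfl⟩ hz, one_mul]
      · rw [fz s x (hP hx), e]; simp
    have sz : ∀ p ∈ P, z * p * (z * p) = p * p := fun p hp => by
      rw [C.q_mul hz (hP hp), z2, b_eq_one_iff.2 (zP p hp).symm, one_mul, mul_one]
    have Z : ZZ Q W j ψ z := ⟨h.toNt, hW, hWQ, fun v => hP (h.jP v), sq, cm,
      fun g u hu => h.tp hW hP g hu, fun v => (h.onto H v).imp fun _ e => ⟨hP e.1, e.2⟩,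
      fun x hx y hy e => by
        rcases mo hx with m | ⟨p, m, rfl⟩ <;> rcases mo hy with m' | ⟨p', m', rfl⟩
        · exact (h.qi H m m' e).imp fun _ e => Or.inl e
        · exact (h.qi H m m' (e.trans (sz _ m'))).imp fun v e => Or.inr (by
            rw [e, ← mul_assoc, ← mul_assoc, zP x m])
        · exact (h.qi H m m' ((sz _ m).symm.trans e)).imp fun v e => Or.inr (by
            rw [e, ← zP p m, mul_assoc p, ← mul_assoc z, z2, one_mul])
        · exact (h.qi H m m' ((sz _ m).symm.trans (e.trans (sz _ m')))).imp fun v e => Or.inl (by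
            rw [e, mul_assoc]),
      hz, fun w hw => by
        rcases mo hw with m | ⟨p, m, rfl⟩
        · exact zP w m
        · rw [mul_assoc, zP p m], z2, zg, h.noc⟩
    obtain ⟨y, hy, ey⟩ := h.onto H e1
    have yM : y ∉ j.range := by
      rintro ⟨v, rfl⟩
      rw [j_sq, ← map_one j] at ey
      exact absurd ey (Z.j_ne (by decide +kernel))
    have k1 : ∀ g, g * y * g⁻¹ ∈ P := fun g => by
      obtain ⟨-, a, ha, ea⟩ := orb7' h.card_range H.s7 (S := {m | (m ∈ j.range ∧ m ≠ 1) ∧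
          ∃ a, a * y * a⁻¹ ∈ P ∧ j (ψ a e1) = m}) (fun _ hx => hx.1) (by
          rintro _ ⟨⟨m1, m2⟩, a, ha, rfl⟩
          refine ⟨⟨h.range_normal.conj_mem _ m1 s, fun e => m2 (by simpa using e)⟩, s * a, ?_, ?_⟩
          · simpa [mul_assoc] using h.inv _ ha
          · rw [h.conj, map_mul, MulAut.mul_apply])
        (h.fpf H) ⟨j e1, ⟨⟨_, rfl⟩, map_one j ▸ Z.j_ne (by decide +kernel)⟩, 1, by simpa using hy, by simp⟩
        (j (ψ g e1)) ⟨_, rfl⟩ (map_one j ▸ Z.j_ne (by simp; decide +kernel))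
      obtain ⟨v, hv⟩ := Z.caseB H (fun m => hz' (h.rle m)) hc (hP hy) ey (g := a⁻¹ * g) (by
        rw [map_mul, MulAut.mul_apply, ← h.inj ea]; simp)
      have := mul_mem ha (nM a _ ⟨v, rfl⟩)
      rw [conj_mul, ← hv] at this
      simpa [mul_assoc] using this
    refine ⟨fun p hp g => ?_⟩
    by_cases m : p ∈ j.range
    · exact nM g p m
    refine h.orb' H (p := fun x => ∀ g, g * x * g⁻¹ ∈ P) (fun x hx v e g => ?_) (fun x hx e g => ?_)
      hy yM k1 p hp m g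
    · rw [cmul]; exact mul_mem (e g) (nM g _ ⟨v, rfl⟩)
    · simpa [mul_assoc] using e (g * s)
  push Not at hk
  have sz : ∀ p ∈ P, z * p * (z * p) = 1 := fun p hp => by
    by_cases m : p ∈ j.range
    · rw [C.q_mul_F hz m, z2]
    obtain ⟨u, hu⟩ := cm z (hWQ hz) p (hP hp)
    obtain ⟨x, hx⟩ := sq p (hP hp)
    obtain ⟨a1, a2, a3, hi, f1, f2⟩ := exists_three u (fun e => hk p hp m (by rw [hu, e, map_one]))
    obtain ⟨g, ig⟩ := exists_lift h.surj hi
    have gW := hW.conj_mem p (hP hp) g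
    have e1 : b z (p⁻¹ * (g * p * g⁻¹)) = 1 := by
      rw [C.b_mul_right hz (inv_mem (hP hp)) gW, C.b_inv_right hz (hP hp), fz g p (hP hp), hu, h.conj, ig,
        f1, j_sq]
    have e2 : g * (g * p * g⁻¹) * g⁻¹ * (g * (g * p * g⁻¹) * g⁻¹) = p * p := by
      refine C.q_congr (hP hp) ?_
      have e : p⁻¹ * (g * (g * p * g⁻¹) * g⁻¹) =
        p⁻¹ * (g * p * g⁻¹) * (g * (p⁻¹ * (g * p * g⁻¹)) * g⁻¹) := by group
      rw [e]
      rcases mo (mul_mem (inv_mem (hP hp)) gW) with m' | ⟨q, m', e'⟩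
      · have := by_contra fun hn => hk _ m' hn e1
        exact mul_mem this (h.range_normal.conj_mem _ this g)
      · rw [e', C.b_mul_right hz hz (hP m'), b_self, one_mul] at e1
        obtain ⟨w, rfl⟩ := by_contra fun hn => hk _ m' hn e1
        obtain ⟨v, hv⟩ := zg g
        rw [e', cmul, hv, h.conj, ← mul_assoc, ← mul_assoc, mul_assoc z, ← h.jc (hWQ hz), ← mul_assoc, z2,
          one_mul]
        exact mul_mem (mul_mem ⟨_, rfl⟩ ⟨_, rfl⟩) ⟨_, rfl⟩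
    rw [h.sq_conj (h.sq_conj hx g), ig, ig, hx] at e2
    rcases f2 x (h.inj e2) with rfl | rfl
    · exact absurd (h.n1 H hp (hx.trans (map_one j))) m
    · rw [C.q_mul hz (hP hp), z2, hx, hu, one_mul, j_sq]
  refine ⟨fun p hp g => ?_⟩
  by_cases m : p ∈ j.range
  · exact nM g p m
  refine (mo (hW.conj_mem p (hP hp) g)).resolve_right ?_
  rintro ⟨q, hq, e⟩
  have := sz q hq
  rw [← e, conj_mul] at this
  exact m (h.n1 H hp (by simpa using this))

end P64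

end H83.R4
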