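import Mathlib
import Cfsg.Agent.Lib.FGS83.R4Q

/-!
There is only one noncentral chief factor.
-/

set_option autoImplicit false

namespace H83.R4

open Subgroup

universe u

variable {G : Type*} [Group G]

theorem S7.restrict {X : Type*} [Group X] {Q P W : Subgroup X} {s : X} (h : S7 Q P s) (hP : P ≤ W)
    (hW : W ≤ Q) : S7 W P s :=
  ⟨hP, h.card, h.el, fun p hp x hx => h.cent p hp x (hW hx), h.inv, h.fpf, fun x hx => by
    obtain ⟨p, hp, c, -, e, rfl⟩ := h.dec x (hW hx)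
    exact ⟨p, hp, c, (mul_mem_cancel_left (hP hp)).1 hx, e, rfl⟩⟩

/-- The involutions of the centre of `Q`, with the identity. -/
def omz {X : Type*} [Group X] (Q : Subgroup X) : Subgroup X where
  carrier := {w | w ∈ Q ∧ w * w = 1 ∧ ∀ u ∈ Q, u * w = w * u}
  one_mem' := ⟨one_mem _, by simp, by simp⟩
  mul_mem' := by
    rintro x y ⟨hx, x2, cx⟩ ⟨hy, y2, cy⟩
    refine ⟨mul_mem hx hy, ?_, fun u hu => ?_⟩
    · rw [mul_assoc, ← mul_assoc y, cx y hy, mul_assoc, y2, mul_one, x2]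
    · rw [← mul_assoc, cx u hu, mul_assoc, cy u hu, mul_assoc]
  inv_mem' := by
    rintro x ⟨hx, x2, cx⟩
    rw [inv_eq_of_mul_eq_one_left x2]
    exact ⟨hx, x2, cx⟩

instance omz_normal {X : Type*} [Group X] (Q : Subgroup X) [hQ : Q.Normal] : (omz Q).Normal :=
  ⟨fun w ⟨hw, w2, cw⟩ g => ⟨hQ.conj_mem w hw g, by rw [conj_mul, w2]; simp, fun u hu => by
    have := congrArg (fun x => g * x * g⁻¹) (cw _ (hQ.conj_mem u hu g⁻¹))
    simpa [mul_assoc] using this⟩⟩

theorem omz_cases {X : Type*} [Group X] [Finite X] {π : X →* G} {Q P : Subgroup X} {s : X}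
    (H : H7 π Q s) (h : S7 Q P s) : P.Normal ∨ (Nat.card (omz Q) = 16 ∧ P ≤ omz Q ∧
      ∃ z ∈ omz Q, z ∉ P ∧ ∀ g, g * z * g⁻¹ = z) := by
  haveI := H.normal
  have le : P ≤ omz Q := fun p hp => ⟨h.le hp, h.el p hp, h.cent p hp⟩
  rcases le.eq_or_lt with e | lt
  · exact Or.inl (e ▸ inferInstance)
  have h1 := five_rank H.sr (H := omz Q) (K := ⊥) bot_le fun x hx => hx.2.1
  have h2 := H1.card_lt_of_lt lt
  obtain ⟨k, hk⟩ := card_dvd_of_le le
  rw [h.card] at h2 hk
  rw [card_bot] at h1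
  have h16 : Nat.card (omz Q) = 16 := by omega
  exact (E16 H.s7 (h.restrict le fun _ hw => hw.1) (fun _ hw => hw.2.1) h16 H.not_five).symm.imp id
    fun e => ⟨h16, le, e⟩

theorem claimA_aux : ∀ (n : ℕ) (X : Type u) [Group X] [Finite X], Nat.card X = n →
    ∀ (π : X →* G) (Q : Subgroup X) (s : X), H7 π Q s →
      Nat.card Q ≤ 8 * Nat.card ↥(Q ⊓ centralizer {s}) := by
  intro n
  induction n using Nat.strong_induction_on with
  | _ n ih =>
  intro X _ _ hn π Q s H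
  haveI : Fact (Nat.Prime 7) := ⟨by norm_num⟩
  haveI := H.normal
  have hcop := coprime_zpowers H.two (by decide : Odd 7) H.s7
  have pos : 0 < Nat.card ↥(Q ⊓ centralizer {s}) := Nat.card_pos
  by_cases hY : normalClosure {s} = ⊤
  swap
  · have hs : s ∈ normalClosure {s} := subset_normalClosure rfl
    have k := ih _ (hn ▸ H1.card_lt_of_ne_top hY) _ rfl _ _ _ (H.sub _ hs)
    rw [show Q.subgroupOf (normalClosure {s}) ⊓ centralizer {⟨s, hs⟩} =
        (Q ⊓ centralizer {s}).subgroupOf (normalClosure {s}) from Subgroup.ext fun x => by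
          simp only [mem_inf, mem_subgroupOf, mem_centralizer_singleton_iff, Subtype.ext_iff, coe_mul],
      H1.card_subgroupOf_eq, H1.card_subgroupOf_eq] at k
    have k1 := H1.card_sup_mul_card_inf_of_normal (Q ⊓ centralizer {s}) (Q ⊓ normalClosure {s})
    rw [sup_comm, ← cent_zpowers, H2.sup_centralizer_eq_of_commutator_le le_normalizer_of_normal inf_le_left
      (coprime_zpowers (H.two.to_le inf_le_left) (by decide : Odd 7) H.s7) (Or.inl (H2.isSolvable_zpowers s))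
      ((commutator_mono le_rfl (zpowers_le.2 hs)).trans (commutator_le_inf _ _)), cent_zpowers,
      ← inf_assoc, inf_right_comm Q, inf_idem] at k1
    have : 0 < Nat.card ↥(Q ⊓ centralizer {s} ⊓ normalClosure {s}) := Nat.card_pos
    nlinarith
  have all : ∀ L : Subgroup X, L.Normal → s ∈ L → ∀ g, g ∈ L := fun L hL hs g =>
    normalClosure_le_normal (Set.singleton_subset_iff.2 hs) (hY ▸ mem_top g)
  have quo : ∀ (N : Subgroup X) [N.Normal], N ≤ Q → N ≠ ⊥ →
      Nat.card (Q.map (QuotientGroup.mk' N)) ≤ 8 * Nat.card ↥(Q.map (QuotientGroup.mk' N) ⊓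
        centralizer {QuotientGroup.mk' N s}) ∧ Nat.card (Q.map (QuotientGroup.mk' N)) * Nat.card N =
        Nat.card Q ∧ Nat.card ↥(Q.map (QuotientGroup.mk' N) ⊓ centralizer {QuotientGroup.mk' N s}) *
        Nat.card ↥(N ⊓ (Q ⊓ centralizer {s})) = Nat.card ↥(Q ⊓ centralizer {s}) := fun N _ hN hN' => by
    refine ⟨ih _ (hn ▸ H1.card_quotient_lt hN') _ rfl _ _ _ (H.quot N hN), ?_, ?_⟩
    · rw [← H1.card_map_mk'_mul N Q, inf_eq_left.2 hN]
    · rw [← H1.card_map_mk'_mul N (Q ⊓ centralizer {s}), ← cent_zpowers s, H2.map_inf_centralizer_of_coprime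
        le_normalizer_of_normal hcop (Or.inl (H2.isSolvable_zpowers s)), MonoidHom.map_zpowers, cent_zpowers,
        cent_zpowers]
  by_cases noc : ∀ d ∈ Q, (∀ g, g * d * g⁻¹ = d) → d = 1
  swap
  · push Not at noc
    obtain ⟨d, hd, hc, d1⟩ := noc
    haveI : (zpowers d).Normal := ⟨by
      rintro _ ⟨i, rfl⟩ g
      simp only [← conj_zpow, hc]
      exact ⟨i, rfl⟩⟩
    obtain ⟨k1, k2, k3⟩ := quo (zpowers d) (zpowers_le.2 hd) (by rwa [Ne, zpowers_eq_bot])
    rw [inf_eq_left.2 (zpowers_le.2 ⟨hd, mem_cent_iff.2 (hc s)⟩ : zpowers d ≤ Q ⊓ centralizer {s})] at k3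
    rw [← k2, ← k3, ← mul_assoc]
    exact Nat.mul_le_mul_right _ k1
  by_cases hQ : Q = ⊥
  · have : Nat.card Q = 1 := by rw [hQ, card_bot]
    omega
  obtain ⟨M, hM, hMQ⟩ := H3.exists_isMinNormal_le Q hQ
  haveI := hM.normal
  obtain ⟨cM, eM⟩ := minNormal_two H.two hM hMQ
  obtain ⟨x, hx, hne⟩ : ∃ x ∈ M, s * x * s⁻¹ ≠ x := by
    by_contra hc
    push Not at hc
    refine hM.ne_bot (eq_bot_iff.2 fun m hm => noc m (hMQ hm) fun g => ?_)
    exact conj_eq_of_cent (all _ inferInstance (zpowers_le_cent hc (mem_zpowers s)) g) hm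
  have h16 := five_rank H.sr (H := M) (K := ⊥) bot_le eM
  rw [card_bot] at h16
  have h8 : Nat.card M = 8 := by
    obtain ⟨a, c, ha, hc, h1, h2⟩ := exists_exps (H.two.to_le hMQ) (by omega) hx hne
    have m := card_modEq H.s7 (H := M) fun x hx => hM.normal.conj_mem x hx s
    rw [ha, hc] at m
    have m := pow_mod7 m
    obtain rfl : a = c + 3 := by omega
    obtain ⟨P, hP⟩ := struct7 (H.two.to_le hMQ) H.s7 (mem_norm M s) (by rw [ha, hc]; ring_nf; rfl) hx hne
    obtain rfl | rfl : c = 0 ∨ c = 1 := by omega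
    · exact ha
    rcases E16 H.s7 hP eM ha H.not_five with ⟨z, hz, hz', e⟩ | e
    · exact absurd (noc z (hMQ hz) e ▸ P.one_mem) hz'
    · have := hP.card
      rcases hM.eq_bot_or_eq P e hP.le with e | e <;> rw [e] at this
      · simp at this
      · omega
  obtain ⟨j, ψ, N, hj⟩ := H.nat hMQ h8 eM cM hx hne
  obtain ⟨k1, k2, k3⟩ := quo M hMQ hM.ne_bot
  by_cases hc : ∀ y ∈ Q.map (QuotientGroup.mk' M),
      QuotientGroup.mk' M s * y * (QuotientGroup.mk' M s)⁻¹ = y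
  · rw [inf_eq_left.2 fun y hy => mem_cent_iff.2 (hc y hy)] at k3
    have : 0 < Nat.card ↥(M ⊓ (Q ⊓ centralizer {s})) := Nat.card_pos
    nlinarith
  exfalso
  push Not at hc
  obtain ⟨y, hy, hy'⟩ := hc
  have H' := H.quot M hMQ
  haveI := H'.normal
  obtain ⟨P, hP⟩ := struct7 H'.two H'.s7 (mem_norm _ _) k1 hy hy'
  have m1 : ∀ {x : X}, QuotientGroup.mk' M x = 1 ↔ ∃ v, x = j v := fun {x} =>
    (QuotientGroup.eq_one_iff x).trans ((hj x).trans (exists_congr fun _ => eq_comm))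
  have mj : ∀ v, QuotientGroup.mk' M (j v) = 1 := fun v => m1.2 ⟨v, rfl⟩
  have mb : ∀ x y : X, QuotientGroup.mk' M (b x y) = b (QuotientGroup.mk' M x) (QuotientGroup.mk' M y) :=
    fun x y => rfl
  have cQ : ∀ {K : Subgroup (X ⧸ M)}, K ≤ Q.map (QuotientGroup.mk' M) → K.comap (QuotientGroup.mk' M) ≤ Q :=
    fun {K} hK => (comap_mono hK).trans (comap_map_eq_self (by rwa [QuotientGroup.ker_mk'])).le
  have h64 : P64 Q (P.comap (QuotientGroup.mk' M)) j ψ s := ⟨N, cQ hP.le,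
    fun v => mem_comap.2 (mj v ▸ P.one_mem), by rw [H1.card_comap_mk', hP.card, h8],
    fun w hw => m1.1 (hP.el _ hw), fun u hu w hw => m1.1 (by
      rw [mb, b_eq_one_iff]; exact hP.cent _ hw _ (mem_map_of_mem _ hu)),
    fun p hp => hP.inv _ hp, fun p hp e => by
      obtain ⟨v, rfl⟩ := m1.1 (hP.fpf _ hp (congrArg (QuotientGroup.mk' M) e))
      exact N.fpf H _ ⟨v, rfl⟩ e,
    fun u hu => by
      obtain ⟨p, hp, c, -, e, e'⟩ := hP.dec _ (mem_map_of_mem (QuotientGroup.mk' M) hu)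
      rw [mem_comap, mb, e', b, cmul, e]
      simpa using mul_mem (hP.inv p hp) (inv_mem hp), noc, all⟩
  refine h64.not_normal H ?_
  rcases omz_cases H' hP with e | ⟨h16, le, z, hz, hz', e⟩
  · exact e.comap _
  obtain ⟨z, rfl⟩ := QuotientGroup.mk'_surjective M z
  refine h64.normal_of H (W := (omz (Q.map (QuotientGroup.mk' M))).comap (QuotientGroup.mk' M))
    inferInstance (comap_mono le) (cQ fun _ hw => hw.1) (by rw [H1.card_comap_mk', h16, h8])
    (fun w hw => m1.1 hw.2.1) (fun u hu w hw => m1.1 (by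
      rw [mb, b_eq_one_iff]; exact hw.2.2 _ (mem_map_of_mem _ hu))) hz hz' fun g => ?_
  obtain ⟨v, hv⟩ := m1.1 (show QuotientGroup.mk' M (z⁻¹ * (g * z * g⁻¹)) = 1 by
    simp only [map_mul, map_inv, e, inv_mul_cancel])
  exact ⟨v, by rw [← hv, mul_inv_cancel_left]⟩

theorem H7.claimA {X : Type*} [Group X] [Finite X] {π : X →* G} {Q : Subgroup X} {s : X} (H : H7 π Q s) :
    Nat.card Q ≤ 8 * Nat.card ↥(Q ⊓ centralizer {s}) := claimA_aux _ X rfl π Q s H

end H83.R4
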