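import Mathlib
import Cfsg.Agent.Lib.FGS83.R4R

/-!
The cyclic complement has order at most four.
-/

set_option autoImplicit false

namespace H83.R4

open Subgroup

variable {X G : Type*} [Group X] [Group G] {π : X →* G} {Q P : Subgroup X} {s : X}

theorem even_of_zpow {Q : Subgroup X} (h2 : IsPGroup 2 Q) {x : X} (hx : x ∈ Q) (h1 : x ≠ 1) {i : ℤ}
    (e : x ^ i = 1) : ∃ k, i = 2 * k := by
  obtain ⟨k, hk⟩ := h2 ⟨x, hx⟩
  obtain ⟨m, -, hm⟩ := (Nat.dvd_prime_pow Nat.prime_two).1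
    (orderOf_dvd_of_pow_eq_one (congrArg Subtype.val hk : x ^ 2 ^ k = 1))
  have := orderOf_dvd_iff_zpow_eq_one.2 e
  cases m with
  | zero => exact absurd (orderOf_eq_one_iff.1 hm) h1
  | succ m => exact Dvd.dvd.trans ⟨2 ^ m, by rw [hm]; push_cast; ring⟩ this

theorem Is.inv {ψ : X →* MulAut E} {a : X} {u v w u' v' w' : E} (ia : Is (ψ a) u v w)
    (e : ∀ x, lf u v w (lf u' v' w' x) = x) : Is (ψ a⁻¹) u' v' w' := fun x => by
  rw [map_inv]
  exact (ψ a).symm_apply_eq.2 (by rw [ia, e])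

variable [Finite X]

theorem S7.cyc (h : S7 Q P s) (h2 : IsPGroup 2 Q) (h4 : SR 4 X) : ∃ c ∈ Q, s * c * s⁻¹ = c ∧
    (∀ x ∈ Q, ∃ p ∈ P, ∃ i : ℤ, x = p * c ^ i) ∧ Nat.card Q = 8 * orderOf c := by
  obtain ⟨C, hC⟩ : ∃ C, C = Q ⊓ centralizer {s} := ⟨_, rfl⟩
  have mC : ∀ {c}, c ∈ C ↔ c ∈ Q ∧ s * c * s⁻¹ = c := by rw [hC]; exact and_congr_right' mem_cent_iff
  have le : C ≤ Q := fun _ hc => (mC.1 hc).1
  have k1 := H1.card_sup_mul_card_inf_of_le_normalizer (H := C) (N := P) fun c hc =>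
    centralizer_le_normalizer _ fun p hp => (h.cent p hp c (le hc)).symm
  rw [show C ⊔ P = Q from le_antisymm (sup_le le h.le) fun x hx => by
      obtain ⟨p, hp, c, hc, e, rfl⟩ := h.dec x hx
      exact mul_mem (mem_sup_right hp) (mem_sup_left (mC.2 ⟨hc, e⟩)),
    show C ⊓ P = ⊥ from eq_bot_iff.2 fun x hx => h.fpf x hx.2 (mC.1 hx.1).2, card_bot, h.card] at k1
  have k2 := five_rank h4 ((sqs_le C).trans le) fun x hx => by
    obtain ⟨p, hp, c, hc, e, rfl⟩ := h.dec x hx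
    rw [mul_assoc, ← mul_assoc c, h.cent p hp c hc, mul_assoc, ← mul_assoc, h.el p hp, one_mul]
    exact sq_mem (mC.2 ⟨hc, e⟩)
  obtain ⟨c, hc, e⟩ : ∃ c ∈ C, zpowers c = C := by
    rcases (sqs_le C).eq_or_lt with e | lt
    · exact ⟨1, one_mem _, zpowers_one_eq_bot.trans (eq_of_sup (h2.to_le le) bot_le (by rw [sup_bot_eq, e]))⟩
    obtain ⟨c, hc, hc'⟩ := SetLike.exists_of_lt lt
    refine ⟨c, hc, eq_of_sup (h2.to_le le) (zpowers_le.2 hc) (eq_of_le_of_card_ge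
      (sup_le lt.le (zpowers_le.2 hc)) ?_).ge⟩
    rw [H5.card_sup_zpowers Nat.prime_two (mem_norm_sqs (le_normalizer hc)) hc'
      (by rw [pow_two]; exact sq_mem hc)]
    omega
  refine ⟨c, le hc, (mC.1 hc).2, fun x hx => ?_, by rw [← Nat.card_zpowers, e]; omega⟩
  obtain ⟨p, hp, d, hd, e', rfl⟩ := h.dec x hx
  obtain ⟨i, rfl⟩ : d ∈ zpowers c := e ▸ mC.2 ⟨hd, e'⟩
  exact ⟨p, hp, i, rfl⟩

theorem H7.four (H : H7 π Q s) (h : S7 Q P s) {c : X} (hc : c ∈ Q) (sc : s * c * s⁻¹ = c)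
    (dec : ∀ x ∈ Q, ∃ p ∈ P, ∃ i : ℤ, x = p * c ^ i) : c * c * (c * c) = 1 := by
  by_contra c4
  haveI := H.normal
  have ab : ∀ {x y}, x ∈ Q → y ∈ Q → x * y = y * x := fun {x y} hx hy => by
    obtain ⟨p, hp, i, rfl⟩ := dec x hx
    obtain ⟨q, hq, k, rfl⟩ := dec y hy
    rw [h.cent q hq _ (zpow_mem hc k) |>.symm, ← mul_assoc, h.cent q hq _ (mul_mem hx (zpow_mem hc k)),
      mul_assoc p, ← zpow_add, add_comm, zpow_add, ← mul_assoc p, ← h.cent p hp _ (zpow_mem hc k),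
      h.cent q hq _ (zpow_mem hc k)]
    simp only [mul_assoc]
  have sqm : ∀ {x y}, x ∈ Q → y ∈ Q → x * y * (x * y) = x * x * (y * y) := fun {x y} hx hy => by
    rw [mul_assoc, ← mul_assoc y, ← ab hx hy]; simp only [mul_assoc]
  have sqp : ∀ {p y}, p ∈ P → y ∈ Q → p * y * (p * y) = y * y := fun {p y} hp hy => by
    rw [sqm (h.le hp) hy, h.el p hp, one_mul]
  have zz : ∀ (x : X) (i : ℤ), x ^ i * x ^ i = (x * x) ^ i := fun x i => ((Commute.refl x).mul_zpow i).symm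
  have cc : ∀ g, g * (c * c) * g⁻¹ = c * c := fun g => by
    refine conj_eq_of_cent (H.top (L := centralizer (sqs Q : Set X)) inferInstance
      (fun u hu f hf => ab (sqs_le Q hf) hu) (zpowers_le_cent (fun f hf => mem_cent_iff.1
        ((sqs_le_iff (K := centralizer {s})).2 (fun x hx => ?_) hf)) (mem_zpowers s)) H.sQ g) (sq_mem hc)
    obtain ⟨p, hp, i, rfl⟩ := dec x hx
    rw [sqp hp (zpow_mem hc i)]
    exact mul_mem (zpow_mem (mem_cent_iff.2 sc) i) (zpow_mem (mem_cent_iff.2 sc) i)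
  obtain ⟨d, hd⟩ : ∃ d, d = c * c := ⟨_, rfl⟩
  rw [← hd] at c4 cc
  have dQ : d ∈ Q := hd ▸ mul_mem hc hc
  have cz : ∀ g, ∀ z ∈ zpowers d, g * z * g⁻¹ = z := by
    rintro g _ ⟨i, rfl⟩
    simp only [← conj_zpow, cc]
  have dd : zpowers (d * d) ≤ zpowers d := zpowers_le.2 (mul_mem (mem_zpowers d) (mem_zpowers d))
  haveI : (zpowers d).Normal := ⟨fun z hz g => by rwa [cz g z hz]⟩
  haveI : (zpowers (d * d)).Normal := ⟨fun z hz g => by rwa [cz g z (dd hz)]⟩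
  have ZQ : zpowers d ≤ Q := zpowers_le.2 dQ
  have tp : ∀ g, ∀ u ∈ Q, b g u ∈ omz Q := fun g u hu => tp_of H.normal inferInstance
    (S := insert s Q) (by
      rintro x (rfl | hx) u hu
      · obtain ⟨p, hp, i, rfl⟩ := dec u hu
        have : b x (p * c ^ i) ∈ P := by
          rw [b, cmul, ← conj_zpow, sc]
          simpa using mul_mem (h.inv p hp) (inv_mem hp)
        exact ⟨h.le this, h.el _ this, h.cent _ this⟩
      · rw [b_eq_one_iff.2 (ab hx hu)]; exact one_mem _)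
    (fun L hL hS => H.top hL (fun u hu => hS (Or.inr hu)) (hS (Or.inl rfl)) H.sQ) g hu
  have om2 : ∀ u ∈ Q, u * u * (u * u) = 1 → QuotientGroup.mk' (zpowers d) u ∈
      P.map (QuotientGroup.mk' (zpowers d)) := fun u hu e => by
    obtain ⟨p, hp, i, rfl⟩ := dec u hu
    rw [sqp hp (zpow_mem hc i), zz, zz, ← hd] at e
    obtain ⟨k, rfl⟩ := even_of_zpow H.two (mul_mem dQ dQ) c4 e
    exact ⟨p, hp, QuotientGroup.eq.2 ⟨k, by simp only [hd, zpow_mul, zpow_two, inv_mul_cancel_left]⟩⟩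
  have om1 : ∀ u ∈ omz Q, QuotientGroup.mk' (zpowers d) u ∈ P.map (QuotientGroup.mk' (zpowers d)) :=
    fun u hu => om2 u hu.1 (by rw [hu.2.1, one_mul])
  haveI : (P.map (QuotientGroup.mk' (zpowers d))).Normal := ⟨by
    rintro _ ⟨p, hp, rfl⟩ g
    obtain ⟨g, rfl⟩ := QuotientGroup.mk'_surjective _ g
    have := mul_mem (om1 _ (tp g p (h.le hp))) (mem_map_of_mem _ hp)
    simpa [b] using this⟩
  have PZ : ∀ p ∈ P, p ∈ zpowers d → p = 1 := fun p hp m => h.fpf p hp (cz s p m)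
  obtain ⟨p0, hp0, hp0'⟩ := SetLike.exists_of_lt (bot_lt_iff_ne_bot.2 fun e : P = ⊥ => by
    have := h.card; rw [e, card_bot] at this; omega)
  have H' := H.quot _ ZQ
  obtain ⟨j, ψ', N, hj⟩ := H'.nat (M := P.map (QuotientGroup.mk' (zpowers d))) (map_mono h.le) (by
      rw [← h.card, ← H1.card_map_mk'_mul (zpowers d) P,
        show zpowers d ⊓ P = ⊥ from eq_bot_iff.2 fun p hp => PZ p hp.2 hp.1, card_bot, mul_one])
    (by rintro _ ⟨p, hp, rfl⟩; rw [← map_mul, h.el p hp, map_one])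
    (by rintro _ ⟨p, hp, rfl⟩ _ ⟨u, hu, rfl⟩; rw [← map_mul, h.cent p hp u hu, map_mul])
    (mem_map_of_mem _ hp0) fun e => hp0' (h.fpf p0 hp0 (mul_inv_eq_one.1
      (PZ _ (mul_mem (h.inv p0 hp0) (inv_mem hp0)) (mk_conj_eq_iff.1 e))))
  obtain ⟨m, hm⟩ : ∃ m, m = QuotientGroup.mk' (zpowers d) := ⟨_, rfl⟩
  have mk : ∀ {x y}, m x = m y ↔ x⁻¹ * y ∈ zpowers d := by rw [hm]; exact QuotientGroup.eq
  obtain ⟨ψ, hψ⟩ : ∃ ψ, ψ = ψ'.comp (QuotientGroup.mk' (zpowers d)) := ⟨_, rfl⟩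
  have hs : Function.Surjective ψ := hψ ▸ N.surj.comp (QuotientGroup.mk'_surjective _)
  have hk : ∀ g, ψ g = 1 ↔ g ∈ Q := fun g => by
    rw [hψ, MonoidHom.comp_apply, N.ker, ← H'.ker]; exact H.ker g
  have cj : ∀ {x v} (g : X), m x = j v → m (g * x * g⁻¹) = j (ψ g v) := fun {x v} g e => by
    rw [map_mul, map_mul, map_inv, e, hm, N.conj, hψ]; rfl
  rw [← hm] at hj om1 om2
  have inj := N.inj
  clear hm hψ N H'
  obtain ⟨κ, iκ, k4, hκ⟩ := tr hs hk H.two (W := omz Q) (fun _ hw => hw.1) fun u hu g => tp g u hu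
  have Q1 : ∀ u ∈ commutator X, (∀ v, ψ u v = v) → ∃ v, m u = j v := fun u hu e => by
    refine ((hj _).1 ?_).imp fun _ e => e.symm
    rcases hκ u (mem_of_one hk e) hu with m1 | m1
    · exact om1 u m1
    · have := mul_mem (om2 (κ * κ) (mem_of_one hk fun x => by
        simp only [map_mul, MulAut.mul_apply, iκ _]; revert x; decide +kernel) k4.2.1) (inv_mem (om1 _ m1))
      simpa [mul_assoc] using this
  obtain ⟨q, hq, eq⟩ := (hj _).2 ⟨e1, rfl⟩
  have lift : ∀ {u v w : E}, Function.Injective (lf u v w) → ∃ g ∈ commutator X, Is (ψ g) u v w := by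
    intro u v w hi
    obtain ⟨g, ig⟩ := exists_lift hs hi
    obtain ⟨x, hx, e⟩ := H.exists_comm g
    have := (hk _).2 ((H.ker (g⁻¹ * x)).1 (by rw [map_mul, map_inv, e, inv_mul_cancel]))
    rw [map_mul, map_inv, inv_mul_eq_one] at this
    exact ⟨x, hx, this ▸ ig⟩
  have cq : ∀ y, ψ y e1 = e1 → y * y ∈ centralizer {q} := fun y hy => by
    have z1 := mk.1 (eq.trans ((congrArg j hy).symm.trans (cj y eq).symm))
    have z2 := sqp hq (ZQ z1)
    rw [mul_inv_cancel_left, conj_mul, h.el q hq, mul_one, mul_inv_cancel] at z2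
    refine mem_centralizer_singleton_iff.2 (mul_inv_eq_iff_eq_mul.1 ?_)
    calc _ = y * (q * (q⁻¹ * (y * q * y⁻¹))) * y⁻¹ := by simp [mul_assoc]
      _ = q * (q⁻¹ * (y * q * y⁻¹) * (q⁻¹ * (y * q * y⁻¹))) := by
        rw [cmul, cz y _ z1]; simp [mul_assoc]
      _ = q := by rw [← z2, mul_one]
  obtain ⟨A, hA⟩ : ∃ A : X → Prop, A = fun u => m u = j 1 ∨ m u = j e1 := ⟨_, rfl⟩
  have A1 : ∀ {u}, A u → ∃ z ∈ zpowers d, u = z ∨ u = q * z := by
    rintro u hu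
    rw [hA] at hu
    rcases hu with e | e
    · exact ⟨u, by simpa using mk.1 ((map_one m).trans ((map_one j).symm.trans e.symm)), Or.inl rfl⟩
    · exact ⟨_, mk.1 (eq.trans e.symm), Or.inr (by simp)⟩
  have A2 : ∀ {u y}, A u → y ∈ centralizer {q} → y * u * y⁻¹ = u := fun {u y} hu hy => by
    obtain ⟨z, hz, rfl | rfl⟩ := A1 hu
    · exact cz y _ hz
    · rw [cmul, cz y _ hz, mem_centralizer_singleton_iff.1 hy, mul_inv_cancel_right]
  have sz : ∀ z ∈ zpowers d, z * z ∈ zpowers (d * d) := by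
    rintro _ ⟨i, rfl⟩
    exact ⟨i, (zz d i).symm⟩
  have A3 : ∀ {u}, A u → u * u ∈ zpowers (d * d) := fun {u} hu => by
    obtain ⟨z, hz, rfl | rfl⟩ := A1 hu
    · exact sz _ hz
    · rw [sqp hq (ZQ hz)]; exact sz _ hz
  obtain ⟨L, hL⟩ : ∃ L, L = zpowers q ⊔ zpowers (d * d) := ⟨_, rfl⟩
  have L1 : zpowers (d * d) ≤ L := hL ▸ le_sup_right
  have A4 : ∀ {u}, A u → u * u = 1 → u ∈ L := fun {u} hu e => by
    have k : ∀ z ∈ zpowers d, z * z = 1 → z ∈ L := by
      rintro _ ⟨i, rfl⟩ e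
      obtain ⟨k, rfl⟩ := even_of_zpow H.two (mul_mem dQ dQ) c4 ((zz d i).symm.trans e)
      exact L1 ⟨k, by simp only [zpow_mul, zpow_two]⟩
    obtain ⟨z, hz, rfl | rfl⟩ := A1 hu
    · exact k _ hz e
    · exact mul_mem (hL ▸ mem_sup_left (mem_zpowers q)) (k _ hz ((sqp hq (ZQ hz)).symm.trans e))
  have nL : ∀ y ∈ centralizer ({q} : Set X), y ∈ normalizer (L : Set X) := fun y hy => by
    refine centralizer_le_normalizer _ fun l hl => mem_centralizer_singleton_iff.1 ?_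
    refine (hL ▸ sup_le (zpowers_le.2 ?_) fun z hz => mem_cent_iff.2 (cz y z (dd hz)) :
      L ≤ centralizer {y}) hl
    exact mem_centralizer_singleton_iff.2 (mem_centralizer_singleton_iff.1 hy).symm
  obtain ⟨g, hg, ig⟩ := lift (u := e1) (v := e1 * e2) (w := e2 * e3) (by decide +kernel)
  obtain ⟨a0, ha0, ia0⟩ := lift (u := e1) (v := e3) (w := e2 * e3) (by decide +kernel)
  obtain ⟨r, hr⟩ : ∃ r, r = g * g := ⟨_, rfl⟩
  obtain ⟨a, ha⟩ : ∃ a, a = a0 * a0 * (a0 * a0) := ⟨_, rfl⟩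
  have ir : Is (ψ r) e1 e2 (e1 * e3) := fun x => by
    simp only [hr, map_mul, MulAut.mul_apply, ig _]; revert x; decide +kernel
  have ia : Is (ψ a) e1 e3 (e2 * e3) := fun x => by
    simp only [ha, map_mul, MulAut.mul_apply, ia0 _]; revert x; decide +kernel
  have rX : r ∈ commutator X := hr ▸ mul_mem hg hg
  have aX : a ∈ commutator X := ha ▸ mul_mem (mul_mem ha0 ha0) (mul_mem ha0 ha0)
  have rq : r ∈ centralizer {q} := hr ▸ cq g (by rw [ig]; decide +kernel)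
  have aq : a ∈ centralizer {q} := ha ▸ mul_mem (cq a0 (by rw [ia0]; decide +kernel))
    (cq a0 (by rw [ia0]; decide +kernel))
  have ia' : Is (ψ a⁻¹) e1 (e2 * e3) e2 := ia.inv (by decide +kernel)
  have iri : Is (ψ r⁻¹) e1 e2 (e1 * e3) := ir.inv (by decide +kernel)
  have Ar : A (r * r) := by
    obtain ⟨v, hv⟩ := Q1 _ (mul_mem rX rX) fun x => by
      simp only [map_mul, MulAut.mul_apply, ir _]; revert x; decide +kernel
    have := cj g hv
    rw [show g * (r * r) * g⁻¹ = r * r by simp [hr, mul_assoc], hv, ig] at this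
    rw [hA]
    exact ((by decide +kernel : ∀ v : E, v = lf e1 (e1 * e2) (e2 * e3) v → v = 1 ∨ v = e1) v
      (inj this)).imp (fun e => hv.trans (congrArg j e)) fun e => hv.trans (congrArg j e)
  obtain ⟨r', hr'⟩ : ∃ r', r' = a * r * a⁻¹ := ⟨_, rfl⟩
  obtain ⟨r'', hr''⟩ : ∃ r'', r'' = a * r' * a⁻¹ := ⟨_, rfl⟩
  have ir' : Is (ψ r') e1 (e1 * e2) e3 := fun x => by
    simp only [hr', map_mul, MulAut.mul_apply, ir _, ia _, ia' _]; revert x; decide +kernel
  have ir'' : Is (ψ r'') e1 (e1 * e2) (e1 * e3) := fun x => by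
    simp only [hr'', map_mul, MulAut.mul_apply, ir' _, ia _, ia' _]; revert x; decide +kernel
  have rX' : r' ∈ commutator X := hr' ▸ mul_mem (mul_mem aX rX) (inv_mem aX)
  have rX'' : r'' ∈ commutator X := hr'' ▸ mul_mem (mul_mem aX rX') (inv_mem aX)
  have rq' : r' ∈ centralizer {q} := hr' ▸ mul_mem (mul_mem aq rq) (inv_mem aq)
  have rq'' : r'' ∈ centralizer {q} := hr'' ▸ mul_mem (mul_mem aq rq') (inv_mem aq)
  have s2 : r' * r' = r * r := by rw [hr', conj_mul, A2 Ar aq]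
  have s3 : r'' * r'' = r * r := by rw [hr'', conj_mul, s2, A2 Ar aq]
  have Av : A (r * r' * r'') := by
    obtain ⟨u, hu⟩ := Q1 _ (mul_mem (mul_mem rX rX') rX'') fun x => by
      simp only [map_mul, MulAut.mul_apply, ir _, ir' _, ir'' _]; revert x; decide +kernel
    obtain ⟨k, hk⟩ := Q1 _ (mul_mem (mul_mem aX aX) aX) fun x => by
      simp only [map_mul, MulAut.mul_apply, ia _]; revert x; decide +kernel
    have e1' := cj a hu
    have e : a * (r * r' * r'') * a⁻¹ = r⁻¹ * (r * r' * r'') * r⁻¹⁻¹ *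
        (r⁻¹ * (a * a * a) * r⁻¹⁻¹ * (a * a * a)⁻¹) := by
      rw [cmul, cmul, ← hr', ← hr'']
      conv_lhs => rw [hr'', hr']
      conv_rhs => rw [hr'', hr']
      group
    rw [e, map_mul, map_mul m (r⁻¹ * (a * a * a) * r⁻¹⁻¹), cj _ hu, cj _ hk, map_inv m (a * a * a), hk, j_inv,
      ← map_mul, ← map_mul, iri, iri, ia] at e1'
    rw [hA]
    exact ((by decide +kernel : ∀ u k : E, lf e1 e2 (e1 * e3) u * (lf e1 e2 (e1 * e3) k * k) =
      lf e1 e3 (e2 * e3) u → u = 1 ∨ u = e1) u k (inj e1')).imp (fun e => hu.trans (congrArg j e))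
        fun e => hu.trans (congrArg j e)
  have eβ : r * r * (r * r) * (r * r) * b r r' = r * r' * r'' * (r * r' * r'') := by
    have h1 := A2 Av (inv_mem rq'')
    have h2 := A2 Ar (mul_mem (mul_mem (mul_mem rq rq') (inv_mem rq)) (inv_mem rq'))
    have h3 := A2 Ar (mul_mem rq rq')
    have h4 := A2 Ar (mul_mem (mul_mem rq rq') (inv_mem rq))
    calc _ = r * r' * (r * r) * (r * r')⁻¹ * (r * r' * r⁻¹ * (r * r) * (r * r' * r⁻¹)⁻¹) *
          (r * r' * r⁻¹ * r'⁻¹ * (r * r) * (r * r' * r⁻¹ * r'⁻¹)⁻¹) * b r r' := by rw [h2, h3, h4]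
      _ = r * r' * (r * r) * r * r'⁻¹ * (r * r) := by simp [b, mul_assoc]
      _ = r * r' * (r'' * r'') * r * r'⁻¹ * (r' * r') := by rw [s2, s3]
      _ = r * r' * r'' * (r'' * (r''⁻¹ * (r * r' * r'') * r''⁻¹⁻¹) * r''⁻¹) := by
        rw [h1]; simp [mul_assoc]
      _ = _ := by simp [mul_assoc]
  have dz : ∀ z ∈ zpowers (d * d), m z = 1 := fun z hz =>
    ((mk (x := 1)).2 (by simpa using dd hz)).symm.trans (map_one m)
  have Aβ : A (b r r') := by
    have := congrArg m eβ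
    rw [map_mul, map_mul, dz _ (A3 Ar), dz _ (A3 Av), one_mul, mul_eq_one_iff_inv_eq] at this
    rw [hA] at Ar ⊢
    exact Ar.imp (fun e => by rw [← this, e, j_inv]) fun e => by rw [← this, e, j_inv]
  have βL : b r r' ∈ L := A4 Aβ (by
    have h1 := A2 Aβ rq
    have h2 := A2 Ar rq'
    calc _ = r * b r r' * r⁻¹ * b r r' := by rw [h1]
      _ = r * r * (r' * (r * r) * r'⁻¹)⁻¹ := by simp [b, mul_assoc]
      _ = 1 := by rw [h2, mul_inv_cancel])
  have aL : r * r ∈ L := by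
    have := L1 (A3 Av)
    rwa [← eβ, mul_mem_cancel_right βL, mul_mem_cancel_left (L1 (A3 Ar))] at this
  obtain ⟨R, hR⟩ : ∃ R, R = P ⊔ zpowers d := ⟨_, rfl⟩
  have RQ : R ≤ Q := hR ▸ sup_le h.le ZQ
  have R1 : ∀ u ∈ R, ∃ p ∈ P, ∃ z ∈ zpowers d, p * z = u := fun u hu =>
    mem_sup_of_normal_right.1 (hR ▸ hu)
  have bR : ∀ {t u v w}, Is (ψ t) u v w → (∀ x, lf u v w x * x = 1 ∨ lf u v w x * x = e1) →
      ∀ x ∈ R, b t x ∈ L := fun {t u v w} it e x hx => by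
    refine A4 ?_ (tp t x (RQ hx)).2.1
    obtain ⟨p, hp, z, hz, rfl⟩ := R1 x hx
    obtain ⟨y, hy⟩ := (hj _).1 (mem_map_of_mem m hp)
    have hy' : m (p * z) = j y := (mk.2 (by simpa using hz)).symm.trans hy.symm
    have : m (b t (p * z)) = j (lf u v w y * y) := by
      rw [b, map_mul, cj t hy', map_inv, hy', j_inv, it, map_mul]
    rw [hA]
    exact (e y).imp (fun e => this.trans (congrArg j e)) fun e => this.trans (congrArg j e)
  have b1 := bR ir (by decide +kernel)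
  have b2 := bR ir' (by decide +kernel)
  have bs : ∀ {x y : X}, b x y ∈ L → b y x ∈ L := fun {x y} m => by
    have := inv_mem m
    convert this using 1
    simp only [b]; group
  have b0 : ∀ x, b x x ∈ L := fun x => b_self x ▸ one_mem _
  have sq := sq_closure (T := (R : Set X) ∪ {r, r'}) (L := L) (by
      rintro x (hx | rfl | rfl)
      exacts [nL _ (mem_centralizer_singleton_iff.2 (h.cent q hq x (RQ hx))), nL _ rq, nL _ rq']) (by
      rintro x (hx | rfl | rfl) y (hy | rfl | rfl)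
      exacts [by rw [b_eq_one_iff.2 (ab (RQ hx) (RQ hy))]; exact one_mem _, bs (b1 x hx), bs (b2 x hx),
        b1 y hy, b0 _, βL, b2 y hy, bs βL, b0 _]) (by
      rintro x (hx | rfl | rfl)
      · obtain ⟨p, hp, z, hz, rfl⟩ := R1 x hx
        rw [sqp hp (ZQ hz)]
        exact L1 (sz z hz)
      exacts [aL, s2 ▸ aL])
  have RH : R ≤ closure ((R : Set X) ∪ {r, r'}) := fun x hx => subset_closure (Or.inl hx)
  have PR : P ⊔ zpowers (d * d) ≤ R := hR ▸ sup_le_sup_left dd _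
  have k1 := five_rank H.sr ((hL ▸ sup_le_sup_right (zpowers_le.2 hq) _ :
    L ≤ P ⊔ zpowers (d * d)).trans (PR.trans RH)) sq
  have k2 := big hk (K := P ⊔ zpowers (d * d)) (le_inf (PR.trans RH) (PR.trans RQ))
    (RH (hR ▸ mem_sup_right (mem_zpowers d))) dQ (fun m => by
      obtain ⟨p, hp, _, ⟨i, rfl⟩, e⟩ := mem_sup_of_normal_right.1 m
      obtain rfl := PZ p hp (by
        rw [eq_mul_inv_of_mul_eq e]; exact mul_mem (mem_zpowers d) (inv_mem (dd ⟨i, rfl⟩)))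
      obtain ⟨k, hk⟩ := even_of_zpow H.two dQ (fun e => c4 (by rw [e, one_mul])) (i := 2 * i - 1) (by
        rw [zpow_sub_one, zpow_mul, zpow_two, mul_inv_eq_one]; simpa using e)
      omega)
    (subset_closure (Or.inr (Or.inl rfl))) (subset_closure (Or.inr (Or.inr rfl))) ir ir'
  have k3 := H1.card_sup_mul_card_inf_of_normal P (zpowers (d * d))
  have k4 := H1.card_sup_mul_card_inf_of_normal (zpowers q) (zpowers (d * d))
  rw [show P ⊓ zpowers (d * d) = ⊥ from eq_bot_iff.2 fun p hp => PZ p hp.1 (dd hp.2), card_bot,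
    h.card] at k3
  have k5 := orderOf_le_of_pow_eq_one (x := q) two_pos (by rw [pow_two, h.el q hq])
  rw [← hL, Nat.card_zpowers q] at k4
  have k6 : 0 < Nat.card ↥(zpowers q ⊓ zpowers (d * d)) := Nat.card_pos
  have k7 : 0 < Nat.card ↥(zpowers (d * d)) := Nat.card_pos
  have k8 : Nat.card L ≤ 2 * Nat.card ↥(zpowers (d * d)) := by nlinarith
  omega

theorem H7.main (H : H7 π Q s) (hC : centralizer (Q : Set X) ≤ Q) :
    ((∀ x ∈ Q, x * x = 1) ∧ (Nat.card Q = 8 ∨ Nat.card Q = 16)) ∨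
      Nonempty (Q ≃* Multiplicative (ZMod 4) × E) := by
  haveI := H.normal
  obtain ⟨x, hx, hne⟩ : ∃ x ∈ Q, s * x * s⁻¹ ≠ x := by
    by_contra hc
    push Not at hc
    exact H.sQ (hC (zpowers_le_cent hc (mem_zpowers s)))
  obtain ⟨P, h⟩ := struct7 H.two H.s7 (mem_norm Q s) H.claimA hx hne
  obtain ⟨c, hc, sc, dec, k⟩ := h.cyc H.two H.sr
  have c4 := H.four h hc sc dec
  by_cases c2 : c * c = 1
  · refine Or.inl ⟨fun x hx => ?_, ?_⟩
    · obtain ⟨p, hp, i, rfl⟩ := dec x hx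
      rw [mul_assoc, ← mul_assoc (c ^ i), h.cent p hp _ (zpow_mem hc i), mul_assoc, ← mul_assoc, h.el p hp,
        one_mul, ← (Commute.refl c).mul_zpow, c2, one_zpow]
    · have := orderOf_le_of_pow_eq_one (x := c) two_pos (by rw [pow_two, c2])
      have := orderOf_pos c
      omega
  have o4 : orderOf c = 4 := orderOf_eq_prime_pow (p := 2) (n := 1) (by rwa [pow_one, pow_two])
    (by rw [← c4]; simp [pow_succ, mul_assoc])
  obtain ⟨e⟩ := exists_equiv_E (W := P) (fun p => Subtype.ext (h.el p p.2)) h.card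
  have f : Multiplicative (ZMod 4) ≃* zpowers c :=
    mulEquivOfCyclicCardEq (by rw [Nat.card_zpowers, o4]; simp)
  have fQ : ∀ a, (f a : X) ∈ Q := fun a => zpowers_le.2 hc (f a).2
  let φ : Multiplicative (ZMod 4) × E →* X := ((zpowers c).subtype.comp f.toMonoidHom).noncommCoprod
    (P.subtype.comp e.toMonoidHom) fun a v => h.cent _ (e v).2 _ (fQ a)
  refine Or.inr ⟨(MulEquiv.ofBijective (φ.codRestrict Q fun a => mul_mem (fQ a.1) (h.le (e a.2).2))
    ((Nat.bijective_iff_surjective_and_card _).2 ⟨fun x => ?_, by rw [k, o4]; simp [card_E]⟩)).symm⟩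
  obtain ⟨p, hp, i, e'⟩ := dec x x.2
  refine ⟨(f.symm ⟨c ^ i, i, rfl⟩, e.symm ⟨p, hp⟩), Subtype.ext ?_⟩
  rw [e', ← h.cent p hp _ (zpow_mem hc i)]
  simp [φ]

end H83.R4
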