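import Mathlib
import Cfsg.Agent.Lib.FGS83.R4S

/-!
A central involution with `L₃(2)` above `O₂`.
-/

set_option autoImplicit false

namespace H83.R5

open Subgroup H83.R4

variable {X : Type*} [Group X] {Q : Subgroup X} {z : X} {j : E →* X} {ψ : X →* MulAut E}

set_option synthInstance.maxSize 2048 in
theorem outer (hs : Function.Surjective ψ) (hk : ∀ g, ψ g = 1 ↔ g ∈ Q) {u : X} (h2 : u * u ∈ Q)
    (hu : u ∉ Q) : ∃ k, Is (ψ (k * u * k⁻¹)) e1 e2 (e1 * e3) := by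
  have i := is_self (ψ u)
  rcases (by decide +kernel : ∀ a b c : E, (∀ x, lf a b c (lf a b c x) = x) → (∀ x, lf a b c x = x) ∨
      ∃ x y, lf a b c y = y ∧ Function.Injective (lf (x * lf a b c x) y x) ∧
        ∀ v, lf a b c (lf (x * lf a b c x) y x v) = lf (x * lf a b c x) y x (lf e1 e2 (e1 * e3) v))
    _ _ _ (fun x => by rw [← i, ← i, ← MulAut.mul_apply, ← map_mul, (hk _).2 h2]; rfl) with
    e | ⟨x, y, -, hi, e⟩
  · exact absurd (mem_of_one hk fun v => (i v).trans (e v)) hu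
  obtain ⟨k, ik⟩ := exists_lift hs hi
  refine ⟨k⁻¹, fun v => (ψ k).injective ?_⟩
  rw [← MulAut.mul_apply, ← map_mul, inv_inv, ← mul_assoc, mul_inv_cancel_left, map_mul,
    MulAut.mul_apply, ik, i, e, ik]

/-- A central involution outside a normal eight-group. -/
structure V7 (Q : Subgroup X) (z : X) (j : E →* X) : Prop where
  zz : z * z = 1
  cz : ∀ g, g * z = z * g
  nz : ∀ v, j v ≠ z
  zQ : z ∈ Q
  ab : ∀ x ∈ Q, ∀ y ∈ Q, x * y = y * x
  two : IsPGroup 2 Q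
  sr : SR 4 X

theorem V7.gz (h : V7 Q z j) (g : X) : g * z * g⁻¹ = z := by rw [h.cz, mul_inv_cancel_right]

theorem V7.eq (h : V7 Q z j) (hi : Function.Injective j) {u v : E}
    (e : j u = j v ∨ j u = j v * z) : u = v := by
  rcases e with e | e
  · exact hi e
  · exact absurd (by rw [map_mul, e, ← mul_assoc, j_sq, one_mul]) (h.nz (v * u))

section Split

variable [Finite X] (N : Nt Q j ψ) (h : V7 Q z j)
include N h

theorem rank5 {g a : X} (ig : Is (ψ g) e1 (e1 * e2) (e2 * e3)) (ia : Is (ψ a) e1 e3 (e2 * e3))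
    (hq : ∃ v, g * g * (a * (g * g) * a⁻¹) * (a * (a * (g * g) * a⁻¹) * a⁻¹) = j v ∨
      g * g * (a * (g * g) * a⁻¹) * (a * (a * (g * g) * a⁻¹) * a⁻¹) = j v * z) {v : E}
    (h4 : g * g * (g * g) = j v) : False := by
  obtain ⟨L, hL⟩ : ∃ L, L = zpowers (j e1) := ⟨_, rfl⟩
  have mL : ∀ {v}, v = 1 ∨ v = e1 → j v ∈ L := by
    rintro _ (rfl | rfl)
    exacts [map_one j ▸ one_mem _, hL ▸ mem_zpowers _]
  have cL : ∀ {y}, ψ y e1 = e1 → ∀ l ∈ L, y * l * y⁻¹ = l := by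
    rintro y hy l hl
    obtain ⟨i, rfl⟩ := hL ▸ hl
    simp only [← conj_zpow, N.conj, hy]
  have nL : ∀ {y}, ψ y e1 = e1 → y ∈ normalizer (L : Set X) := fun hy =>
    centralizer_le_normalizer _ fun l hl => (mul_inv_eq_iff_eq_mul.1 (cL hy l hl)).symm
  obtain ⟨r, hr⟩ : ∃ r, r = g * g := ⟨_, rfl⟩
  rw [← hr] at hq h4
  have ir : Is (ψ r) e1 e2 (e1 * e3) := fun x => by
    simp only [hr, map_mul, MulAut.mul_apply, ig _]; revert x; decide +kernel
  have ia' : Is (ψ a⁻¹) e1 (e2 * e3) e2 := ia.inv (by decide +kernel)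
  have a1 : ψ a e1 = e1 := by rw [ia]; decide +kernel
  have s1 : r * r ∈ L := h4 ▸ mL ((by decide +kernel : ∀ v : E, v = lf e1 (e1 * e2) (e2 * e3) v →
    v = 1 ∨ v = e1) v (N.inj (by rw [← ig, ← N.conj, ← h4, hr]; group)))
  obtain ⟨r', hr'⟩ : ∃ r', r' = a * r * a⁻¹ := ⟨_, rfl⟩
  obtain ⟨r'', hr''⟩ : ∃ r'', r'' = a * r' * a⁻¹ := ⟨_, rfl⟩
  rw [← hr', ← hr''] at hq
  have ir' : Is (ψ r') e1 (e1 * e2) e3 := fun x => by
    simp only [hr', map_mul, MulAut.mul_apply, ir _, ia _, ia' _]; revert x; decide +kernel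
  have ir'' : Is (ψ r''⁻¹) e1 (e1 * e2) (e1 * e3) := Is.inv (u := e1) (v := e1 * e2) (w := e1 * e3)
    (fun x => by
      simp only [hr'', map_mul, MulAut.mul_apply, ir' _, ia _, ia' _]; revert x; decide +kernel)
    (by decide +kernel)
  have s2 : r' * r' ∈ L := by rwa [hr', conj_mul, cL a1 _ s1]
  have s3 : r'' * r'' ∈ L := by rwa [hr'', conj_mul, cL a1 _ s2]
  haveI : (zpowers z).Normal := ⟨by
    rintro _ ⟨i, rfl⟩ g
    simp only [← conj_zpow, h.gz]; exact ⟨i, rfl⟩⟩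
  obtain ⟨R, hR⟩ : ∃ R, R = j.range ⊔ zpowers z := ⟨_, rfl⟩
  have R1 : ∀ u ∈ R, ∃ v, u = j v ∨ u = j v * z := fun u hu => by
    obtain ⟨_, ⟨v, rfl⟩, w, hw, rfl⟩ := mem_sup_of_normal_right.1 (hR ▸ hu)
    rcases mem_zpowers_two h.zz hw with rfl | rfl
    exacts [⟨v, Or.inl (mul_one _)⟩, ⟨v, Or.inr rfl⟩]
  have sR : ∀ {x v}, x = j v ∨ x = j v * z → x ∈ Q ∧ x * x = 1 := by
    rintro _ v (rfl | rfl)
    exacts [⟨N.mem v, j_sq j v⟩, ⟨mul_mem (N.mem v) h.zQ, by
      rw [mul_assoc, ← mul_assoc z, ← h.cz, mul_assoc, h.zz, mul_one, j_sq]⟩]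
  have bR : ∀ {t u v w}, Is (ψ t) u v w → (∀ x, lf u v w x * x = 1 ∨ lf u v w x * x = e1) →
      ∀ {x y}, x = j y ∨ x = j y * z → b t x ∈ L := fun {t u v w} it e x y hx => by
    have : b t x = j (lf u v w y * y) := by
      rcases hx with rfl | rfl
      · rw [b, N.conj, j_inv, it, map_mul]
      · rw [b, cmul, N.conj, h.gz, mul_inv_rev, mul_assoc, mul_inv_cancel_left, j_inv, it, map_mul]
    exact this ▸ mL (e y)
  have βL : b r r' ∈ L := by
    obtain ⟨v, hv⟩ := hq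
    have k := mul_mem (mul_mem (mul_mem (inv_mem (bR ir'' (by decide +kernel) hv)) (inv_mem s3))
      (inv_mem s1)) (inv_mem s2)
    have q2 := inv_eq_of_mul_eq_one_left (sR hv).2
    have c := cL (y := r'⁻¹) (by rw [ir'.inv (u' := e1) (v' := e1 * e2) (w' := e3) (by decide +kernel)]
                                 decide +kernel) _ s1
    convert k using 1
    calc _ = r * r' * r'' * (r''⁻¹ * (r * r' * r'') * r'') * (r'' * r'')⁻¹ *
          (r'⁻¹ * (r * r) * r'⁻¹⁻¹)⁻¹ * (r' * r')⁻¹ := by simp only [b]; group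
      _ = _ := by
        generalize r * r' * r'' = q at q2
        rw [c, b]
        simp only [mul_inv_rev, inv_inv, q2, mul_assoc]
  have bs : ∀ {x y : X}, b x y ∈ L → b y x ∈ L := fun {x y} m => by
    have := inv_mem m
    convert this using 1
    simp only [b]; group
  have b0 : ∀ x, b x x ∈ L := fun x => b_self x ▸ one_mem _
  have b1 := fun x hx => bR ir (by decide +kernel) (R1 x hx).choose_spec
  have b2 := fun x hx => bR ir' (by decide +kernel) (R1 x hx).choose_spec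
  have RQ : R ≤ Q := fun x hx => (sR (R1 x hx).choose_spec).1
  have sq := sq_closure (T := (R : Set X) ∪ {r, r'}) (L := L) (by
      rintro x (hx | rfl | rfl)
      exacts [nL (by rw [(N.ker x).2 (RQ hx)]; rfl), nL (by rw [ir]; decide +kernel),
        nL (by rw [ir']; decide +kernel)]) (by
      rintro x (hx | rfl | rfl) y (hy | rfl | rfl)
      exacts [by rw [b_eq_one_iff.2 (h.ab _ (RQ hx) _ (RQ hy))]; exact one_mem _, bs (b1 x hx),
        bs (b2 x hx), b1 y hy, b0 _, βL, b2 y hy, bs βL, b0 _]) (by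
      rintro x (hx | rfl | rfl)
      exacts [(sR (R1 x hx).choose_spec).2 ▸ one_mem _, s1, s2])
  have RH : R ≤ closure ((R : Set X) ∪ {r, r'}) := fun x hx => subset_closure (Or.inl hx)
  have PR : j.range ≤ R := hR ▸ le_sup_left
  have k1 := five_rank h.sr ((hL ▸ zpowers_le.2 ⟨e1, rfl⟩ : L ≤ j.range).trans (PR.trans RH)) sq
  have k2 := big N.ker (K := j.range) (le_inf (PR.trans RH) N.range_le)
    (RH (hR ▸ mem_sup_right (mem_zpowers z))) h.zQ (fun ⟨v, e⟩ => h.nz v e)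
    (subset_closure (Or.inr (Or.inl rfl))) (subset_closure (Or.inr (Or.inr rfl))) ir ir'
  have k5 := orderOf_le_of_pow_eq_one (x := j e1) two_pos (by rw [pow_two, j_sq])
  rw [N.card_range] at k2
  rw [hL, Nat.card_zpowers] at k1
  omega

theorem g4 {Y : Subgroup X} (hY : ∀ φ, ∃ g ∈ Y, ψ g = φ)
    (hW : ∀ u ∈ Y, u ∈ Q → ∃ v, u = j v ∨ u = j v * z) : ∃ g v, Is (ψ g) e1 (e1 * e2) (e2 * e3) ∧
      (v = 1 ∨ v = e1) ∧ g * g * (g * g) = j v * z := by
  obtain ⟨φ, ig⟩ := exists_is (u := e1) (v := e1 * e2) (w := e2 * e3) (by decide +kernel)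
  obtain ⟨g, hg, rfl⟩ := hY φ
  obtain ⟨φ, ia⟩ := exists_is (u := e1) (v := e3) (w := e2 * e3) (by decide +kernel)
  obtain ⟨a, ha, rfl⟩ := hY φ
  have ia' : Is (ψ a⁻¹) e1 (e2 * e3) e2 := ia.inv (by decide +kernel)
  have r := mul_mem hg hg
  have r' := mul_mem (mul_mem ha r) (inv_mem ha)
  obtain ⟨v, e | e⟩ := hW _ (mul_mem r r) (mem_of_one N.ker fun x => by
    simp only [map_mul, MulAut.mul_apply, ig _]; revert x; decide +kernel)
  · exact (rank5 N h ig ia (hW _ (mul_mem (mul_mem r r') (mul_mem (mul_mem ha r') (inv_mem ha)))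
      (mem_of_one N.ker fun x => by
        simp only [map_mul, MulAut.mul_apply, ig _, ia _, ia' _]; revert x; decide +kernel)) e).elim
  · refine ⟨g, v, ig, (by decide +kernel : ∀ v : E, v = lf e1 (e1 * e2) (e2 * e3) v →
      v = 1 ∨ v = e1) v (N.inj (mul_right_cancel (b := z) ?_)), e⟩
    rw [← ig, ← N.conj, ← h.gz g, conj_mul, h.gz, ← e]; group

omit [Finite X] in
theorem no_inv {g : X} {v : E} (e : g * g * (g * g) = j v * z) {q : X} {m : E} (hq : q = j m ∨ q = j m * z) :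
    q * (g * g) * (q * (g * g)) ≠ 1 := fun e' => by
  have : q * (g * (g * q * g⁻¹) * g⁻¹) * (g * g * (g * g)) = 1 := by rw [← e']; simp [mul_assoc]
  refine h.nz (m * ψ g (ψ g m) * v) (eq_inv_of_mul_eq_one_left ?_ |>.trans
    (inv_eq_of_mul_eq_one_left h.zz))
  rw [← this, e, map_mul, map_mul]
  rcases hq with rfl | rfl
  · rw [N.conj, N.conj, mul_assoc]
  · rw [cmul g (j m), N.conj, h.gz, cmul, N.conj, h.gz, mul_assoc _ z, ← mul_assoc z, ← h.cz, mul_assoc _ z,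
      h.zz, mul_one, mul_assoc]

theorem no16 (hW : ∀ u ∈ Q, ∃ v, u = j v ∨ u = j v * z) {u : X} (h2 : u * u = 1) : u ∈ Q := by
  by_contra hu
  obtain ⟨k, ik⟩ := outer N.surj N.ker (h2 ▸ one_mem _) hu
  obtain ⟨g, v, ig, hv, e⟩ := g4 N h (Y := ⊤) (fun φ => (N.surj φ).imp fun _ e => ⟨trivial, e⟩)
    fun u _ => hW u
  obtain ⟨m, hm⟩ := hW _ (mem_of_eq N.ker (x := k * u * k⁻¹) (y := g * g) fun x => by
    simp only [ik _, map_mul ψ g, MulAut.mul_apply, ig _]; revert x; decide +kernel)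
  exact no_inv N h e hm (by rw [inv_mul_cancel_right, conj_mul, h2]; simp)

end Split

/-- Coordinates modulo the central involution. -/
structure U7 (Q : Subgroup X) (z : X) (j : E →* X) (ψ : X →* MulAut E) : Prop extends V7 Q z j where
  inj : Function.Injective j
  conj : ∀ g v, g * j v * g⁻¹ = j (ψ g v) ∨ g * j v * g⁻¹ = j (ψ g v) * z
  surj : Function.Surjective ψ
  ker : ∀ g, ψ g = 1 ↔ g ∈ Q
  mem : ∀ v, j v ∈ Q
  tr : ∀ v, v ≠ 1 → ∃ k, k * j e1 * k⁻¹ = j v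
  cent : centralizer (Q : Set X) ≤ Q

namespace U7

variable (h : U7 Q z j ψ)
include h

theorem z1 : z ≠ 1 := fun e => h.nz 1 (by rw [e, map_one])

theorem psi {g : X} {u v : E} (e : g * j u * g⁻¹ = j v ∨ g * j u * g⁻¹ = j v * z) : ψ g u = v := by
  refine h.toV7.eq h.inj ?_
  rcases h.conj g u with e' | e' <;> rcases e with e | e <;> rw [e'] at e
  exacts [Or.inl e, Or.inr e, Or.inr (by rw [← e, mul_assoc, h.zz, mul_one]),
    Or.inl (mul_right_cancel e)]

theorem act {g k : X} (e : ∀ v, ψ g v = ψ k v) {x : X} (hx : x ∈ Q) : g * x * g⁻¹ = k * x * k⁻¹ := by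
  have := h.ab _ (mem_of_eq' h.ker e) x hx
  calc _ = k * (k⁻¹ * g * x) * g⁻¹ := by group
    _ = _ := by rw [this]; group

theorem sq_fix {g : X} {v : E} (e : ψ g v = v) : g * g * j v * (g * g)⁻¹ = j v := by
  rw [show g * g * j v * (g * g)⁻¹ = g * (g * j v * g⁻¹) * g⁻¹ by group]
  rcases h.conj g v with e' | e' <;> rw [e] at e' <;> rw [e']
  · exact e'
  · rw [cmul, e', h.toV7.gz, mul_assoc, h.zz, mul_one]

theorem center {t : X} (h2 : t * t ∈ Q) (v : E) : t * j (v * ψ t v) * t⁻¹ = j (v * ψ t v) := by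
  have k : t * (j v * (t * j v * t⁻¹)) * t⁻¹ = j v * (t * j v * t⁻¹) := by
    rw [cmul, show t * (t * j v * t⁻¹) * t⁻¹ = t * t * j v * (t * t)⁻¹ by group, h.ab _ h2 _ (h.mem v),
      mul_inv_cancel_right]
    rcases h.conj t v with e | e <;> rw [e]
    exacts [h.ab _ (h.mem _) _ (h.mem _), h.ab _ (mul_mem (h.mem _) h.zQ) _ (h.mem _)]
  rw [map_mul]
  rcases h.conj t v with e | e <;> rw [e] at k
  · exact k
  · rw [← mul_assoc (j v), cmul, h.toV7.gz] at k
    exact mul_right_cancel k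

theorem dich : Nt Q j ψ ∨ ∀ t, Is (ψ t) e1 e2 (e1 * e3) → t * j e2 * t⁻¹ = j e2 * z := by
  obtain ⟨β, iβ⟩ := exists_lift h.surj (u := e1) (v := e2) (w := e1 * e2 * e3) (by decide +kernel)
  have := h.conj β e1
  rw [iβ, show lf e1 e2 (e1 * e2 * e3) e1 = e1 by decide +kernel] at this
  rcases this with e | e
  · obtain ⟨a, ia⟩ := exists_lift h.surj (u := e1) (v := e2 * e3) (w := e2) (by decide +kernel)
    have st : ∀ g, ψ g e1 = e1 → g * j e1 * g⁻¹ = j e1 := fun g hg => mul_inv_eq_iff_eq_mul.2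
      (mem_centralizer_singleton_iff.1 (gen_S4 h.ker (K := centralizer {j e1}) (a := a * a)
        (fun u hu => mem_centralizer_singleton_iff.2 (h.ab u hu _ (h.mem _)))
        (mem_centralizer_singleton_iff.2 (mul_inv_eq_iff_eq_mul.1 (h.sq_fix (by rw [ia]; decide +kernel))))
        (mem_centralizer_singleton_iff.2 (mul_inv_eq_iff_eq_mul.1 e)) (fun x => by
          simp only [map_mul, MulAut.mul_apply, ia _]; revert x; decide +kernel) iβ hg))
    refine Or.inl ⟨h.inj, fun g v => ?_, h.surj, h.ker, h.mem⟩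
    by_cases hv : v = 1
    · simp [hv]
    obtain ⟨k, e⟩ := h.tr v hv
    obtain ⟨l, e'⟩ := h.tr (ψ g v) (by simpa using hv)
    have := st (l⁻¹ * g * k) (by
      rw [map_mul, map_mul, MulAut.mul_apply, MulAut.mul_apply, h.psi (Or.inl e), map_inv]
      exact (ψ l).symm_apply_eq.2 (h.psi (Or.inl e')).symm)
    rw [← e', ← e]
    calc _ = l * (l⁻¹ * g * k * j e1 * (l⁻¹ * g * k)⁻¹) * l⁻¹ := by group
      _ = _ := by rw [this]
  · obtain ⟨k, ik⟩ := exists_lift h.surj (u := e2) (v := e1 * e2) (w := e3) (by decide +kernel)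
    have ik' : Is (ψ k⁻¹) (e1 * e2) e1 e3 := ik.inv (by decide +kernel)
    refine Or.inr fun t it => ?_
    rw [h.act (k := k * β * k⁻¹) (fun x => by
      simp only [it _, map_mul, MulAut.mul_apply, ik _, ik' _, iβ _]; revert x; decide +kernel) (h.mem _)]
    have k1 : k * β * k⁻¹ * (k * j e1 * k⁻¹) * (k * β * k⁻¹)⁻¹ = k * j e1 * k⁻¹ * z := by
      calc _ = k * (β * j e1 * β⁻¹) * k⁻¹ := by group
        _ = _ := by rw [e, cmul, h.toV7.gz]
    have := h.conj k e1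
    rw [ik, show lf e2 (e1 * e2) e3 e1 = e2 by decide +kernel] at this
    rcases this with e | e <;> rw [e] at k1
    · exact k1
    · rw [cmul, h.toV7.gz] at k1
      exact mul_right_cancel k1

theorem syl [Finite X] : IsPGroup 2 (flag.comap ψ) ∧ (flag.comap ψ).index = 21 ∧ Q ≤ flag.comap ψ :=
  ⟨flag_isP.comap_of_ker_isPGroup ψ (by rw [show ψ.ker = Q from Subgroup.ext h.ker]; exact h.two),
    by rw [index_comap_of_surjective _ h.surj, index_flag],
    fun u hu => mem_comap.2 (by rw [(h.ker u).2 hu]; exact one_mem _)⟩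

end U7

theorem exists_u7 [Finite X] {G : Type*} [Group G] {π : X →* G} {s : X} (H : H7 π Q s)
    (hC : centralizer (Q : Set X) ≤ Q) (zz : z * z = 1) (z1 : z ≠ 1) (cz : ∀ g, g * z = z * g) :
    ∃ j ψ, U7 Q z j ψ ∧ ((∀ u ∈ Q, ∃ v, u = j v ∨ u = j v * z) ∨ ∃ c ∈ Q, c * c = z ∧
      (∀ u ∈ Q, b s u ∈ j.range) ∧
      ∀ u ∈ Q, ∃ v, (u = j v ∨ u = j v * z) ∨ u = j v * c ∨ u = j v * c * z) := by
  haveI := H.normal
  obtain ⟨x, hx, hne⟩ : ∃ x ∈ Q, s * x * s⁻¹ ≠ x := by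
    by_contra hc
    push Not at hc
    exact H.sQ (hC (zpowers_le_cent hc (mem_zpowers s)))
  obtain ⟨P, h⟩ := struct7 H.two H.s7 (mem_norm Q s) H.claimA hx hne
  obtain ⟨c, hc, sc, dec, -⟩ := h.cyc H.two H.sr
  have c4 := H.four h hc sc dec
  have ab : ∀ x ∈ Q, ∀ y ∈ Q, x * y = y * x := fun x hx y hy => by
    obtain ⟨p, hp, i, rfl⟩ := dec x hx
    obtain ⟨q, hq, k, rfl⟩ := dec y hy
    have c1 : Commute p (q * c ^ k) := (h.cent p hp _ hy).symm
    have c2 : Commute (c ^ i) q := h.cent q hq _ (zpow_mem hc i)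
    exact c1.mul_left (c2.mul_right (Commute.zpow_zpow_self c i k))
  have d4 : ∀ i : ℤ, c ^ i = 1 ∨ c ^ i = c * c ∨ c ^ i = c ∨ c ^ i = c * (c * c) := fun i => by
    rcases Int.even_or_odd' i with ⟨k, rfl | rfl⟩
    · rw [zpow_mul, zpow_two]
      rcases mem_zpowers_two c4 ⟨k, rfl⟩ with e | e
      exacts [Or.inl e, Or.inr (Or.inl e)]
    · rw [add_comm, zpow_one_add, zpow_mul, zpow_two]
      rcases mem_zpowers_two c4 ⟨k, rfl⟩ with e | e <;> simp only at e <;> rw [e]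
      exacts [Or.inr (Or.inr (Or.inl (mul_one _))), Or.inr (Or.inr (Or.inr rfl))]
  have gz : ∀ g, g * z * g⁻¹ = z := fun g => by rw [cz, mul_inv_cancel_right]
  have zQ : z ∈ Q := hC fun g _ => cz g
  have zc : z = c ∨ z = c * c := by
    obtain ⟨p, hp, i, e⟩ := dec z zQ
    have := gz s
    rw [e, cmul, ← conj_zpow, sc] at this
    rw [h.fpf p hp (mul_right_cancel this), one_mul] at e
    rcases d4 i with f | f | f | f <;> rw [f] at e
    exacts [absurd e z1, Or.inr e, Or.inl e, Or.inl (by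
      have : c * c = 1 := by
        rw [← zz, e, mul_assoc, mul_assoc, ← mul_assoc c c (c * c), c4, mul_one]
      rw [e, this, mul_one])]
  have om : ∀ u ∈ Q, u * u = 1 → ∃ p ∈ P, u = p ∨ u = p * z := fun u hu e => by
    obtain ⟨p, hp, i, rfl⟩ := dec u hu
    rw [mul_assoc, ← mul_assoc _ p, h.cent p hp _ (zpow_mem hc i), mul_assoc, ← mul_assoc, h.el p hp,
      one_mul] at e
    refine ⟨p, hp, ?_⟩
    rcases zc with rfl | rfl <;> rcases d4 i with f | f | f | f <;> rw [f] at e ⊢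
    exacts [Or.inl (mul_one _), Or.inl (by rw [zz, mul_one]), Or.inr rfl, Or.inr (by rw [zz, mul_one]),
      Or.inl (mul_one _), Or.inr rfl, absurd e z1, absurd (by
        rwa [mul_assoc, mul_assoc, ← mul_assoc c c (c * c), c4, mul_one] at e) z1]
  haveI : (zpowers z).Normal := ⟨by
    rintro _ ⟨i, rfl⟩ g
    simp only [← conj_zpow, gz]; exact ⟨i, rfl⟩⟩
  have mk : ∀ {x y}, QuotientGroup.mk' (zpowers z) x = QuotientGroup.mk' (zpowers z) y →
      y = x ∨ y = x * z := fun {x y} e => by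
    rcases mem_zpowers_two zz (QuotientGroup.eq.1 e) with e | e
    exacts [Or.inl (inv_mul_eq_one.1 e).symm, Or.inr (inv_mul_eq_iff_eq_mul.1 e)]
  have mz : QuotientGroup.mk' (zpowers z) z = 1 := (QuotientGroup.eq_one_iff z).2 (mem_zpowers z)
  have zP : z ∉ P := fun m => z1 (h.fpf z m (gz s))
  have pi : Function.Injective ((QuotientGroup.mk' (zpowers z)).subgroupMap P) := fun p q e => by
    rcases mk (congrArg Subtype.val e) with e | e
    · exact Subtype.ext e.symm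
    · exact absurd ((mul_mem_cancel_left p.2).1 (e ▸ q.2)) zP
  haveI : (P.map (QuotientGroup.mk' (zpowers z))).Normal := ⟨by
    rintro _ ⟨p, hp, rfl⟩ g
    obtain ⟨g, rfl⟩ := QuotientGroup.mk'_surjective _ g
    obtain ⟨q, hq, e | e⟩ := om _ (H.normal.conj_mem p (h.le hp) g) (by rw [conj_mul, h.el p hp]; simp) <;>
      refine ⟨q, hq, ?_⟩ <;> rw [← map_inv, ← map_mul, ← map_mul, e]
    rw [map_mul, mz, mul_one]⟩
  let ε := MulEquiv.ofBijective _ ⟨pi, MonoidHom.subgroupMap_surjective _ P⟩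
  obtain ⟨p0, hp0, hp0'⟩ := SetLike.exists_of_lt (bot_lt_iff_ne_bot.2 fun e : P = ⊥ => by
    have := h.card; rw [e, card_bot] at this; omega)
  have H' := H.quot _ (zpowers_le.2 zQ)
  obtain ⟨j', ψ', N, hj⟩ := H'.nat (M := P.map (QuotientGroup.mk' (zpowers z))) (map_mono h.le)
    (by rw [← Nat.card_congr ε.toEquiv, h.card])
    (by rintro _ ⟨p, hp, rfl⟩; rw [← map_mul, h.el p hp, map_one])
    (by rintro _ ⟨p, hp, rfl⟩ _ ⟨u, hu, rfl⟩; rw [← map_mul, h.cent p hp u hu, map_mul])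
    (mem_map_of_mem _ hp0) fun e => hp0' (h.fpf p0 hp0 (congrArg Subtype.val
      (pi (a₁ := ⟨_, h.inv p0 hp0⟩) (a₂ := ⟨p0, hp0⟩) (Subtype.ext e))))
  obtain ⟨j, j1, j2⟩ : ∃ j : E →* X, (∀ v, j v ∈ P) ∧ ∀ v, QuotientGroup.mk' (zpowers z) (j v) = j' v :=
    ⟨P.subtype.comp (ε.symm.toMonoidHom.comp (j'.codRestrict _ fun v => (hj _).2 ⟨v, rfl⟩)),
      fun v => (ε.symm _).2, fun v => congrArg Subtype.val (ε.apply_symm_apply _)⟩
  have j3 : ∀ p ∈ P, ∃ v, j v = p := fun p hp => ((hj _).1 (mem_map_of_mem _ hp)).imp fun v e =>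
    congrArg Subtype.val (pi (a₁ := ⟨_, j1 v⟩) (a₂ := ⟨p, hp⟩) (Subtype.ext ((j2 v).trans e)))
  have ji : Function.Injective j := fun u v e => N.inj (by rw [← j2, e, j2])
  refine ⟨j, ψ'.comp (QuotientGroup.mk' _), ⟨⟨zz, cz, fun v e => zP (e ▸ j1 v), zQ, ab, H.two, H.sr⟩,
    ji, fun g v => mk ?_, N.surj.comp (QuotientGroup.mk'_surjective _), fun g => ?_,
    fun v => h.le (j1 v), fun v hv => ?_, hC⟩, ?_⟩
  · rw [j2, map_mul, map_mul, map_inv, j2, N.conj]; rfl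
  · rw [MonoidHom.comp_apply, N.ker, ← H'.ker]; exact H.ker g
  · refine (orb7' h.card H.s7 (S := {x | x ∈ P ∧ ∃ k, k * j e1 * k⁻¹ = x}) ?_ ?_ h.fpf
      ⟨_, j1 e1, 1, by simp⟩ _ (j1 v) fun e => hv (ji (e.trans (map_one j).symm))).2
    · rintro _ ⟨hx, k, rfl⟩
      exact ⟨hx, fun e => absurd (ji ((conj_eq_one_iff.1 e).trans (map_one j).symm)) (by decide +kernel)⟩
    · rintro _ ⟨hx, k, rfl⟩
      exact ⟨h.inv _ hx, s * k, by group⟩
  rcases zc with rfl | rfl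
  · refine Or.inl fun u hu => ?_
    obtain ⟨p, hp, e⟩ := om u hu (by
      obtain ⟨p, hp, i, rfl⟩ := dec u hu
      rw [mul_assoc, ← mul_assoc _ p, h.cent p hp _ (zpow_mem hc i), mul_assoc, ← mul_assoc, h.el p hp,
        one_mul, ← (Commute.refl z).mul_zpow, zz, one_zpow])
    obtain ⟨v, rfl⟩ := j3 p hp
    exact ⟨v, e⟩
  · refine Or.inr ⟨c, hc, rfl, fun u hu => ?_, fun u hu => ?_⟩ <;> obtain ⟨p, hp, i, rfl⟩ := dec u hu
    · rw [b, cmul, ← conj_zpow, sc]
      simpa using j3 _ (mul_mem (h.inv p hp) (inv_mem hp))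
    · obtain ⟨v, rfl⟩ := j3 p hp
      refine ⟨v, ?_⟩
      rcases d4 i with f | f | f | f <;> rw [f]
      exacts [Or.inl (Or.inl (mul_one _)), Or.inl (Or.inr rfl), Or.inr (Or.inl rfl),
        Or.inr (Or.inr (mul_assoc _ _ _).symm)]

end H83.R5
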