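import Mathlib

/-!
# Base sizes, part A: the wreath lemma, generating chains and rigid colourings (helper83)
-/

set_option autoImplicit false

namespace H83.Base

open Subgroup

theorem exists_max_bdd {α : Type*} (T : Set α) (f : α → ℕ) (n : ℕ) (h : ∀ a ∈ T, f a ≤ n)
    (hT : T.Nonempty) : ∃ a ∈ T, ∀ b ∈ T, f b ≤ f a := by
  obtain ⟨a, ha, hm⟩ := WellFounded.has_min (measure fun a => n - f a).wf T hT
  refine ⟨a, ha, fun b hb => ?_⟩
  have h1 : ¬ (n - f b < n - f a) := hm b hb
  have := h a ha
  have := h b hb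
  omega

theorem wreath {G I S C : Type*} [Group G] [MulAction G I] [MulAction G S] (R : I → S → Prop)
    (hR : ∀ (g : G) i s, R i s → R (g • i) (g • s))
    (h : ∀ i, ∃ (g : G) (σ : C → S), (∀ c, R (g • i) (σ c)) ∧
      ∀ (x : G) c c', x • g • i = g • i → x • σ c = σ c' → c = c')
    (f : I → C) :
    ∃ s : I → S, (∀ i, R i (s i)) ∧
      ∀ g : G, (∀ i, g • s i = s (g • i)) → ∀ i, f (g • i) = f i := by
  classical
  choose g σ h1 h2 using h
  let o : I → I := fun i => (Quotient.mk (MulAction.orbitRel G I) i).out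
  have ho : ∀ i, ∃ k : G, k • g (o i) • o i = i := by
    intro i
    have : (MulAction.orbitRel G I) (o i) i :=
      Quotient.exact (Quotient.out_eq (Quotient.mk (MulAction.orbitRel G I) i))
    obtain ⟨k, hk⟩ := MulAction.orbitRel_apply.1 this
    refine ⟨k⁻¹ * (g (o i))⁻¹, ?_⟩
    rw [mul_smul, inv_smul_smul, ← hk]
    exact inv_smul_smul k i
  have hoo : ∀ (x : G) i, o (x • i) = o i := by
    intro x i
    have : Quotient.mk (MulAction.orbitRel G I) (x • i) = Quotient.mk (MulAction.orbitRel G I) i :=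
      Quotient.sound (MulAction.orbitRel_apply.2 ⟨x, rfl⟩)
    simp only [o, this]
  choose k hk using ho
  refine ⟨fun i => k i • σ (o i) (f i), fun i => ?_, fun x hx i => ?_⟩
  · have := hR (k i) _ _ (h1 (o i) (f i))
    rwa [hk] at this
  · have h3 := hx i
    simp only at h3
    rw [hoo] at h3
    symm
    refine h2 (o i) ((k (x • i))⁻¹ * x * k i) _ _ ?_ ?_
    · rw [mul_smul, mul_smul, hk, inv_smul_eq_iff, ← hoo x i, hk]
    · rw [mul_smul, mul_smul, h3, inv_smul_smul]

section Chain

variable {X : Type*} [CommGroup X]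

/-- subgroup generated by the first `j` terms -/
def Yc (x : ℕ → X) (j : ℕ) : Subgroup X := closure (x '' Set.Iio j)

theorem Yc_mono (x : ℕ → X) {i j : ℕ} (h : i ≤ j) : Yc x i ≤ Yc x j :=
  closure_mono (Set.image_mono (Set.Iio_subset_Iio h))

theorem mem_Yc (x : ℕ → X) {i j : ℕ} (h : i < j) : x i ∈ Yc x j :=
  subset_closure ⟨i, h, rfl⟩

theorem Yc_le {x : ℕ → X} {j : ℕ} {D : Subgroup X} (h : ∀ i < j, x i ∈ D) : Yc x j ≤ D :=
  (closure_le _).2 (by rintro _ ⟨i, hi, rfl⟩; exact h i hi)

theorem fix_Yc {x : ℕ → X} {j : ℕ} (π : X →* X) (h : ∀ i < j, π (x i) = x i) {a : X}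
    (ha : a ∈ Yc x j) : π a = a :=
  Yc_le (D := π.eqLocus (MonoidHom.id X)) h ha

structure Chain (k : ℕ) (x : ℕ → X) : Prop where
  nm : ∀ j ≤ k, x j ∉ Yc x j
  top : Yc x (k + 1) = ⊤

theorem exists_chain [Finite X] (P : X → Prop) (x0 : X) (h0 : x0 ≠ 1) (hx0 : P x0)
    (hP : ∀ Y : Subgroup X, Y ≠ ⊤ → x0 ∈ Y → ∃ a, a ∉ Y ∧ P a) :
    ∃ k x, Chain k x ∧ x 0 = x0 ∧ ∀ j, P (x j) := by
  classical
  let T : Set (ℕ × (ℕ → X)) :=
    {p | (∀ j ≤ p.1, p.2 j ∉ Yc p.2 j) ∧ p.2 0 = x0 ∧ ∀ j, P (p.2 j)}
  have hT : T.Nonempty := by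
    refine ⟨(0, fun _ => x0), ?_, rfl, fun _ => hx0⟩
    intro j hj
    obtain rfl : j = 0 := by simpa using hj
    simpa [Yc] using h0
  obtain ⟨⟨k, x⟩, ⟨h1, h2, h3⟩, hmax⟩ := exists_max_bdd T
    (fun p => Nat.card (Yc p.2 (p.1 + 1))) (Nat.card X) (fun p _ => card_le_card_group _) hT
  simp only at h1 h2 h3 hmax
  refine ⟨k, x, ⟨h1, ?_⟩, h2, h3⟩
  by_contra hne
  obtain ⟨a, ha, hPa⟩ := hP _ hne (h2 ▸ mem_Yc x (Nat.succ_pos k))
  have hY : ∀ j ≤ k + 1, Yc (Function.update x (k + 1) a) j = Yc x j := by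
    intro j hj
    unfold Yc
    congr 1
    refine Set.image_congr fun i hi => Function.update_of_ne ?_ _ _
    have : i < j := hi
    omega
  have hmem : (k + 1, Function.update x (k + 1) a) ∈ T := by
    refine ⟨fun j hj => ?_, ?_, fun j => ?_⟩
    · simp only at hj ⊢
      rw [hY j hj]
      rcases Nat.lt_or_eq_of_le hj with hj | rfl
      · rw [Function.update_of_ne hj.ne]; exact h1 j (by omega)
      · rwa [Function.update_self]
    · simp only
      rw [Function.update_of_ne (by omega)]; exact h2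
    · simp only
      by_cases hj : j = k + 1
      · subst hj; rwa [Function.update_self]
      · rw [Function.update_of_ne hj]; exact h3 j
  have h4 := hmax _ hmem
  simp only at h4
  have h5 : Yc x (k + 1) ≤ Yc (Function.update x (k + 1) a) (k + 1 + 1) := by
    rw [← hY (k + 1) le_rfl]; exact Yc_mono _ (by omega)
  have h6 := eq_of_le_of_card_ge h5 h4
  apply ha
  rw [h6]
  have := mem_Yc (Function.update x (k + 1) a) (Nat.lt_succ_self (k + 1))
  rwa [Function.update_self] at this

variable {k : ℕ} {x : ℕ → X}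

theorem Chain.uniq (h : Chain k x) {i j : ℕ} (hi : i ≤ k) (hj : j ≤ k) {a b : X}
    (ha : a ∈ Yc x i) (hb : b ∈ Yc x j) (e : a * x i = b * x j) : i = j := by
  rcases lt_trichotomy i j with hij | hij | hij
  · exfalso
    apply h.nm j hj
    have : x j = b⁻¹ * (a * x i) := by rw [e]; group
    rw [this]
    exact mul_mem (inv_mem hb) (mul_mem (Yc_mono x hij.le ha) (mem_Yc x hij))
  · exact hij
  · exfalso
    apply h.nm i hi
    have : x i = a⁻¹ * (b * x j) := by rw [← e]; group
    rw [this]
    exact mul_mem (inv_mem ha) (mul_mem (Yc_mono x hij.le hb) (mem_Yc x hij))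

theorem Chain.ne_one (h : Chain k x) {i : ℕ} (hi : i ≤ k) : x i ≠ 1 := fun e =>
  h.nm i hi (e ▸ one_mem _)

theorem Chain.inj (h : Chain k x) {i j : ℕ} (hi : i ≤ k) (hj : j ≤ k) (e : x i = x j) : i = j :=
  h.uniq hi hj (one_mem _) (one_mem _) (by rw [e])

theorem Chain.nm' (h : Chain k x) {i j : ℕ} (hj : j ≤ k) (hij : i ≤ j) {a : X} (ha : a ∈ Yc x j) :
    a * x j ∉ Yc x i := fun hm => h.nm j hj <| by
  have : x j = a⁻¹ * (a * x j) := by group
  rw [this]
  exact mul_mem (inv_mem ha) (Yc_mono x hij hm)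

theorem Chain.card [Finite X] (h : Chain k x) {r : ℕ}
    (hr : ∀ d, d ∣ Nat.card X → 1 < d → r ≤ d) {j : ℕ} (hj : j ≤ k + 1) {i : ℕ} (hi : i ≤ j) :
    Nat.card (Yc x i) * r ^ (j - i) ≤ Nat.card (Yc x j) := by
  induction j, hi using Nat.le_induction with
  | base => simp
  | succ j hij ih =>
    have h1 := ih (by omega)
    obtain ⟨d, hd⟩ := card_dvd_of_le (Yc_mono x (Nat.le_succ j))
    have hd1 : 1 < d := by
      by_contra hc
      have hpos : 0 < Nat.card (Yc x (j + 1)) := Nat.card_pos
      have : d = 1 := by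
        rcases d with _ | d
        · simp at hd; omega
        · omega
      subst this
      have := eq_of_le_of_card_ge (Yc_mono x (Nat.le_succ j)) (by rw [hd]; simp)
      exact h.nm j (by omega) (this ▸ mem_Yc x (Nat.lt_succ_self j))
    have h2 := hr d ((Dvd.intro_left _ hd.symm).trans (card_subgroup_dvd_card _)) hd1
    rw [show j + 1 - i = (j - i) + 1 by omega, pow_succ, ← mul_assoc]
    calc _ ≤ Nat.card (Yc x j) * d := Nat.mul_le_mul h1 h2
      _ = _ := hd.symm

theorem Chain.pow_le [Finite X] (h : Chain k x) {r : ℕ}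
    (hr : ∀ d, d ∣ Nat.card X → 1 < d → r ≤ d) : r ^ (k + 1) ≤ Nat.card X := by
  have := h.card hr le_rfl (Nat.zero_le _)
  rw [h.top, card_top] at this
  have h1 : 0 < Nat.card (Yc x 0) := Nat.card_pos
  calc r ^ (k + 1) = 1 * r ^ (k + 1 - 0) := by simp
    _ ≤ _ := Nat.mul_le_mul_right _ h1
    _ ≤ _ := this

/-- the set of marked elements -/
def InS (k : ℕ) (x : ℕ → X) (a : X) : Prop :=
  ∃ j < k, a = x (j + 1) ∨ a = x j * x (j + 1)

theorem Chain.fix_top (h : Chain k x) (π : X →* X) (hx : ∀ i ≤ k, π (x i) = x i) (a : X) :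
    π a = a :=
  fix_Yc π (j := k + 1) (fun i hi => hx i (by omega)) (h.top ▸ mem_top a)

theorem Chain.eq_top (h : Chain k x) (D : Subgroup X) (hx : ∀ i ≤ k, x i ∈ D) : D = ⊤ :=
  top_le_iff.1 (h.top ▸ Yc_le fun i hi => hx i (by omega))

theorem Chain.InS_nm (h : Chain k x) {a : X} (ha : InS k x a) : a ∉ Yc x 1 := by
  obtain ⟨j, hj, rfl | rfl⟩ := ha
  · simpa using h.nm' (i := 1) (j := j + 1) hj (by omega) (one_mem _)
  · exact h.nm' hj (by omega) (mem_Yc x (Nat.lt_succ_self j))

theorem Chain.rigid (h : Chain k x) (π : X →* X) (hπ : Function.Injective π)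
    (h0 : π (x 0) = x 0) (hS : ∀ a, InS k x a → InS k x (π a) ∨ π a ∈ Yc x 1)
    (hsq : ∀ j < k, π (x (j + 1)) = x j * x (j + 1) → x j * x j ≠ 1) (a : X) : π a = a := by
  refine h.fix_top π (fun i => ?_) a
  induction i using Nat.strong_induction_on with
  | _ i ih =>
  intro hi
  rcases i with _ | j
  · exact h0
  have hj : j < k := hi
  have hfix : ∀ b ∈ Yc x (j + 1), π b = b := fun b hb =>
    fix_Yc π (fun i hi => ih i hi (by omega)) hb
  have hxj : x j ∈ Yc x (j + 1) := mem_Yc x (Nat.lt_succ_self j)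
  have hn : ∀ b ∈ Yc x (j + 1), b * π (x (j + 1)) ∉ Yc x (j + 1) := by
    intro b hb hm
    have h1 : π (x (j + 1)) ∈ Yc x (j + 1) := by
      have : π (x (j + 1)) = b⁻¹ * (b * π (x (j + 1))) := by group
      rw [this]; exact mul_mem (inv_mem hb) hm
    have h2 := hπ (hfix _ h1)
    exact h.nm (j + 1) hi (h2 ▸ h1)
  have hY1 : Yc x 1 ≤ Yc x (j + 1) := Yc_mono x (by omega)
  have s1 : InS k x (π (x (j + 1))) :=
    (hS _ ⟨j, hj, Or.inl rfl⟩).resolve_right fun hm => hn 1 (one_mem _) (by simpa using hY1 hm)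
  have s2 : InS k x (x j * π (x (j + 1))) := by
    have := hS _ ⟨j, hj, Or.inr rfl⟩
    rw [map_mul, hfix _ hxj] at this
    exact this.resolve_right fun hm => hn _ hxj (hY1 hm)
  obtain ⟨i, hik, hi1⟩ := s1
  obtain ⟨l, hlk, hl1⟩ := s2
  have hji : j ≤ i := by
    by_contra hc
    apply hn 1 (one_mem _)
    rcases hi1 with e | e <;> rw [e, one_mul]
    · exact mem_Yc x (by omega)
    · exact mul_mem (mem_Yc x (by omega)) (mem_Yc x (by omega))
  have hxj' : x j ∈ Yc x (i + 1) := mem_Yc x (by omega)
  have hxi : x i ∈ Yc x (i + 1) := mem_Yc x (by omega)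
  have hxl : x l ∈ Yc x (l + 1) := mem_Yc x (by omega)
  have hne := h.ne_one (i := j) hj.le
  rcases hi1 with e | e
  · rw [e] at hl1
    rcases hl1 with e' | e'
    · have := h.uniq (i := i + 1) (j := l + 1) hik hlk hxj' (one_mem _) (by rw [e', one_mul])
      obtain rfl : i = l := by omega
      exact absurd (by simpa using e') hne
    · have := h.uniq (i := i + 1) (j := l + 1) hik hlk hxj' hxl e'
      obtain rfl : i = l := by omega
      have := h.inj hj.le hik.le (mul_right_cancel e')
      subst this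
      exact e
  · rw [e, ← mul_assoc] at hl1
    rcases hl1 with e' | e'
    · have := h.uniq (i := i + 1) (j := l + 1) hik hlk (mul_mem hxj' hxi) (one_mem _)
        (by rw [e', one_mul])
      obtain rfl : i = l := by omega
      have e2 : x j * x i = 1 := by simpa using e'
      rcases Nat.lt_or_eq_of_le hji with hlt | rfl
      · exfalso
        apply h.nm i hik.le
        rw [eq_inv_of_mul_eq_one_right e2]
        exact inv_mem (mem_Yc x hlt)
      · exact absurd e2 (hsq j hj e)
    · have := h.uniq (i := i + 1) (j := l + 1) hik hlk (mul_mem hxj' hxi) hxl e'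
      obtain rfl : i = l := by omega
      exact absurd (by simpa using e') hne

theorem ncard_InS (k : ℕ) (x : ℕ → X) : {a | InS k x a}.ncard ≤ 2 * k := by
  classical
  have : {a | InS k x a} ⊆ ((Finset.range k).image (fun j => x (j + 1)) ∪
      (Finset.range k).image (fun j => x j * x (j + 1)) : Finset X) := by
    rintro a ⟨j, hj, rfl | rfl⟩
    · simp only [Finset.coe_union, Finset.coe_image, Finset.coe_range]
      exact Or.inl ⟨j, hj, rfl⟩
    · simp only [Finset.coe_union, Finset.coe_image, Finset.coe_range]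
      exact Or.inr ⟨j, hj, rfl⟩
  refine (Set.ncard_le_ncard this (Finset.finite_toSet _)).trans ?_
  rw [Set.ncard_coe_finset]
  refine (Finset.card_union_le _ _).trans ?_
  have h1 := Finset.card_image_le (s := Finset.range k) (f := fun j => x (j + 1))
  have h2 := Finset.card_image_le (s := Finset.range k) (f := fun j => x j * x (j + 1))
  rw [Finset.card_range] at h1 h2
  omega

end Chain

section Col

variable {X : Type*} [CommGroup X] [Finite X]

theorem two_le_dvd : ∀ d, d ∣ Nat.card X → 1 < d → 2 ≤ d := fun _ _ h => h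

theorem three_le_dvd (h : (Nat.card X).Coprime 2) : ∀ d, d ∣ Nat.card X → 1 < d → 3 ≤ d := by
  intro d hd h1
  by_contra hc
  obtain rfl : d = 2 := by omega
  exact absurd (Nat.Coprime.coprime_dvd_left hd h) (by norm_num)

theorem five_le_dvd (h : (Nat.card X).Coprime 6) : ∀ d, d ∣ Nat.card X → 1 < d → 5 ≤ d := by
  intro d hd h1
  by_contra hc
  have := Nat.Coprime.coprime_dvd_left hd h
  interval_cases d <;> simp_all (config := {decide := true})

theorem pow_ne_one_of_coprime {n : ℕ} (h : (Nat.card X).Coprime n) {a : X} (ha : a ≠ 1) :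
    a ^ n ≠ 1 := fun e => ha <| by
  have h1 := orderOf_dvd_of_pow_eq_one e
  have h2 := orderOf_dvd_natCard a
  exact orderOf_eq_one_iff.1 (Nat.eq_one_of_dvd_coprimes h h2 h1)

/-- Three nonzero colours (`1,2,3`) and at most one element of colour `0`. -/
theorem col3 : ∃ col : X → Fin 4,
    (∀ π : X →* X, Function.Injective π → (∀ a, a ≠ 1 → col (π a) = col a) → ∀ a, π a = a) ∧
    ((∀ a, a ≠ 1 → col a ≠ 0) ∨ ∃ z, (∀ a, col a = 0 → a = z) ∧ 8 ≤ Nat.card X) ∧
    (∀ D : Subgroup X, (∀ a, a ≠ 1 → col a = 1 ∨ col a = 2 → a ∈ D) → D = ⊤) ∧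
    (∀ D : Subgroup X, (∀ a, a ≠ 1 → col a = 1 ∨ col a = 3 → a ∈ D) → D = ⊤) := by
  classical
  rcases subsingleton_or_nontrivial X with hX | hX
  · exact ⟨fun _ => 1, fun π _ _ a => Subsingleton.elim _ _, Or.inl fun a _ => by simp,
      fun D _ => Subsingleton.elim _ _, fun D _ => Subsingleton.elim _ _⟩
  obtain ⟨x0, h0⟩ := exists_ne (1 : X)
  obtain ⟨k, x, h, -, -⟩ := exists_chain (fun _ => True) x0 h0 trivial (fun Y hY _ => by
    by_contra! hc
    exact hY (eq_top_iff.2 fun a _ => by_contra fun ha => hc a ha))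
  have n0 := h.ne_one (Nat.zero_le k)
  rcases k with _ | _ | k
  · refine ⟨fun a => if a = x 0 then 1 else 3, fun π hπ hc => h.fix_top π fun i hi => ?_,
      Or.inl fun a _ => ?_, fun D hD => h.eq_top D fun i hi => ?_,
      fun D hD => h.eq_top D fun i hi => ?_⟩
    · obtain rfl : i = 0 := by omega
      have := hc _ n0
      by_contra hne
      simp [hne] at this
    · dsimp only; split_ifs <;> decide
    · obtain rfl : i = 0 := by omega
      exact hD _ n0 (by simp)
    · obtain rfl : i = 0 := by omega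
      exact hD _ n0 (by simp)
  · have n1 := h.ne_one (i := 1) le_rfl
    have n10 : x 1 ≠ x 0 := fun e => by simpa using h.inj (i := 1) le_rfl (Nat.zero_le _) e
    refine ⟨fun a => if a = x 0 then 1 else if a = x 1 then 2 else 3,
      fun π hπ hc => h.fix_top π fun i hi => ?_,
      Or.inl fun a _ => ?_, fun D hD => h.eq_top D fun i hi => ?_,
      fun D hD => h.eq_top D fun i hi => ?_⟩
    · obtain rfl | rfl : i = 0 ∨ i = 1 := by omega
      · have := hc _ n0
        by_contra hne
        simp only [hne, if_true, if_false] at this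
        split_ifs at this <;> simp at this
      · have := hc _ n1
        by_contra hne
        simp only [hne, n10, if_true, if_false] at this
        split_ifs at this <;> simp at this
    · dsimp only; split_ifs <;> decide
    · obtain rfl | rfl : i = 0 ∨ i = 1 := by omega
      · exact hD _ n0 (by simp)
      · exact hD _ n1 (by simp [n10])
    · have d0 : x 0 ∈ D := hD _ n0 (by simp)
      obtain rfl | rfl : i = 0 ∨ i = 1 := by omega
      · exact d0
      · have e1 : x 0 * x 1 ≠ 1 := fun e =>
          h.nm' (i := 0) (j := 1) le_rfl (by omega) (mem_Yc x (i := 0) (by omega)) (e ▸ one_mem _)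
        have := hD _ e1 (by simp [n0, n1])
        exact (mul_mem_cancel_left d0).1 this
  · set k' := k + 1 + 1 with hk'
    have a0 : ∀ a, InS k' x a → a ≠ x 0 := fun a ha e =>
      h.InS_nm ha (e ▸ mem_Yc x (by omega))
    have a1 : ∀ a, InS k' x a → a ≠ 1 := fun a ha e => h.InS_nm ha (e ▸ one_mem _)
    have b1 : ∀ j < k', ¬ ∃ i < k', x j * x (j + 1) = x (i + 1) := by
      rintro j hj ⟨i, hi, e⟩
      have := h.uniq (i := j + 1) (j := i + 1) hj hi (mem_Yc x (Nat.lt_succ_self j)) (one_mem _)
        (by rw [e, one_mul])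
      obtain rfl : j = i := by omega
      exact h.ne_one hj.le (by simpa using e)
    let col : X → Fin 4 := fun a => if a = x 0 then 0 else if ∃ i < k', a = x (i + 1) then 1
      else if ∃ i < k', a = x i * x (i + 1) then 2 else 3
    have c0 : ∀ a, col a = 0 ↔ a = x 0 := by
      intro a; simp only [col]; split_ifs <;> simp_all
    have c1 : ∀ a, col a = 1 ↔ ∃ i < k', a = x (i + 1) := by
      intro a
      constructor
      · intro e; simp only [col] at e; split_ifs at e <;> simp_all
      · rintro ⟨i, hi, rfl⟩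
        simp only [col]
        rw [if_neg (a0 _ ⟨i, hi, Or.inl rfl⟩), if_pos ⟨i, hi, rfl⟩]
    have c2 : ∀ a, col a = 2 ↔ ∃ i < k', a = x i * x (i + 1) := by
      intro a
      constructor
      · intro e; simp only [col] at e; split_ifs at e <;> simp_all
      · rintro ⟨i, hi, rfl⟩
        simp only [col]
        rw [if_neg (a0 _ ⟨i, hi, Or.inr rfl⟩), if_neg (b1 i hi), if_pos ⟨i, hi, rfl⟩]
    have d1 : ∀ D : Subgroup X, (∀ a, a ≠ 1 → col a = 1 → a ∈ D) → ∀ i < k', x (i + 1) ∈ D :=
      fun D hD i hi => hD _ (a1 _ ⟨i, hi, Or.inl rfl⟩) ((c1 _).2 ⟨i, hi, rfl⟩)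
    refine ⟨col, fun π hπ hc => h.rigid π hπ ?_ ?_ ?_, Or.inr ⟨x 0, fun a => (c0 a).1, ?_⟩,
      fun D hD => h.eq_top D fun i hi => ?_, fun D hD => h.eq_top D fun i hi => ?_⟩
    · exact (c0 _).1 ((hc _ n0).trans ((c0 _).2 rfl))
    · rintro a ⟨j, hj, rfl | rfl⟩
      · obtain ⟨i, hi, e⟩ := (c1 _).1 ((hc _ (a1 _ ⟨j, hj, Or.inl rfl⟩)).trans
          ((c1 _).2 ⟨j, hj, rfl⟩))
        exact Or.inl ⟨i, hi, Or.inl e⟩
      · obtain ⟨i, hi, e⟩ := (c2 _).1 ((hc _ (a1 _ ⟨j, hj, Or.inr rfl⟩)).trans
          ((c2 _).2 ⟨j, hj, rfl⟩))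
        exact Or.inl ⟨i, hi, Or.inr e⟩
    · intro j hj e
      exfalso
      have := (c1 _).1 ((hc _ (a1 _ ⟨j, hj, Or.inl rfl⟩)).trans ((c1 _).2 ⟨j, hj, rfl⟩))
      rw [e] at this
      exact b1 j hj this
    · refine le_trans ?_ (h.pow_le two_le_dvd)
      exact Nat.pow_le_pow_right (n := 2) (by norm_num) (show 3 ≤ k' + 1 by omega)
    · have d := d1 D fun a ha e => hD a ha (Or.inl e)
      rcases i with _ | i
      · have := hD _ (a1 _ ⟨0, by omega, Or.inr rfl⟩) (Or.inr ((c2 _).2 ⟨0, by omega, rfl⟩))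
        exact (mul_mem_cancel_right (d 0 (by omega))).1 this
      · exact d i (by omega)
    · have d := d1 D fun a ha e => hD a ha (Or.inl e)
      rcases i with _ | i
      · have y0 : x 0 ∈ Yc x 2 := mem_Yc x (by omega)
        have e0 : x 0 * x 2 ∉ Yc x 1 := h.nm' (by omega) (by omega) y0
        have e3 : col (x 0 * x 2) = 3 := by
          simp only [col]
          rw [if_neg, if_neg, if_neg]
          · rintro ⟨i, hi, e⟩
            have := h.uniq (i := 2) (j := i + 1) (by omega) hi y0 (mem_Yc x (Nat.lt_succ_self i)) e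
            obtain rfl : i = 1 := by omega
            simpa using h.inj (i := 0) (j := 1) (by omega) (by omega) (mul_right_cancel e)
          · rintro ⟨i, hi, e⟩
            have := h.uniq (i := 2) (j := i + 1) (by omega) hi y0 (one_mem _) (by rw [e, one_mul])
            obtain rfl : i = 1 := by omega
            exact n0 (by simpa using e)
          · exact fun e => e0 (by rw [e]; exact mem_Yc x (by omega))
        have := hD _ (fun e => e0 (by rw [e]; exact one_mem _)) (Or.inr e3)
        exact (mul_mem_cancel_right (d 1 (by omega))).1 this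
      · exact d i (by omega)

theorem exists_chain_sq {y : X} (hy : y * y ≠ 1) :
    ∃ k x, Chain k x ∧ x 0 = y ∧ ∀ j, x j * x j ≠ 1 := by
  refine exists_chain (fun a => a * a ≠ 1) y (fun e => hy (by simp [e])) hy fun Y hY hy' => ?_
  obtain ⟨a, ha⟩ : ∃ a, a ∉ Y := by
    by_contra! hc
    exact hY (eq_top_iff.2 fun a _ => hc a)
  by_cases h1 : a * a = 1
  · refine ⟨a * y, fun hm => ha ((mul_mem_cancel_right hy').1 hm), ?_⟩
    rwa [mul_mul_mul_comm, h1, one_mul]
  · exact ⟨a, ha, h1⟩

/-- Two nonzero colours, and at most one element of colour `0`. -/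
theorem col2 (hX : Subsingleton X ∨ ∃ y : X, y * y ≠ 1) : ∃ col : X → Fin 3,
    (∀ π : X →* X, Function.Injective π → (∀ a, a ≠ 1 → col (π a) = col a) → ∀ a, π a = a) ∧
    4 * {a | a ≠ 1 ∧ col a = 0}.ncard < Nat.card X := by
  classical
  have hpos : 0 < Nat.card X := Nat.card_pos
  rcases hX with hX | ⟨y, hy⟩
  · exact ⟨fun _ => 1, fun π _ _ a => Subsingleton.elim _ _, by simp⟩
  obtain ⟨k, x, h, -, hsq⟩ := exists_chain_sq hy
  have n0 := h.ne_one (Nat.zero_le k)
  rcases k with _ | k
  · refine ⟨fun a => if a = x 0 then 1 else 2, fun π hπ hc => h.fix_top π fun i hi => ?_, ?_⟩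
    · obtain rfl : i = 0 := by omega
      have := hc _ n0
      by_contra hne
      simp [hne] at this
    · have : {a | a ≠ 1 ∧ (if a = x 0 then (1 : Fin 3) else 2) = 0} = ∅ := by
        ext a; simp only [Set.mem_setOf_eq, Set.mem_empty_iff_false]; split_ifs <;> simp
      simp [this]
  · set k' := k + 1 with hk'
    have a0 : ∀ a, InS k' x a → a ≠ x 0 := fun a ha e =>
      h.InS_nm ha (e ▸ mem_Yc x (by omega))
    have a1 : ∀ a, InS k' x a → a ≠ 1 := fun a ha e => h.InS_nm ha (e ▸ one_mem _)
    let col : X → Fin 3 := fun a => if a = x 0 then 0 else if InS k' x a then 1 else 2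
    have c0 : ∀ a, col a = 0 ↔ a = x 0 := by
      intro a; simp only [col]; split_ifs <;> simp_all
    have c1 : ∀ a, col a = 1 ↔ InS k' x a := by
      intro a
      constructor
      · intro e; simp only [col] at e; split_ifs at e <;> simp_all
      · intro ha
        simp only [col]
        rw [if_neg (a0 _ ha), if_pos ha]
    refine ⟨col, fun π hπ hc => h.rigid π hπ ?_ ?_ fun j _ _ => hsq j, ?_⟩
    · exact (c0 _).1 ((hc _ n0).trans ((c0 _).2 rfl))
    · exact fun a ha => Or.inl ((c1 _).1 ((hc _ (a1 _ ha)).trans ((c1 _).2 ha)))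
    · have h1 : {a | a ≠ 1 ∧ col a = 0}.ncard ≤ 1 := by
        rw [← Set.ncard_singleton (x 0)]
        exact Set.ncard_le_ncard (fun a ha => (c0 a).1 ha.2)
      have h2 := h.card two_le_dvd (j := k' + 1) le_rfl (i := 1) (by omega)
      rw [h.top, card_top] at h2
      have h3 : 3 ≤ Nat.card (Yc x 1) := by
        have m0 : x 0 ∈ Yc x 1 := mem_Yc x (by omega)
        have : ({1, x 0, x 0 * x 0} : Set X) ⊆ Yc x 1 := by
          rintro a (rfl | rfl | rfl)
          exacts [one_mem _, m0, mul_mem m0 m0]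
        have h4 := Set.ncard_le_ncard this
        rw [Set.ncard_eq_three.2 ⟨_, _, _, n0.symm, (hsq 0).symm, by simpa using n0, rfl⟩] at h4
        rwa [← Nat.card_coe_set_eq] at h4
      have h5 : 2 ≤ 2 ^ (k' + 1 - 1) := by
        rw [hk', Nat.add_sub_cancel, pow_succ]
        have := Nat.one_le_two_pow (n := k)
        omega
      have := Nat.mul_le_mul h3 h5
      omega

theorem ncard_le_add {y z : X} {k : ℕ} {x : ℕ → X} :
    {a | a = y ∨ a = z ∨ InS k x a}.ncard ≤ 2 + 2 * k := by
  have : {a | a = y ∨ a = z ∨ InS k x a} = insert y (insert z {a | InS k x a}) := rfl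
  rw [this]
  have h1 := Set.ncard_insert_le y (insert z {a | InS k x a})
  have h2 := Set.ncard_insert_le z {a | InS k x a}
  have h3 := ncard_InS k x
  omega

theorem InS_level {k : ℕ} {x : ℕ → X} {a : X} (ha : InS k x a) :
    ∃ j < k, ∃ b ∈ Yc x (j + 1), a = b * x (j + 1) ∧ (b = 1 ∨ b = x j) := by
  obtain ⟨j, hj, e | e⟩ := ha
  · exact ⟨j, hj, 1, one_mem _, by simpa using e, Or.inl rfl⟩
  · exact ⟨j, hj, x j, mem_Yc x (Nat.lt_succ_self j), e, Or.inr rfl⟩

theorem mem_of_pow_mem {n : ℕ} (h : (Nat.card X).Coprime n) {Y : Subgroup X} {a : X}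
    (ha : a ^ n ∈ Y) : a ∈ Y := by
  obtain ⟨m, hm⟩ := exists_pow_eq_self_of_coprime (x := a) (n := n)
    (Nat.Coprime.coprime_dvd_right (orderOf_dvd_natCard a) h.symm)
  rw [← hm]; exact pow_mem ha m

theorem colOdd (hX : (Nat.card X).Coprime 2) : ∃ N : Set X, 1 ∉ N ∧
    (∀ π : X →* X, Function.Injective π → (∀ a, π (π a) = a → π a = a) →
      (∀ a ∈ N, π a ∈ N) → ∀ a, π a = a) ∧ 4 * N.ncard < Nat.card X := by
  classical
  have hpos : 0 < Nat.card X := Nat.card_pos
  rcases subsingleton_or_nontrivial X with hX | hX'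
  · exact ⟨∅, by simp, fun π _ _ _ a => Subsingleton.elim _ _, by simp⟩
  obtain ⟨y, hy⟩ := exists_ne (1 : X)
  have hsq0 : ∀ a : X, a ≠ 1 → a * a ≠ 1 := fun a ha => by
    rw [← sq]; exact pow_ne_one_of_coprime hX ha
  obtain ⟨k, x, h, -, hsq⟩ := exists_chain_sq (hsq0 y hy)
  have n0 := h.ne_one (Nat.zero_le k)
  have hc := h.pow_le (three_le_dvd hX)
  rcases k with _ | _ | k
  · by_cases h3 : Nat.card X = 3
    · refine ⟨∅, by simp, fun π hπ h2 _ => h.fix_top π fun i hi => ?_, by simp⟩
      obtain rfl : i = 0 := by omega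
      have e3 : x 0 ^ 3 = 1 := h3 ▸ pow_card_eq_one'
      have hm : π (x 0) ∈ zpowers (x 0) := by
        refine Yc_le (j := 1) (x := x) (fun i hi => ?_) (h.top ▸ mem_top _)
        obtain rfl : i = 0 := by omega
        exact mem_zpowers _
      obtain ⟨n, hn⟩ := (mem_powers_iff_mem_zpowers.2 hm)
      simp only at hn
      rw [← Nat.div_add_mod n 3, pow_add, pow_mul, e3, one_pow, one_mul] at hn
      have : n % 3 < 3 := Nat.mod_lt _ (by norm_num)
      interval_cases n % 3
      · exact absurd (hπ (hn.symm.trans (by simp : _ = π 1))) n0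
      · simpa using hn.symm
      · apply h2
        rw [← hn, map_pow, ← hn, ← pow_mul, show 2 * 2 = 3 + 1 from rfl, pow_succ, e3, one_mul]
    · refine ⟨{x 0}, by simpa using n0.symm, fun π hπ _ hN => h.fix_top π fun i hi => ?_, ?_⟩
      · obtain rfl : i = 0 := by omega
        exact hN _ rfl
      · have : Nat.card X ≠ 4 := fun e => by rw [e] at hX; norm_num at hX
        rw [Set.ncard_singleton]
        omega
  · have n1 := h.ne_one (i := 1) le_rfl
    refine ⟨{x 0, x 1}, by simp [n0.symm, n1.symm],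
      fun π hπ h2 hN => ?_, ?_⟩
    · have e0 := hN (x 0) (by simp)
      have e1 := hN (x 1) (by simp)
      have f0 : π (x 0) = x 0 := by
        rcases e0 with e0 | e0
        · exact e0
        · rcases e1 with e1 | e1
          · exact h2 _ (by rw [e0, e1])
          · have := hπ (e0.trans e1.symm)
            rw [e0, this]
      refine h.fix_top π fun i hi => ?_
      obtain rfl | rfl : i = 0 ∨ i = 1 := by omega
      · exact f0
      · rcases e1 with e1 | e1
        · have := hπ (e1.trans f0.symm)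
          rw [e1, this]
        · exact e1
    · have := Set.ncard_insert_le (x 0) {x 1}
      rw [Set.ncard_singleton] at this
      omega
  · set k' := k + 1 + 1 with hk'
    have m0 : x 0 ∈ Yc x 1 := mem_Yc x (by omega)
    refine ⟨{a | a = x 0 ∨ a = (x 0)⁻¹ ∨ InS k' x a}, ?_, fun π hπ h2 hN => ?_, ?_⟩
    · rintro (e | e | e)
      · exact n0 e.symm
      · exact n0 (by simpa using e.symm)
      · exact h.InS_nm e (one_mem _)
    · have f0 : π (x 0) = x 0 := by
        rcases hN (x 0) (Or.inl rfl) with e | e | e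
        · exact e
        · exact h2 _ (by rw [e, map_inv, e, inv_inv])
        · exfalso
          have e' := hN (x 0)⁻¹ (Or.inr (Or.inl rfl))
          rw [map_inv] at e'
          have hn : (π (x 0))⁻¹ ∉ Yc x 1 := fun hm => h.InS_nm e (by simpa using hm)
          rcases e' with e' | e' | e'
          · exact hn (by rw [e']; exact m0)
          · exact hn (by rw [e']; exact inv_mem m0)
          · obtain ⟨i, hi, b, hb, eb, -⟩ := InS_level e
            obtain ⟨j, hj, c, hc, ec, -⟩ := InS_level e'
            have key : ∀ {i j : ℕ} {b c : X}, i ≤ j → j < k' → b ∈ Yc x (i + 1) →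
                c ∈ Yc x (j + 1) → b * x (i + 1) * (c * x (j + 1)) = 1 → False := by
              intro i j b c hij hj hb hc e
              rcases Nat.lt_or_eq_of_le hij with hlt | rfl
              · apply h.nm' (i := j + 1) hj le_rfl hc
                rw [eq_inv_of_mul_eq_one_right e]
                exact inv_mem (mul_mem (Yc_mono x (by omega) hb) (mem_Yc x (by omega)))
              · apply h.nm (i + 1) hj
                refine mem_of_pow_mem hX ?_
                have : x (i + 1) ^ 2 = (b * c)⁻¹ := by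
                  rw [eq_inv_iff_mul_eq_one, ← e, sq]
                  simp only [mul_assoc, mul_comm, mul_left_comm]
                rw [this]
                exact inv_mem (mul_mem hb hc)
            rcases le_total i j with hij | hij
            · exact key hij hj hb hc (by rw [← eb, ← ec, mul_inv_cancel])
            · exact key hij hi hc hb (by rw [← eb, ← ec, inv_mul_cancel])
      refine h.rigid π hπ f0 (fun a ha => ?_) fun j _ _ => hsq j
      rcases hN a (Or.inr (Or.inr ha)) with e | e | e
      · exact Or.inr (e ▸ m0)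
      · exact Or.inr (e ▸ inv_mem m0)
      · exact Or.inl e
    · have h1 := ncard_le_add (y := x 0) (z := (x 0)⁻¹) (k := k') (x := x)
      have h2 : 4 * (2 + 2 * k') < 3 ^ (k' + 1) := by
        rw [hk']
        clear * -
        induction k with
        | zero => norm_num
        | succ k ih => rw [pow_succ _ (_ + 1 + 1)]; omega
      omega

theorem col6 (hX : (Nat.card X).Coprime 6) : ∃ N : Set X, 1 ∉ N ∧
    (∀ π : X →* X, Function.Injective π → (∀ a ∈ N, π a ∈ N) → ∀ a, π a = a) ∧
      4 * N.ncard < Nat.card X := by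
  classical
  have hpos : 0 < Nat.card X := Nat.card_pos
  rcases subsingleton_or_nontrivial X with hX | hX'
  · exact ⟨∅, by simp, fun π _ _ a => Subsingleton.elim _ _, by simp⟩
  obtain ⟨y, hy⟩ := exists_ne (1 : X)
  have hX2 : (Nat.card X).Coprime 2 := hX.coprime_dvd_right (by norm_num)
  have hX3 : (Nat.card X).Coprime 3 := hX.coprime_dvd_right (by norm_num)
  have hsq0 : ∀ a : X, a ≠ 1 → a * a ≠ 1 := fun a ha => by
    rw [← sq]; exact pow_ne_one_of_coprime hX2 ha
  obtain ⟨k, x, h, -, hsq⟩ := exists_chain_sq (hsq0 y hy)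
  have n0 := h.ne_one (Nat.zero_le k)
  have hc := h.pow_le (five_le_dvd hX)
  rcases k with _ | k
  · refine ⟨{x 0}, by simpa using n0.symm, fun π hπ hN => h.fix_top π fun i hi => ?_, ?_⟩
    · obtain rfl : i = 0 := by omega
      exact hN _ rfl
    · rw [Set.ncard_singleton]
      omega
  · set k' := k + 1 with hk'
    have m0 : x 0 ∈ Yc x 1 := mem_Yc x (by omega)
    refine ⟨{a | a = x 0 ∨ a = x 0 * x 0 ∨ InS k' x a}, ?_, fun π hπ hN => ?_, ?_⟩
    · rintro (e | e | e)
      · exact n0 e.symm
      · exact hsq 0 e.symm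
      · exact h.InS_nm e (one_mem _)
    · have f0 : π (x 0) = x 0 := by
        have e' := hN (x 0 * x 0) (Or.inr (Or.inl rfl))
        rw [map_mul] at e'
        rcases hN (x 0) (Or.inl rfl) with e | e | e
        · exact e
        · exfalso
          rw [e] at e'
          rcases e' with e' | e' | e'
          · apply pow_ne_one_of_coprime hX3 n0
            have : x 0 ^ 3 * x 0 = 1 * x 0 := by
              rw [one_mul]; nth_rewrite 3 [← e']; rw [pow_succ, pow_succ, pow_one, mul_assoc]
            exact mul_right_cancel this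
          · exact hsq 0 (by simpa using e')
          · exact h.InS_nm e' (mul_mem (mul_mem m0 m0) (mul_mem m0 m0))
        · exfalso
          have hn : π (x 0) * π (x 0) ∉ Yc x 1 := fun hm =>
            h.InS_nm e (mem_of_pow_mem hX2 (by rwa [sq]))
          rcases e' with e' | e' | e'
          · exact hn (by rw [e']; exact m0)
          · exact hn (by rw [e']; exact mul_mem m0 m0)
          · obtain ⟨i, hi, b, hb, eb, -⟩ := InS_level e
            obtain ⟨j, hj, c, hc, ec, -⟩ := InS_level e'
            rw [eb] at ec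
            rcases lt_trichotomy i j with hij | rfl | hij
            · apply h.nm' (i := j + 1) hj le_rfl hc
              rw [← ec]
              have := mul_mem (Yc_mono x (show i + 1 ≤ j + 1 by omega) hb)
                (mem_Yc x (show i + 1 < j + 1 by omega))
              exact mul_mem this this
            · apply h.nm (i + 1) hj
              have : x (i + 1) = c * (b * b)⁻¹ := by
                rw [eq_mul_inv_iff_mul_eq]
                apply mul_right_cancel (b := x (i + 1))
                rw [← ec]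
                simp only [mul_assoc, mul_comm, mul_left_comm]
              rw [this]
              exact mul_mem hc (inv_mem (mul_mem hb hb))
            · apply h.nm' (i := i + 1) hi le_rfl hb
              refine mem_of_pow_mem hX2 ?_
              rw [sq, ec]
              exact mul_mem (Yc_mono x (by omega) hc) (mem_Yc x (by omega))
      refine h.rigid π hπ f0 (fun a ha => ?_) fun j _ _ => hsq j
      rcases hN a (Or.inr (Or.inr ha)) with e | e | e
      · exact Or.inr (e ▸ m0)
      · exact Or.inr (e ▸ mul_mem m0 m0)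
      · exact Or.inl e
    · have h1 := ncard_le_add (y := x 0) (z := x 0 * x 0) (k := k') (x := x)
      have h2 : 4 * (2 + 2 * k') < 5 ^ (k' + 1) := by
        rw [hk']
        clear * -
        induction k with
        | zero => norm_num
        | succ k ih => rw [pow_succ _ (_ + 1 + 1)]; omega
      omega

end Col

end H83.Base
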