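import Mathlib
import Cfsg.Agent.Lib.Core.GrpBasic
import Cfsg.Agent.Lib.FGS83.BaseA

/-!
# Base sizes, part B: distinguishing colourings of solvable permutation groups (helper83)
-/

set_option autoImplicit false

namespace H83.Base

open Subgroup MulAction

universe u

def Invt (G : Type*) {V : Type*} [Group G] [AddCommGroup V] [DistribMulAction G V]
    (U : AddSubgroup V) : Prop := ∀ g : G, ∀ v ∈ U, g • v ∈ U

def Irr (G V : Type*) [Group G] [AddCommGroup V] [DistribMulAction G V] : Prop :=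
  Nontrivial V ∧ ∀ U : AddSubgroup V, Invt G U → U = ⊥ ∨ U = ⊤

def Dist (t : ℕ) (G Ω : Type*) [Group G] [MulAction G Ω] : Prop :=
  ∃ F : Ω → ZMod t, ∀ g : G, (∀ x, F (g • x) = F x) → ∀ x : Ω, g • x = x

def SDist (t : ℕ) (G Ω : Type*) [Group G] [MulAction G Ω] : Prop :=
  ∃ F : Ω → ZMod t, ∀ (g : G) (c : ZMod t), (∀ x, F (g • x) = F x + c) →
    c = 0 ∧ ∀ x : Ω, g • x = x

def Aff (t : ℕ) (L V : Type*) [Group L] [AddCommGroup V] [DistribMulAction L V] : Prop :=
  ∃ F : V → ZMod t, ∀ (l : L) (m : V) (c : ZMod t), (∀ x, F (m + l • x) = F x + c) →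
    c = 0 ∧ m = 0 ∧ ∀ x : V, l • x = x

def PermP (t n N : ℕ) : Prop :=
  ∀ (G Ω : Type u) [Group G] [Finite G] [Finite Ω] [MulAction G Ω], Group.IsSolvable G →
    (Nat.card G).Coprime n → Nat.card Ω ≤ N → Dist t G Ω

def AffP (t n N : ℕ) : Prop :=
  ∀ (L V : Type u) [Group L] [Finite L] [AddCommGroup V] [Finite V] [DistribMulAction L V],
    Group.IsSolvable L → (Nat.card L).Coprime n → (Nat.card V).Coprime n → Irr L V →
    Nat.card V ≤ N → Aff t L V

/-- conjugation action on an abelian normal subgroup, written additively -/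
@[reducible] def conjAdd {T : Type*} [Group T] (M : Subgroup T) [M.Normal] [IsMulCommutative M]
    (L : Subgroup T) : DistribMulAction L (Additive M) where
  smul l v := Additive.ofMul (MulAut.conjNormal (l : T) v.toMul)
  one_smul v := by
    change Additive.ofMul (MulAut.conjNormal ((1 : L) : T) v.toMul) = v
    simp
  mul_smul a b v := by
    change Additive.ofMul (MulAut.conjNormal ((a * b : L) : T) v.toMul) =
      Additive.ofMul (MulAut.conjNormal (a : T) (MulAut.conjNormal (b : T) v.toMul))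
    simp
  smul_zero a := by
    change Additive.ofMul (MulAut.conjNormal (a : T) (1 : M)) = 0
    simp
  smul_add a v w := by
    change Additive.ofMul (MulAut.conjNormal (a : T) (v.toMul * w.toMul)) =
      Additive.ofMul (MulAut.conjNormal (a : T) v.toMul * MulAut.conjNormal (a : T) w.toMul)
    simp

theorem prim_faithful {t n N : ℕ} (hA : AffP.{u} t n N) {T Ω : Type u} [Group T] [Finite T]
    [Finite Ω] [MulAction T Ω] [FaithfulSMul T Ω] [IsPretransitive T Ω]
    (hs : Group.IsSolvable T) (hn : (Nat.card T).Coprime n) (hN : Nat.card Ω ≤ N) (x0 : Ω)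
    (hx : IsCoatom (stabilizer T x0)) : SDist t T Ω := by
  classical
  have htop : (⊤ : Subgroup T) ≠ ⊥ := fun e => hx.1 (top_le_iff.1 (e ▸ bot_le))
  obtain ⟨M, p, -, hMn, hM0, -, hMc, -, -, -⟩ :=
    H1.exists_elementary_abelian_normal_le (⊤ : Subgroup T) htop inferInstance
  set L := stabilizer T x0 with hL
  have htr : ∀ U : Subgroup T, U.Normal → U ≠ ⊥ → ∀ g : T, ∃ u ∈ U, ∃ l ∈ L, u * l = g := by
    intro U hU hU0 g
    have h1 : ¬ U ≤ L := by
      intro hle
      apply hU0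
      rw [eq_bot_iff]
      intro u hu
      refine mem_bot.2 (FaithfulSMul.eq_of_smul_eq_smul (α := Ω) fun x => ?_)
      obtain ⟨k, rfl⟩ := exists_smul_eq T x0 x
      have : (k⁻¹ * u * k⁻¹⁻¹) • x0 = x0 := hle (hU.conj_mem u hu k⁻¹)
      rw [inv_inv, mul_smul, mul_smul, inv_smul_eq_iff] at this
      rw [this, one_smul]
    have h2 : U ⊔ L = ⊤ := hx.2 _ (right_lt_sup.2 h1)
    exact mem_sup_of_normal_left.1 (h2 ▸ mem_top g)
  have hcomm : ∀ a ∈ M, ∀ b ∈ M, a * b = b * a := fun a ha b hb =>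
    congrArg Subtype.val (hMc.is_comm.comm ⟨a, ha⟩ ⟨b, hb⟩)
  have hreg : ∀ m ∈ M, m • x0 = x0 → m = 1 := by
    intro m hm h
    refine FaithfulSMul.eq_of_smul_eq_smul (α := Ω) fun x => ?_
    obtain ⟨k, rfl⟩ := exists_smul_eq T x0 x
    obtain ⟨u, hu, l, hl, rfl⟩ := htr M hMn hM0 k
    rw [mul_smul, mem_stabilizer_iff.1 hl, ← mul_smul, hcomm m hm u hu, mul_smul, h, one_smul]
  letI : CommGroup M := IsMulCommutative.instCommGroup
  letI := conjAdd M L
  have hsm : ∀ (l : L) (v : Additive M), ((l • v).toMul : T) = l * v.toMul * (l : T)⁻¹ :=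
    fun l v => rfl
  let e : Additive M → Ω := fun v => (v.toMul : T) • x0
  have he : Function.Bijective e := by
    refine ⟨fun v w h => ?_, fun x => ?_⟩
    · have := hreg ((w.toMul : T)⁻¹ * v.toMul) (mul_mem (inv_mem w.toMul.2) v.toMul.2)
        (by rw [mul_smul, inv_smul_eq_iff]; exact h)
      exact Additive.toMul.injective (Subtype.ext (inv_mul_eq_one.1 this).symm)
    · obtain ⟨k, rfl⟩ := exists_smul_eq T x0 x
      obtain ⟨u, hu, l, hl, rfl⟩ := htr M hMn hM0 k
      exact ⟨Additive.ofMul ⟨u, hu⟩, by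
        simp only [e, toMul_ofMul, mul_smul, mem_stabilizer_iff.1 hl]⟩
  have hirr : Irr L (Additive M) := by
    refine ⟨(nontrivial_iff_ne_bot M).2 hM0, fun U hU => ?_⟩
    let U' : Subgroup T := (AddSubgroup.toSubgroup U).map M.subtype
    have hU' : U'.Normal := ⟨by
      rintro _ ⟨m, hm, rfl⟩ g
      obtain ⟨u, hu, l, hl, rfl⟩ := htr M hMn hM0 g
      refine ⟨(⟨l, hl⟩ : L) • Additive.ofMul m, hU _ _ hm, ?_⟩
      have h1 := hcomm u hu _ (hMn.conj_mem m m.2 l)
      change l * m * l⁻¹ = u * l * m * (u * l)⁻¹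
      calc l * m * l⁻¹ = u * (l * m * l⁻¹) * u⁻¹ := by rw [h1]; group
        _ = _ := by group⟩
    by_cases h0 : U' = ⊥
    · left
      rw [eq_bot_iff]
      intro v hv
      have : (v.toMul : T) ∈ U' := ⟨v.toMul, hv, rfl⟩
      rw [h0, mem_bot] at this
      exact AddSubgroup.mem_bot.2 (Additive.toMul.injective (Subtype.ext this))
    · right
      rw [eq_top_iff]
      intro v _
      obtain ⟨_, ⟨m, hm, rfl⟩, l, hl, h⟩ := htr U' hU' h0 v.toMul
      have hl' : l = (m : T)⁻¹ * v.toMul := by rw [← h]; simp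
      have := hreg l (hl' ▸ mul_mem (inv_mem m.2) v.toMul.2) hl
      rw [this, mul_one] at h
      have : v = Additive.ofMul m := Additive.toMul.injective (Subtype.ext h.symm)
      rw [this]; exact hm
  obtain ⟨F, hF⟩ := hA L (Additive M) inferInstance
    (hn.coprime_dvd_left (card_subgroup_dvd_card L))
    (hn.coprime_dvd_left (card_subgroup_dvd_card M)) hirr
    ((Nat.card_eq_of_bijective e he).trans_le hN)
  let E := Equiv.ofBijective e he
  refine ⟨fun x => F (E.symm x), fun g c h => ?_⟩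
  obtain ⟨u, hu, l, hl, rfl⟩ := htr M hMn hM0 g
  have key : ∀ v, (u * l) • E v = E (Additive.ofMul ⟨u, hu⟩ + (⟨l, hl⟩ : L) • v) := by
    intro v
    change (u * l) • (v.toMul : T) • x0 = (u * (l * v.toMul * l⁻¹)) • x0
    have : l⁻¹ • x0 = x0 := mem_stabilizer_iff.1 (inv_mem hl)
    simp only [mul_smul, this]
  obtain ⟨h1, h2, h3⟩ := hF ⟨l, hl⟩ (Additive.ofMul ⟨u, hu⟩) c fun v => by
    have := h (E v)
    simpa only [key, Equiv.symm_apply_apply] using this
  refine ⟨h1, fun x => ?_⟩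
  obtain ⟨v, rfl⟩ := E.surjective x
  rw [key, h2, h3, zero_add]

theorem prim_general {t n N : ℕ} (hA : AffP.{u} t n N) {G Ω : Type u} [Group G] [Finite G]
    [Finite Ω] [MulAction G Ω] [IsPretransitive G Ω]
    (hs : Group.IsSolvable G) (hn : (Nat.card G).Coprime n) (hN : Nat.card Ω ≤ N) (x0 : Ω)
    (hx : IsCoatom (stabilizer G x0)) : SDist t G Ω := by
  let φ := (toPermHom G Ω).rangeRestrict
  have hφ : Function.Surjective φ := MonoidHom.rangeRestrict_surjective _
  haveI : IsPretransitive (toPermHom G Ω).range Ω := ⟨fun x y => by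
    obtain ⟨g, hg⟩ := exists_smul_eq G x y
    exact ⟨φ g, hg⟩⟩
  have hst : stabilizer G x0 = (stabilizer (toPermHom G Ω).range x0).comap φ := rfl
  obtain ⟨F, hF⟩ := prim_faithful hA (T := (toPermHom G Ω).range) (Ω := Ω)
    (Group.isSolvable_of_surjective hφ) (hn.coprime_dvd_left (card_range_dvd _)) hN x0
    ⟨fun e => hx.1 (by rw [hst, e, comap_top]), fun D hD => by
      have := hx.2 (D.comap φ) (hst ▸ (comap_lt_comap_of_surjective hφ).2 hD)
      exact comap_injective hφ (this.trans (comap_top φ).symm)⟩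
  exact ⟨F, fun g c h => hF (φ g) c h⟩

theorem trans_step {t n N : ℕ} (hA : AffP.{u} t n N) {G Ω : Type u} [Group G] [Finite G]
    [Finite Ω] [MulAction G Ω] [IsPretransitive G Ω]
    (hs : Group.IsSolvable G) (hn : (Nat.card G).Coprime n) (hN : Nat.card Ω ≤ N)
    (ih : ∀ m < Nat.card Ω, PermP.{u} t n m) : Dist t G Ω := by
  classical
  rcases isEmpty_or_nonempty Ω with hΩ | ⟨⟨x0⟩⟩
  · exact ⟨fun _ => 0, fun g _ x => isEmptyElim x⟩
  by_cases htop : stabilizer G x0 = ⊤
  · refine ⟨fun _ => 0, fun g _ x => ?_⟩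
    obtain ⟨k, rfl⟩ := exists_smul_eq G x0 x
    have h1 : ∀ a : G, a • x0 = x0 := fun a => mem_stabilizer_iff.1 (htop ▸ mem_top a)
    rw [h1, h1]
  obtain ⟨H, hH, -⟩ := exists_covBy_le_of_lt (lt_top_iff_ne_top.2 htop)
  have hI : Nat.card (G ⧸ H) < Nat.card Ω := by
    rw [← index_stabilizer_of_transitive G x0]
    exact index_strictAnti hH.1
  obtain ⟨f, hf⟩ := ih _ hI G (G ⧸ H) hs hn le_rfl
  choose k hk using fun x => exists_smul_eq G x0 x
  let β : Ω → G ⧸ H := fun x => (k x : G ⧸ H)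
  have hβ0 : ∀ g : G, β (g • x0) = (g : G ⧸ H) := fun g =>
    QuotientGroup.eq.2 (hH.le (by
      rw [mem_stabilizer_iff, mul_smul, inv_smul_eq_iff, hk]))
  have hβ : ∀ (g : G) x, β (g • x) = g • β x := by
    intro g x
    obtain ⟨a, rfl⟩ := exists_smul_eq G x0 x
    rw [← mul_smul, hβ0, hβ0]; rfl
  have hβ1 : ∀ x, β x = ((1 : G) : G ⧸ H) ↔ x ∈ orbit H x0 := by
    intro x
    constructor
    · intro h
      have : k x ∈ H := by simpa using inv_mem (QuotientGroup.eq.1 h)
      exact ⟨⟨k x, this⟩, hk x⟩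
    · rintro ⟨⟨a, ha⟩, rfl⟩
      change β (a • x0) = _
      rw [hβ0]
      exact QuotientGroup.eq.2 (by simpa using ha)
  obtain ⟨F, hF⟩ := prim_general hA (G := H) (Ω := orbit H x0) inferInstance
    (hn.coprime_dvd_left (card_subgroup_dvd_card H))
    ((Finite.card_subtype_le _).trans hN) ⟨x0, mem_orbit_self x0⟩ (by
      have e : stabilizer H (⟨x0, mem_orbit_self x0⟩ : orbit H x0) =
          (stabilizer G x0).subgroupOf H := by
        ext a
        rw [mem_stabilizer_iff, mem_subgroupOf, mem_stabilizer_iff, Subtype.ext_iff]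
        rfl
      rw [e]
      refine ⟨fun h => hH.1.not_ge (subgroupOf_eq_top.1 h), fun D hD => ?_⟩
      have h1 : stabilizer G x0 < D.map H.subtype := by
        rw [← map_subgroupOf_eq_of_le hH.le]
        exact (map_lt_map_iff_of_injective H.subtype_injective).2 hD
      have h2 := (hH.eq_or_eq h1.le (map_subtype_le D)).resolve_left h1.ne'
      exact map_injective H.subtype_injective (h2.trans (by
        rw [← MonoidHom.range_eq_map, range_subtype])))
  letI : MulAction G (Ω → ZMod t) := arrowAction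
  have hsm : ∀ (g : G) (F : Ω → ZMod t) x, (g • F) x = F (g⁻¹ • x) := fun _ _ _ => rfl
  let R : G ⧸ H → (Ω → ZMod t) → Prop := fun i F => (∀ x, β x ≠ i → F x = 0) ∧
    ∀ g : G, g • i = i → g • F = F → ∀ x, β x = i → g • x = x
  let σ : ZMod t → Ω → ZMod t := fun c x => if h : x ∈ orbit H x0 then F ⟨x, h⟩ + c else 0
  have hσ : ∀ (g : G) c c', g • ((1 : G) : G ⧸ H) = ((1 : G) : G ⧸ H) → g • σ c = σ c' →
      c = c' ∧ ∀ x ∈ orbit H x0, g • x = x := by
    intro g c c' h1 h2
    have hg : g ∈ H := by simpa using inv_mem (QuotientGroup.eq.1 h1)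
    obtain ⟨h3, h4⟩ := hF ⟨g, hg⟩ (c - c') fun x => by
      have := congrFun h2 (g • x.1)
      rw [hsm, inv_smul_smul] at this
      simp only [σ] at this
      rw [dif_pos x.2, dif_pos (show g • x.1 ∈ orbit H x0 from ((⟨g, hg⟩ : H) • x).2)] at this
      change F x + c = F ((⟨g, hg⟩ : H) • x) + c' at this
      rw [← add_sub_assoc, this, add_sub_cancel_right]
    exact ⟨sub_eq_zero.1 h3, fun x hx => congrArg Subtype.val (h4 ⟨x, hx⟩)⟩
  obtain ⟨s, hs1, hs2⟩ := wreath (G := G) R (C := ZMod t) (fun g i F ⟨h1, h2⟩ => ⟨fun x hx => by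
      rw [hsm]; refine h1 _ fun e => hx ?_
      rw [hβ, inv_smul_eq_iff] at e; exact e, fun a ha haF x hx => by
      have := h2 (g⁻¹ * a * g) (by rw [mul_smul, mul_smul, ha, inv_smul_smul])
        (by rw [mul_smul, mul_smul, haF, inv_smul_smul]) (g⁻¹ • x) (by rw [hβ, hx, inv_smul_smul])
      rwa [mul_smul, mul_smul, smul_inv_smul, smul_left_cancel_iff] at this⟩) (fun i => by
      obtain ⟨g, hg⟩ := exists_smul_eq G i ((1 : G) : G ⧸ H)
      refine ⟨g, σ, fun c => ?_, fun a c c' h1 h2 => ?_⟩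
      · rw [hg]
        exact ⟨fun x hx => dif_neg fun h => hx ((hβ1 x).2 h),
          fun a h1 h2 x hx => (hσ a c c h1 h2).2 x ((hβ1 x).1 hx)⟩
      · rw [hg] at h1; exact (hσ a c c' h1 h2).1) f
  refine ⟨fun x => s (β x) x, fun g hg x => ?_⟩
  have h1 : ∀ i, g • s i = s (g • i) := by
    intro i
    funext y
    obtain ⟨y, rfl⟩ : ∃ z, y = g • z := ⟨g⁻¹ • y, by simp⟩
    rw [hsm, inv_smul_smul]
    by_cases hy : β y = i
    · have := hg y
      simp only [hβ, hy] at this
      exact this.symm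
    · rw [(hs1 i).1 y hy, (hs1 _).1 _ (by rw [hβ]; simpa using hy)]
  have h2 := hf g (hs2 g h1)
  exact (hs1 (β x)).2 g (h2 _) (by rw [h1, h2]) x rfl

theorem permP_of_affP {t n N : ℕ} (hA : AffP.{u} t n N) : PermP.{u} t n N := by
  classical
  suffices ∀ m ≤ N, PermP.{u} t n m from this N le_rfl
  intro m
  induction m using Nat.strong_induction_on with
  | _ m ih =>
  intro hm G Ω _ _ _ _ hs hn hΩ
  have h : ∀ q : orbitRel.Quotient G Ω, ∃ F : Ω → ZMod t, ∀ g : G,
      (∀ x ∈ q.orbit, F (g • x) = F x) → ∀ x ∈ q.orbit, g • x = x := by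
    intro q
    have hq : Nat.card q.orbit ≤ m := (Finite.card_subtype_le _).trans hΩ
    obtain ⟨F, hF⟩ := trans_step hA (G := G) (Ω := q.orbit) hs hn (hq.trans hm)
      fun k hk => ih k (hk.trans_le hq) (by omega)
    refine ⟨fun x => if h : x ∈ q.orbit then F ⟨x, h⟩ else 0, fun g hg x hx =>
      congrArg Subtype.val (hF g (fun y => ?_) ⟨x, hx⟩)⟩
    have := hg y y.2
    simp only at this
    rwa [dif_pos y.2, dif_pos (show g • y.1 ∈ q.orbit from (g • y).2)] at this
  choose F hF using h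
  refine ⟨fun x => F (Quotient.mk _ x) x, fun g hg x => hF (Quotient.mk _ x) g (fun y hy => ?_) x
    (orbitRel.Quotient.mem_orbit.2 rfl)⟩
  have h1 : (Quotient.mk _ y : orbitRel.Quotient G Ω) = Quotient.mk _ x :=
    orbitRel.Quotient.mem_orbit.1 hy
  have h2 : (Quotient.mk _ (g • y) : orbitRel.Quotient G Ω) = Quotient.mk _ y :=
    Quotient.sound (orbitRel_apply.2 ⟨g, rfl⟩)
  have := hg y
  simp only at this
  rwa [h2, h1] at this

end H83.Base
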