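import Mathlib
import Cfsg.Agent.Lib.FGS83.BaseB

/-!
# Base sizes, part C: reduction of modules to the field case (helper83)
-/

set_option autoImplicit false

namespace H83.Base

open Subgroup MulAction

universe u

def BaseK (k : ℕ) (G V : Type*) [SMul G V] : Prop :=
  ∃ v : Fin k → V, ∀ g : G, (∀ j, g • v j = v j) → ∀ x : V, g • x = x

def MBase (k t : ℕ) (G V : Type*) [SMul G V] : Prop :=
  ∃ σ : ZMod t → Fin k → V, ∀ (g : G) c c', (∀ j, g • σ c j = σ c' j) →
    c = c' ∧ ∀ x : V, g • x = x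

def Lin {G : Type*} (K V : Type*) [SMul G V] [SMul K V] (g : G) : Prop :=
  ∀ (k : K) (v : V), g • k • v = k • g • v

def Scal {G : Type*} (K V : Type*) [SMul G V] [SMul K V] (g : G) : Prop :=
  ∃ k : K, ∀ v : V, g • v = k • v

def ModP (k n e N : ℕ) : Prop :=
  ∀ (G V : Type u) [Group G] [Finite G] [AddCommGroup V] [Finite V] [DistribMulAction G V],
    Group.IsSolvable G → (Nat.card G).Coprime n → (∀ v : V, e • v = 0) → Irr G V →
    Nat.card V ≤ N → BaseK k G V

def MulP (k t n e : ℕ) : Prop :=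
  ∀ (G V : Type u) [Group G] [Finite G] [AddCommGroup V] [Finite V] [DistribMulAction G V],
    Group.IsSolvable G → (Nat.card G).Coprime n → (∀ v : V, e • v = 0) → Nontrivial V →
    BaseK k G V → MBase k t G V

def FieldP (k n e : ℕ) : Prop :=
  ∀ (G V K : Type u) [Group G] [Finite G] [AddCommGroup V] [Finite V] [DistribMulAction G V]
    [FaithfulSMul G V] [Field K] [Finite K] [Module K V],
    Group.IsSolvable G → (Nat.card G).Coprime n → (∀ v : V, e • v = 0) → Nontrivial V →
    (∀ (g : G) (k : K), ∃ k' : K, ∀ v : V, g • k • v = k' • g • v) →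
    (∀ D : Subgroup G, D.Normal → (∀ d ∈ D, Lin K V d) → (∀ a ∈ D, ∀ b ∈ D, a * b = b * a) →
      ∀ d ∈ D, Scal K V d) → BaseK k G V

@[reducible] def subAct (G : Type*) {V : Type*} [Group G] [AddCommGroup V] [DistribMulAction G V]
    (U : AddSubgroup V) (h : Invt G U) : DistribMulAction G U where
  smul g u := ⟨g • u.1, h g u.1 u.2⟩
  one_smul u := Subtype.ext (one_smul G u.1)
  mul_smul a b u := Subtype.ext (mul_smul a b u.1)
  smul_zero a := Subtype.ext (smul_zero a)
  smul_add a u v := Subtype.ext (smul_add a u.1 v.1)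

theorem exists_min_nat {α : Type*} (T : Set α) (f : α → ℕ) (hT : T.Nonempty) :
    ∃ a ∈ T, ∀ b ∈ T, f a ≤ f b := by
  obtain ⟨a, ha, hm⟩ := WellFounded.has_min (measure f).wf T hT
  exact ⟨a, ha, fun b hb => not_lt.1 (hm b hb)⟩

theorem exists_pow_idem {R : Type*} [Monoid R] [Finite R] (a : R) :
    ∃ n, 0 < n ∧ a ^ n * a ^ n = a ^ n := by
  have key : ∀ i d : ℕ, 0 < d → a ^ i = a ^ (i + d) → ∃ n, 0 < n ∧ a ^ n * a ^ n = a ^ n := by
    intro i d hd h
    have h1 : ∀ m, a ^ (i + m * d) = a ^ i := by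
      intro m
      induction m with
      | zero => simp
      | succ m ih => rw [add_mul, one_mul, ← add_assoc, pow_add, ih, ← pow_add, ← h]
    refine ⟨(i + 1) * d, by positivity, ?_⟩
    obtain ⟨r, hr⟩ : ∃ r, (i + 1) * d = i + r := ⟨(i + 1) * d - i, by
      have : i ≤ (i + 1) * d := by nlinarith
      omega⟩
    rw [← pow_add]
    calc a ^ ((i + 1) * d + (i + 1) * d) = a ^ (i + (i + 1) * d) * a ^ r := by
          rw [← pow_add]; congr 1; omega
      _ = _ := by rw [h1, ← pow_add, hr]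
  obtain ⟨i, j, hij, h⟩ := Finite.exists_ne_map_eq_of_infinite fun n : ℕ => a ^ n
  rcases lt_or_gt_of_ne hij with hlt | hlt
  · exact key i (j - i) (by omega) (by rw [h]; congr 1; omega)
  · exact key j (i - j) (by omega) (by rw [← h]; congr 1; omega)

section End

variable {G V : Type*} [Group G] [AddCommGroup V] [DistribMulAction G V]

/-- conjugation of endomorphisms -/
def cjE (g : G) : AddMonoid.End V →+* AddMonoid.End V where
  toFun f := DistribMulAction.toAddMonoidEnd G V g * f * DistribMulAction.toAddMonoidEnd G V g⁻¹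
  map_one' := by rw [mul_one, ← map_mul, mul_inv_cancel, map_one]
  map_mul' a b := by
    simp only [mul_assoc]
    rw [← mul_assoc (DistribMulAction.toAddMonoidEnd G V g⁻¹), ← map_mul, inv_mul_cancel, map_one,
      one_mul]
  map_zero' := by rw [mul_zero, zero_mul]
  map_add' a b := by rw [mul_add, add_mul]

theorem cjE_apply (g : G) (f : AddMonoid.End V) (v : V) : cjE g f v = g • f (g⁻¹ • v) := rfl

theorem cjE_smul (g : G) (f : AddMonoid.End V) (v : V) : cjE g f (g • v) = g • f v := by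
  rw [cjE_apply, inv_smul_smul]

theorem cjE_one (f : AddMonoid.End V) : cjE (1 : G) f = f := by
  ext v; simp [cjE_apply]

theorem cjE_mul (g h : G) (f : AddMonoid.End V) : cjE (g * h) f = cjE g (cjE h f) := by
  ext v; simp [cjE_apply, mul_smul]

theorem cjE_rho (g z : G) : cjE g (DistribMulAction.toAddMonoidEnd G V z) =
    DistribMulAction.toAddMonoidEnd G V (g * z * g⁻¹) := by
  rw [map_mul, map_mul]; rfl

end End

theorem imprim_step {k t n e N : ℕ} (hM : MulP.{u} k t n e)
    (hP : ∀ m < N, PermP.{u} t n m) (ih : ∀ m < N, ModP.{u} k n e m)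
    {G V : Type u} [Group G] [Finite G] [AddCommGroup V] [Finite V] [DistribMulAction G V]
    (hs : Group.IsSolvable G) (hn : (Nat.card G).Coprime n) (he : ∀ v : V, e • v = 0)
    (hi : Irr G V) (hN : Nat.card V ≤ N) (K : Subring (AddMonoid.End V))
    (hK : ∀ a ∈ K, ∀ b ∈ K, a * b = b * a) (hKg : ∀ g : G, ∀ a ∈ K, cjE g a ∈ K)
    {f0 : AddMonoid.End V} (hf0 : f0 ∈ K) (hf1 : f0 * f0 = f0) (hf2 : f0 ≠ 0) (hf3 : f0 ≠ 1) :
    BaseK k G V := by
  classical
  haveI : Finite (AddMonoid.End V) :=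
    Finite.of_injective (fun f : AddMonoid.End V => (f : V → V)) DFunLike.coe_injective
  let I := {a : AddMonoid.End V // a ∈ K ∧ a * a = a ∧ a ≠ 0 ∧
    ∀ f ∈ K, f * f = f → f * a = 0 ∨ f * a = a}
  have hinv : ∀ (g : G) (a : AddMonoid.End V), cjE g (cjE g⁻¹ a) = a := fun g a => by
    rw [← cjE_mul, mul_inv_cancel, cjE_one]
  have hinv' : ∀ (g : G) (a : AddMonoid.End V), cjE g⁻¹ (cjE g a) = a := fun g a => by
    rw [← cjE_mul, inv_mul_cancel, cjE_one]
  letI : MulAction G I :=
    { smul := fun g a => ⟨cjE g a.1, hKg g _ a.2.1, by rw [← map_mul, a.2.2.1], fun h =>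
        a.2.2.2.1 (by rw [← hinv' g a.1, h, map_zero]), fun f hf hff => by
          rcases a.2.2.2.2 (cjE g⁻¹ f) (hKg _ _ hf) (by rw [← map_mul, hff]) with h | h
          · left; rw [← hinv g f, ← map_mul, h, map_zero]
          · right; rw [← hinv g f, ← map_mul, h]⟩
      one_smul := fun a => Subtype.ext (cjE_one a.1)
      mul_smul := fun g h a => Subtype.ext (cjE_mul g h a.1) }
  have hsm : ∀ (g : G) (a : I) (v : V), (g • a).1 (g • v) = g • a.1 v := fun g a v =>
    cjE_smul g a.1 v
  have idem : ∀ (a : I) v, a.1 (a.1 v) = a.1 v := fun a v => DFunLike.congr_fun a.2.2.1 v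
  have orth : ∀ a b : I, a ≠ b → ∀ v, a.1 (b.1 v) = 0 := by
    intro a b hab v
    rcases b.2.2.2.2 a.1 a.2.1 a.2.2.1 with h | h
    · exact DFunLike.congr_fun h v
    rcases a.2.2.2.2 b.1 b.2.1 b.2.2.1 with h' | h'
    · rw [hK _ b.2.1 _ a.2.1] at h'; exact DFunLike.congr_fun h' v
    · exact absurd (Subtype.ext (by rw [← h', hK _ b.2.1 _ a.2.1, h])) hab
  have nz : ∀ a : I, ∃ v, a.1 v ≠ 0 := fun a => by
    by_contra! h
    exact a.2.2.2.1 (DFunLike.ext _ _ h)
  obtain ⟨a0⟩ : Nonempty I := by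
    obtain ⟨a, ⟨h1, h2, h3⟩, hm⟩ := exists_min_nat
      {a : AddMonoid.End V | a ∈ K ∧ a * a = a ∧ a ≠ 0} (fun a => {v | a v = v}.ncard)
      ⟨f0, hf0, hf1, hf2⟩
    refine ⟨⟨a, h1, h2, h3, fun f hf hff => ?_⟩⟩
    by_cases h0 : f * a = 0
    · exact Or.inl h0
    right
    have e1 : a * (f * a) = f * a := by rw [← mul_assoc, hK a h1 f hf, mul_assoc, h2]
    have h4 := hm (f * a) ⟨mul_mem hf h1, by rw [mul_assoc, e1, ← mul_assoc, hff], h0⟩
    have h5 : {v | (f * a) v = v} = {v | a v = v} := Set.eq_of_subset_of_ncard_le (fun v hv => by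
      have hv' : (f * a) v = v := hv
      change a v = v
      rw [← hv']; exact DFunLike.congr_fun e1 v) h4
    ext v
    have : a v ∈ {v | (f * a) v = v} := by rw [h5]; exact DFunLike.congr_fun h2 v
    have h6 : (f * a) (a v) = a v := this
    rw [← h6]
    exact (DFunLike.congr_fun (show f * a * a = f * a by rw [mul_assoc, h2]) v).symm
  letI : Fintype I := Fintype.ofFinite I
  have proj : ∀ (s : I → V), (∀ a, a.1 (s a) = s a) → ∀ a : I, a.1 (∑ b, s b) = s a := by
    intro s hs a
    rw [map_sum, Finset.sum_eq_single a (fun b _ hb => by rw [← hs b, orth a b hb.symm])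
      (by simp), hs]
  have hsum : ∀ v, ∑ a : I, a.1 v = v := by
    let U : AddSubgroup V :=
      { carrier := {v | ∑ a : I, a.1 v = v}
        add_mem' := fun {v w} hv hw => by
          simp only [Set.mem_setOf_eq, map_add, Finset.sum_add_distrib] at *
          rw [hv, hw]
        zero_mem' := by simp
        neg_mem' := fun {v} hv => by
          simp only [Set.mem_setOf_eq, map_neg, Finset.sum_neg_distrib] at *
          rw [hv] }
    have hU : Invt G U := fun g v hv => by
      change ∑ a : I, a.1 (g • v) = g • v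
      have hv' : ∑ a : I, a.1 v = v := hv
      rw [← Equiv.sum_comp (MulAction.toPerm g)]
      simp only [MulAction.toPerm_apply, hsm]
      rw [← Finset.smul_sum, hv']
    rcases hi.2 U hU with h | h
    · obtain ⟨v, hv⟩ := nz a0
      have : a0.1 v ∈ U := by
        change ∑ a : I, a.1 (a0.1 v) = a0.1 v
        rw [Finset.sum_eq_single a0 (fun b _ hb => orth b a0 hb v) (by simp), idem]
      rw [h] at this
      exact absurd (AddSubgroup.mem_bot.1 this) hv
    · intro v
      have : v ∈ U := h ▸ AddSubgroup.mem_top v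
      exact this
  have hI : Nat.card I < N := by
    choose u hu using nz
    have : Function.Injective (fun o : Option I => o.elim (0 : V) fun a => a.1 (u a)) := by
      rintro (_ | a) (_ | b) h
      · rfl
      · exact absurd h.symm (hu b)
      · exact absurd h (hu a)
      · by_contra hab
        have hab' : a ≠ b := fun e => hab (by rw [e])
        simp only [Option.elim] at h
        exact hu a (by rw [← idem, h, orth a b hab'])
    have := Nat.card_le_card_of_injective _ this
    rw [Finite.card_option] at this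
    omega
  obtain ⟨f, hf⟩ := hP _ hI G I hs hn le_rfl
  let R : I → (Fin k → V) → Prop := fun a s => (∀ j, a.1 (s j) = s j) ∧
    ∀ g : G, g • a = a → g • s = s → ∀ x, a.1 x = x → g • x = x
  obtain ⟨s, hs1, hs2⟩ := wreath (G := G) R (C := ZMod t) (fun g a s ⟨h1, h2⟩ => ⟨fun j => by
      rw [Pi.smul_apply, hsm, h1], fun x hx hxs v hv => by
      have := h2 (g⁻¹ * x * g) (by rw [mul_smul, mul_smul, hx, inv_smul_smul])
        (by rw [mul_smul, mul_smul, hxs, inv_smul_smul]) (g⁻¹ • v) (by
          rw [← inv_smul_smul g a, hsm, hv])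
      rwa [mul_smul, mul_smul, smul_inv_smul, smul_left_cancel_iff] at this⟩) (fun a => by
      let U : AddSubgroup V := a.1.eqLocus (AddMonoidHom.id V)
      have mU : ∀ v, v ∈ U ↔ a.1 v = v := fun v => Iff.rfl
      have hU : Invt (stabilizer G a) U := fun g v hv => by
        rw [mU] at hv ⊢
        have := hsm g a v
        rw [mem_stabilizer_iff.1 g.2, hv] at this
        exact this
      letI := subAct (stabilizer G a) U hU
      have hlt : Nat.card U < N := by
        refine lt_of_lt_of_le (Finite.card_subtype_lt (x := ?_) ?_) hN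
        · exact Classical.epsilon fun v => v ∉ U
        · refine Classical.epsilon_spec (p := fun v => v ∉ U) ?_
          by_contra! h
          have h1 : a.1 = 1 := DFunLike.ext _ _ h
          have := a.2.2.2.2 f0 hf0 hf1
          rw [h1, mul_one] at this
          tauto
      obtain ⟨v0, hv0⟩ := nz a
      have hnt : Nontrivial U := ⟨⟨⟨a.1 v0, idem a v0⟩, 0, fun h => hv0 (congrArg Subtype.val h)⟩⟩
      have hcop := hn.coprime_dvd_left (card_subgroup_dvd_card (stabilizer G a))
      have heU : ∀ v : U, e • v = 0 := fun v => Subtype.ext (he v.1)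
      have hirr : Irr (stabilizer G a) U := ⟨hnt, fun W hW => by
        let W' : AddSubgroup V :=
          { carrier := {v | ∀ g : G, a.1 (g • v) ∈ W.map U.subtype}
            add_mem' := fun {v w} hv hw g => by
              rw [smul_add, map_add]; exact add_mem (hv g) (hw g)
            zero_mem' := fun g => by rw [smul_zero, map_zero]; exact zero_mem _
            neg_mem' := fun {v} hv g => by rw [smul_neg, map_neg]; exact neg_mem (hv g) }
        have hWW : ∀ w ∈ W, w.1 ∈ W' := fun w hw g => by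
          by_cases hg : g • a = a
          · exact ⟨(⟨g, hg⟩ : stabilizer G a) • w, hW _ _ hw,
              ((⟨g, hg⟩ : stabilizer G a) • w).2.symm⟩
          · rw [← (mU _).1 w.2, ← hsm, orth _ _ (Ne.symm hg)]
            exact zero_mem _
        rcases hi.2 W' (fun g v hv x => by rw [← mul_smul]; exact hv _) with h | h
        · left
          rw [eq_bot_iff]
          intro w hw
          have := hWW w hw
          rw [h] at this
          exact AddSubgroup.mem_bot.2 (Subtype.ext (AddSubgroup.mem_bot.1 this))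
        · right
          rw [eq_top_iff]
          intro w _
          have : w.1 ∈ W' := h ▸ AddSubgroup.mem_top _
          obtain ⟨w', h1, h2⟩ := this 1
          rw [one_smul, (mU _).1 w.2] at h2
          rwa [← Subtype.ext h2]⟩
      obtain ⟨σ, hσ⟩ := hM (stabilizer G a) U inferInstance hcop heU hnt
        (ih _ hlt (stabilizer G a) U inferInstance hcop heU hirr le_rfl)
      refine ⟨1, fun c j => (σ c j).1, fun c => ?_, fun x c c' h1 h2 => ?_⟩
      · rw [one_smul]
        exact ⟨fun j => (σ c j).2, fun g h1 h2 x hx => congrArg Subtype.val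
          ((hσ ⟨g, h1⟩ c c fun j => Subtype.ext (congrFun h2 j)).2 ⟨x, hx⟩)⟩
      · rw [one_smul] at h1
        exact (hσ ⟨x, h1⟩ c c' fun j => Subtype.ext (congrFun h2 j)).1) f
  refine ⟨fun j => ∑ a, s a j, fun g hg x => ?_⟩
  have h1 : ∀ a, g • s a = s (g • a) := fun a => by
    funext j
    have := hsm g a (∑ b, s b j)
    rw [hg j, proj _ fun b => (hs1 b).1 j, proj _ fun b => (hs1 b).1 j] at this
    exact this.symm
  have h2 := hf g (hs2 g h1)
  rw [← hsum x, Finset.smul_sum]
  exact Finset.sum_congr rfl fun a _ => (hs1 a).2 g (h2 a) (by rw [h1, h2]) _ (idem a x)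

theorem mod_faithful {k t n e N : ℕ} (hM : MulP.{u} k t n e) (hF : FieldP.{u} k n e)
    (hP : ∀ m < N, PermP.{u} t n m) (ih : ∀ m < N, ModP.{u} k n e m)
    {G V : Type u} [Group G] [Finite G] [AddCommGroup V] [Finite V] [DistribMulAction G V]
    [FaithfulSMul G V]
    (hs : Group.IsSolvable G) (hn : (Nat.card G).Coprime n) (he : ∀ v : V, e • v = 0)
    (hi : Irr G V) (hN : Nat.card V ≤ N) : BaseK k G V := by
  classical
  haveI : Finite (AddMonoid.End V) :=
    Finite.of_injective (fun f : AddMonoid.End V => (f : V → V)) DFunLike.coe_injective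
  haveI := hi.1
  obtain ⟨Z, ⟨hZn, hZc⟩, hZm⟩ := Set.Finite.exists_maximal (Set.toFinite
    {Z : Subgroup G | Z.Normal ∧ ∀ a ∈ Z, ∀ b ∈ Z, a * b = b * a})
    ⟨⊥, inferInstance, by simp⟩
  let ρ := DistribMulAction.toAddMonoidEnd G V
  let K := Subring.closure (ρ '' Z)
  have hc : ∀ f : AddMonoid.End V, (∀ z ∈ Z, f * ρ z = ρ z * f) → ∀ a ∈ K, f * a = a * f := by
    intro f hf a ha
    have : K ≤ Subring.centralizer {f} := Subring.closure_le.2 (by
      rintro _ ⟨z, hz, rfl⟩
      exact Subring.mem_centralizer_iff.2 (by rintro _ rfl; exact hf z hz))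
    exact Subring.mem_centralizer_iff.1 (this ha) f rfl
  have hK : ∀ a ∈ K, ∀ b ∈ K, a * b = b * a := fun a ha =>
    hc a fun z hz => (hc (ρ z) (fun y hy => by rw [← map_mul, ← map_mul, hZc z hz y hy]) a ha).symm
  have hKg : ∀ g : G, ∀ a ∈ K, cjE g a ∈ K := fun g a ha => by
    have : K ≤ K.comap (cjE g) := Subring.closure_le.2 (by
      rintro _ ⟨z, hz, rfl⟩
      exact Subring.subset_closure ⟨_, hZn.conj_mem z hz g, (cjE_rho g z).symm⟩)
    exact this ha
  by_cases hid : ∀ f ∈ K, f * f = f → f = 0 ∨ f = 1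
  swap
  · push Not at hid
    obtain ⟨f0, h0, h1, h2, h3⟩ := hid
    exact imprim_step hM hP ih hs hn he hi hN K hK hKg h0 h1 h2 h3
  have hred : ∀ a ∈ K, IsNilpotent a → a = 0 := by
    obtain ⟨v, hv, hm⟩ := exists_max_bdd {v : V | v ≠ 0}
      (fun v => {a | a ∈ K ∧ IsNilpotent a ∧ a v = 0}.ncard) (Nat.card (AddMonoid.End V))
      (fun v _ => Set.ncard_le_card _) (exists_ne 0)
    have h1 : ∀ a ∈ K, IsNilpotent a → a v = 0 := by
      intro a ha hnil
      by_contra hav
      have hex : ∃ j, (a ^ j) v = 0 := by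
        obtain ⟨j, hj⟩ := hnil
        exact ⟨j, by rw [hj]; rfl⟩
      have hj := Nat.find_spec hex
      obtain ⟨j, hj'⟩ : ∃ j, Nat.find hex = j + 1 := Nat.exists_eq_succ_of_ne_zero fun h => by
        rw [h] at hj; exact hv hj
      have hj2 := Nat.find_min hex (m := j) (by omega)
      rw [hj', pow_succ'] at hj
      have h3 := hm _ hj2
      have h4 : {a | a ∈ K ∧ IsNilpotent a ∧ a v = 0} ⊂
          {b | b ∈ K ∧ IsNilpotent b ∧ b ((a ^ j) v) = 0} := by
        refine ⟨fun b ⟨b1, b2, b3⟩ => ⟨b1, b2, ?_⟩, fun h => hav (h ⟨ha, hnil, hj⟩).2.2⟩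
        have := DFunLike.congr_fun (hK b b1 _ (pow_mem ha j)) v
        change b ((a ^ j) v) = (a ^ j) (b v) at this
        rw [this, b3, map_zero]
      exact absurd (Set.ncard_lt_ncard h4) (not_lt.2 h3)
    let U : AddSubgroup V :=
      { carrier := {v | ∀ a ∈ K, IsNilpotent a → a v = 0}
        add_mem' := fun {v w} hv hw a ha hn => by rw [map_add, hv a ha hn, hw a ha hn, add_zero]
        zero_mem' := fun a _ _ => map_zero a
        neg_mem' := fun {v} hv a ha hn => by rw [map_neg, hv a ha hn, neg_zero] }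
    rcases hi.2 U (fun g v hv a ha hn => by
      have := hv (cjE g⁻¹ a) (hKg _ _ ha) (hn.map _)
      rw [cjE_apply, inv_inv, smul_eq_zero_iff_eq] at this
      exact this) with h | h
    · have : v ∈ U := h1
      rw [h] at this
      exact absurd (AddSubgroup.mem_bot.1 this) hv
    · intro a ha hn
      ext w
      have : w ∈ U := h ▸ AddSubgroup.mem_top w
      exact this a ha hn
  have hfield : IsField K := ⟨⟨0, 1, fun h => by
      obtain ⟨v, hv⟩ := exists_ne (0 : V)
      exact hv (DFunLike.congr_fun (congrArg Subtype.val h) v).symm⟩,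
    fun a b => Subtype.ext (hK a a.2 b b.2), fun {a} ha => by
      obtain ⟨m, hm, h⟩ := exists_pow_idem a.1
      rcases hid _ (pow_mem a.2 m) h with h0 | h0
      · exact absurd (Subtype.ext (hred a a.2 ⟨m, h0⟩)) ha
      · obtain ⟨m, rfl⟩ : ∃ r, m = r + 1 := ⟨m - 1, by omega⟩
        exact ⟨a ^ m, Subtype.ext (by rw [pow_succ'] at h0; exact h0)⟩⟩
  refine @hF G V K _ _ _ _ _ _ hfield.toField _ (inferInstanceAs (Module K V)) hs hn he hi.1
    (fun g a => ⟨⟨cjE g a.1, hKg g _ a.2⟩, fun v => (cjE_smul g a.1 v).symm⟩)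
    fun D hD hl hDc d hd => ?_
  have hDZ : ∀ d ∈ D, ∀ z ∈ Z, d * z = z * d := fun d hd z hz =>
    FaithfulSMul.eq_of_smul_eq_smul (α := V) fun v => by
      rw [mul_smul, mul_smul]
      exact hl d hd ⟨ρ z, Subring.subset_closure ⟨z, hz, rfl⟩⟩ v
  have h1 : D ⊔ Z ≤ Z := hZm ⟨inferInstance, fun a ha b hb => by
    obtain ⟨a1, ha1, a2, ha2, rfl⟩ := mem_sup_of_normal_left.1 ha
    obtain ⟨b1, hb1, b2, hb2, rfl⟩ := mem_sup_of_normal_left.1 hb
    exact (Commute.mul_left (Commute.mul_right (hDc _ ha1 _ hb1) (hDZ _ ha1 _ hb2))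
      (Commute.mul_right (hDZ _ hb1 _ ha2).symm (hZc _ ha2 _ hb2))).eq⟩ le_sup_right
  exact ⟨⟨ρ d, Subring.subset_closure ⟨d, h1 (mem_sup_left hd), rfl⟩⟩, fun v => rfl⟩

theorem modP_step {k t n e N : ℕ} (hM : MulP.{u} k t n e) (hF : FieldP.{u} k n e)
    (hP : ∀ m < N, PermP.{u} t n m) (ih : ∀ m < N, ModP.{u} k n e m) : ModP.{u} k n e N := by
  intro G V _ _ _ _ _ hs hn he hi hN
  let φ := (DistribMulAction.toModuleAut ℤ V : G →* V ≃ₗ[ℤ] V).rangeRestrict
  have hφ : Function.Surjective φ := MonoidHom.rangeRestrict_surjective _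
  haveI := Finite.of_surjective φ hφ
  obtain ⟨v, hv⟩ := mod_faithful hM hF hP ih
    (G := (DistribMulAction.toModuleAut ℤ V : G →* V ≃ₗ[ℤ] V).range) (V := V)
    (Group.isSolvable_of_surjective hφ) (hn.coprime_dvd_left (card_range_dvd _)) he
    ⟨hi.1, fun U hU => hi.2 U fun g => hU (φ g)⟩ hN
  exact ⟨v, fun g hg => hv (φ g) hg⟩

theorem modP_of_perm {k t n e : ℕ} (hM : MulP.{u} k t n e) (hF : FieldP.{u} k n e)
    (hP : ∀ m, PermP.{u} t n m) (N : ℕ) : ModP.{u} k n e N := by
  induction N using Nat.strong_induction_on with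
  | _ N ih => exact modP_step hM hF (fun m _ => hP m) ih

theorem modP_of_aff {k t n e : ℕ} (hM : MulP.{u} k t n e) (hF : FieldP.{u} k n e)
    (hA : ∀ m, ModP.{u} k n e m → AffP.{u} t n m) (N : ℕ) : ModP.{u} k n e N := by
  induction N using Nat.strong_induction_on with
  | _ N ih => exact modP_step hM hF (fun m hm => permP_of_affP (hA m (ih m hm))) ih

/-- completely reducible modules -/
theorem base_of_cr {k : ℕ} {G V : Type*} [Group G] [AddCommGroup V] [Finite V]
    [DistribMulAction G V]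
    (hcr : ∀ U : AddSubgroup V, Invt G U → ∃ W : AddSubgroup V, Invt G W ∧ U ⊓ W = ⊥ ∧ U ⊔ W = ⊤)
    (h : ∀ (U : AddSubgroup V) (hU : Invt G U), @Irr G U _ _ (subAct G U hU) →
      @BaseK k G U (subAct G U hU).toSMul) : BaseK k G V := by
  suffices ∀ n, ∀ U : AddSubgroup V, Nat.card U = n → Invt G U → ∃ v : Fin k → V, (∀ j, v j ∈ U) ∧
      ∀ g : G, (∀ j, g • v j = v j) → ∀ x ∈ U, g • x = x by
    obtain ⟨v, -, hv⟩ := this _ ⊤ rfl fun _ _ _ => trivial
    exact ⟨v, fun g hg x => hv g hg x trivial⟩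
  intro n
  induction n using Nat.strong_induction_on with
  | _ n ih =>
  intro U hn hU
  by_cases h0 : U = ⊥
  · refine ⟨0, fun _ => zero_mem _, fun g _ x hx => ?_⟩
    rw [h0, AddSubgroup.mem_bot] at hx
    rw [hx, smul_zero]
  by_cases h1 : ∃ U1 : AddSubgroup V, Invt G U1 ∧ U1 < U ∧ U1 ≠ ⊥
  · obtain ⟨U1, i1, l1, n1⟩ := h1
    obtain ⟨W, iW, hW1, hW2⟩ := hcr U1 i1
    have l2 : W ⊓ U < U := lt_of_le_of_ne inf_le_right fun e => n1 <| by
      have : U ≤ W := inf_eq_right.1 e
      rw [← hW1, inf_eq_left.2 (l1.le.trans this)]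
    have lt : ∀ X : AddSubgroup V, X < U → Nat.card X < n := fun X hX => by
      rw [← hn]
      refine lt_of_le_of_ne (AddSubgroup.card_le_of_le hX.le) fun e =>
        hX.ne (AddSubgroup.eq_of_le_of_card_ge hX.le e.ge)
    have i2 : Invt G (W ⊓ U) := fun g v hv => ⟨iW g v hv.1, hU g v hv.2⟩
    obtain ⟨v1, m1, b1⟩ := ih _ (lt _ l1) U1 rfl i1
    obtain ⟨v2, m2, b2⟩ := ih _ (lt _ l2) (W ⊓ U) rfl i2
    refine ⟨v1 + v2, fun j => add_mem (l1.le (m1 j)) (m2 j).2, fun g hg x hx => ?_⟩
    have e1 : ∀ j, g • v1 j = v1 j := fun j => by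
      have := hg j
      rw [Pi.add_apply, smul_add] at this
      have h3 : g • v1 j - v1 j ∈ U1 ⊓ W := AddSubgroup.mem_inf.2
        ⟨U1.sub_mem (i1 g _ (m1 j)) (m1 j), by
        rw [show g • v1 j - v1 j = v2 j - g • v2 j by rw [sub_eq_sub_iff_add_eq_add, this, add_comm]]
        exact W.sub_mem (m2 j).1 (iW g _ (m2 j).1)⟩
      rwa [hW1, AddSubgroup.mem_bot, sub_eq_zero] at h3
    have e2 : ∀ j, g • v2 j = v2 j := fun j => by
      have := hg j
      rwa [Pi.add_apply, smul_add, e1, add_right_inj] at this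
    obtain ⟨y, hy, z, hz, rfl⟩ := AddSubgroup.mem_sup.1 (hW2 ▸ AddSubgroup.mem_top x)
    rw [smul_add, b1 g e1 y hy, b2 g e2 z ⟨hz, (add_mem_cancel_left (l1.le hy)).1 hx⟩]
  · push Not at h1
    letI := subAct G U hU
    obtain ⟨v, hv⟩ := h U hU ⟨(AddSubgroup.nontrivial_iff_ne_bot U).2 h0, fun W hW => by
      rcases (AddSubgroup.map_subtype_le W).lt_or_eq with hlt | heq
      · left
        have := h1 _ (by rintro g _ ⟨w, hw, rfl⟩; exact ⟨g • w, hW g w hw, rfl⟩) hlt
        exact (AddSubgroup.map_eq_bot_iff_of_injective _ U.subtype_injective).1 this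
      · right
        rw [eq_top_iff]
        intro w _
        obtain ⟨w', h1, h2⟩ : w.1 ∈ W.map U.subtype := heq.symm ▸ w.2
        rwa [← Subtype.ext h2]⟩
    exact ⟨fun j => (v j).1, fun j => (v j).2, fun g hg x hx =>
      congrArg Subtype.val (hv g (fun j => Subtype.ext (hg j)) ⟨x, hx⟩)⟩

end H83.Base
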