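import Mathlib
import Cfsg.Agent.Lib.Core.GrpBasic
import Cfsg.Agent.Lib.Core.CoprimeAbelian
import Cfsg.Agent.Lib.PGroup.Basic
import Cfsg.Agent.Lib.PGroup.Commutator
import Cfsg.Agent.Lib.LocEven.Basic

/-!
# Base sizes, part D: the normal subgroup of symplectic type (helper83)
-/

set_option autoImplicit false

namespace H83.Base

open Subgroup
open scoped commutatorElement

local notation "𝐍(" H ")" => Subgroup.normalizer (SetLike.coe H)
local notation "𝐂(" H ")" => Subgroup.centralizer (SetLike.coe H)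

theorem card_hom_le (Y K : Type*) [Group Y] [Finite Y] [Field K] :
    Nat.card (Y →* Kˣ) ≤ Nat.card Y := by
  letI := Fintype.ofFinite Y
  have h := (linearIndependent_monoidHom Y K).comp (fun f : Y →* Kˣ => (Units.coeHom K).comp f)
    (fun f g h => MonoidHom.ext fun y => Units.ext (DFunLike.congr_fun h y))
  have := h.finite
  letI := Fintype.ofFinite (Y →* Kˣ)
  have h2 := h.fintype_card_le_finrank
  simpa using h2

theorem card_ann_le {A D K : Type*} [Group A] [Group D] [Finite A] [Finite D] [Field K] [Finite K]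
    (β : A →* D →* Kˣ) :
    Nat.card {χ : D →* Kˣ | ∀ d, β.flip d = 1 → χ d = 1} ≤ Nat.card β.flip.range := by
  refine le_trans ?_ (card_hom_le β.flip.range K)
  haveI : Finite (β.flip.range →* Kˣ) :=
    Finite.of_injective (fun f : β.flip.range →* Kˣ => (f : _ → Kˣ)) DFunLike.coe_injective
  have : ∀ χ : {χ : D →* Kˣ | ∀ d, β.flip d = 1 → χ d = 1}, ∃ ψ : β.flip.range →* Kˣ,
      ψ.comp β.flip.rangeRestrict = χ.1 := fun χ =>
    ⟨β.flip.rangeRestrict.liftOfSurjective β.flip.rangeRestrict_surjective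
      ⟨χ.1, fun d hd => χ.2 d (congrArg Subtype.val (MonoidHom.mem_ker.1 hd))⟩,
      MonoidHom.liftOfRightInverse_comp _ _ _ _⟩
  choose ψ hψ using this
  exact Nat.card_le_card_of_injective ψ fun a b h => Subtype.ext (by rw [← hψ, ← hψ, h])

theorem dual_abs {A D K : Type*} [Group A] [Group D] [Finite A] [Finite D] [Field K] [Finite K]
    (β : A →* D →* Kˣ) (χ : D →* Kˣ) (h : ∀ d, (∀ a, β a d = 1) → χ d = 1) : ∃ a, β a = χ := by
  haveI : Finite (D →* Kˣ) :=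
    Finite.of_injective (fun f : D →* Kˣ => (f : _ → Kˣ)) DFunLike.coe_injective
  haveI : Finite (A →* Kˣ) :=
    Finite.of_injective (fun f : A →* Kˣ => (f : _ → Kˣ)) DFunLike.coe_injective
  have h1 := card_ann_le β
  have h2 : Nat.card {χ : A →* Kˣ | ∀ a, β a = 1 → χ a = 1} ≤ Nat.card β.range :=
    card_ann_le β.flip
  have h3 : (β.flip.range : Set (A →* Kˣ)) ⊆ {χ : A →* Kˣ | ∀ a, β a = 1 → χ a = 1} := by
    rintro _ ⟨d, rfl⟩ a ha
    exact DFunLike.congr_fun ha d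
  have h4 : (β.range : Set (D →* Kˣ)) ⊆ {χ : D →* Kˣ | ∀ d, β.flip d = 1 → χ d = 1} := by
    rintro _ ⟨a, rfl⟩ d hd
    exact DFunLike.congr_fun hd a
  have h5 := Set.ncard_le_ncard h3
  have h6 := Set.eq_of_subset_of_ncard_le h4 (by
    simp only [← Nat.card_coe_set_eq] at h5 ⊢
    exact h1.trans (h5.trans h2))
  have : χ ∈ (β.range : Set (D →* Kˣ)) := by
    rw [h6]; exact fun d hd => h d fun a => DFunLike.congr_fun hd a
  exact this

variable {G : Type*} [Group G]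

structure Pre (K : Type*) [Field K] (Λ S : Subgroup G) : Prop where
  nΛ : Λ.Normal
  nS : S.Normal
  le : S ≤ Λ
  cen : ∀ s ∈ S, ∀ g ∈ Λ, Commute g s
  hab : ∀ D : Subgroup G, D.Normal → D ≤ Λ → (∀ a ∈ D, ∀ b ∈ D, a * b = b * a) → D ≤ S
  emb : ∃ χ : S →* K, Function.Injective χ

structure GSym (Λ S E : Subgroup G) (m : ℕ) : Prop where
  normal : E.Normal
  le : E ≤ Λ
  comm : ∀ x ∈ E, ∀ y ∈ E, ⁅x, y⁆ ∈ S
  cent : ∀ g ∈ Λ, (∀ x ∈ E, Commute g x) → g ∈ S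
  odd : Odd m
  root : ∃ z ∈ E, z ∈ S ∧ orderOf z = m
  pow : ∀ x ∈ E, x ^ (2 * m) ∈ S ∧ x ^ (4 * m) = 1
  scal : ∀ x ∈ E, x ∈ S → x ^ (2 * m) = 1
  c1 : m = 1 ∨ ∃ x ∈ E, x ^ m = 1 ∧ x ∉ S
  c2 : (∀ x ∈ E, x ^ m = 1) ∨ ∃ x ∈ E, x ^ 4 = 1 ∧ x ∉ S

variable {K : Type*} [Field K] {Λ S : Subgroup G}

theorem Pre.dual [Finite G] [Finite K] (h : Pre K Λ S) {A D : Subgroup G} (hA : A ≤ Λ)
    (hD : D ≤ Λ) (hAD : ∀ a ∈ A, ∀ d ∈ D, ⁅a, d⁆ ∈ S) {b : G}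
    (hbD : ∀ d ∈ D, ⁅b, d⁆ ∈ S) (hb : ∀ d ∈ D, (∀ a ∈ A, Commute a d) → Commute b d) :
    ∃ a ∈ A, ∀ d ∈ D, Commute (a⁻¹ * b) d := by
  obtain ⟨χ, hχ⟩ := h.emb
  let χ' := χ.toHomUnits
  have hχ' : Function.Injective χ' := fun a b e => hχ (congrArg Units.val e)
  let φ : ∀ x : G, (∀ d ∈ D, ⁅x, d⁆ ∈ S) → D →* Kˣ := fun x hx => MonoidHom.mk'
    (fun d => χ' ⟨⁅x, d.1⁆, hx d.1 d.2⟩) fun d e => by
      rw [← map_mul]; congr 1
      exact Subtype.ext (H5.commutator_mul_right_of_commute (h.cen _ (hx _ e.2) _ (hD d.2)))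
  let β : A →* D →* Kˣ := MonoidHom.mk' (fun a => φ a.1 (hAD a.1 a.2)) fun a a' => by
    ext d : 1
    change χ' _ = χ' _ * χ' _
    rw [mul_comm, ← map_mul]; congr 1
    exact Subtype.ext (H5.commutator_mul_left_of_commute (h.cen _ (hAD _ a'.2 _ d.2) _ (hA a.2)))
  obtain ⟨a, ha⟩ := dual_abs β (φ b hbD) fun d hd => by
    have : ⁅b, d.1⁆ = 1 := (hb d d.2 fun a ha => commutatorElement_eq_one_iff_commute.1 (by
      have : χ' ⟨⁅a, d.1⁆, hAD a ha d.1 d.2⟩ = χ' 1 := (hd ⟨a, ha⟩).trans (map_one χ').symm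
      exact congrArg Subtype.val (hχ' this))).commutator_eq
    change χ' _ = 1
    rw [← map_one χ']; congr 1
    exact Subtype.ext this
  refine ⟨a, a.2, fun d hd => ?_⟩
  have e : ⁅a.1, d⁆ = ⁅b, d⁆ :=
    congrArg Subtype.val (hχ' (DFunLike.congr_fun ha ⟨d, hd⟩))
  have e2 : a.1 * d * a.1⁻¹ = b * d * b⁻¹ := by
    rw [H5.conj_eq_commutator_mul, H5.conj_eq_commutator_mul, e]
  change a.1⁻¹ * b * d = d * (a.1⁻¹ * b)
  calc a.1⁻¹ * b * d = a.1⁻¹ * (b * d * b⁻¹) * b := by group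
    _ = _ := by rw [← e2]; group

theorem Pre.inv_eq (h : Pre K Λ S) {s t : G} (hs : s ∈ S) (ht : t ∈ S) (s2 : s ^ 2 = 1)
    (t2 : t ^ 2 = 1) (t1 : t ≠ 1) : s = 1 ∨ s = t := by
  obtain ⟨χ, hχ⟩ := h.emb
  have key : ∀ {s : G} (hs : s ∈ S), s ^ 2 = 1 → χ ⟨s, hs⟩ = 1 ∨ χ ⟨s, hs⟩ = -1 := by
    intro s hs s2
    rw [← mul_self_eq_one_iff, ← sq, ← map_pow, ← map_one χ]; congr 1; exact Subtype.ext s2
  have one : ∀ {s : G} (hs : s ∈ S), χ ⟨s, hs⟩ = 1 → s = 1 := fun hs e =>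
    congrArg Subtype.val (hχ (e.trans (map_one χ).symm))
  rcases key hs s2 with e | e
  · exact Or.inl (one hs e)
  · rcases key ht t2 with e' | e'
    · exact absurd (one ht e') t1
    · exact Or.inr (congrArg Subtype.val (hχ (e.trans e'.symm)))

theorem Pre.inv_central (h : Pre K Λ S) {s : G} (hs : s ∈ S) (s2 : s ^ 2 = 1) (g : G) :
    Commute g s := by
  by_cases s1 : s = 1
  · simp [s1]
  rcases h.inv_eq (h.nS.conj_mem s hs g) hs (by rw [conj_pow, s2]; simp) s2 s1 with e | e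
  · exact absurd (by simpa using e) s1
  · exact mul_inv_eq_iff_eq_mul.1 e

theorem Pre.rad (h : Pre K Λ S) {D : Subgroup G} [D.Normal] (hD : D ≤ Λ) {x : G} (hx : x ∈ D)
    (hc : ∀ y ∈ D, Commute x y) : x ∈ S :=
  h.hab (D ⊓ 𝐂(D)) inferInstance (inf_le_left.trans hD)
    (fun _ ha _ hb => mem_centralizer_iff.1 hb.2 _ ha.1)
    ⟨hx, mem_centralizer_iff.2 fun y hy => (hc y hy).symm⟩

theorem Pre.exists_B [Finite G] (h : Pre K Λ S) (hs : Group.IsSolvable G) :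
    ∃ B : Subgroup G, B.Normal ∧ B ≤ Λ ∧ S ≤ B ∧ (∀ x ∈ B, ∀ y ∈ B, ⁅x, y⁆ ∈ S) ∧
      ∀ g ∈ Λ, (∀ x ∈ B, Commute g x) → g ∈ S := by
  haveI := h.nS
  haveI := h.nΛ
  obtain ⟨B, ⟨hn, hΛ, hc⟩, hm⟩ := Set.Finite.exists_maximal (Set.toFinite
    {B : Subgroup G | B.Normal ∧ B ≤ Λ ∧ ∀ x ∈ B, ∀ y ∈ B, ⁅x, y⁆ ∈ S})
    ⟨⊥, inferInstance, bot_le, by simp⟩
  have key : ∀ D : Subgroup G, D.Normal → D ≤ Λ → (∀ x ∈ D, ∀ y ∈ D, ⁅x, y⁆ ∈ S) →
      (∀ x ∈ B, ∀ y ∈ D, Commute x y) → D ≤ B := by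
    intro D hD hDΛ hDc hBD
    refine le_sup_right.trans (hm ⟨inferInstance, sup_le hΛ hDΛ, fun a ha b hb => ?_⟩
      (le_sup_left : B ≤ B ⊔ D))
    obtain ⟨a1, ha1, a2, ha2, rfl⟩ := mem_sup_of_normal_left.1 ha
    obtain ⟨b1, hb1, b2, hb2, rfl⟩ := mem_sup_of_normal_left.1 hb
    have q : ∀ x y : G, ⁅x, y⁆ ∈ S ↔ Commute (x : G ⧸ S) y := fun x y => by
      rw [← commutatorElement_eq_one_iff_commute, ← QuotientGroup.eq_one_iff]; rfl
    have q' : ∀ {x y : G}, Commute x y → Commute (x : G ⧸ S) y := fun h =>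
      h.map (QuotientGroup.mk' S)
    rw [q, QuotientGroup.mk_mul, QuotientGroup.mk_mul]
    exact Commute.mul_left (Commute.mul_right ((q _ _).1 (hc _ ha1 _ hb1)) (q' (hBD _ ha1 _ hb2)))
      (Commute.mul_right (q' (hBD _ hb1 _ ha2).symm) ((q _ _).1 (hDc _ ha2 _ hb2)))
  refine ⟨B, hn, hΛ, key S h.nS h.le (fun x hx y hy => by
    rw [(h.cen y hy x (h.le hx)).commutator_eq]; exact one_mem _)
    (fun x hx y hy => h.cen y hy x (hΛ hx)), hc, fun g hg hgc => ?_⟩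
  by_contra hgS
  obtain ⟨D, ⟨hD, hDle, hDS⟩, hmin⟩ := Set.Finite.exists_minimal (Set.toFinite
    {D : Subgroup G | D.Normal ∧ D ≤ Λ ⊓ 𝐂(B) ∧ ¬ D ≤ S})
    ⟨Λ ⊓ 𝐂(B), inferInstance, le_rfl, fun hle =>
      hgS (hle ⟨hg, mem_centralizer_iff.2 fun y hy => (hgc y hy).symm⟩)⟩
  have hlt := Group.IsSolvable.commutator_lt_of_ne_bot (H := D) fun e => hDS (e ▸ bot_le)
  have h1 : ⁅D, D⁆ ≤ S := by
    by_contra hc
    exact hlt.not_ge (hmin ⟨inferInstance, hlt.le.trans hDle, hc⟩ hlt.le)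
  have h2 := key D hD (hDle.trans inf_le_left)
    (fun x hx y hy => h1 (commutator_mem_commutator hx hy))
    (fun x hx y hy => mem_centralizer_iff.1 (hDle hy).2 x hx)
  exact hDS fun x hx => h.rad hΛ (h2 hx) fun y hy =>
    (mem_centralizer_iff.1 (hDle hx).2 y hy).symm

/-- elements of `B` whose `n`-th power lies in `T` -/
def powIn (B T : Subgroup G) (n : ℕ)
    (h : ∀ x ∈ B, ∀ y ∈ B, x ^ n ∈ T → y ^ n ∈ T → (x * y) ^ n ∈ T) : Subgroup G where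
  carrier := {x | x ∈ B ∧ x ^ n ∈ T}
  mul_mem' := fun ha hb => ⟨mul_mem ha.1 hb.1, h _ ha.1 _ hb.1 ha.2 hb.2⟩
  one_mem' := ⟨one_mem _, by simp⟩
  inv_mem' := fun ha => ⟨inv_mem ha.1, by rw [inv_pow]; exact inv_mem ha.2⟩

theorem powIn_normal (B T : Subgroup G) [hB : B.Normal] [hT : T.Normal] (n : ℕ) (h) :
    (powIn B T n h).Normal :=
  ⟨fun x hx g => ⟨hB.conj_mem x hx.1 g, by rw [conj_pow]; exact hT.conj_mem _ hx.2 g⟩⟩

section B

variable [Finite G] [Finite K] {B : Subgroup G}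

theorem Pre.split (h : Pre K Λ S) (hΛ : B ≤ Λ) (hc : ∀ x ∈ B, ∀ y ∈ B, ⁅x, y⁆ ∈ S)
    {D : Subgroup G} [D.Normal] (hD : D ≤ B) {b : G} (hb : b ∈ B) :
    ∃ d ∈ D, ∀ y ∈ D, Commute (d⁻¹ * b) y :=
  h.dual (hD.trans hΛ) (hD.trans hΛ) (fun a ha d hd => hc a (hD ha) d (hD hd))
    (fun d hd => hc b hb d (hD hd)) fun d hd hd' =>
      h.cen d (h.rad (hD.trans hΛ) hd fun y hy => (hd' y hy).symm) b (hΛ hb)

theorem Pre.sq_mem (h : Pre K Λ S) [B.Normal] (hΛ : B ≤ Λ) (hc : ∀ x ∈ B, ∀ y ∈ B, ⁅x, y⁆ ∈ S)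
    {x : G} (hx : x ∈ B) (h4 : x ^ 4 ∈ S) : x ^ 2 ∈ S := by
  haveI := h.nS
  let D := powIn B S 2 fun x hx y hy h1 h2 => by
    rw [H5.mul_pow_of_class_two (h.cen _ (hc _ hy _ hx) _ (hΛ hx)) (h.cen _ (hc _ hy _ hx) _ (hΛ hy))]
    exact mul_mem (mul_mem h1 h2) (pow_mem (hc _ hy _ hx) _)
  haveI : D.Normal := powIn_normal _ _ _ _
  refine h.rad (D := D) (fun y hy => hΛ hy.1) ⟨pow_mem hx 2, by rwa [← pow_mul]⟩ fun y hy => ?_
  rw [← commutatorElement_eq_one_iff_commute,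
    H5.commutator_pow_left (h.cen _ (hc _ hx _ hy.1) _ (hΛ hx)),
    ← H5.commutator_pow_right (h.cen _ (hc _ hx _ hy.1) _ (hΛ hy.1))]
  exact (h.cen _ hy.2 _ (hΛ hx)).commutator_eq

theorem Pre.exists_D (h : Pre K Λ S) (hs : Group.IsSolvable G) {C : Subgroup G} [C.Normal]
    (hΛ : C ≤ Λ) (hc : ∀ x ∈ C, ∀ y ∈ C, ⁅x, y⁆ ∈ S) (h2 : ∀ x ∈ C, x ^ 2 ∈ S)
    (h4 : ∀ x ∈ C, x ^ 4 = 1) (hC : ¬ C ≤ S) :
    ∃ D : Subgroup G, D.Normal ∧ D ≤ C ∧ ¬ D ≤ S ∧ ∀ s ∈ D, s ∈ S → s ^ 2 = 1 := by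
  haveI := h.nS
  obtain ⟨U, ⟨hU, hUC, hUS⟩, hmin⟩ := Set.Finite.exists_minimal (Set.toFinite
    {D : Subgroup G | D.Normal ∧ D ≤ C ∧ ¬ D ≤ S}) ⟨C, inferInstance, le_rfl, hC⟩
  have hUΛ := hUC.trans hΛ
  have c2 : ∀ a ∈ U, ∀ b ∈ U, ⁅a, b⁆ ^ 2 = 1 := fun a ha b hb => by
    rw [← H5.commutator_pow_right (h.cen _ (hc _ (hUC ha) _ (hUC hb)) _ (hUΛ hb))]
    exact (h.cen _ (h2 _ (hUC hb)) _ (hUΛ ha)).commutator_eq
  obtain ⟨z, hzU, hzS, z2, z1⟩ : ∃ z ∈ U, z ∈ S ∧ z ^ 2 = 1 ∧ z ≠ 1 := by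
    by_contra! hz
    refine hUS (h.hab U hU hUΛ fun a ha b hb => commutatorElement_eq_one_iff_mul_comm.1 ?_)
    exact hz _ (commutator_le_left U U (commutator_mem_commutator ha hb))
      (hc _ (hUC ha) _ (hUC hb)) (c2 a ha b hb)
  have mz : ∀ s ∈ S, s ^ 2 = 1 → s ∈ zpowers z := fun s hs s2 => by
    rcases h.inv_eq hs hzS s2 z2 z1 with rfl | rfl
    exacts [one_mem _, mem_zpowers _]
  let π := QuotientGroup.mk' S
  have q : ∀ x y : G, ⁅x, y⁆ ∈ S ↔ π x * π y = π y * π x := fun x y => by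
    rw [← commutatorElement_eq_one_iff_mul_comm, ← QuotientGroup.eq_one_iff]; rfl
  have hπ := QuotientGroup.mk'_surjective S
  have mc : ∀ (A : Subgroup G) (g : G), g ∈ (𝐂(A.map π)).comap π ↔ ∀ u ∈ A, ⁅u, g⁆ ∈ S := by
    intro A g
    rw [mem_comap, mem_centralizer_iff]
    exact ⟨fun hg u hu => (q _ _).2 (hg _ ⟨u, hu, rfl⟩), by
      rintro hg _ ⟨u, hu, rfl⟩; exact (q _ _).1 (hg u hu)⟩
  have sym : ∀ {x y : G}, ⁅x, y⁆ ∈ S → ⁅y, x⁆ ∈ S := fun hh => by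
    rw [← commutatorElement_inv]; exact inv_mem hh
  haveI : (U.map π).Normal := hU.map π hπ
  set N0 := (𝐂(U.map π)).comap π with hN0
  haveI : N0.Normal := Normal.comap inferInstance π
  have hN0top : N0 ≠ ⊤ := fun e => hUS fun u hu => by
    have h1 : ∀ g, ⁅u, g⁆ ∈ S := fun g => (mc U g).1 (show g ∈ N0 from e ▸ mem_top g) u hu
    have h3 := H5.isMulCommutative_sup_zpowers (A := S) (x := u)
      ⟨⟨fun a b => Subtype.ext (h.cen _ b.2 _ (h.le a.2))⟩⟩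
      (mem_centralizer_iff.2 fun s hs => (h.cen s hs u (hUΛ hu)).symm)
    exact h.hab (S ⊔ zpowers u) (H5.normal_sup_zpowers h1)
      (sup_le h.le (zpowers_le.2 (hUΛ hu)))
      (fun a ha b hb => congrArg Subtype.val (h3.is_comm.comm ⟨a, ha⟩ ⟨b, hb⟩))
      (mem_sup_right (mem_zpowers u))
  let ρ := QuotientGroup.mk' N0
  obtain ⟨M, r, hr, hMn, hM0, -, -, -, hMp, -⟩ := H1.exists_elementary_abelian_normal_le
    (⊤ : Subgroup (G ⧸ N0)) (fun e => hN0top (by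
      rw [← QuotientGroup.ker_mk' N0, ← MonoidHom.comap_bot, ← e, comap_top])) inferInstance
  haveI := Fact.mk hr
  haveI : (M.comap ρ).Normal := hMn.comap ρ
  obtain ⟨P, hP⟩ := H68.exists_sylowIn r (M.comap ρ)
  have hPM : P.map ρ = M := by
    have := hP.map ρ
    rw [map_comap_eq_self_of_surjective (QuotientGroup.mk'_surjective N0)] at this
    exact (this.eq_of_le hMp this.le le_rfl).symm
  have hdec : ∀ n ∈ M.comap ρ, ∃ p ∈ P, p⁻¹ * n ∈ N0 := fun n hn => by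
    obtain ⟨p, hp, e⟩ : ρ n ∈ P.map ρ := hPM ▸ hn
    exact ⟨p, hp, QuotientGroup.eq.1 e⟩
  have hPN : ¬ P ≤ N0 := fun hle => hM0 (by
    rw [← hPM, Subgroup.map_eq_bot_iff, QuotientGroup.ker_mk']; exact hle)
  have hU2 : IsPGroup 2 U := fun u => ⟨2, Subtype.ext (h4 _ (hUC u.2))⟩
  by_cases r2 : r = 2
  · subst r2
    exfalso
    obtain ⟨_, ⟨u, hu, rfl⟩, hc1, -, ho⟩ := H5.exists_mem_centralizer_of_normalizes
      (hP.isPGroup.map π) (hU2.map π) le_normalizer_of_normal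
      (fun e => hUS (by rwa [Subgroup.map_eq_bot_iff, QuotientGroup.ker_mk'] at e))
    haveI : ((M.comap ρ).map π).Normal := Normal.map inferInstance π hπ
    haveI : ((𝐂((M.comap ρ).map π)).comap π).Normal := Normal.comap inferInstance π
    have h1 := hmin (y := U ⊓ (𝐂((M.comap ρ).map π)).comap π)
      ⟨inferInstance, inf_le_left.trans hUC, fun hle => by
        have : u ∈ S := hle ⟨hu, (mc _ _).2 fun n hn => by
          obtain ⟨p, hp, hn0⟩ := hdec n hn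
          have e1 := mem_centralizer_iff.1 hc1 _ ⟨p, hp, rfl⟩
          have e2 := (q _ _).1 ((mc U _).1 hn0 u hu)
          rw [q, show n = p * (p⁻¹ * n) by group, map_mul, mul_assoc, ← e2, ← mul_assoc, e1,
            mul_assoc]⟩
        have : π u = 1 := (QuotientGroup.eq_one_iff u).2 this
        rw [this, orderOf_one] at ho
        omega⟩ inf_le_left
    exact hPN fun p hp => (mc U p).2 fun u hu => sym ((mc _ _).1 (h1 hu).2 p (hP.le hp))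
  have hD : ⁅U, P⁆ ≤ U := commutator_le_left U P
  have hDU : ⁅U, P⁆ ⊔ zpowers z ≤ U := sup_le hD (zpowers_le.2 hzU)
  have hzc : ∀ g, Commute g z := h.inv_central hzS z2
  haveI hzn : (zpowers z).Normal := ⟨by
    rintro _ ⟨i, rfl⟩ g
    rw [((hzc g).zpow_right i).eq, mul_inv_cancel_right]
    exact ⟨i, rfl⟩⟩
  have hsq : ∀ d ∈ U, ∀ g, Commute g (d ^ 2) := fun d hd =>
    h.inv_central (h2 d (hUC hd)) (by rw [← pow_mul]; exact h4 d (hUC hd))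
  have hcj : ∀ d ∈ U, ∀ g, ⁅d, g⁆ ∈ S → ⁅g, d⁆ ∈ zpowers z := fun d hd g hg => mz _ (sym hg) (by
    rw [← H5.commutator_pow_right (h.cen _ (sym hg) _ (hUΛ hd))]
    exact (hsq d hd g).commutator_eq)
  refine ⟨⁅U, P⁆ ⊔ zpowers z, normalizer_eq_top_iff.1 (eq_top_iff.2 fun g _ => ?_),
    hDU.trans hUC, fun hle => hPN fun p hp => (mc U p).2 fun u hu =>
      hle (mem_sup_left (commutator_mem_commutator hu hp)), fun s hs hsS => ?_⟩
  · obtain ⟨x, hx, n, hn, rfl⟩ := hP.frattini' (g := g) (le_normalizer_of_normal (mem_top g))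
    obtain ⟨p, hp, hn0⟩ := hdec n hn
    have h1 : 𝐍(P) ≤ 𝐍(⁅U, P⁆ ⊔ zpowers z) := H2.le_normalizer_sup
      (H2.le_normalizer_commutator le_normalizer_of_normal le_rfl) le_normalizer_of_normal
    rw [show n = p * (p⁻¹ * n) by group]
    refine mul_mem (h1 hx) (mul_mem (h1 (le_normalizer hp)) (mem_normalizer_fintype fun d hd => ?_))
    rw [H5.conj_eq_commutator_mul]
    exact mul_mem (mem_sup_right (hcj d (hDU hd) _ ((mc U _).1 hn0 d (hDU hd)))) hd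
  · obtain ⟨d, hd, y, hy, rfl⟩ := mem_sup_of_normal_right.1 hs
    have hyS : y ∈ S := zpowers_le.2 hzS hy
    have hdS : d ∈ S := (mul_mem_cancel_right hyS).1 hsS
    have hdc : d ∈ 𝐂(P) := mem_centralizer_iff.2 fun p hp => by
      have h1 : ⁅p, d⁆ ∈ zpowers z := hcj d (hD hd) p (by
        rw [commutatorElement_def, mul_assoc, mul_assoc, ← mul_assoc p]
        exact mul_mem hdS (h.nS.conj_mem _ (inv_mem hdS) p))
      have h3 : Commute p ⁅p, d⁆ := by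
        obtain ⟨i, hi⟩ := h1
        rw [← hi]; exact (hzc p).zpow_right i
      have h5 : ⁅p, d⁆ ^ 2 = 1 := by
        obtain ⟨i, hi⟩ := h1
        rw [← hi, ← zpow_natCast, ← zpow_mul, mul_comm, zpow_mul, zpow_natCast, z2, one_zpow]
      obtain ⟨k, hk⟩ := hP.isPGroup ⟨p, hp⟩
      have hk' : p ^ r ^ k = 1 := congrArg Subtype.val hk
      have h6 : ⁅p, d⁆ ^ r ^ k = 1 := by
        rw [← H5.commutator_pow_left h3, hk']; simp
      have h7 : Nat.Coprime 2 (r ^ k) :=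
        Nat.Coprime.pow_right _ ((Nat.coprime_primes Nat.prime_two hr).2 (Ne.symm r2))
      exact commutatorElement_eq_one_iff_mul_comm.1 (by
        rw [← pow_one ⁅p, d⁆, ← h7, pow_gcd_eq_one]; exact ⟨h5, h6⟩)
    have h1 := H2.commutator_inf_centralizer_le (A := P) (K := U) le_normalizer_of_normal
      (IsPGroup.coprime_card_of_ne r 2 r2 _ _ hP.isPGroup hU2) ⟨hd, hdc⟩
    have h3 : ⁅U, U⁆ ≤ zpowers z := commutator_le.2 fun a ha b hb =>
      mz _ (hc _ (hUC ha) _ (hUC hb)) (c2 a ha b hb)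
    obtain ⟨i, hi⟩ := mul_mem (h3 h1) hy
    rw [← hi, ← zpow_natCast, ← zpow_mul, mul_comm, zpow_mul, zpow_natCast, z2, one_zpow]

theorem Pre.exists_R (h : Pre K Λ S) (hs : Group.IsSolvable G) {R : Subgroup G} [R.Normal]
    (hΛ : R ≤ Λ) (hc : ∀ x ∈ R, ∀ y ∈ R, ⁅x, y⁆ ∈ S) (h2 : ∀ x ∈ R, x ^ 2 ∈ S)
    (h4 : ∀ x ∈ R, x ^ 4 = 1) :
    ∃ D : Subgroup G, D.Normal ∧ D ≤ R ∧ (∀ s ∈ D, s ∈ S → s ^ 2 = 1) ∧ R ≤ D ⊔ S ∧
      (D = ⊥ ∨ ¬ D ≤ S) := by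
  haveI := h.nS
  by_cases hR : R ≤ S
  · exact ⟨⊥, inferInstance, bot_le, by simp, by simpa using hR, Or.inl rfl⟩
  obtain ⟨D, ⟨hn, hD, hP⟩, hm⟩ := Set.Finite.exists_maximal (Set.toFinite
    {D : Subgroup G | D.Normal ∧ D ≤ R ∧ ∀ s ∈ D, s ∈ S → s ^ 2 = 1})
    ⟨⊥, inferInstance, bot_le, by simp⟩
  have hC : R ⊓ 𝐂(D) ≤ S := by
    by_contra hC
    obtain ⟨D', hn', hD', hS', hP'⟩ := h.exists_D hs (C := R ⊓ 𝐂(D)) (inf_le_left.trans hΛ)
      (fun x hx y hy => hc x hx.1 y hy.1) (fun x hx => h2 x hx.1) (fun x hx => h4 x hx.1) hC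
    have hcm : ∀ a ∈ D, ∀ b ∈ D', Commute a b := fun a ha b hb =>
      mem_centralizer_iff.1 (hD' hb).2 a ha
    have h1 : D ⊔ D' ≤ D := hm ⟨inferInstance, sup_le hD (hD'.trans inf_le_left), fun s hs hsS => by
      obtain ⟨a, ha, b, hb, rfl⟩ := mem_sup_of_normal_left.1 hs
      have hbS : b ∈ S := h.rad (hD'.trans (inf_le_left.trans hΛ)) hb fun y hy => by
        rw [show b = a⁻¹ * (a * b) by group]
        exact Commute.mul_left (hcm a ha y hy).inv_left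
          (h.cen _ hsS y (hΛ (hD' hy).1)).symm
      rw [(hcm a ha b hb).mul_pow, hP a ha ((mul_mem_cancel_right hbS).1 hsS), hP' b hb hbS,
        one_mul]⟩ le_sup_left
    exact hS' fun x hx => h.rad (hD.trans hΛ) (h1 (mem_sup_right hx)) fun y hy =>
      (hcm y hy x hx).symm
  have hle : R ≤ D ⊔ S := fun r hr => by
    obtain ⟨d, hd, hd'⟩ := h.split hΛ hc hD hr
    rw [show r = d * (d⁻¹ * r) by group]
    exact mul_mem (mem_sup_left hd) (mem_sup_right (hC ⟨R.mul_mem (R.inv_mem (hD hd)) hr,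
      mem_centralizer_iff.2 fun y hy => (hd' y hy).symm⟩))
  exact ⟨D, hn, hD, hP, hle, Or.inr fun hDS => hR (hle.trans (sup_le hDS le_rfl))⟩

omit [Finite G] in
theorem mem_of_pow_pow {H : Subgroup G} {x : G} {a b : ℕ} (hab : a.Coprime b) (ha : x ^ a ∈ H)
    (hb : x ^ b ∈ H) : x ∈ H := by
  have := Nat.gcd_eq_gcd_ab a b
  rw [hab] at this
  rw [← zpow_one x, show (1 : ℤ) = ((1 : ℕ) : ℤ) from rfl, this, zpow_add, zpow_mul, zpow_mul,
    zpow_natCast, zpow_natCast]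
  exact mul_mem (zpow_mem ha _) (zpow_mem hb _)

theorem Pre.exists_gsym (h : Pre K Λ S) (hs : Group.IsSolvable G) :
    ∃ E m, GSym Λ S E m := by
  haveI := h.nS
  obtain ⟨B, hBn, hΛ, hSB, hc, hcent⟩ := h.exists_B hs
  haveI : IsCyclic S := by
    obtain ⟨χ, hχ⟩ := h.emb
    exact isCyclic_of_injective χ.toHomUnits fun a b e => hχ (congrArg Units.val e)
  obtain ⟨a, m, hm, hS⟩ := Nat.exists_eq_two_pow_mul_odd (Nat.card_pos (α := S)).ne'
  have cl : ∀ x ∈ B, ∀ y ∈ B, Commute x ⁅x, y⁆ := fun x hx y hy =>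
    h.cen _ (hc _ hx _ hy) _ (hΛ hx)
  have cr : ∀ x ∈ B, ∀ y ∈ B, Commute y ⁅x, y⁆ := fun x hx y hy =>
    h.cen _ (hc _ hx _ hy) _ (hΛ hy)
  have hpS : ∀ x ∈ B, ∀ n, x ^ n ∈ S → ∀ y ∈ B, ⁅y, x⁆ ^ n = 1 := fun x hx n hn y hy => by
    rw [← H5.commutator_pow_right (cr _ hy _ hx)]
    exact (h.cen _ hn _ (hΛ hy)).commutator_eq
  have h2m : ∀ x ∈ B, x ^ (2 * m) ∈ S := by
    intro x hx
    have h0 : x ^ (2 ^ a * m) ∈ S := h.rad hΛ (pow_mem hx _) fun y hy => by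
      rw [← commutatorElement_eq_one_iff_commute, H5.commutator_pow_left (cl _ hx _ hy), ← hS]
      exact congrArg Subtype.val (pow_card_eq_one' (x := (⟨_, hc _ hx _ hy⟩ : S)))
    have key : ∀ j, x ^ (2 ^ j * m) ∈ S → x ^ (2 * m) ∈ S := by
      intro j
      induction j with
      | zero => intro h0; rw [mul_comm 2, pow_mul]; exact pow_mem (by simpa using h0) 2
      | succ j ih =>
        intro h0
        rcases j with _ | j
        · simpa using h0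
        · apply ih
          have := h.sq_mem hΛ hc (pow_mem hx (2 ^ j * m)) (by
            rw [← pow_mul]; convert h0 using 2; ring)
          rw [← pow_mul] at this
          convert this using 2; ring
    exact key a h0
  let Ω := powIn B ⊥ m fun x hx y hy h1 h2 =>
    H5.mul_pow_eq_one_of_class_two (cr _ hy _ hx) (cl _ hy _ hx) hm h1 h2
  haveI : Ω.Normal := powIn_normal _ _ _ _
  let R := powIn B ⊥ 4 fun x hx y hy h1 h2 => by
    rw [H5.mul_pow_eq_of_class_two (p := 2) (cr _ hy _ hx) (cl _ hy _ hx) (by decide)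
      (hpS x hx 2 (h.sq_mem hΛ hc hx (by rw [mem_bot.1 h1]; exact one_mem _)) y hy)]
    exact mul_mem h1 h2
  haveI : R.Normal := powIn_normal _ _ _ _
  have hΩB : Ω ≤ B := fun x hx => hx.1
  have hRB : R ≤ B := fun x hx => hx.1
  have hR2 : ∀ x ∈ R, x ^ 2 ∈ S := fun x hx =>
    h.sq_mem hΛ hc hx.1 (by rw [mem_bot.1 hx.2]; exact one_mem _)
  have h4m : (4 : ℕ).Coprime m := by
    have : (2 : ℕ).Coprime m := Nat.coprime_two_left.2 hm
    exact this.pow_left 2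
  have hΩR : ∀ x ∈ Ω, ∀ y ∈ R, Commute x y := fun x hx y hy => by
    rw [← commutatorElement_eq_one_iff_commute, ← pow_one ⁅x, y⁆, ← h4m, pow_gcd_eq_one]
    refine ⟨hpS y hy.1 4 (by rw [mem_bot.1 hy.2]; exact one_mem _) x hx.1, ?_⟩
    rw [← H5.commutator_pow_left (cl _ hx.1 _ hy.1), mem_bot.1 hx.2]; simp
  have hC : B ⊓ 𝐂(Ω ⊔ R) ≤ S := by
    let ψ : (B ⊓ 𝐂(Ω ⊔ R) : Subgroup G) →* S := MonoidHom.mk'
      (fun x => ⟨x.1 ^ (4 * m), by
        rw [show 4 * m = 2 * m * 2 by ring, pow_mul]; exact pow_mem (h2m _ x.2.1) 2⟩) fun x y =>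
      Subtype.ext (H5.mul_pow_eq_of_class_two (p := 2 * m) (cr _ y.2.1 _ x.2.1)
        (cl _ y.2.1 _ x.2.1) (by
          rw [Nat.choose_two_right, show 4 * m * (4 * m - 1) = 2 * (2 * m * (4 * m - 1)) by ring,
            Nat.mul_div_cancel_left _ two_pos]
          exact Dvd.intro _ rfl) (hpS _ x.2.1 _ (h2m _ x.2.1) _ y.2.1))
    have := ψ.isMulCommutative_of_isCyclic_of_ker_le_center fun x hx => by
      have hx' : x.1 ^ (4 * m) = 1 := congrArg Subtype.val (MonoidHom.mem_ker.1 hx)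
      have h1 : x.1 ∈ Ω ⊔ R := mem_of_pow_pow h4m
        (mem_sup_left ⟨pow_mem x.2.1 _, by rw [← pow_mul, hx']; exact one_mem _⟩)
        (mem_sup_right ⟨pow_mem x.2.1 _, by rw [← pow_mul, mul_comm, hx']; exact one_mem _⟩)
      exact mem_center_iff.2 fun y => Subtype.ext (mem_centralizer_iff.1 y.2.2 _ h1).symm
    exact h.hab _ inferInstance (inf_le_left.trans hΛ) fun a ha b hb =>
      congrArg Subtype.val (this.is_comm.comm ⟨a, ha⟩ ⟨b, hb⟩)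
  have hB : B ≤ (Ω ⊔ R) ⊔ S := fun r hr => by
    obtain ⟨d, hd, hd'⟩ := h.split hΛ hc (sup_le hΩB hRB) hr
    rw [show r = d * (d⁻¹ * r) by group]
    exact mul_mem (mem_sup_left hd) (mem_sup_right (hC ⟨B.mul_mem (B.inv_mem (sup_le hΩB hRB hd)) hr,
      mem_centralizer_iff.2 fun y hy => (hd' y hy).symm⟩))
  obtain ⟨D, hDn, hDR, hDP, hRD, hD0⟩ := h.exists_R hs (hRB.trans hΛ)
    (fun x hx y hy => hc x hx.1 y hy.1) hR2 fun x hx => mem_bot.1 hx.2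
  obtain ⟨Ω', m', hn', hΩ', hodd, hroot, hpow, hΩS, hc1⟩ : ∃ (Ω' : Subgroup G) (m' : ℕ),
      Ω'.Normal ∧ Ω' ≤ Ω ∧ Odd m' ∧ (∃ z ∈ Ω', z ∈ S ∧ orderOf z = m') ∧ (∀ x ∈ Ω', x ^ m' = 1) ∧
      Ω ≤ Ω' ⊔ S ∧ (m' = 1 ∨ ∃ x ∈ Ω', x ∉ S) := by
    by_cases hΩ : Ω ≤ S
    · exact ⟨⊥, 1, inferInstance, bot_le, odd_one, ⟨1, one_mem _, one_mem _, orderOf_one⟩, by simp,
        by simpa using hΩ, Or.inl rfl⟩
    · refine ⟨Ω, m, inferInstance, le_rfl, hm, ?_, fun x hx => mem_bot.1 hx.2, le_sup_left,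
        Or.inr (by simpa [SetLike.le_def] using hΩ)⟩
      obtain ⟨g, hg⟩ := IsCyclic.exists_ofOrder_eq_natCard (α := S)
      have ho : orderOf (g.1 ^ 2 ^ a) = m := by
        rw [orderOf_pow_of_dvd (by positivity), orderOf_coe, hg, hS,
          Nat.mul_div_cancel_left _ (by positivity)]
        rw [orderOf_coe, hg, hS]; exact Dvd.intro _ rfl
      exact ⟨g.1 ^ 2 ^ a, ⟨hSB (pow_mem g.2 _), by rw [← ho, pow_orderOf_eq_one]; exact one_mem _⟩,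
        pow_mem g.2 _, ho⟩
  have hE : Ω' ⊔ D ≤ B := sup_le (hΩ'.trans hΩB) (hDR.trans hRB)
  have hdec : ∀ x ∈ Ω' ⊔ D, ∃ o ∈ Ω', ∃ r ∈ D, x = o * r ∧ Commute o r := fun x hx => by
    obtain ⟨o, ho, r, hr, rfl⟩ := mem_sup_of_normal_left.1 hx
    exact ⟨o, ho, r, hr, rfl, hΩR o (hΩ' ho) r (hDR hr)⟩
  have h4m' : (4 : ℕ).Coprime m' := by
    have : (2 : ℕ).Coprime m' := Nat.coprime_two_left.2 hodd
    exact this.pow_left 2
  refine ⟨Ω' ⊔ D, m', inferInstance, hE.trans hΛ, fun x hx y hy => hc x (hE hx) y (hE hy),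
    fun g hg hgc => hcent g hg fun x hx => ?_, hodd, ?_, fun x hx => ?_, fun x hx hxS => ?_,
    ?_, ?_⟩
  · have : B ≤ 𝐂(zpowers g) := hB.trans (sup_le (sup_le
      (hΩS.trans (sup_le (fun y hy => ?_) (fun y hy => ?_)))
      (hRD.trans (sup_le (fun y hy => ?_) (fun y hy => ?_)))) fun y hy => ?_)
    · exact mem_centralizer_iff.1 (this hx) g (mem_zpowers g)
    all_goals
      refine mem_centralizer_iff.2 ?_
      rintro _ ⟨i, rfl⟩
      first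
        | exact (h.cen y hy g hg).zpow_left i
        | exact (hgc y (mem_sup_left hy)).zpow_left i
        | exact (hgc y (mem_sup_right hy)).zpow_left i
  · obtain ⟨z, h1, h2, h3⟩ := hroot
    exact ⟨z, mem_sup_left h1, h2, h3⟩
  · obtain ⟨o, ho, r, hr, rfl, hor⟩ := hdec x hx
    rw [hor.mul_pow, hor.mul_pow, mul_comm 2, mul_comm 4, pow_mul o, pow_mul o, hpow o ho,
      mul_comm m', mul_comm m', pow_mul r, pow_mul r, mem_bot.1 (hDR hr).2]
    simpa using pow_mem (hR2 r (hDR hr)) m'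
  · obtain ⟨o, ho, r, hr, rfl, hor⟩ := hdec x hx
    have h1 : o ∈ S := mem_of_pow_pow h4m' (by
      have := pow_mem hxS 4
      rwa [hor.mul_pow, mem_bot.1 (hDR hr).2, mul_one] at this) (by rw [hpow o ho]; exact one_mem _)
    rw [hor.mul_pow, mul_comm 2, pow_mul o, hpow o ho, mul_comm m', pow_mul r,
      hDP r hr ((mul_mem_cancel_left h1).1 hxS)]
    simp
  · rcases hc1 with h1 | ⟨x, hx, hxS⟩
    · exact Or.inl h1
    · exact Or.inr ⟨x, mem_sup_left hx, hpow x hx, hxS⟩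
  · rcases hD0 with rfl | h1
    · exact Or.inl fun x hx => hpow x (by simpa using hx)
    · obtain ⟨x, hx, hxS⟩ := SetLike.not_le_iff_exists.1 h1
      exact Or.inr ⟨x, mem_sup_right hx, mem_bot.1 (hDR hx).2, hxS⟩

end B

end H83.Base
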