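import Mathlib
import Cfsg.Agent.Lib.FGS83.BaseC
import Cfsg.Agent.Lib.FGS83.BaseD

/-!
# Base sizes, part E: frames (helper83)
-/

set_option autoImplicit false

namespace H83.Base

open Subgroup MulAction
open scoped commutatorElement

local notation "𝐍(" H ")" => Subgroup.normalizer (SetLike.coe H)
local notation "𝐂(" H ")" => Subgroup.centralizer (SetLike.coe H)

universe u

section Wt

variable {K V J : Type*} [Field K] [AddCommGroup V] [Module K V]

theorem wt_indep {α : Type*} (T : J → V →+ V) (hT : ∀ j (k : K) v, T j (k • v) = k • T j v)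
    (χ : α → J → K) (s : Finset α) (hχ : Set.InjOn χ s) (u : α → V)
    (hu : ∀ x ∈ s, ∀ j, T j (u x) = χ x j • u x) (h0 : ∑ x ∈ s, u x = 0) : ∀ x ∈ s, u x = 0 := by
  classical
  induction s using Finset.induction_on generalizing u with
  | empty => simp
  | insert a s ha ih =>
    rw [Finset.sum_insert ha] at h0
    have h1 : ∀ x ∈ s, u x = 0 := by
      intro x hx
      obtain ⟨j, hj⟩ : ∃ j, χ x j ≠ χ a j := by
        by_contra! hc
        exact ha (hχ (by simp [hx]) (by simp) (funext hc) ▸ hx)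
      have := ih (hχ.mono (by simp)) (fun y => (χ y j - χ a j) • u y) (fun y hy i => by
        rw [hT, hu y (Finset.mem_insert_of_mem hy), smul_comm]) (by
        have h2 := congrArg (T j) h0
        rw [map_add, map_sum, map_zero, hu a (by simp),
          Finset.sum_congr rfl fun y hy => hu y (Finset.mem_insert_of_mem hy) j] at h2
        simp only [sub_smul, Finset.sum_sub_distrib, ← Finset.smul_sum]
        rw [eq_neg_of_add_eq_zero_right h0, eq_neg_of_add_eq_zero_right h2, smul_neg, sub_self])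
        x hx
      exact (smul_eq_zero.1 this).resolve_left (sub_ne_zero.2 hj)
    intro x hx
    rcases Finset.mem_insert.1 hx with rfl | hx
    · rwa [Finset.sum_eq_zero h1, add_zero] at h0
    · exact h1 x hx

theorem wt_match {α β : Type*} (T : J → V →+ V) (hT : ∀ j (k : K) v, T j (k • v) = k • T j v)
    (χ : α → J → K) (s : Finset α) (hχ : Set.InjOn χ s) (u : α → V)
    (hu : ∀ x ∈ s, ∀ j, T j (u x) = χ x j • u x)
    (χ' : β → J → K) (s' : Finset β) (hχ' : Set.InjOn χ' s') (u' : β → V)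
    (hu' : ∀ x ∈ s', ∀ j, T j (u' x) = χ' x j • u' x) (h0 : ∑ x ∈ s, u x = ∑ x ∈ s', u' x)
    {b : β} (hb : b ∈ s') (hb0 : u' b ≠ 0) : ∃ a ∈ s, χ a = χ' b ∧ u a = u' b := by
  classical
  have h1 := wt_indep T hT id (s.image χ ∪ s'.image χ') (Set.injOn_id _)
    (fun φ => ∑ x ∈ s with χ x = φ, u x - ∑ x ∈ s' with χ' x = φ, u' x) (fun φ _ j => by
      rw [map_sub, map_sum, map_sum, smul_sub, Finset.smul_sum, Finset.smul_sum]
      congr 1 <;> refine Finset.sum_congr rfl fun x hx => ?_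
      · rw [hu x (Finset.mem_filter.1 hx).1, (Finset.mem_filter.1 hx).2]; rfl
      · rw [hu' x (Finset.mem_filter.1 hx).1, (Finset.mem_filter.1 hx).2]; rfl) (by
      rw [Finset.sum_sub_distrib,
        Finset.sum_fiberwise_of_maps_to fun x hx =>
          Finset.mem_union_left _ (Finset.mem_image_of_mem χ hx),
        Finset.sum_fiberwise_of_maps_to fun x hx =>
          Finset.mem_union_right _ (Finset.mem_image_of_mem χ' hx), h0, sub_self])
    (χ' b) (Finset.mem_union_right _ (Finset.mem_image_of_mem χ' hb))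
  rw [sub_eq_zero, Finset.sum_eq_single_of_mem (s := s'.filter _) b (by simp [hb]) fun c hc hcb =>
    absurd (hχ' (Finset.mem_filter.1 hc).1 hb (Finset.mem_filter.1 hc).2) hcb] at h1
  obtain ⟨a, ha, -⟩ := Finset.exists_ne_zero_of_sum_ne_zero (h1 ▸ hb0)
  obtain ⟨ha1, ha2⟩ := Finset.mem_filter.1 ha
  refine ⟨a, ha1, ha2, ?_⟩
  rw [← h1, Finset.sum_eq_single_of_mem a ha fun c hc hca =>
    absurd (hχ (Finset.mem_filter.1 hc).1 ha1 ((Finset.mem_filter.1 hc).2.trans ha2.symm)) hca]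

end Wt

theorem exists_avoid {X : Type*} [Finite X] (N : Set X) (h : 4 * N.ncard < Nat.card X)
    (f1 f2 f3 f4 : X → X) (h1 : Function.Injective f1) (h2 : Function.Injective f2)
    (h3 : Function.Injective f3) (h4 : Function.Injective f4) :
    ∃ y, f1 y ∉ N ∧ f2 y ∉ N ∧ f3 y ∉ N ∧ f4 y ∉ N := by
  by_contra! hc
  have key : ∀ f : X → X, Function.Injective f → (f ⁻¹' N).ncard ≤ N.ncard := fun f hf =>
    Set.ncard_le_ncard_of_injOn f (fun _ h => h) hf.injOn
  have : (Set.univ : Set X) ⊆ (f1 ⁻¹' N ∪ f2 ⁻¹' N) ∪ (f3 ⁻¹' N ∪ f4 ⁻¹' N) := fun y _ => by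
    have := hc y
    simp only [Set.mem_union, Set.mem_preimage]
    tauto
  have h5 := Set.ncard_le_ncard this
  rw [Set.ncard_univ] at h5
  have := Set.ncard_union_le (f1 ⁻¹' N ∪ f2 ⁻¹' N) (f3 ⁻¹' N ∪ f4 ⁻¹' N)
  have := Set.ncard_union_le (f1 ⁻¹' N) (f2 ⁻¹' N)
  have := Set.ncard_union_le (f3 ⁻¹' N) (f4 ⁻¹' N)
  have := key f1 h1
  have := key f2 h2
  have := key f3 h3
  have := key f4 h4
  omega

variable {G : Type u} {V : Type*} [Group G] [AddCommGroup V] [DistribMulAction G V]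

def LinS (G K V : Type*) [Group G] [AddCommGroup V] [DistribMulAction G V] [Field K]
    [Module K V] : Subgroup G where
  carrier := {g | Lin K V g}
  mul_mem' := fun {a b} ha hb k v => by rw [mul_smul, mul_smul, hb, ha]
  one_mem' := fun k v => by rw [one_smul, one_smul]
  inv_mem' := fun {a} ha k v => by rw [inv_smul_eq_iff, ha, smul_inv_smul]

def ScalS (G K V : Type*) [Group G] [AddCommGroup V] [DistribMulAction G V] [Field K]
    [Module K V] : Subgroup G where
  carrier := {g | Scal K V g}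
  mul_mem' := fun {a b} ⟨k, ha⟩ ⟨l, hb⟩ => ⟨k * l, fun v => by rw [mul_smul, hb, ha, mul_smul]⟩
  one_mem' := ⟨1, fun v => by rw [one_smul, one_smul]⟩
  inv_mem' := fun {a} ⟨k, ha⟩ => ⟨k⁻¹, fun v => by
    by_cases hk : k = 0
    · have : v = 0 := by rw [← smul_inv_smul a v, ha, hk, zero_smul]
      rw [this, smul_zero, smul_zero]
    · rw [inv_smul_eq_iff, ha, smul_smul, mul_inv_cancel₀ hk, one_smul]⟩

structure Ctx (K V : Type*) [AddCommGroup V] [DistribMulAction G V] [Field K] [Module K V]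
    (E : Subgroup G) (m : ℕ) : Prop where
  semi : ∀ (g : G) (k : K), ∃ k' : K, ∀ v : V, g • k • v = k' • g • v
  pre : Pre K (LinS G K V) (ScalS G K V)
  sym : GSym (LinS G K V) (ScalS G K V) E m

variable {K : Type*} [Field K] [Module K V]

theorem exists_ctx [Finite G] [Finite K] [FaithfulSMul G V] [Nontrivial V]
    (hs : Group.IsSolvable G)
    (semi : ∀ (g : G) (k : K), ∃ k' : K, ∀ v : V, g • k • v = k' • g • v)
    (hab : ∀ D : Subgroup G, D.Normal → (∀ d ∈ D, Lin K V d) →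
      (∀ a ∈ D, ∀ b ∈ D, a * b = b * a) → ∀ d ∈ D, Scal K V d) :
    ∃ (E : Subgroup G) (m : ℕ), Ctx K V E m := by
  have hP : Pre K (LinS G K V) (ScalS G K V) := by
    refine ⟨⟨fun x hx g k v => ?_⟩, ⟨fun x ⟨k, hk⟩ g => ?_⟩, fun x ⟨k, hk⟩ l v => ?_,
      fun s ⟨k, hk⟩ g hg => ?_, hab, ?_⟩
    · obtain ⟨k', hk⟩ := semi g⁻¹ k
      have h1 : ∀ w : V, g • k' • w = k • g • w := fun w => by
        have := hk (g • w)
        rw [inv_smul_smul, inv_smul_eq_iff] at this
        exact this.symm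
      rw [mul_smul, mul_smul, mul_smul, mul_smul, hk, hx, h1]
    · obtain ⟨k', hk'⟩ := semi g k
      exact ⟨k', fun v => by rw [mul_smul, mul_smul, hk, hk', smul_inv_smul]⟩
    · rw [hk, hk, smul_comm]
    · exact FaithfulSMul.eq_of_smul_eq_smul (α := V) fun v => by
        rw [mul_smul, mul_smul, hk, hk, hg]
    · choose χ hχ using fun s : ScalS G K V => s.2
      obtain ⟨v, hv⟩ := exists_ne (0 : V)
      refine ⟨⟨⟨χ, smul_left_injective K hv ?_⟩, fun a b => smul_left_injective K hv ?_⟩,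
        fun a b h => Subtype.ext (FaithfulSMul.eq_of_smul_eq_smul (α := V) fun v => ?_)⟩
      · simp only [← hχ, OneMemClass.coe_one, one_smul]
      · simp only [← hχ, coe_mul, mul_smul]
      · rw [hχ, hχ]; exact congrArg (· • v) h
  obtain ⟨E, m, h⟩ := hP.exists_gsym hs
  exact ⟨E, m, semi, hP, h⟩

/-- the stabiliser of `w` in `E` -/
def stA (E : Subgroup G) (w : V) : Subgroup G := E ⊓ stabilizer G w

/-- the centraliser in `E` of the stabiliser of `w` -/
def stQ (E : Subgroup G) (w : V) : Subgroup G := E ⊓ 𝐂(stA E w)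

def Fx (E : Subgroup G) (w u : V) : Prop := ∀ a ∈ stA E w, a • u = u

def dl (g e : G) : G := e⁻¹ * (g * e * g⁻¹)

theorem dl_mul (g b c : G) : dl g (b * c) = c⁻¹ * dl g b * c * dl g c := by
  simp only [dl]; group

theorem mem_stA {E : Subgroup G} {w : V} {a : G} : a ∈ stA E w ↔ a ∈ E ∧ a • w = w := Iff.rfl

theorem mem_stQ {E : Subgroup G} {w : V} {q : G} :
    q ∈ stQ E w ↔ q ∈ E ∧ ∀ a ∈ stA E w, Commute a q := Iff.rfl

theorem Fx.self (E : Subgroup G) (w : V) : Fx E w w := fun _ ha => ha.2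

theorem Fx.zero (E : Subgroup G) (w : V) : Fx E w 0 := fun a _ => smul_zero a

theorem Fx.add {E : Subgroup G} {w u v : V} (hu : Fx E w u) (hv : Fx E w v) : Fx E w (u + v) :=
  fun a ha => by rw [smul_add, hu a ha, hv a ha]

theorem Fx.neg {E : Subgroup G} {w u : V} (hu : Fx E w u) : Fx E w (-u) :=
  fun a ha => by rw [smul_neg, hu a ha]

theorem Fx.sub {E : Subgroup G} {w u v : V} (hu : Fx E w u) (hv : Fx E w v) : Fx E w (u - v) :=
  fun a ha => by rw [smul_sub, hu a ha, hv a ha]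

theorem Fx.stQ {E : Subgroup G} {w u : V} (hu : Fx E w u) {q : G} (hq : q ∈ stQ E w) :
    Fx E w (q • u) := fun a ha => by
  rw [← mul_smul, (hq.2 a ha : a * q = q * a), mul_smul, hu a ha]

theorem conj_stA {E : Subgroup G} (hE : E.Normal) {w : V} {g a : G} (hg : g • w = w)
    (ha : a ∈ stA E w) : g * a * g⁻¹ ∈ stA E w :=
  ⟨hE.conj_mem a ha.1 g, (stabilizer G w).mul_mem ((stabilizer G w).mul_mem hg ha.2)
    ((stabilizer G w).inv_mem hg)⟩

theorem inv_fix {g : G} {w : V} (hg : g • w = w) : g⁻¹ • w = w := by rw [inv_smul_eq_iff, hg]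

theorem conj_stQ {E : Subgroup G} (hE : E.Normal) {w : V} {g q : G} (hg : g • w = w)
    (hq : q ∈ stQ E w) : g * q * g⁻¹ ∈ stQ E w :=
  ⟨hE.conj_mem q hq.1 g, fun a ha => by
    have : g⁻¹ * a * g⁻¹⁻¹ * q = q * (g⁻¹ * a * g⁻¹⁻¹) := hq.2 _ (conj_stA hE (inv_fix hg) ha)
    change a * (g * q * g⁻¹) = g * q * g⁻¹ * a
    calc a * (g * q * g⁻¹) = g * (g⁻¹ * a * g⁻¹⁻¹ * q) * g⁻¹ := by group
      _ = _ := by rw [this]; group⟩

theorem Fx.conj {E : Subgroup G} (hE : E.Normal) {w u : V} (hu : Fx E w u) {g : G}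
    (hg : g • w = w) : Fx E w (g • u) := fun a ha => by
  have := hu _ (conj_stA hE (inv_fix hg) ha)
  rwa [inv_inv, mul_smul, mul_smul, inv_smul_eq_iff] at this

theorem dl_mem_iff {E : Subgroup G} (hE : E.Normal) {w : V} {g e : G} (hg : g • w = w)
    (he : e ∈ E) : dl g e ∈ stA E w ↔ g • e • w = e • w := by
  rw [mem_stA, dl, mul_smul, mul_smul, mul_smul, inv_fix hg, inv_smul_eq_iff]
  exact ⟨fun h => h.2, fun h => ⟨mul_mem (inv_mem he) (hE.conj_mem e he g), h⟩⟩

theorem scal_eq_one [FaithfulSMul G V] {s : G} (hs : s ∈ ScalS G K V) {w : V} (hw : w ≠ 0)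
    (h : s • w = w) : s = 1 := by
  obtain ⟨k, hk⟩ := hs
  have : k = 1 := smul_left_injective K hw (by simp only [← hk, h, one_smul])
  exact FaithfulSMul.eq_of_smul_eq_smul (α := V) fun v => by rw [hk, this, one_smul, one_smul]

theorem lin_of_gen {g : G} {w : V} (hw : w ≠ 0)
    (semi : ∀ (k : K), ∃ k' : K, ∀ v : V, g • k • v = k' • g • v) {θ : K}
    (hθ : ∀ k : K, k ≠ 0 → ∃ n : ℕ, k = θ ^ n) (h1 : g • w = w) (h2 : g • θ • w = θ • w) :
    Lin K V g := by
  obtain ⟨k', hk⟩ := semi θ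
  obtain rfl : k' = θ := smul_left_injective K hw (by
    have := hk w
    rw [h2, h1] at this
    exact this.symm)
  intro k v
  by_cases h0 : k = 0
  · simp [h0]
  obtain ⟨n, rfl⟩ := hθ k h0
  clear h0
  induction n generalizing v with
  | zero => simp
  | succ n ih => rw [pow_succ', mul_smul, mul_smul, hk, ih]

theorem exists_gen (K : Type*) [Field K] [Finite K] :
    ∃ θ : K, θ ≠ 0 ∧ ∀ k : K, k ≠ 0 → ∃ n : ℕ, k = θ ^ n := by
  obtain ⟨θ, hθ⟩ := IsCyclic.exists_monoid_generator (α := Kˣ)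
  refine ⟨θ, θ.ne_zero, fun k hk => ?_⟩
  obtain ⟨n, hn⟩ := hθ (Units.mk0 k hk)
  exact ⟨n, by simpa using (congrArg Units.val hn).symm⟩

variable [FaithfulSMul G V] {E : Subgroup G} {m : ℕ}

namespace Ctx

variable (c : Ctx K V E m)
include c

theorem lin {x : G} (hx : x ∈ E) (k : K) (v : V) : x • k • v = k • x • v := c.sym.le hx k v

theorem _root_.H83.Base.Fx.smul {w u : V} (hu : Fx E w u) (k : K) : Fx E w (k • u) :=
  fun a ha => by rw [c.lin ha.1, hu a ha]

theorem cen {s g : G} (hs : s ∈ ScalS G K V) (hg : g ∈ E) : Commute g s :=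
  c.pre.cen s hs g (c.sym.le hg)

theorem scal_stQ {s : G} (hs : s ∈ ScalS G K V) (hE : s ∈ E) (w : V) : s ∈ stQ E w :=
  ⟨hE, fun _ ha => c.cen hs ha.1⟩

theorem comm_of_conj {w : V} (hw : w ≠ 0) {a e : G} (ha : a ∈ stA E w) (he : e ∈ E)
    (h : e * a * e⁻¹ ∈ stA E w) : Commute e a :=
  commutatorElement_eq_one_iff_commute.1 (scal_eq_one (c.sym.comm e he a ha.1) hw
    (mul_mem h (inv_mem ha)).2)

theorem stA_le {w : V} (hw : w ≠ 0) : stA E w ≤ stQ E w := fun a ha =>
  ⟨ha.1, fun b hb => c.comm_of_conj hw ha hb.1 (mul_mem (mul_mem hb ha) (inv_mem hb))⟩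

theorem exists_X [Finite G] (w : V) : ∃ (X : Type u) (_ : CommGroup X) (_ : Finite X)
    (mk : E →* X), Function.Surjective mk ∧ ∀ e, mk e = 1 ↔ e.1 ∈ stQ E w := by
  have hc : ∀ a b : E, ⁅a, b⁆ ∈ (stQ E w).subgroupOf E := fun a b =>
    c.scal_stQ (c.sym.comm a a.2 b b.2) ⁅a, b⁆.2 w
  haveI : ((stQ E w).subgroupOf E).Normal := ⟨fun q hq e => by
    rw [H5.conj_eq_commutator_mul]; exact mul_mem (hc e q) hq⟩
  refine ⟨E ⧸ (stQ E w).subgroupOf E, { (inferInstance : Group _) with mul_comm := fun a b => ?_ },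
    inferInstance, QuotientGroup.mk' _, QuotientGroup.mk'_surjective _,
    fun e => QuotientGroup.eq_one_iff e⟩
  obtain ⟨a, rfl⟩ := QuotientGroup.mk_surjective a
  obtain ⟨b, rfl⟩ := QuotientGroup.mk_surjective b
  exact commutatorElement_eq_one_iff_mul_comm.1 ((QuotientGroup.eq_one_iff ⁅a, b⁆).2 (hc a b))

theorem wt {w u : V} (hu : Fx E w u) {e a : G} (ha : a ∈ stA E w) {k : K}
    (hk : ∀ v : V, ⁅a, e⁆ • v = k • v) : a • e • u = k • e • u := by
  rw [← mul_smul, H5.mul_eq_commutator_mul, mul_smul, mul_smul, hk, hu a ha]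

theorem indep {w : V} {X : Type*} [CommGroup X] [Fintype X] (mk : E →* X)
    (hker : ∀ e, mk e = 1 ↔ e.1 ∈ stQ E w) (t : X → E) (ht : ∀ x, mk (t x) = x) (u : X → V)
    (hu : ∀ x, Fx E w (u x)) (h0 : ∑ x, (t x).1 • u x = 0) (x : X) : u x = 0 := by
  choose χ hχ using fun (x : X) (a : stA E w) => c.sym.comm a a.2.1 (t x) (t x).2
  have := wt_indep (K := K) (fun a : stA E w => DistribSMul.toAddMonoidHom V a.1)
    (fun a k v => c.lin a.2.1 k v) χ Finset.univ (fun x _ y _ h => by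
      rw [← ht x, ← ht y, ← inv_mul_eq_one, ← map_inv, ← map_mul, hker]
      refine ⟨((t x)⁻¹ * t y).2, fun a ha => ?_⟩
      have e : ⁅a, (t x).1⁆ = ⁅a, (t y).1⁆ := FaithfulSMul.eq_of_smul_eq_smul (α := V) fun v => by
        rw [hχ x ⟨a, ha⟩, hχ y ⟨a, ha⟩, h]
      have e2 : a * t x * a⁻¹ * (t x).1⁻¹ = a * t y * a⁻¹ * (t y).1⁻¹ := e
      change a * ((t x).1⁻¹ * t y) = (t x).1⁻¹ * t y * a
      have e3 : (t x).1 * a⁻¹ * (t x).1⁻¹ = t y * a⁻¹ * (t y).1⁻¹ := by
        simpa only [mul_assoc, mul_right_inj] using e2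
      calc a * ((t x).1⁻¹ * t y) = (t x).1⁻¹ * ((t x).1 * a⁻¹ * (t x).1⁻¹)⁻¹ * t y := by group
        _ = _ := by rw [e3]; group)
    (fun x => (t x).1 • u x) (fun x _ a => c.wt (hu x) a.2 (hχ x a)) h0 x (Finset.mem_univ x)
  exact (smul_eq_zero_iff_eq _).1 this

theorem frame {w : V} (hw : w ≠ 0) {X : Type*} [CommGroup X] [Finite X] (mk : E →* X)
    (hsurj : Function.Surjective mk) (hker : ∀ e, mk e = 1 ↔ e.1 ∈ stQ E w)
    {J C : Type*} (c0 : J → V) (U : C → J → V) (col : X → C) (hc0 : ∀ j, Fx E w (c0 j))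
    (hU : ∀ c j, Fx E w (U c j)) (N : Set X) (hN : 4 * N.ncard < Nat.card X)
    (h0 : ∀ g : G, g • w = w → (∀ j, g • c0 j = c0 j) →
      Lin K V g ∧ (∀ q ∈ stQ E w, g • q • w = q • w) ∧ ∀ c j, g • U c j = U c j)
    (hsep : ∀ q ∈ stQ E w, ∀ c c', (∀ j, q • U c j = U c' j) → c = c')
    (hrig : ∀ (g : G) (π : X →* X), g • w = w → Function.Injective π →
      (∀ e e' : E, e'.1 = g * e * g⁻¹ → π (mk e) = mk e') → (∀ x, x ≠ 1 → col (π x) = col x) →
      ∀ x, π x = x)
    (hδ : ∀ (g : G) (t : X → E), g • w = w → (∀ x, mk (t x) = x) → (∀ e ∈ E, dl g e ∈ stQ E w) →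
      (∀ q ∈ stQ E w, dl g q ∈ stA E w) →
      (∀ x, x ≠ 1 → ∀ j, dl g (t x) • U (col x) j = U (col x) j) →
      ∀ x, x ≠ 1 → x ∉ N → dl g (t x) ∈ stA E w) :
    ∃ v : J → V, ∀ g : G, g • w = w → (∀ j, g • v j = v j) → g = 1 := by
  classical
  haveI hEn := c.sym.normal
  letI := Fintype.ofFinite X
  obtain ⟨t, ht, t1⟩ : ∃ t : X → E, (∀ x, mk (t x) = x) ∧ t 1 = 1 := by
    choose t ht using hsurj
    refine ⟨fun x => if x = 1 then 1 else t x, fun x => ?_, if_pos rfl⟩
    dsimp only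
    split_ifs with h
    · rw [h, map_one]
    · exact ht x
  let u : X → J → V := fun x => if x = 1 then c0 else U (col x)
  have hu : ∀ x j, Fx E w (u x j) := fun x j => by
    simp only [u]; split_ifs; exacts [hc0 j, hU _ j]
  refine ⟨fun j => ∑ x, (t x).1 • u x j, fun g hg hv => ?_⟩
  have heq : ∀ a b : E, mk a = mk b ↔ a.1⁻¹ * b.1 ∈ stQ E w := fun a b => by
    rw [← inv_mul_eq_one, ← map_inv, ← map_mul, hker]; rfl
  let cj : E →* E := (MulAut.conjNormal g : MulAut E)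
  have hcj : ∀ e, (cj e).1 = g * e * g⁻¹ := fun e => rfl
  let π : X →* X := mk.liftOfSurjective hsurj ⟨mk.comp cj, fun e he =>
    (hker _).2 (conj_stQ hEn hg ((hker e).1 he))⟩
  have hπ : ∀ e, π (mk e) = mk (cj e) := fun e => MonoidHom.liftOfRightInverse_comp_apply _ _ _ _ _
  have hinj : Function.Injective π := (injective_iff_map_eq_one π).2 fun x hx => by
    rw [← ht x, hπ, hker, hcj] at hx
    have := conj_stQ hEn (inv_fix hg) hx
    rw [← ht x, hker]
    simpa [mul_assoc] using this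
  let Pi := Equiv.ofBijective π (Finite.injective_iff_bijective.1 hinj)
  have hq : ∀ x, (t (π x)).1⁻¹ * (g * t x * g⁻¹) ∈ stQ E w := fun x =>
    (heq (t (π x)) (cj (t x))).1 (by rw [← hπ, ht, ht])
  have h1 : ∀ x j, ((t (π x)).1⁻¹ * (g * t x * g⁻¹)) • g • u x j = u (π x) j := by
    intro x j
    obtain ⟨x, rfl⟩ := Pi.symm.surjective x
    have e : ∀ y, π (Pi.symm y) = y := Pi.apply_symm_apply
    have := c.indep mk hker t ht (fun y =>
      ((t (π (Pi.symm y))).1⁻¹ * (g * t (Pi.symm y) * g⁻¹)) • g • u (Pi.symm y) j - u y j)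
      (fun y => (((hu _ j).conj hEn hg).stQ (hq _)).sub (hu y j)) (by
        simp only [smul_sub, Finset.sum_sub_distrib, e, mul_smul, smul_inv_smul, inv_smul_smul]
        rw [← Finset.smul_sum, Equiv.sum_comp Pi.symm fun y => (t y).1 • u y j, hv j, sub_self]) x
    rw [sub_eq_zero] at this
    rw [this, e]
  obtain ⟨hlin, hQ, hgU⟩ := h0 g hg fun j => by simpa [u, t1] using h1 1 j
  have h2 : ∀ x, x ≠ 1 → ∀ j,
      ((t (π x)).1⁻¹ * (g * t x * g⁻¹)) • U (col x) j = U (col (π x)) j := fun x hx j => by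
    have := h1 x j
    simp only [u] at this
    rwa [if_neg hx, if_neg (fun e => hx (hinj (e.trans (map_one π).symm))), hgU] at this
  have hid := hrig g π hg hinj (fun e e' h => by rw [hπ]; congr 1; exact Subtype.ext h.symm)
    fun x hx => (hsep _ (hq x) _ _ (h2 x hx)).symm
  have hQ' : ∀ q ∈ stQ E w, dl g q ∈ stA E w := fun q hq => (dl_mem_iff hEn hg hq.1).2 (hQ q hq)
  have h3 := hδ g t hg ht (fun e he => (heq ⟨e, he⟩ (cj ⟨e, he⟩)).1 (by rw [← hπ, hid])) hQ'
    fun x hx j => by have := h2 x hx j; rwa [hid] at this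
  have cl1 : ∀ e : E, mk e ∉ N → dl g e ∈ stA E w := fun e he => by
    have h4 : dl g (t (mk e)) ∈ stA E w := by
      by_cases h : mk e = 1
      · rw [h, t1]; simp [dl]
      · exact h3 _ h he
    have h5 := (heq (t (mk e)) e).1 (ht _)
    rw [show e.1 = t (mk e) * ((t (mk e)).1⁻¹ * e) by group, dl_mul, mul_assoc _ (dl g _),
      (h5.2 _ h4 : _ * _ = _ * _), inv_mul_cancel_left]
    exact mul_mem h4 (hQ' _ h5)
  have cl2 : ∀ b : E, mk b ∉ N → dl g b = 1 := fun b hb => by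
    have h4 : ∀ d : E, mk d ∉ N → mk b * mk d ∉ N → Commute (dl g b) d := fun d h5 h6 => by
      have h7 := cl1 (b * d) (by rwa [map_mul])
      rw [coe_mul, dl_mul, mul_mem_cancel_right (cl1 d h5)] at h7
      exact Commute.inv_right_iff.1
        (c.comm_of_conj hw (cl1 b hb) (inv_mem d.2) (by rwa [inv_inv])).symm
    refine scal_eq_one (c.sym.cent _ (c.sym.le (cl1 b hb).1) fun e he => ?_) hw (cl1 b hb).2
    obtain ⟨y, y1, y2, y3, y4⟩ := exists_avoid N hN id (mk b * ·) (·⁻¹ * mk ⟨e, he⟩)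
      (fun y => mk b * (y⁻¹ * mk ⟨e, he⟩)) Function.injective_id (mul_right_injective _)
      ((mul_left_injective _).comp inv_injective)
      ((mul_right_injective _).comp ((mul_left_injective _).comp inv_injective))
    have := (h4 (t y) (by rwa [ht]) (by rwa [ht])).mul_right
      (h4 ((t y)⁻¹ * ⟨e, he⟩) (by rwa [map_mul, map_inv, ht]) (by rwa [map_mul, map_inv, ht]))
    simpa using this
  refine scal_eq_one (c.sym.cent g hlin fun e he => ?_) hw hg
  obtain ⟨y, y1, y2, -⟩ := exists_avoid N hN id (·⁻¹ * mk ⟨e, he⟩) id id Function.injective_id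
    ((mul_left_injective _).comp inv_injective) Function.injective_id Function.injective_id
  have := dl_mul g (t y) ((t y)⁻¹ * ⟨e, he⟩ : E)
  rw [cl2 (t y) (by rwa [ht]), cl2 _ (by rwa [map_mul, map_inv, ht])] at this
  simp only [coe_mul, coe_inv, mul_inv_cancel_left, mul_one, inv_mul_cancel, dl] at this
  exact mul_inv_eq_iff_eq_mul.1 (inv_mul_eq_one.1 this).symm

end Ctx

end H83.Base
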