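import Mathlib
import Cfsg.Agent.Lib.FGS83.BaseE

/-!
# Base sizes, part F: vectors with maximal stabilisers (helper83)
-/

set_option autoImplicit false

namespace H83.Base

open Subgroup MulAction
open scoped commutatorElement

local notation "𝐍(" H ")" => Subgroup.normalizer (SetLike.coe H)
local notation "𝐂(" H ")" => Subgroup.centralizer (SetLike.coe H)

universe u

variable {G : Type u} {V : Type*} [Group G] [AddCommGroup V] [DistribMulAction G V]
  {K : Type*} [Field K] [Module K V]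

structure IsMax (E : Subgroup G) (W : AddSubgroup V) (w : V) : Prop where
  mem : w ∈ W
  ne : w ≠ 0
  max : ∀ u ∈ W, u ≠ 0 → Fx E w u → stA E u = stA E w

theorem exists_isMax [Finite G] (E : Subgroup G) (W : AddSubgroup V) (h : ∃ w ∈ W, w ≠ 0) :
    ∃ w, IsMax E W w := by
  obtain ⟨w, ⟨h1, h2⟩, hm⟩ := exists_max_bdd {w | w ∈ W ∧ w ≠ 0} (fun w => Nat.card (stA E w))
    (Nat.card G) (fun _ _ => card_le_card_group _) h
  exact ⟨w, h1, h2, fun u hu hu0 hf =>
    (eq_of_le_of_card_ge (H := stA E w) (K := stA E u) (fun a ha => mem_stA.2 ⟨ha.1, hf a ha⟩)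
      (hm u ⟨hu, hu0⟩)).symm⟩

theorem IsMax.of_fx {E : Subgroup G} {W : AddSubgroup V} {w u : V} (h : IsMax E W w) (hu : u ∈ W)
    (hu0 : u ≠ 0) (hf : Fx E w u) : IsMax E W u :=
  ⟨hu, hu0, fun v hv hv0 hfv => by
    rw [h.max u hu hu0 hf]
    exact h.max v hv hv0 fun a ha => hfv a (by rwa [h.max u hu hu0 hf])⟩

def stAS (K : Type*) [Field K] [Module K V] (E : Subgroup G) (w : V) : Subgroup G :=
  stA E w ⊔ (E ⊓ ScalS G K V)

/-- `n` acts as `-1` -/
def Ng (V : Type*) [AddCommGroup V] [DistribMulAction G V] (n : G) : Prop := ∀ v : V, n • v = -v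

/-- `x` and `y` anticommute -/
def Ac (V : Type*) [AddCommGroup V] [DistribMulAction G V] (x y : G) : Prop :=
  ∀ v : V, x • y • v = -(y • x • v)

theorem Ac.symm {x y : G} (h : Ac V x y) : Ac V y x := fun v => by rw [h, neg_neg]

theorem Ac.mul_right {x y z : G} (h : Ac V x y) (h' : Commute x z) : Ac V x (y * z) := fun v => by
  rw [mul_smul, mul_smul, h, ← mul_smul x, h'.eq, mul_smul]

theorem Ac.mul_right' {x y z : G} (h : Commute x y) (h' : Ac V x z) : Ac V x (y * z) := fun v => by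
  rw [mul_smul, mul_smul, ← mul_smul x, h.eq, mul_smul, h', smul_neg]

theorem Ac.pow_right {x y : G} (h : Ac V x y) {n : ℕ} (hn : Odd n) : Ac V x (y ^ n) := by
  obtain ⟨k, rfl⟩ := hn
  induction k with
  | zero => simpa using h
  | succ k ih =>
    intro v
    rw [show 2 * (k + 1) + 1 = 2 * k + 1 + 1 + 1 by ring, pow_succ', pow_succ', mul_smul, mul_smul,
      mul_smul, mul_smul, h, h, ih]
    simp

theorem Ng.mem_scal {n : G} (h : Ng V n) : n ∈ ScalS G K V := ⟨-1, fun v => by rw [h, neg_one_smul]⟩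

theorem two_ne_of {v : V} (h : v ≠ -v) : (2 : K) ≠ 0 := fun h2 => h (by
  rw [eq_neg_iff_add_eq_zero, ← two_smul K, h2, zero_smul])

theorem eq_zero_of_eq_neg (h2 : (2 : K) ≠ 0) {v : V} (h : v = -v) : v = 0 := by
  rw [eq_neg_iff_add_eq_zero, ← two_smul K] at h
  exact (smul_eq_zero.1 h).resolve_left h2

variable [FaithfulSMul G V]

theorem Ac.mul_mul {x y z : G} (h : Ac V x y) (h' : Ac V x z) : Commute x (y * z) :=
  FaithfulSMul.eq_of_smul_eq_smul (α := V) fun v => by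
    simp only [mul_smul]; rw [h, h', smul_neg, neg_neg]

theorem Ac.not_commute (h2 : (2 : K) ≠ 0) {w : V} (hw : w ≠ 0) {x y : G} (h : Ac V x y) :
    ¬ Commute x y := fun hc => by
  have := h w
  rw [← mul_smul, hc.eq, mul_smul] at this
  have := eq_zero_of_eq_neg h2 this
  rw [smul_eq_zero_iff_eq, smul_eq_zero_iff_eq] at this
  exact hw this

theorem scal_sq {s : G} (hs : s ∈ ScalS G K V) (h : s ^ 2 = 1) : s = 1 ∨ Ng V s := by
  obtain ⟨k, hk⟩ := hs
  rcases subsingleton_or_nontrivial V with hV | hV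
  · exact Or.inr fun v => Subsingleton.elim _ _
  obtain ⟨w, hw⟩ := exists_ne (0 : V)
  have : k * k = 1 := smul_left_injective K hw (by
    simp only [mul_smul, ← hk, one_smul]; rw [← mul_smul, ← sq, h, one_smul])
  rcases mul_self_eq_one_iff.1 this with rfl | rfl
  · exact Or.inl (FaithfulSMul.eq_of_smul_eq_smul (α := V) fun v => by rw [hk, one_smul, one_smul])
  · exact Or.inr fun v => by rw [hk, neg_one_smul]

theorem Ng.mul_ng {a b : G} (ha : Ng V a) (hb : Ng V b) : a * b = 1 :=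
  FaithfulSMul.eq_of_smul_eq_smul (α := V) fun v => by rw [mul_smul, hb, ha, neg_neg, one_smul]

theorem Ac.sq_of_one {x y : G} (h : Ac V x y) (hx : Ng V (x ^ 2)) (hy : y ^ 2 = 1) :
    (x * y) ^ 2 = 1 := FaithfulSMul.eq_of_smul_eq_smul (α := V) fun v => by
  simp only [sq, mul_smul] at *
  rw [h.symm, smul_neg, ← mul_smul y, hy, one_smul, ← mul_smul, hx, neg_neg]

omit [FaithfulSMul G V] in
theorem Ac.sq_ng {x y : G} (h : Ac V x y) (hx : x ^ 2 = 1) (hy : y ^ 2 = 1) :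
    Ng V ((x * y) ^ 2) := fun v => by
  simp only [sq, mul_smul] at *
  rw [h.symm, smul_neg, ← mul_smul y, hy, one_smul, ← mul_smul, hx, one_smul]

omit [FaithfulSMul G V] in
theorem Ac.sq_ng' {x y : G} (h : Ac V x y) (hx : Ng V (x ^ 2)) (hy : Ng V (y ^ 2)) :
    Ng V ((x * y) ^ 2) := fun v => by
  simp only [sq, mul_smul] at *
  rw [h.symm, smul_neg, ← mul_smul y, hy, ← mul_smul, hx, neg_neg]

structure Minus (K : Type*) [Field K] [Module K V] (E : Subgroup G) (w : V) (i j : G)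
    (α β : ℕ) : Prop where
  hi : i ∈ stQ E w
  hj : j ∈ stQ E w
  two : (2 : K) ≠ 0
  i2 : Ng V (i ^ 2)
  j2 : Ng V (j ^ 2)
  ac : Ac V i j
  rel : j • w = (α : K) • w + (β : K) • i • w
  dec : ∀ q ∈ stQ E w, q ∈ stAS K E w ∨ q * i ∈ stAS K E w ∨ q * j ∈ stAS K E w ∨
    q * (i * j) ∈ stAS K E w

variable {E : Subgroup G} {m : ℕ}

namespace Ctx

variable (c : Ctx K V E m)
include c

theorem mem_stAS {w : V} {q : G} :
    q ∈ stAS K E w ↔ ∃ a ∈ stA E w, ∃ s ∈ E ⊓ ScalS G K V, a * s = q := by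
  haveI := c.sym.normal
  haveI := c.pre.nS
  exact mem_sup_of_normal_right

theorem stAS_le {w : V} (hw : w ≠ 0) : stAS K E w ≤ stQ E w :=
  sup_le (c.stA_le hw) fun _ hs => c.scal_stQ hs.2 hs.1 w

theorem stAS_comm {w : V} {q a : G} (ha : a ∈ stAS K E w) (hq : q ∈ stQ E w) : Commute a q := by
  obtain ⟨b, hb, s, hs, rfl⟩ := c.mem_stAS.1 ha
  exact Commute.mul_left (hq.2 b hb) (c.cen hs.2 hq.1).symm

theorem scal_pow {s : G} (hs : s ∈ E) {k : K} (hk : ∀ v : V, s • v = k • v) {w : V} (hw : w ≠ 0) :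
    k ^ (2 * m) = 1 := by
  have h1 := c.sym.scal s hs ⟨k, hk⟩
  have h2 : ∀ n : ℕ, s ^ n • w = k ^ n • w := fun n => by
    induction n with
    | zero => simp
    | succ n ih => rw [pow_succ', pow_succ', mul_smul, mul_smul, ih, hk]
  exact smul_left_injective K hw (by simp only [← h2, h1, one_smul])

theorem stAS_act {w : V} (hw : w ≠ 0) {q : G} (hq : q ∈ stAS K E w) :
    ∃ k : K, k ^ (2 * m) = 1 ∧ ∀ u, Fx E w u → q • u = k • u := by
  obtain ⟨a, ha, s, ⟨hs, k, hk⟩, rfl⟩ := c.mem_stAS.1 hq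
  exact ⟨k, c.scal_pow hs hk hw, fun u hu => by rw [mul_smul, hk, c.lin ha.1, hu a ha]⟩

theorem dich {x y : G} (hx : x ∈ E) (hy : y ∈ E) (h : y ^ 2 ∈ ScalS G K V) :
    Commute x y ∨ (Ac V x y ∧ Ng V ⁅x, y⁆) := by
  have h1 : ⁅x, y⁆ ^ 2 = 1 := by
    rw [← H5.commutator_pow_right (c.cen (c.sym.comm x hx y hy) hy)]
    exact (c.cen h hx).commutator_eq
  rcases scal_sq (c.sym.comm x hx y hy) h1 with h2 | h2
  · exact Or.inl (commutatorElement_eq_one_iff_commute.1 h2)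
  · exact Or.inr ⟨fun v => by
      rw [← mul_smul, H5.mul_eq_commutator_mul, mul_smul, mul_smul, h2], h2⟩

theorem exists_not_commute {x : G} (hx : x ∈ E) (hS : x ∉ ScalS G K V) :
    ∃ e ∈ E, ¬ Commute x e := by
  by_contra! hc
  exact hS (c.sym.cent x (c.sym.le hx) hc)

theorem sq_pow {x : G} (hx : x ∈ E) : (x ^ m) ^ 2 = 1 ∨ Ng V ((x ^ m) ^ 2) := by
  rw [← pow_mul, mul_comm]
  exact scal_sq (c.sym.pow x hx).1 (by
    rw [← pow_mul, show 2 * m * 2 = 4 * m by ring]; exact (c.sym.pow x hx).2)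

theorem eig {W : AddSubgroup V} {w : V} (h : IsMax E W w) {q s : G} (hq : q ∈ E)
    (hs : s ∈ E ⊓ ScalS G K V) {u : V} (hu : u ∈ W) (hu0 : u ≠ 0) (hf : Fx E w u)
    (e : (s * q) • u = u) : q ∈ stAS K E w := by
  have : s * q ∈ stA E w := by rw [← h.max u hu hu0 hf]; exact ⟨mul_mem hs.1 hq, e⟩
  exact (mul_mem_cancel_left (mem_sup_right hs : s ∈ stAS K E w)).1 (mem_sup_left this)

theorem inv2 {W : AddSubgroup V} {w : V} (h : IsMax E W w) {q : G} (hq : q ∈ stQ E w)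
    (q2 : q ^ 2 = 1) (hW : q • w ∈ W) : q ∈ stAS K E w := by
  by_cases hS : q ∈ ScalS G K V
  · exact mem_sup_right ⟨hq.1, hS⟩
  by_cases h1 : q • w = w
  · exact mem_sup_left ⟨hq.1, h1⟩
  obtain ⟨e, he, hne⟩ := c.exists_not_commute hq.1 hS
  have h2 := ((c.dich he hq.1 (q2 ▸ one_mem _)).resolve_left fun h => hne h.symm).2
  refine c.eig h hq.1 (s := ⁅e, q⁆) ⟨commutator_le_self E (commutator_mem_commutator he hq.1),
    h2.mem_scal⟩ (sub_mem h.mem hW) (sub_ne_zero.2 (Ne.symm h1))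
    ((Fx.self E w).sub ((Fx.self E w).stQ hq)) ?_
  rw [mul_smul, h2, smul_sub, ← mul_smul, ← sq, q2, one_smul, neg_sub]

theorem oddq [Finite G] {w : V} (h : IsMax E ⊤ w) {q : G} (hq : q ∈ stQ E w) (qm : q ^ m = 1) :
    q ∈ stAS K E w := by
  obtain ⟨z, hz, ⟨ζ, hζ⟩, ho⟩ := c.sym.root
  have hzp : ∀ (n : ℕ) (v : V), z ^ n • v = ζ ^ n • v := fun n v => by
    induction n with
    | zero => simp
    | succ n ih => rw [pow_succ', pow_succ', mul_smul, mul_smul, ih, hζ]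
  have hm : 0 < m := c.sym.odd.pos
  haveI : NeZero m := ⟨hm.ne'⟩
  have zm : z ^ m = 1 := ho ▸ pow_orderOf_eq_one z
  have hprim : IsPrimitiveRoot ζ m := IsPrimitiveRoot.mk_of_lt ζ hm
    (smul_left_injective K h.ne (by simp only [← hzp, zm, one_smul])) fun l h0 hl e =>
      pow_ne_one_of_lt_orderOf h0.ne' (ho ▸ hl) (FaithfulSMul.eq_of_smul_eq_smul (α := V) fun v => by
        rw [hzp, e, one_smul, one_smul])
  have hc : ∀ i : ℕ, Commute (z ^ i) q := fun i => (c.cen ⟨ζ, hζ⟩ hq.1).symm.pow_left i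
  let u : ℕ → V := fun i => ∑ j ∈ Finset.range m, (z ^ i * q) ^ j • w
  have hsum : ∑ i ∈ Finset.range m, u i = (m : K) • w := by
    simp only [u]
    rw [Finset.sum_comm, Finset.sum_eq_single_of_mem 0 (by simpa using hm)]
    · simp [Nat.cast_smul_eq_nsmul]
    · intro j hj hj0
      simp only [(hc _).mul_pow, mul_smul, ← pow_mul, hzp, ← Finset.sum_smul]
      have h1 : ζ ^ j - 1 ≠ 0 := sub_ne_zero.2 (hprim.pow_ne_one_of_pos_of_lt hj0
        (Finset.mem_range.1 hj))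
      have h2 := mul_geom_sum (ζ ^ j) m
      rw [← pow_mul, mul_comm j, pow_mul, hprim.pow_eq_one, one_pow, sub_self] at h2
      simp only [mul_comm _ j, pow_mul]
      rw [(mul_eq_zero.1 h2).resolve_left h1, zero_smul]
  obtain ⟨i, -, hi⟩ := Finset.exists_ne_zero_of_sum_ne_zero (hsum ▸ smul_ne_zero
    hprim.neZero'.out h.ne)
  have hzi : z ^ i ∈ E ⊓ ScalS G K V := pow_mem (show z ∈ E ⊓ ScalS G K V from ⟨hz, ζ, hζ⟩) i
  refine c.eig h hq.1 hzi trivial hi (fun a ha => ?_) ?_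
  · rw [Finset.smul_sum]
    exact Finset.sum_congr rfl fun j _ =>
      (Fx.self E w).stQ (pow_mem (mul_mem (c.scal_stQ hzi.2 hzi.1 w) hq) j) a ha
  · have h1 : (z ^ i * q) ^ m = 1 := by
      rw [(hc i).mul_pow, qm, ← pow_mul, mul_comm i, pow_mul, zm]; simp
    have h2 := Finset.sum_range_succ (fun j => (z ^ i * q) ^ j • w) m
    rw [Finset.sum_range_succ', h1, pow_zero, add_left_inj] at h2
    simp only [u, Finset.smul_sum, ← mul_smul, ← pow_succ']
    exact h2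

theorem four_cop : (4 : ℕ).Coprime m := (Nat.coprime_two_left.2 c.sym.odd).pow_left 2

theorem sq_mem_stAS [Finite G] {w : V} (h : IsMax E ⊤ w) {q : G} (hq : q ∈ stQ E w) :
    q ^ 2 ∈ stAS K E w :=
  mem_of_pow_pow (Nat.coprime_two_left.2 c.sym.odd) (by
    rw [← pow_mul]
    exact c.oddq h (pow_mem hq _) (by rw [← pow_mul]; exact (c.sym.pow q hq.1).2))
    (by rw [← pow_mul]; exact mem_sup_right ⟨pow_mem hq.1 _, (c.sym.pow q hq.1).1⟩)

theorem mul_mem_stAS [Finite G] {w : V} (h : IsMax E ⊤ w) {q r : G} (hq : q ∈ stQ E w)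
    (hr : q ^ m * r ∈ stAS K E w) : q * r ∈ stAS K E w := by
  obtain ⟨k, hk⟩ := c.sym.odd
  rw [hk, pow_succ, pow_mul, mul_assoc] at hr
  exact (mul_mem_cancel_left (pow_mem (c.sq_mem_stAS h hq) k)).1 hr

theorem not_ng {w : V} (hw : w ≠ 0) (h2 : (2 : K) ≠ 0) {i : G} (hi : i ∈ stAS K E w) :
    ¬ Ng V (i ^ 2) := fun hn => by
  obtain ⟨k, hk, hi⟩ := c.stAS_act hw hi
  have h1 : k ^ 2 = -1 := smul_left_injective K hw (by
    have := hn w
    rw [sq, mul_smul, hi _ (Fx.self E w), hi _ ((Fx.self E w).smul c k), smul_smul] at this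
    simp only [sq, this, neg_one_smul])
  rw [pow_mul, h1, c.sym.odd.neg_one_pow] at hk
  exact h2 (by linear_combination -hk)

theorem exists_anti [Finite G] [Finite K] {w : V} {i : G} (hi : i ∈ E)
    (hn : i ∉ stAS K E w) : ∃ j ∈ stQ E w, ¬ Commute i j := by
  by_contra! hc
  obtain ⟨a, ha, h⟩ := c.pre.dual (A := stA E w) (D := E) (inf_le_left.trans c.sym.le) c.sym.le
    (fun a ha d hd => c.sym.comm a ha.1 d hd) (b := i) (fun d hd => c.sym.comm i hi d hd)
    fun d hd h => hc d ⟨hd, h⟩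
  have h1 : a⁻¹ * i ∈ E := mul_mem (inv_mem ha.1) hi
  exact hn ((mul_mem_cancel_left (inv_mem (mem_sup_left ha : a ∈ stAS K E w))).1
    (mem_sup_right ⟨h1, c.sym.cent _ (c.sym.le h1) h⟩))

theorem ms [Finite G] [Finite K] [Nontrivial V] : ∃ w : V, IsMax E ⊤ w ∧
    (stQ E w ≤ stAS K E w ∨ ∃ i j α β, Minus K E w i j α β) := by
  obtain ⟨w, h⟩ := exists_isMax E (⊤ : AddSubgroup V) (by simpa using exists_ne (0 : V))
  by_cases hQ : stQ E w ≤ stAS K E w
  · exact ⟨w, h, Or.inl hQ⟩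
  obtain ⟨q, hq, hqn⟩ := SetLike.not_le_iff_exists.1 hQ
  set i := q ^ m
  have hi : i ∈ stQ E w := pow_mem hq m
  have hin : i ∉ stAS K E w := fun hm => hqn (by simpa using c.mul_mem_stAS h hq (r := 1) (by simpa))
  have i1 : i ^ 2 ≠ 1 := fun e => hin (c.inv2 h hi e trivial)
  have i2 : Ng V (i ^ 2) := (c.sq_pow hq.1).resolve_left i1
  have two : (2 : K) ≠ 0 := by
    by_contra h2
    refine i1 (FaithfulSMul.eq_of_smul_eq_smul (α := V) fun v => ?_)
    rw [i2, one_smul, neg_eq_iff_add_eq_zero, ← two_smul K, h2, zero_smul]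
  obtain ⟨j0, hj0, hne⟩ := c.exists_anti hi.1 hin
  have ac0 : Ac V i j0 :=
    ((c.dich hj0.1 hi.1 i2.mem_scal).resolve_left fun h => hne h.symm).1.symm
  set j := j0 ^ m
  have hj : j ∈ stQ E w := pow_mem hj0 m
  have ac : Ac V i j := ac0.pow_right c.sym.odd
  have j2 : Ng V (j ^ 2) := (c.sq_pow hj0.1).resolve_left fun e =>
    ac.not_commute two h.ne (c.stAS_comm (c.inv2 h hj e trivial) hi).symm
  have key : ∀ y ∈ stQ E w, (y ^ 2 = 1 ∨ Ng V (y ^ 2)) → Commute y i → Commute y j →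
      y ∈ stAS K E w := fun y hy y2 h1 h2 => by
    rcases y2 with y2 | y2
    · exact c.inv2 h hy y2 trivial
    · have := c.inv2 h (mul_mem hy hi) (by rw [h1.mul_pow, y2.mul_ng i2]) trivial
      exact absurd (c.stAS_comm this hj).symm
        ((Ac.mul_right' h2.symm ac.symm).not_commute two h.ne)
  have sq : ∀ {y r : G}, (y ^ 2 = 1 ∨ Ng V (y ^ 2)) → Ng V (r ^ 2) → (Commute y r ∨ Ac V y r) →
      ((y * r) ^ 2 = 1 ∨ Ng V ((y * r) ^ 2)) := by
    rintro y r (y2 | y2) r2 (h1 | h1)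
    · right; rw [h1.mul_pow, y2, one_mul]; exact r2
    · left
      have := h1.symm.sq_of_one r2 y2
      rw [show (y * r) ^ 2 = r⁻¹ * (r * y) ^ 2 * r by simp only [pow_two]; group, this]; simp
    · left; rw [h1.mul_pow, y2.mul_ng r2]
    · right; exact h1.sq_ng' y2 r2
  have dec : ∀ q ∈ stQ E w, q ∈ stAS K E w ∨ q * i ∈ stAS K E w ∨ q * j ∈ stAS K E w ∨
      q * (i * j) ∈ stAS K E w := fun q hq => by
    have hy := pow_mem hq m
    have y2 := c.sq_pow hq.1
    rcases c.dich hy.1 hi.1 i2.mem_scal with h1 | ⟨h1, -⟩ <;>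
      rcases c.dich hy.1 hj.1 j2.mem_scal with h2 | ⟨h2, -⟩
    · left
      simpa using c.mul_mem_stAS h hq (r := 1) (by simpa using key _ hy y2 h1 h2)
    · right; left
      exact c.mul_mem_stAS h hq (key _ (mul_mem hy hi) (sq y2 i2 (Or.inl h1))
        (h1.mul_left (Commute.refl i)) (h2.symm.mul_mul ac.symm).symm)
    · right; right; left
      exact c.mul_mem_stAS h hq (key _ (mul_mem hy hj) (sq y2 j2 (Or.inl h2))
        (h1.symm.mul_mul ac).symm (h2.mul_left (Commute.refl j)))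
    · right; right; right
      exact c.mul_mem_stAS h hq (key _ (mul_mem hy (mul_mem hi hj))
        (sq y2 (ac.sq_ng' i2 j2) (Or.inl (h1.mul_mul h2)))
        (h1.symm.mul_mul (Ac.mul_right' (Commute.refl i) ac)).symm
        (h2.symm.mul_mul (ac.symm.mul_right (Commute.refl j))).symm)
  obtain ⟨p, hp⟩ := CharP.exists K
  haveI : NeZero p := ⟨CharP.char_ne_zero_of_finite K p⟩
  obtain ⟨α, β, hαβ⟩ := CharP.sq_add_sq K p (-1)
  have hi2 : ∀ v : V, i • i • v = -v := fun v => by rw [← mul_smul, ← pow_two, i2]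
  have hj2 : ∀ v : V, j • j • v = -v := fun v => by rw [← mul_smul, ← pow_two, j2]
  obtain ⟨u, hu0, hf, a, hu⟩ : ∃ u : V, u ≠ 0 ∧ Fx E w u ∧ ∃ a : ℕ,
      j • u = (a : K) • u + (β : K) • i • u := by
    by_cases h0 : j • w - (β : K) • i • w + (α : K) • w = 0
    · refine ⟨w, h.ne, Fx.self E w, (p - 1) * α, ?_⟩
      rw [Nat.cast_mul, Nat.cast_pred (NeZero.pos p), CharP.cast_eq_zero, zero_sub, neg_one_mul]
      generalize j • w = x, i • w = y at h0 ⊢
      linear_combination (norm := module) h0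
    · refine ⟨_, h0, (((Fx.self E w).stQ hj).sub (((Fx.self E w).stQ hi).smul c _)).add
        ((Fx.self E w).smul c _), α, ?_⟩
      simp only [smul_add, smul_sub, c.lin hi.1, c.lin hj.1, hi2, hj2, ac w]
      push_cast at hαβ
      generalize j • w = x, i • w = y, j • i • w = z
      linear_combination (norm := module) (-hαβ) • w
  have e : stA E u = stA E w := h.max u trivial hu0 hf
  have e1 : stQ E u = stQ E w := by rw [stQ, stQ, e]
  have e2 : stAS K E u = stAS K E w := by rw [stAS, stAS, e]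
  exact ⟨u, h.of_fx trivial hu0 hf, Or.inr ⟨i, j, a, β, e1 ▸ hi, e1 ▸ hj, two, i2, j2, ac, hu,
    by rw [e1, e2]; exact dec⟩⟩

theorem minus_act {w : V} (hw : w ≠ 0) {i j : G} {α β : ℕ} (h : Minus K E w i j α β) {q : G}
    (hq : q ∈ stQ E w) : ∃ k : K, k ^ (2 * m) = 1 ∧ ∃ r : G,
      (r = 1 ∨ r = i⁻¹ ∨ r = j⁻¹ ∨ r = (i * j)⁻¹) ∧ ∀ u, Fx E w u → q • u = k • r • u := by
  have key : ∀ r ∈ stQ E w, q * r ∈ stAS K E w → ∃ k : K, k ^ (2 * m) = 1 ∧
      ∀ u, Fx E w u → q • u = k • r⁻¹ • u := fun r hr h => by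
    obtain ⟨k, h1, h2⟩ := c.stAS_act hw h
    exact ⟨k, h1, fun u hu => by rw [← h2 _ (hu.stQ (inv_mem hr)), mul_smul, smul_inv_smul]⟩
  rcases h.dec q hq with e | e | e | e
  · obtain ⟨k, h1, h2⟩ := c.stAS_act hw e
    exact ⟨k, h1, 1, Or.inl rfl, by simpa using h2⟩
  · obtain ⟨k, h1, h2⟩ := key _ h.hi e
    exact ⟨k, h1, _, Or.inr (Or.inl rfl), h2⟩
  · obtain ⟨k, h1, h2⟩ := key _ h.hj e
    exact ⟨k, h1, _, Or.inr (Or.inr (Or.inl rfl)), h2⟩
  · obtain ⟨k, h1, h2⟩ := key _ (mul_mem h.hi h.hj) e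
    exact ⟨k, h1, _, Or.inr (Or.inr (Or.inr rfl)), h2⟩

omit [FaithfulSMul G V] c in
theorem inv_of_ng {i : G} (h : Ng V (i ^ 2)) (v : V) : i⁻¹ • v = -(i • v) := by
  rw [inv_smul_eq_iff, smul_neg, ← mul_smul, ← pow_two, h, neg_neg]

/-- the action of the four coset representatives on `w`, with integer coefficients -/
theorem minus_int {w : V} {i j : G} {α β : ℕ} (h : Minus K E w i j α β) {r : G}
    (hr : r = 1 ∨ r = i⁻¹ ∨ r = j⁻¹ ∨ r = (i * j)⁻¹) :
    ∃ a b : ℤ, r • w = (a : K) • w + (b : K) • i • w := by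
  have hi2 : ∀ v : V, i • i • v = -v := fun v => by rw [← mul_smul, ← pow_two, h.i2]
  rcases hr with rfl | rfl | rfl | rfl
  · exact ⟨1, 0, by simp⟩
  · exact ⟨0, -1, by simp [inv_of_ng h.i2]⟩
  · exact ⟨-α, -β, by rw [inv_of_ng h.j2, h.rel]; push_cast; generalize i • w = y; module⟩
  · refine ⟨β, -α, ?_⟩
    rw [inv_of_ng (h.ac.sq_ng' h.i2 h.j2), mul_smul, h.rel, smul_add, c.lin h.hi.1, c.lin h.hi.1,
      hi2]
    push_cast; generalize i • w = y; module

end Ctx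

end H83.Base
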