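import Mathlib
import Cfsg.Agent.Lib.Char.BurnsidePQ
import Cfsg.Agent.Lib.FGS83.BaseF

/-!
# Base sizes, part G: three vectors for solvable groups, two for groups of odd order (helper83)
-/

set_option autoImplicit false

namespace H83.Base

open Subgroup MulAction
open scoped commutatorElement

universe u

theorem fix_of_pow {G α : Type*} [Group G] [Finite G] [MulAction G α] {n : ℕ}
    (h : (Nat.card G).Coprime n) {g : G} {x : α} (hx : g ^ n • x = x) : g • x = x :=
  mem_of_pow_pow (H := stabilizer G x) h (by rw [pow_card_eq_one']; exact one_mem _) hx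

section Mul

variable {G V : Type*} [Group G] [Finite G] [AddCommGroup V] [DistribMulAction G V]

theorem mbase_of_perm {k t p : ℕ} (hp : p.Prime) [NeZero t] (ht : t ≤ p)
    (hc : (Nat.card G).Coprime p) (τ : Equiv.Perm (Fin k → V))
    (hτ : ∀ (g : G) v, τ (g • v) = g • τ v) (hτp : τ ^ p = 1) (v : Fin k → V)
    (hv : ∀ g : G, (∀ j, g • v j = v j) → ∀ x : V, g • x = x) (hne : τ v ≠ v) :
    MBase k t G V := by
  have hτn : ∀ (n : ℕ) (g : G) v, (τ ^ n) (g • v) = g • (τ ^ n) v := fun n g v => by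
    induction n with
    | zero => rfl
    | succ n ih => rw [pow_succ', Equiv.Perm.mul_apply, Equiv.Perm.mul_apply, ih, hτ]
  refine ⟨fun c => (τ ^ c.val) v, fun g a b h => ?_⟩
  have h1 : g • (τ ^ a.val) v = (τ ^ b.val) v := funext h
  have ha := (ZMod.val_lt a).trans_le ht
  have hb := (ZMod.val_lt b).trans_le ht
  have h2 : g • v = (τ ^ (p - a.val + b.val)) v := by
    rw [pow_add, Equiv.Perm.mul_apply, ← h1, hτn, ← Equiv.Perm.mul_apply, ← pow_add,
      Nat.sub_add_cancel ha.le, hτp]; rfl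
  have h3 : ∀ n : ℕ, g ^ n • v = ((τ ^ (p - a.val + b.val)) ^ n) v := fun n => by
    induction n with
    | zero => simp
    | succ n ih =>
      rw [pow_succ', mul_smul, ih, ← pow_mul, ← hτn, h2, pow_mul, pow_succ, Equiv.Perm.mul_apply]
  have h4 : g • v = v := fix_of_pow hc (by rw [h3, ← pow_mul, mul_comm, pow_mul, hτp]; simp)
  refine ⟨ZMod.val_injective t (by_contra fun hab => hne ?_), hv g (congrFun h4)⟩
  refine mem_of_pow_pow (H := stabilizer (Equiv.Perm (Fin k → V)) v)
    ((Nat.Prime.coprime_iff_not_dvd hp).2 fun hd => ?_) (by rw [hτp]; exact one_mem _)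
    (h2.symm.trans h4)
  obtain ⟨c, hc⟩ := hd
  rcases c with _ | _ | c
  · omega
  · omega
  · have : p * (c + 1 + 1) = p * c + 2 * p := by ring
    omega

omit [Finite G] in
theorem base_ne [Nontrivial V] (h : BaseK 2 G V) :
    ∃ v w : V, v ≠ 0 ∧ ∀ g : G, g • v = v → g • w = w → ∀ x : V, g • x = x := by
  obtain ⟨v, hv⟩ := h
  have hv' : ∀ g : G, g • v 0 = v 0 → g • v 1 = v 1 → ∀ x : V, g • x = x := fun g h0 h1 =>
    hv g (Fin.forall_fin_two.2 ⟨h0, h1⟩)
  by_cases h0 : v 0 = 0
  · by_cases h1 : v 1 = 0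
    · obtain ⟨u, hu⟩ := exists_ne (0 : V)
      exact ⟨u, 0, hu, fun g _ _ => hv' g (by simp [h0]) (by simp [h1])⟩
    · exact ⟨v 1, v 0, h1, fun g a b => hv' g b a⟩
  · exact ⟨v 0, v 1, h0, hv'⟩

end Mul

theorem mulP_odd : MulP.{u} 2 2 2 0 := by
  intro G V _ _ _ _ _ _ hn _ _ h
  obtain ⟨v, w, hv, h⟩ := base_ne h
  obtain ⟨w, hw, h⟩ : ∃ w, v ≠ w ∧ ∀ g : G, g • v = v → g • w = w → ∀ x : V, g • x = x := by
    by_cases e : v = w
    · exact ⟨0, hv, fun g a _ => h g a (e ▸ a)⟩
    · exact ⟨w, e, h⟩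
  refine mbase_of_perm Nat.prime_two le_rfl hn
    ⟨fun v => ![v 1, v 0], fun v => ![v 1, v 0], fun v => ?_, fun v => ?_⟩ (fun g v => ?_) ?_
    ![v, w] (fun g hg => h g (hg 0) (hg 1)) fun e => hw (congrFun e 1)
  · ext j; fin_cases j <;> rfl
  · ext j; fin_cases j <;> rfl
  · ext j; fin_cases j <;> rfl
  · ext v j; fin_cases j <;> rfl

theorem mulP_two : MulP.{u} 2 3 3 2 := by
  intro G V _ _ _ _ _ _ hn he _ h
  obtain ⟨v, w, hv, h⟩ := base_ne h
  have h2 : ∀ x : V, x + x = 0 := fun x => by rw [← two_nsmul, he]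
  refine mbase_of_perm Nat.prime_three le_rfl hn
    ⟨fun v => ![v 1, v 0 + v 1], fun v => ![v 1 - v 0, v 0], fun v => ?_, fun v => ?_⟩
    (fun g v => ?_) ?_
    ![v, w] (fun g hg => h g (hg 0) (hg 1)) fun e => hv (by simpa using congrFun e 1)
  · ext j; fin_cases j <;> simp
  · ext j; fin_cases j <;> simp
  · ext j; fin_cases j <;> simp
  · ext v j
    fin_cases j
    · change v 1 + (v 0 + v 1) = v 0
      rw [add_left_comm, h2, add_zero]
    · change v 0 + v 1 + (v 1 + (v 0 + v 1)) = v 1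
      rw [add_left_comm, h2, add_zero]

theorem mulP_p {p t : ℕ} (hp : p.Prime) [NeZero t] (ht : t ≤ p) : MulP.{u} 2 t p p := by
  intro G V _ _ _ _ _ _ hn he _ h
  obtain ⟨v, w, hv, h⟩ := base_ne h
  let τ : Equiv.Perm (Fin 2 → V) :=
    ⟨fun v => ![v 0, v 1 + v 0], fun v => ![v 0, v 1 - v 0], fun v => by
      ext j; fin_cases j <;> simp, fun v => by ext j; fin_cases j <;> simp⟩
  have hτ : ∀ (n : ℕ) v, (τ ^ n) v = ![v 0, v 1 + n • v 0] := fun n v => by
    induction n with
    | zero => ext j; fin_cases j <;> simp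
    | succ n ih =>
      rw [pow_succ', Equiv.Perm.mul_apply, ih]
      ext j; fin_cases j <;> simp [τ, add_smul, add_assoc]
  refine mbase_of_perm hp ht hn τ (fun g v => ?_) ?_
    ![v, w] (fun g hg => h g (hg 0) (hg 1)) fun e => hv (by simpa [τ] using congrFun e 1)
  · ext j; fin_cases j <;> simp [τ]
  · ext v j; rw [hτ, he]; fin_cases j <;> simp

/-- elementary operations on triples -/
def elem (V : Type*) [AddCommGroup V] (i j : Fin 3) (h : i ≠ j) : Equiv.Perm (Fin 3 → V) where
  toFun v := v + Pi.single i (v j)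
  invFun v := v - Pi.single i (v j)
  left_inv v := by simp [h.symm]
  right_inv v := by simp [h.symm]

theorem elem_comm (V : Type*) [AddCommGroup V] {i j k : Fin 3} (hij : i ≠ j) (hik : i ≠ k)
    (hkj : k ≠ j) : ⁅elem V i k hik, elem V k j hkj⁆ = elem V i j hij := by
  rw [commutatorElement_def, mul_inv_eq_iff_eq_mul, mul_inv_eq_iff_eq_mul]
  ext v : 1
  simp only [elem, Equiv.Perm.mul_apply, Equiv.coe_fn_mk, Pi.add_apply, Pi.single_eq_same,
    Pi.single_eq_of_ne hij.symm, Pi.single_eq_of_ne hkj.symm, Pi.single_eq_of_ne hik.symm,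
    add_zero, Pi.single_add]
  abel

theorem mulP_three : MulP.{u} 3 5 1 0 := by
  intro G V _ _ _ _ _ hs _ _ _ h
  obtain ⟨v, j0, hv0, hv⟩ : ∃ (v : Fin 3 → V) (j : Fin 3), v j ≠ 0 ∧
      ∀ g : G, (∀ j, g • v j = v j) → ∀ x : V, g • x = x := by
    obtain ⟨v, hv⟩ := h
    by_cases h0 : ∃ j, v j ≠ 0
    · obtain ⟨j, hj⟩ := h0
      exact ⟨v, j, hj, hv⟩
    · push Not at h0
      obtain ⟨u, hu⟩ := exists_ne (0 : V)
      exact ⟨fun _ => u, 0, hu, fun g _ => hv g fun j => by rw [h0, smul_zero]⟩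
  let P := closure {p | ∃ i j h, p = elem V i j h}
  have hP : ∀ p ∈ P, ∀ (g : G) v, p (g • v) = g • p v := fun p hp => by
    induction hp using closure_induction with
    | mem p hp =>
      obtain ⟨i, j, h, rfl⟩ := hp
      intro g v
      simp [elem, Pi.single_smul']
    | one => intro g v; rfl
    | mul p q _ _ hp hq => intro g v; rw [Equiv.Perm.mul_apply, Equiv.Perm.mul_apply, hq, hp]
    | inv p _ hp => intro g v; rw [Equiv.Perm.inv_eq_iff_eq, hp]; simp
  have perf : ∀ T : ℕ → Subgroup P, T 0 = ⊤ →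
      (∀ n p q, p ∈ T n → q ∈ T n → ⁅p, q⁆ ∈ T (n + 1)) → ∀ n, T n = ⊤ := by
    intro T h0 hstep n
    induction n with
    | zero => exact h0
    | succ n ih =>
      rw [eq_top_iff, ← closure_closure_coe_preimage, closure_le]
      rintro ⟨p, hp⟩ ⟨i, j, h, rfl⟩
      obtain ⟨k, hik, hkj⟩ : ∃ k, i ≠ k ∧ k ≠ j := by clear hp; revert i j; decide
      have := hstep n ⟨elem V i k hik, subset_closure ⟨i, k, hik, rfl⟩⟩
        ⟨elem V k j hkj, subset_closure ⟨k, j, hkj, rfl⟩⟩ (ih ▸ mem_top _) (ih ▸ mem_top _)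
      have e : (⟨elem V i j h, hp⟩ : P) = ⁅(⟨elem V i k hik, subset_closure ⟨i, k, hik, rfl⟩⟩ : P),
          (⟨elem V k j hkj, subset_closure ⟨k, j, hkj, rfl⟩⟩ : P)⁆ :=
        Subtype.ext (elem_comm V h hik hkj).symm
      exact e ▸ this
  let T : Subgroup G → Subgroup P := fun D =>
    { carrier := {p | ∃ g ∈ D, p.1 v = g • v}
      mul_mem' := fun {p q} ⟨g, hg, hp⟩ ⟨h, hh, hq⟩ => ⟨h * g, mul_mem hh hg, by
        rw [coe_mul, Equiv.Perm.mul_apply, hq, hP p p.2, hp, mul_smul]⟩
      one_mem' := ⟨1, one_mem _, by simp⟩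
      inv_mem' := fun {p} ⟨g, hg, hp⟩ => ⟨g⁻¹, inv_mem hg, by
        rw [coe_inv, Equiv.Perm.inv_eq_iff_eq, hP p p.2, hp, inv_smul_smul]⟩ }
  by_cases h5 : 5 ≤ Nat.card (P ⧸ T ⊤)
  · obtain ⟨f⟩ : Nonempty (ZMod 5 ↪ P ⧸ T ⊤) := by
      letI := Fintype.ofFinite (P ⧸ T ⊤)
      exact Function.Embedding.nonempty_of_card_le (by simpa using h5)
    refine ⟨fun c => (f c).out.1 v, fun g c c' h => ?_⟩
    have h1 : g • (f c).out.1 v = (f c').out.1 v := funext h
    have h2 : c' = c := f.injective (by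
      rw [← (f c).out_eq, ← (f c').out_eq]
      refine QuotientGroup.eq.2 ⟨g⁻¹, trivial, ?_⟩
      rw [coe_mul, coe_inv, Equiv.Perm.mul_apply, Equiv.Perm.inv_eq_iff_eq, hP _ (f c').out.2,
        ← h1, inv_smul_smul])
    subst h2
    rw [← hP _ (f c').out.2] at h1
    exact ⟨rfl, hv g (congrFun ((f c').out.1.injective h1))⟩
  exfalso
  have hsol : Group.IsSolvable (Equiv.Perm (P ⧸ T ⊤)) :=
    H8.isSolvable_of_two_primes Nat.prime_two Nat.prime_three fun r hr hd => by
      rw [Nat.card_perm, hr.dvd_factorial] at hd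
      have := hr.two_le
      have h4 : r ≠ 4 := by rintro rfl; norm_num at hr
      omega
  obtain ⟨n, hn⟩ := hsol.solvable
  have h1 := perf (fun n => (derivedSeries _ n).comap (toPermHom P (P ⧸ T ⊤))) (by simp)
    (fun n p q hp hq => by
      rw [mem_comap, map_commutatorElement]; exact commutator_mem_commutator hp hq) n
  have h2 : T ⊤ = ⊤ := eq_top_iff.2 fun p _ => by
    have h3 : p ∈ (derivedSeries _ n).comap (toPermHom P (P ⧸ T ⊤)) := h1 ▸ mem_top p
    rw [hn, mem_comap, mem_bot] at h3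
    have := DFunLike.congr_fun h3 ((1 : P) : P ⧸ T ⊤)
    simpa using inv_mem (QuotientGroup.eq.1 this)
  obtain ⟨n, hn⟩ := hs.solvable
  have h3 := perf (fun n => T (derivedSeries G n)) h2 (fun n p q ⟨g, hg, hp⟩ ⟨h, hh, hq⟩ =>
    ⟨⁅h⁻¹, g⁻¹⁆, commutator_mem_commutator (inv_mem hh) (inv_mem hg), by
      have hp' : p.1⁻¹ v = g⁻¹ • v := by
        rw [Equiv.Perm.inv_eq_iff_eq, hP p p.2, hp, inv_smul_smul]
      have hq' : q.1⁻¹ v = h⁻¹ • v := by
        rw [Equiv.Perm.inv_eq_iff_eq, hP q q.2, hq, inv_smul_smul]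
      change p.1 (q.1 (p.1⁻¹ (q.1⁻¹ v))) = _
      rw [hq', hP _ (inv_mem p.2), hp', hP q q.2, hP q q.2, hq, hP p p.2, hP p p.2, hP p p.2, hp]
      simp [commutatorElement_def, mul_smul]⟩) n
  obtain ⟨i, hi⟩ := exists_ne j0
  obtain ⟨g, hg, h⟩ : (⟨elem V i j0 hi, subset_closure ⟨i, j0, hi, rfl⟩⟩ : P) ∈
    T (derivedSeries G n) := h3 ▸ mem_top _
  rw [hn, mem_bot] at hg
  rw [hg, one_smul] at h
  simpa [elem, hv0] using congrFun h i

section Aff

variable {L V : Type*} [Group L] [Finite L] [AddCommGroup V] [Finite V] [DistribMulAction L V]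

theorem aff_strong {t : ℕ} (hL : (Nat.card L).Coprime t) (hV : (Nat.card V).Coprime t)
    (F : V → ZMod t)
    (h : ∀ (l : L) (m : V), (∀ x, F (m + l • x) = F x) → m = 0 ∧ ∀ x : V, l • x = x) :
    Aff t L V := by
  refine ⟨F, fun l m c hc => ?_⟩
  have h1 : ∀ j : ℕ, ∃ m', ∀ x, F (m' + l ^ j • x) = F x + j * c := fun j => by
    induction j with
    | zero => exact ⟨0, by simp⟩
    | succ j ih =>
      obtain ⟨m', hm⟩ := ih
      refine ⟨m + l • m', fun x => ?_⟩
      rw [pow_succ', mul_smul, add_assoc, ← smul_add, hc, hm]; push_cast; ring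
  obtain ⟨m', hm'⟩ := h1 t
  have h2 : ∀ x : V, l • x = x := fun x => fix_of_pow hL ((h _ m' (by simpa using hm')).2 x)
  simp only [h2] at hc
  have h3 : ∀ (j : ℕ) x, F (j • m + x) = F x + j * c := fun j x => by
    induction j with
    | zero => simp
    | succ j ih => rw [succ_nsmul', add_assoc, hc, ih]; push_cast; ring
  have h4 : t • m = 0 := (h 1 _ (by simpa using h3 t)).1
  have h5 : m = 0 := AddMonoid.addOrderOf_eq_one_iff.1 (Nat.eq_one_of_dvd_coprimes hV
    (addOrderOf_dvd_natCard m) (addOrderOf_dvd_of_nsmul_eq_zero h4))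
  exact ⟨by simpa [h5] using hc 0, h5, h2⟩

/-- the action of `l` as an endomorphism of the multiplicative copy -/
def mulEnd (l : L) : Multiplicative V →* Multiplicative V :=
  AddMonoidHom.toMultiplicative (DistribSMul.toAddMonoidHom V l)

omit [Finite L] [Finite V] in
theorem mulEnd_inj (l : L) : Function.Injective (mulEnd (V := V) l) :=
  MulAction.injective (β := V) l

end Aff

theorem affP_five (n N : ℕ) : AffP.{u} 5 n N := by
  classical
  intro L V _ _ _ _ _ _ _ _ _ _
  obtain ⟨col, h1, h2, -⟩ := col3 (X := Multiplicative V)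
  let F : V → ZMod 5 := fun x => if x = 0 then 4 else ((col (Multiplicative.ofAdd x)).val : ZMod 5)
  have c4 : ∀ a : Fin 4, (a.val : ZMod 5) ≠ 4 := by decide
  have ci : ∀ a b : Fin 4, (a.val : ZMod 5) = b.val → a = b := by decide
  have F4 : ∀ x, F x = 4 ↔ x = 0 := fun x => by
    simp only [F]; split_ifs with h <;> simp [h, c4]
  refine ⟨F, fun l m c hc => ?_⟩
  have h0 : c = 0 := by
    by_contra h0
    have hj : ∀ a b c : ZMod 5, c ≠ 0 → ∃ j : Fin 5, a + j.val * c = b := by decide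
    have h3 : ∀ (j : ℕ) x, F ((fun x => m + l • x)^[j] x) = F x + j * c := fun j x => by
      induction j with
      | zero => simp
      | succ j ih => rw [Function.iterate_succ_apply', hc, ih]; push_cast; ring
    have hinj : Function.Injective fun x : V => m + l • x :=
      (add_right_injective m).comp (MulAction.injective l)
    have h4 : Function.Injective F := fun x y e => by
      obtain ⟨j, hj⟩ := hj (F x) 4 c h0
      exact hinj.iterate j (((F4 _).1 ((h3 j x).trans hj)).trans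
        ((F4 _).1 ((h3 j y).trans (e ▸ hj))).symm)
    have h5 := Nat.card_le_card_of_injective F h4
    obtain ⟨j, hj⟩ := hj (F 0) 0 c h0
    rw [← h3] at hj
    generalize (fun x => m + l • x)^[j] 0 = y at hj
    have hy : y ≠ 0 := fun e => by rw [(F4 y).2 e] at hj; exact absurd hj (by decide)
    simp only [F, if_neg hy] at hj
    rcases h2 with h2 | ⟨z, -, h2⟩
    · exact h2 (Multiplicative.ofAdd y) hy (ci _ 0 hj)
    · rw [Nat.card_zmod] at h5
      exact absurd (h2.trans h5) (by norm_num)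
  simp only [h0, add_zero] at hc
  have hm : m = 0 := by simpa using (F4 _).1 ((hc 0).trans ((F4 0).2 rfl))
  refine ⟨h0, hm, h1 (mulEnd l) (mulEnd_inj l) fun a ha => ci _ _ ?_⟩
  have := hc a.toAdd
  have ha' : a.toAdd ≠ 0 := ha
  simp only [F, hm, zero_add, if_neg ha', smul_eq_zero_iff_eq] at this
  exact this

theorem affP_two (N : ℕ) (hM : ModP.{u} 2 2 0 N) : AffP.{u} 2 2 N := by
  classical
  intro L V _ _ _ _ _ hs hL hV hi hN
  haveI := hi.1
  obtain ⟨v, w, hv, h⟩ := base_ne (hM L V hs hL (by simp) hi hN)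
  have no2 : ∀ (l : L) (x : V), l • l • x = x → l • x = x := fun l x e =>
    fix_of_pow hL (by rwa [sq, mul_smul])
  have ng : ∀ (l : L) (x : V), l • x = -x → x = 0 := fun l x e => by
    have h1 : x = -x := by rw [← e, no2 l x (by rw [e, smul_neg, e, neg_neg])]
    exact AddMonoid.addOrderOf_eq_one_iff.1 (Nat.eq_one_of_dvd_coprimes hV (addOrderOf_dvd_natCard x)
      (addOrderOf_dvd_of_nsmul_eq_zero (by rw [two_nsmul]; exact eq_neg_iff_add_eq_zero.1 h1)))
  obtain ⟨w, h, hb⟩ : ∃ w, (∀ g : L, g • v = v → g • w = w → ∀ x : V, g • x = x) ∧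
      ∀ l : L, l • v = w - v → l • w ≠ -v := by
    by_contra! hc
    obtain ⟨l, -, h1⟩ := hc w h
    obtain ⟨l', -, h2⟩ := hc (-w) fun g a b => h g a (by simpa using b)
    rw [smul_neg, neg_inj] at h2
    exact hv (ng (l * l'⁻¹) v (by rw [mul_smul, ← h2, inv_smul_smul, h1, h2]))
  refine aff_strong hL hV (fun x => if x = 0 ∨ x = v ∨ x = w then 1 else 0) fun l m hc => ?_
  have hX : ∀ x, x = 0 ∨ x = v ∨ x = w → m + l • x = 0 ∨ m + l • x = v ∨ m + l • x = w := by
    intro x hx
    by_contra hn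
    have := hc x
    simp only [if_pos hx, if_neg hn] at this
    exact absurd this (by decide)
  have inj := MulAction.injective (β := V) l
  have z : ∀ x : V, l • x = 0 → x = 0 := fun x e => (smul_eq_zero_iff_eq l).1 e
  have e0 := hX 0 (Or.inl rfl)
  have e1 := hX v (Or.inr (Or.inl rfl))
  have e2 := hX w (Or.inr (Or.inr rfl))
  rw [smul_zero, add_zero] at e0
  have hm : m = 0 := by
    rcases e0 with e0 | rfl | rfl
    · exact e0
    · exfalso
      rcases e1 with e1 | e1 | e1
      · exact hv (ng l _ (eq_neg_of_add_eq_zero_right e1))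
      · exact hv (z _ (by simpa using e1))
      · have e1' : l • m = w - m := eq_sub_of_add_eq' e1
        rcases e2 with e2 | e2 | e2
        · exact hb l e1' (eq_neg_of_add_eq_zero_right e2)
        · rw [z w (by simpa using e2), zero_sub] at e1'
          exact hv (ng l _ e1')
        · rw [← inj (add_left_cancel (e1.trans e2.symm)), sub_self] at e1'
          exact hv (z _ e1')
    · rcases e2 with e2 | e2 | e2
      · exact ng l _ (eq_neg_of_add_eq_zero_right e2)
      · have e2' : l • m = v - m := eq_sub_of_add_eq' e2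
        rcases e1 with e1 | e1 | e1
        · have e1' := eq_neg_of_add_eq_zero_right e1
          exact absurd (by rw [mul_smul, e2', smul_sub, e1', e2']; abel)
            (hb (l * l) (by rw [mul_smul, e1', smul_neg, e2', neg_sub]))
        · rw [inj (add_left_cancel (e1.trans e2.symm)), sub_self] at e2'
          exact z _ e2'
        · exact absurd (z _ (by simpa using e1)) hv
      · exact z _ (by simpa using e2)
  simp only [hm, zero_add] at e1 e2
  refine ⟨hm, ?_⟩
  have key : l • v = v ∧ l • w = w := by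
    rcases e1 with e1 | e1 | e1
    · exact absurd (z _ e1) hv
    · refine ⟨e1, ?_⟩
      rcases e2 with e2 | e2 | e2
      · rw [z _ e2, smul_zero]
      · rw [inj (e2.trans e1.symm), e1]
      · exact e2
    · rcases e2 with e2 | e2 | e2
      · exact absurd (z _ (e1.trans (z _ e2))) hv
      · have := no2 l v (by rw [e1, e2])
        exact ⟨this, by rw [e2, ← this, e1]⟩
      · exact ⟨by rw [e1, inj (e1.trans e2.symm)], e2⟩
  exact h l key.1 key.2

theorem affP_three (N : ℕ) (hM : ModP.{u} 2 3 2 N) : AffP.{u} 3 3 N := by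
  classical
  intro L V _ _ _ _ _ hs hL hV hi hN
  haveI := hi.1
  rcases hi.2 (nsmulAddMonoidHom 2 : V →+ V).ker (fun g v hv => by
    change 2 • g • v = 0
    rw [smul_comm, show 2 • v = 0 from hv, smul_zero]) with h2 | h2
  · have hV2 : (Nat.card V).Coprime 2 := by
      rw [Nat.coprime_comm, Nat.Prime.coprime_iff_not_dvd Nat.prime_two]
      intro hd
      obtain ⟨x, hx⟩ := exists_prime_addOrderOf_dvd_card' 2 hd
      have : x ∈ (nsmulAddMonoidHom 2 : V →+ V).ker := by
        change 2 • x = 0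
        rw [← hx, addOrderOf_nsmul_eq_zero]
      rw [h2, AddSubgroup.mem_bot] at this
      simp [this] at hx
    obtain ⟨N, -, h1, -⟩ := col6 (X := Multiplicative V) (Nat.Coprime.mul_right hV2 hV)
    let F : V → ZMod 3 := fun x => if x = 0 then 0 else if Multiplicative.ofAdd x ∈ N then 1 else 2
    have F0 : ∀ x, F x = 0 ↔ x = 0 := fun x => by
      simp only [F]; split_ifs with h <;> simp [h]; decide
    refine aff_strong hL hV F fun l m hc => ?_
    have hm : m = 0 := by simpa using (F0 _).1 ((hc 0).trans ((F0 0).2 rfl))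
    refine ⟨hm, h1 (mulEnd l) (mulEnd_inj l) fun a ha => ?_⟩
    by_cases ha' : a.toAdd = 0
    · have : a = 1 := ha'
      rw [this, map_one]; exact this ▸ ha
    by_contra hn
    have := hc a.toAdd
    simp only [F, hm, zero_add, if_neg ha', smul_eq_zero_iff_eq, ofAdd_toAdd, if_pos ha] at this
    rw [if_neg (by exact hn)] at this
    exact absurd this (by decide)
  · have he : ∀ v : V, 2 • v = 0 := fun v => (h2 ▸ AddSubgroup.mem_top v :
      v ∈ (nsmulAddMonoidHom 2 : V →+ V).ker)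
    have h2 : ∀ x : V, x + x = 0 := fun x => by rw [← two_nsmul, he]
    obtain ⟨v, w, hv, h⟩ := base_ne (hM L V hs hL he hi hN)
    obtain ⟨w, h, hb⟩ : ∃ w, (∀ g : L, g • v = v → g • w = w → ∀ x : V, g • x = x) ∧
        ∀ l : L, l • v = w → l • w = v → v = w := by
      by_contra! hc
      obtain ⟨l, h1, h1', -⟩ := hc w h
      obtain ⟨l', h3, h3', h4⟩ := hc (v + w) fun g a b => h g a (by simpa [a] using b)
      have h5 : l' • w = w := by
        rw [smul_add, h3, add_assoc, add_eq_left] at h3'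
        rw [eq_neg_of_add_eq_zero_right h3', neg_eq_iff_add_eq_zero, h2]
      have k1 : (l * l') • v = v + w := by rw [mul_smul, h3, smul_add, h1, h1', add_comm]
      have k2 : (l * l') • w = v := by rw [mul_smul, h5, h1']
      have := fix_of_pow hL (g := l * l') (x := v) (by
        rw [pow_succ, sq, mul_smul _ (l * l'), mul_smul (l * l'), k1, smul_add, k1, k2,
          add_right_comm, h2, zero_add, k2])
      exact h4 (this.symm.trans k1)
    let F : V → ZMod 3 := fun x => if x = 0 then 0 else if x = v ∨ x = w then 1 else 2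
    have F0 : ∀ x, F x = 0 ↔ x = 0 := fun x => by
      simp only [F]; split_ifs with h <;> simp [h]; decide
    refine aff_strong hL hV F fun l m hc => ?_
    have hm : m = 0 := by simpa using (F0 _).1 ((hc 0).trans ((F0 0).2 rfl))
    have hX : ∀ x, x = v ∨ x = w → l • x = x ∨ l • x = v ∨ l • x = w := by
      intro x hx
      by_cases h0 : x = 0
      · left; rw [h0, smul_zero]
      right
      by_contra hn
      have := hc x
      simp only [F, hm, zero_add, smul_eq_zero_iff_eq, if_neg h0, if_pos hx, if_neg hn] at this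
      exact absurd this (by decide)
    have inj := MulAction.injective (β := V) l
    have key : l • v = v ∧ l • w = w := by
      rcases hX v (Or.inl rfl) with e1 | e1 | e1 <;> rcases hX w (Or.inr rfl) with e2 | e2 | e2 <;>
      first
        | exact ⟨e1, e2⟩
        | (have := inj (e1.trans e2.symm); subst this; exact ⟨e1, e1⟩)
        | (have := hb l e1 e2; subst this; exact ⟨e1, e1⟩)
    exact ⟨hm, h l key.1 key.2⟩

section Field

variable {G : Type u} {V : Type*} [Group G] [Finite G] [AddCommGroup V] [DistribMulAction G V]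
  {K : Type*} [Field K] [Finite K] [Module K V] [FaithfulSMul G V] {E : Subgroup G} {m : ℕ}

theorem base_two {w v : V} (h : ∀ g : G, g • w = w → g • v = v → g = 1) : BaseK 2 G V :=
  ⟨![w, v], fun g hg x => by rw [h g (hg 0) (hg 1), one_smul]⟩

theorem Ctx.base_three [Nontrivial V] (c : Ctx K V E m) : BaseK 3 G V := by
  obtain ⟨w, hw, h⟩ := c.ms
  obtain ⟨i, hi, h⟩ : ∃ i ∈ stQ E w, ∀ q ∈ stQ E w, ∃ a b : K, q • w = a • w + b • i • w := by
    rcases h with h | ⟨i, j, α, β, h⟩
    · refine ⟨1, one_mem _, fun q hq => ?_⟩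
      obtain ⟨k, -, hk⟩ := c.stAS_act hw.ne (h hq)
      exact ⟨k, 0, by simp [hk w (Fx.self E w)]⟩
    · refine ⟨i, h.hi, fun q hq => ?_⟩
      obtain ⟨k, -, r, hr, hk⟩ := c.minus_act hw.ne h hq
      obtain ⟨a, b, hab⟩ := c.minus_int h hr
      exact ⟨k * a, k * b, by rw [hk w (Fx.self E w), hab, smul_add, mul_smul, mul_smul]⟩
  obtain ⟨θ, -, hθ⟩ := exists_gen K
  obtain ⟨X, _, _, mk, hs, hk⟩ := c.exists_X w
  obtain ⟨col, h1, h2, -⟩ := col3 (X := X)
  have hne := hw.ne
  obtain ⟨v, hv⟩ := c.frame hne mk hs hk ![θ • w, i • w] ![![0, 0], ![w, 0], ![0, w], ![w, w]] col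
    (Fin.forall_fin_two.2 ⟨(Fx.self E w).smul c θ, (Fx.self E w).stQ hi⟩)
    (fun a j => by fin_cases a <;> fin_cases j <;> first | exact Fx.self E w | exact Fx.zero E w)
    {x | x ≠ 1 ∧ col x = 0} (by
      rcases h2 with h2 | ⟨z, h2, h3⟩
      · rw [show {x | x ≠ 1 ∧ col x = 0} = ∅ from Set.eq_empty_of_forall_notMem fun x hx =>
          h2 x hx.1 hx.2]
        simp
      · have : {x | x ≠ 1 ∧ col x = 0}.ncard ≤ 1 := by
          rw [← Set.ncard_singleton z]
          exact Set.ncard_le_ncard fun a ha => h2 a ha.2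
        omega)
    (fun g hg h0 => by
      have hl := lin_of_gen hne (c.semi g) hθ hg (h0 0)
      refine ⟨hl, fun q hq => ?_, fun a j => by fin_cases a <;> fin_cases j <;> simp [hg]⟩
      obtain ⟨a, b, hab⟩ := h q hq
      rw [hab, smul_add, hl, hl, hg, show g • i • w = i • w from h0 1])
    (fun q _ a b h => by
      have h0 := h 0
      have h1 := h 1
      fin_cases a <;> fin_cases b <;> simp_all [smul_eq_zero_iff_eq, hne.symm])
    (fun g π _ hπ _ hc => h1 π hπ hc)
    (fun g t _ _ hQ _ hU x hx hN => ⟨(hQ _ (t x).2).1, by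
      have h0 := hU x hx 0
      have h1 := hU x hx 1
      have h2 : col x ≠ 0 := fun e => hN ⟨hx, e⟩
      generalize col x = a at *
      fin_cases a
      exacts [absurd rfl h2, h0, h1, h0]⟩)
  exact ⟨![w, v 0, v 1], fun g hg x => by
    rw [hv g (hg 0) (Fin.forall_fin_two.2 ⟨hg 1, hg 2⟩), one_smul]⟩

theorem Ctx.base_N (c : Ctx K V E m) {w : V} (hw : w ≠ 0) (hQ : stQ E w ≤ stAS K E w)
    {X : Type*} [CommGroup X] [Finite X] (mk : E →* X)
    (hs : Function.Surjective mk) (hk : ∀ e, mk e = 1 ↔ e.1 ∈ stQ E w) (N : Set X)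
    (hN : 4 * N.ncard < Nat.card X) (h1 : 1 ∉ N)
    (hrig : ∀ (g : G) (π : X →* X), Function.Injective π →
      (∀ e e' : E, e'.1 = g * e * g⁻¹ → π (mk e) = mk e') → (∀ x ∈ N, π x ∈ N) → ∀ x, π x = x) :
    BaseK 2 G V := by
  classical
  obtain ⟨θ, -, hθ⟩ := exists_gen K
  obtain ⟨v, hv⟩ := c.frame hw mk hs hk (fun _ : Unit => θ • w)
    (fun (a : Prop) _ => if a then 0 else w) (· ∈ N)
    (fun _ => (Fx.self E w).smul c θ)
    (fun a j => by split_ifs; exacts [Fx.zero E w, Fx.self E w]) N hN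
    (fun g hg h0 => by
      have hl := lin_of_gen hw (c.semi g) hθ hg (h0 ())
      refine ⟨hl, fun q hq => ?_, fun a j => by split_ifs <;> simp [hg]⟩
      obtain ⟨k, -, hk⟩ := c.stAS_act hw (hQ hq)
      rw [hk w (Fx.self E w), hl, hg])
    (fun q _ a b h => by
      have h0 := h ()
      by_cases ha : a <;> by_cases hb : b <;> simp_all [smul_eq_zero_iff_eq, hw.symm])
    (fun g π _ hπ he hc => hrig g π hπ he fun x hx => by
      rw [hc x fun e => h1 (e ▸ hx)]; exact hx)
    (fun g t _ _ hQ _ hU x hx hN => ⟨(hQ _ (t x).2).1, by simpa [hN] using hU x hx ()⟩)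
  exact base_two (v := v ()) fun g a b => hv g a fun _ => b

end Field

theorem fieldP_three : FieldP.{u} 3 1 0 := by
  intro G V K _ _ _ _ _ _ _ _ _ hs _ _ _ semi hab
  obtain ⟨E, m, c⟩ := exists_ctx hs semi hab
  exact c.base_three

theorem fieldP_odd : FieldP.{u} 2 2 0 := by
  intro G V K _ _ _ _ _ _ _ _ _ hs hn _ _ semi hab
  obtain ⟨E, m, c⟩ := exists_ctx hs semi hab
  obtain ⟨w, hw, h | ⟨i, j, α, β, h⟩⟩ := c.ms
  · obtain ⟨X, _, _, mk, hs, hk⟩ := c.exists_X w
    obtain ⟨N, h1, h2, h3⟩ := colOdd (X := X) (hn.coprime_dvd_left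
      ((card_dvd_of_surjective mk hs).trans (card_subgroup_dvd_card E)))
    refine c.base_N hw.ne h mk hs hk N h3 h1 fun g π hπ he => h2 π hπ fun a ha => ?_
    obtain ⟨e, rfl⟩ := hs a
    have hE := c.sym.normal
    have h4 : ∀ n : ℕ, π^[n] (mk e) = mk ⟨g ^ n * e * (g ^ n)⁻¹, hE.conj_mem _ e.2 _⟩ := by
      intro n
      induction n with
      | zero => simp
      | succ n ih =>
        rw [Function.iterate_succ_apply', ih]
        exact he _ _ (by simp only [pow_succ']; group)
    obtain ⟨k, hk⟩ := Nat.coprime_two_right.1 hn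
    have h5 : π^[Nat.card G] (mk e) = mk e := by
      rw [h4]; congr 1; exact Subtype.ext (by simp)
    rw [hk, add_comm, Function.iterate_add_apply, Function.iterate_mul,
      Function.iterate_fixed (show π^[2] (mk e) = mk e from ha)] at h5
    exact h5
  · exfalso
    have h1 : i • w = w := fix_of_pow (hn.pow_right 2) (by
      rw [show 2 ^ 2 = 2 + 2 from rfl, pow_add, h.i2.mul_ng h.i2, one_smul])
    have h2 := h.i2 w
    rw [sq, mul_smul, h1, h1] at h2
    exact hw.ne (eq_zero_of_eq_neg h.two h2)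

theorem fieldP_two : FieldP.{u} 2 3 2 := by
  intro G V K _ _ _ _ _ _ _ _ _ hs hn he _ semi hab
  obtain ⟨E, m, c⟩ := exists_ctx hs semi hab
  have hng : ∀ v : V, -v = v := fun v => by rw [neg_eq_iff_add_eq_zero, ← two_nsmul, he]
  obtain ⟨w, hw, h | ⟨i, j, α, β, h⟩⟩ := c.ms
  · obtain ⟨X, _, _, mk, hs, hk⟩ := c.exists_X w
    have h2 : (Nat.card X).Coprime 2 := by
      rw [Nat.coprime_comm, Nat.Prime.coprime_iff_not_dvd Nat.prime_two]
      intro hd
      obtain ⟨x, hx⟩ := exists_prime_orderOf_dvd_card' 2 hd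
      obtain ⟨e, rfl⟩ := hs x
      have h1 : (e ^ 2).1 ∈ stQ E w := (hk _).1 (by rw [map_pow, ← hx, pow_orderOf_eq_one])
      have h3 : mk e = 1 := (hk _).2 ⟨e.2, fun a ha => by
        have h4 : ⁅a, e.1⁆ ^ 2 = 1 := by
          rw [← H5.commutator_pow_right (c.cen (c.sym.comm a ha.1 e e.2) e.2)]
          exact commutatorElement_eq_one_iff_mul_comm.2 (h1.2 a ha)
        refine commutatorElement_eq_one_iff_mul_comm.1 ?_
        rcases scal_sq (c.sym.comm a ha.1 e e.2) h4 with h5 | h5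
        · exact h5
        · exact FaithfulSMul.eq_of_smul_eq_smul (α := V) fun v => by rw [h5, hng, one_smul]⟩
      simp [h3] at hx
    obtain ⟨N, h1, h2, h3⟩ := col6 (X := X) (Nat.Coprime.mul_right h2 (hn.coprime_dvd_left
      ((card_dvd_of_surjective mk hs).trans (card_subgroup_dvd_card E))))
    exact c.base_N hw.ne h mk hs hk N h3 h1 fun g π hπ _ => h2 π hπ
  · exact absurd (eq_zero_of_eq_neg h.two (hng w).symm) hw.ne

theorem permP_five (n N : ℕ) : PermP.{u} 5 n N := permP_of_affP (affP_five n N)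

theorem modP_three (N : ℕ) : ModP.{u} 3 1 0 N :=
  modP_of_perm mulP_three fieldP_three (permP_five 1) N

theorem modP_odd (N : ℕ) : ModP.{u} 2 2 0 N := modP_of_aff mulP_odd fieldP_odd affP_two N

theorem modP_two (N : ℕ) : ModP.{u} 2 3 2 N := modP_of_aff mulP_two fieldP_two affP_three N

theorem permP_three (N : ℕ) : PermP.{u} 3 3 N := permP_of_affP (affP_three N (modP_two N))

/-- universe-free form -/
theorem ModP.base {k n e : ℕ} (h : ∀ N, ModP.{u} k n e N) {G : Type*} {V : Type u} [Group G]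
    [Finite G] [AddCommGroup V] [Finite V] [DistribMulAction G V] (hs : Group.IsSolvable G)
    (hn : (Nat.card G).Coprime n) (he : ∀ v : V, e • v = 0) (hi : Irr G V) : BaseK k G V := by
  let φ := (DistribMulAction.toModuleAut ℤ V : G →* V ≃ₗ[ℤ] V).rangeRestrict
  have hφ : Function.Surjective φ := MonoidHom.rangeRestrict_surjective _
  haveI := Finite.of_surjective φ hφ
  obtain ⟨v, hv⟩ := h _ (DistribMulAction.toModuleAut ℤ V : G →* V ≃ₗ[ℤ] V).range V
    (Group.isSolvable_of_surjective hφ) (hn.coprime_dvd_left (card_range_dvd _)) he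
    ⟨hi.1, fun U hU => hi.2 U fun g => hU (φ g)⟩ le_rfl
  exact ⟨v, fun g hg => hv (φ g) hg⟩

end H83.Base
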