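import Mathlib
import Cfsg.Agent.Lib.FGS83.BaseG

/-!
# Base sizes, part H: coprime actions, fields with at least five elements (helper83)
-/

set_option autoImplicit false

namespace H83.Base

open Subgroup MulAction
open scoped commutatorElement

universe u

variable {G : Type u} {V : Type*} [Group G] [Finite G] [AddCommGroup V] [DistribMulAction G V]
  {K : Type*} [Field K] [Finite K] [Module K V] [FaithfulSMul G V] {E : Subgroup G} {m : ℕ}

theorem size_of_col3 {X : Type*} [Finite X] [One X] [Nonempty X] {col : X → Fin 4}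
    (h2 : (∀ a, a ≠ 1 → col a ≠ 0) ∨ ∃ z, (∀ a, col a = 0 → a = z) ∧ 8 ≤ Nat.card X) :
    4 * {x | x ≠ 1 ∧ col x = 0}.ncard < Nat.card X := by
  rcases h2 with h2 | ⟨z, h2, h3⟩
  · rw [show {x | x ≠ 1 ∧ col x = 0} = ∅ from Set.eq_empty_of_forall_notMem fun x hx =>
      h2 x hx.1 hx.2]
    simp
  · have : {x | x ≠ 1 ∧ col x = 0}.ncard ≤ 1 := by
      rw [← Set.ncard_singleton z]
      exact Set.ncard_le_ncard fun a ha => h2 a ha.2
    omega

namespace Ctx

variable (c : Ctx K V E m)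
include c

theorem base_reg {w : V} (hw : IsMax E ⊤ w) {X : Type*} [CommGroup X] [Finite X] (mk : E →* X)
    (hs : Function.Surjective mk) (hk : ∀ e, mk e = 1 ↔ e.1 ∈ stQ E w)
    {C : Type*} (z : C) (c0 : V) (U : C → V) (col : X → C) (hc0 : Fx E w c0)
    (hU : ∀ a, Fx E w (U a)) (hU0 : ∀ a, a ≠ z → U a ≠ 0)
    (hN : 4 * {x | x ≠ 1 ∧ col x = z}.ncard < Nat.card X)
    (h0 : ∀ g : G, g • w = w → g • c0 = c0 →
      Lin K V g ∧ (∀ q ∈ stQ E w, g • q • w = q • w) ∧ ∀ a, g • U a = U a)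
    (hsep : ∀ q ∈ stQ E w, ∀ a b, q • U a = U b → a = b)
    (hrig : ∀ π : X →* X, Function.Injective π → (∀ x, x ≠ 1 → col (π x) = col x) →
      ∀ x, π x = x) : BaseK 2 G V := by
  obtain ⟨v, hv⟩ := c.frame hw.ne mk hs hk (fun _ : Unit => c0) (fun a _ => U a) col
    (fun _ => hc0) (fun a _ => hU a) _ hN
    (fun g hg h => ⟨(h0 g hg (h ())).1, (h0 g hg (h ())).2.1, fun a _ => (h0 g hg (h ())).2.2 a⟩)
    (fun q hq a b h => hsep q hq a b (h ())) (fun g π _ hπ _ hc => hrig π hπ hc)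
    (fun g t _ _ hQ _ h x hx hN => by
      rw [← hw.max (U (col x)) trivial (hU0 _ fun e => hN ⟨hx, e⟩) (hU _)]
      exact ⟨(hQ _ (t x).2).1, h x hx ()⟩)
  exact base_two (v := v ()) fun g a b => hv g a fun _ => b

theorem base_c1 [Nontrivial V] (h2 : (2 : K) ≠ 0) (hodd : ∀ x ∈ E, x ^ m = 1) : BaseK 2 G V := by
  obtain ⟨w, hw, h | ⟨i, j, α, β, h⟩⟩ := c.ms
  swap
  · have : i ∈ (⊥ : Subgroup G) := mem_of_pow_pow c.four_cop (by
      rw [show 4 = 2 + 2 from rfl, pow_add, h.i2.mul_ng h.i2]; exact one_mem _)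
      (by rw [hodd i h.hi.1]; exact one_mem _)
    exact absurd h.i2 (c.not_ng hw.ne h2 (mem_bot.1 this ▸ one_mem _))
  obtain ⟨X, _, _, mk, hs, hk⟩ := c.exists_X w
  obtain ⟨col, h1, h3⟩ := col2 (X := X) (by
    rcases subsingleton_or_nontrivial X with hX | hX
    · exact Or.inl hX
    obtain ⟨y, hy⟩ := exists_ne (1 : X)
    refine Or.inr ⟨y, fun e => hy (mem_bot.1 (mem_of_pow_pow (Nat.coprime_two_left.2 c.sym.odd)
      (by rw [sq, e]; exact one_mem _) ?_))⟩
    obtain ⟨y, rfl⟩ := hs y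
    rw [← map_pow, show y ^ m = 1 from Subtype.ext (hodd y y.2), map_one]
    exact one_mem _)
  obtain ⟨θ, -, hθ⟩ := exists_gen K
  have hne := hw.ne
  refine c.base_reg hw mk hs hk 0 (θ • w) ![0, w, -w] col ((Fx.self E w).smul c θ)
    (fun a => by fin_cases a; exacts [Fx.zero E w, Fx.self E w, (Fx.self E w).neg])
    (fun a ha => by fin_cases a <;> simp_all) h3 (fun g hg h0 => ?_) (fun q hq a b e => ?_) h1
  · have hl := lin_of_gen hne (c.semi g) hθ hg h0
    refine ⟨hl, fun q hq => ?_, fun a => by fin_cases a <;> simp [hg]⟩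
    obtain ⟨k, -, hk⟩ := c.stAS_act hne (h hq)
    rw [hk w (Fx.self E w), hl, hg]
  · have key : q • w ≠ -w := fun e => by
      have h4 : ∀ n : ℕ, q ^ (2 * n + 1) • w = -w := fun n => by
        induction n with
        | zero => simpa using e
        | succ n ih =>
          rw [show 2 * (n + 1) + 1 = 2 * n + 1 + 1 + 1 by ring, pow_succ, pow_succ, mul_smul,
            mul_smul, e, smul_neg, e, neg_neg, ih]
      obtain ⟨n, hn⟩ := c.sym.odd
      have := h4 n
      rw [← hn, hodd q hq.1, one_smul] at this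
      exact hne (eq_zero_of_eq_neg h2 this)
    have key' : -(q • w) ≠ w := fun e => key (neg_eq_iff_eq_neg.1 e)
    fin_cases a <;> fin_cases b <;> simp_all [smul_eq_zero_iff_eq, hne.symm]

theorem two_m_dvd (h2 : (2 : K) ≠ 0) : 2 * m ∣ Nat.card K - 1 := by
  rw [← Nat.card_units]
  refine Nat.Coprime.mul_dvd_of_dvd_of_dvd (Nat.coprime_two_left.2 c.sym.odd) ?_ ?_
  · have : orderOf (-1 : Kˣ) = 2 := orderOf_eq_prime (by simp) fun e =>
      h2 (by have := congrArg Units.val e; simp at this; linear_combination -this)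
    exact this ▸ orderOf_dvd_natCard _
  · obtain ⟨z, -, hz, ho⟩ := c.sym.root
    obtain ⟨χ, hχ⟩ := c.pre.emb
    have := orderOf_injective χ.toHomUnits (fun a b e => hχ (congrArg Units.val e)) ⟨z, hz⟩
    rw [← ho, ← orderOf_mk z hz, ← this]
    exact orderOf_dvd_natCard _

theorem minus_indep {w : V} (hw : w ≠ 0) {i j : G} {α β : ℕ} (h : Minus K E w i j α β)
    {a b : K} (e : a • w + b • i • w = 0) : a = 0 ∧ b = 0 := by
  by_cases hb : b = 0
  · simpa [hb, hw] using e
  exfalso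
  obtain ⟨l, hl⟩ : ∃ l : K, i • w = l • w := ⟨-(b⁻¹ * a), by
    have := congrArg (b⁻¹ • ·) e
    simp only [smul_add, smul_smul, inv_mul_cancel₀ hb, one_smul, smul_zero] at this
    rw [neg_smul]; exact eq_neg_of_add_eq_zero_right this⟩
  have hj : j • w = ((α : K) + β * l) • w := by rw [h.rel, hl, add_smul, mul_smul]
  have := h.ac w
  rw [hl, c.lin h.hj.1, hj, c.lin h.hi.1, hl, smul_comm] at this
  have h3 := eq_zero_of_eq_neg h.two this
  rw [← hj, ← c.lin h.hj.1, ← hl, smul_eq_zero_iff_eq, smul_eq_zero_iff_eq] at h3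
  exact hw h3

theorem minus_orbit {w : V} (hw : w ≠ 0) {i j : G} {α β : ℕ} (h : Minus K E w i j α β) {u : V}
    (hu : Fx E w u) : {v | ∃ q ∈ stQ E w, q • u = v}.ncard ≤ 8 * m := by
  classical
  have hm : 0 < 2 * m := by have := c.sym.odd.pos; omega
  have : {v | ∃ q ∈ stQ E w, q • u = v} ⊆ (((Polynomial.nthRootsFinset (2 * m) (1 : K)) ×ˢ
      ({1, i⁻¹, j⁻¹, (i * j)⁻¹} : Finset G)).image fun p => p.1 • p.2 • u : Finset V) := by
    rintro _ ⟨q, hq, rfl⟩
    obtain ⟨k, h1, r, hr, h2⟩ := c.minus_act hw h hq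
    simp only [Finset.coe_image]
    exact ⟨(k, r), by simpa [Polynomial.mem_nthRootsFinset hm, h1] using hr, (h2 u hu).symm⟩
  refine (Set.ncard_le_ncard this (Finset.finite_toSet _)).trans ?_
  rw [Set.ncard_coe_finset]
  refine Finset.card_image_le.trans ?_
  rw [Finset.card_product]
  have h1 : (Polynomial.nthRootsFinset (2 * m) (1 : K)).card ≤ 2 * m :=
    (Multiset.toFinset_card_le _).trans (Polynomial.card_nthRoots _ _)
  have h2 : ({1, i⁻¹, j⁻¹, (i * j)⁻¹} : Finset G).card ≤ 4 := Finset.card_le_four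
  calc _ ≤ 2 * m * 4 := Nat.mul_le_mul h1 h2
    _ = _ := by ring

theorem minus_new {w : V} (hw : w ≠ 0) {i j : G} {α β : ℕ} (h : Minus K E w i j α β)
    (O : Set V) (hO : O.Finite) (hc : 1 + O.ncard < Nat.card K ^ 2) :
    ∃ a b : K, a • w + b • i • w ≠ 0 ∧ a • w + b • i • w ∉ O := by
  by_contra! hn
  have h1 := Set.ncard_le_ncard_of_injOn (s := (Set.univ : Set (K × K))) (t := insert 0 O)
    (fun p => p.1 • w + p.2 • i • w) (fun p _ => by
      by_cases h0 : p.1 • w + p.2 • i • w = 0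
      · exact Or.inl h0
      · exact Or.inr (hn _ _ h0)) (fun p _ q _ e => by
      have := c.minus_indep hw h (a := p.1 - q.1) (b := p.2 - q.2) (by
        simp only at e
        rw [sub_smul, sub_smul, sub_add_sub_comm, e, sub_self])
      exact Prod.ext (sub_eq_zero.1 this.1) (sub_eq_zero.1 this.2)) (hO.insert 0)
  rw [Set.ncard_univ, Nat.card_prod] at h1
  have := Set.ncard_insert_le 0 O
  rw [sq] at hc
  omega

theorem base_c2 {p : ℕ} (hp : (Nat.card G).Coprime p) (he : ∀ v : V, p • v = 0)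
    (h5 : 5 ≤ Nat.card K) {w : V} (hw : IsMax E ⊤ w) {i j : G} {α β : ℕ}
    (h : Minus K E w i j α β) : BaseK 2 G V := by
  have hne := hw.ne
  obtain ⟨θ, -, hθ⟩ := exists_gen K
  obtain ⟨X, _, _, mk, hs, hk⟩ := c.exists_X w
  have fs := Fx.self E w
  have h0 : ∀ g : G, g • w = w → g • (i • w + θ • w) = i • w + θ • w →
      Lin K V g ∧ (∀ q ∈ stQ E w, g • q • w = q • w) ∧
        ∀ a b : K, g • (a • w + b • i • w) = a • w + b • i • w := by
    intro g hg h0
    have hi' := conj_stQ c.sym.normal hg h.hi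
    obtain ⟨k, k1, r, hr, hk⟩ := c.minus_act hne h hi'
    have hrQ : r ∈ stQ E w := by
      rcases hr with rfl | rfl | rfl | rfl
      exacts [one_mem _, inv_mem h.hi, inv_mem h.hj, inv_mem (mul_mem h.hi h.hj)]
    have e1 : (k * k) • r • r • w = -w := by
      rw [mul_smul, ← c.lin hrQ.1, ← hk w fs, ← hk _ (fs.stQ hi'), ← mul_smul, ← sq, conj_pow,
        mul_smul, mul_smul, h.i2, smul_neg, smul_inv_smul]
    have e2 : ∀ x : G, Ng V (x ^ 2) → x⁻¹ • x⁻¹ • w = -w := fun x hx => by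
      rw [inv_of_ng hx, inv_of_ng hx, smul_neg, neg_neg, ← mul_smul, ← sq, hx]
    have e3 : k * k = 1 := by
      have e4 : r • r • w = -w → k * k = 1 := fun e => smul_left_injective K hne (by
        rw [e, smul_neg, neg_inj] at e1
        simpa using e1)
      rcases hr with rfl | rfl | rfl | rfl
      · exfalso
        have : k * k = -1 := smul_left_injective K hne (by simpa using e1)
        rw [pow_mul, sq, this, c.sym.odd.neg_one_pow] at k1
        exact h.two (by linear_combination -k1)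
      exacts [e4 (e2 _ h.i2), e4 (e2 _ h.j2), e4 (e2 _ (h.ac.sq_ng' h.i2 h.j2))]
    obtain ⟨a, b, hab⟩ : ∃ (a : ℤ) (b : K), g • i • w = (a : K) • w + b • i • w := by
      obtain ⟨a, b, hab⟩ := c.minus_int h hr
      have := hk w fs
      rw [mul_smul, mul_smul, inv_fix hg, hab] at this
      rcases mul_self_eq_one_iff.1 e3 with rfl | rfl
      · exact ⟨a, b, by rw [this, one_smul]⟩
      · exact ⟨-a, -b, by rw [this]; push_cast; simp [add_comm]⟩
    obtain ⟨θ', hθ'⟩ := c.semi g θ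
    rw [smul_add, hab, hθ', hg] at h0
    obtain ⟨e4, e5⟩ := c.minus_indep hne h (a := a + θ' - θ) (b := b - 1) (by
      generalize i • w = y at h0 ⊢
      linear_combination (norm := module) h0)
    have e6 : ∀ n : ℕ, g ^ n • θ • w = θ • w - n • a • w := fun n => by
      induction n with
      | zero => simp
      | succ n ih =>
        rw [pow_succ', mul_smul, ih, smul_sub, smul_comm g n, smul_comm g a, hθ', hg,
          show θ' = θ - a by linear_combination e4, sub_smul, Int.cast_smul_eq_zsmul, succ_nsmul]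
        abel
    have e7 : g • θ • w = θ • w := fix_of_pow hp (by rw [e6, he, sub_zero])
    have hl := lin_of_gen hne (c.semi g) hθ hg e7
    have e8 : g • i • w = i • w := by
      rw [← hab, ← hg, ← hθ', e7, hg] at h0
      exact add_right_cancel h0
    have e9 : ∀ a b : K, g • (a • w + b • i • w) = a • w + b • i • w := fun a b => by
      rw [smul_add, hl, hl, hg, e8]
    refine ⟨hl, fun q hq => ?_, e9⟩
    obtain ⟨k, -, r, hr, hk⟩ := c.minus_act hne h hq
    obtain ⟨a, b, hab⟩ := c.minus_int h hr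
    rw [hk w fs, hab, hl, e9]
  have fx : ∀ a b : K, Fx E w (a • w + b • i • w) := fun a b =>
    (fs.smul c a).add ((fs.stQ h.hi).smul c b)
  have fin : ∀ u : V, {v | ∃ q ∈ stQ E w, q • u = v}.Finite := fun u =>
    (Set.toFinite _).subset (s := (fun q : G => q • u) '' Set.univ)
      (by rintro _ ⟨q, -, rfl⟩; exact ⟨q, trivial, rfl⟩)
  have hm := Nat.le_of_dvd (by omega) (c.two_m_dvd h.two)
  have o1 := c.minus_orbit hne h fs
  obtain ⟨a, b, n2, s2⟩ := c.minus_new hne h _ (fin w) (by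
    obtain ⟨q, hq⟩ : ∃ q, Nat.card K = q + 1 := ⟨Nat.card K - 1, by omega⟩
    rw [hq] at hm h5 ⊢
    simp only [Nat.add_sub_cancel] at hm
    nlinarith)
  have sy : ∀ {u v : V}, (¬ ∃ q ∈ stQ E w, q • u = v) → ∀ q ∈ stQ E w, q • u ≠ v ∧ q • v ≠ u :=
    fun hn q hq => ⟨fun e => hn ⟨q, hq, e⟩, fun e => hn ⟨q⁻¹, inv_mem hq, by
      rw [← e, inv_smul_smul]⟩⟩
  have w1 : w = (1 : K) • w + (0 : K) • i • w := by simp
  rcases c.sym.c1 with m1 | ⟨x, hx, xm, xS⟩
  · obtain ⟨a', b', n3, s3⟩ := c.minus_new hne h _ ((fin w).union (fin (a • w + b • i • w))) (by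
      have o2 := c.minus_orbit hne h (fx a b)
      have := Set.ncard_union_le {v | ∃ q ∈ stQ E w, q • w = v}
        {v | ∃ q ∈ stQ E w, q • (a • w + b • i • w) = v}
      nlinarith)
    obtain ⟨col, h1, h2, -⟩ := col3 (X := X)
    refine c.base_reg hw mk hs hk 0 (i • w + θ • w) ![0, w, a • w + b • i • w, a' • w + b' • i • w]
      col ((fs.stQ h.hi).add (fs.smul c θ))
      (fun a => by fin_cases a; exacts [Fx.zero E w, fs, fx _ _, fx _ _])
      (fun a ha => by fin_cases a; exacts [absurd rfl ha, hne, n2, n3]) (size_of_col3 h2)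
      (fun g hg e => ?_) (fun q hq x y e => ?_) h1
    · obtain ⟨e1, e2, e3⟩ := h0 g hg e
      exact ⟨e1, e2, fun a => by fin_cases a; exacts [smul_zero g, hg, e3 _ _, e3 _ _]⟩
    · have t1 := sy s2 q hq
      have t2 := sy (fun h => s3 (Or.inl h)) q hq
      have t3 := sy (fun h => s3 (Or.inr h)) q hq
      generalize a • w + b • i • w = u2 at *
      generalize a' • w + b' • i • w = u3 at *
      have := n2.symm
      have := n3.symm
      clear * - t1 t2 t3 e n2 n3 hne this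
      fin_cases x <;> fin_cases y <;> simp_all [smul_eq_zero_iff_eq, hne.symm, n2.symm]
  · obtain ⟨col, h1, h3⟩ := col2 (X := X) (Or.inr (by
      have hcop := Nat.coprime_two_left.2 c.sym.odd
      by_contra! hc
      have hQ : ∀ e ∈ E, e ^ 2 ∈ stQ E w := fun e he => (hk (⟨e, he⟩ ^ 2)).1 (by
        rw [map_pow, sq, hc])
      have h1 : x ∈ stQ E w := mem_of_pow_pow hcop (hQ x hx) (xm ▸ one_mem _)
      obtain ⟨a, ha, s, hs, rfl⟩ := c.mem_stAS.1 (c.oddq hw h1 xm)
      have h2 : a ^ 2 ∈ ScalS G K V := c.sym.cent _ (c.sym.le (pow_mem ha.1 2)) fun e he => by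
        rw [← commutatorElement_eq_one_iff_commute,
          H5.commutator_pow_left (c.cen (c.sym.comm a ha.1 e he) ha.1),
          ← H5.commutator_pow_right (c.cen (c.sym.comm a ha.1 e he) he)]
        exact commutatorElement_eq_one_iff_mul_comm.2 ((hQ e he).2 a ha)
      refine xS (mem_of_pow_pow hcop ?_ (xm ▸ one_mem _))
      rw [(c.cen hs.2 ha.1).mul_pow]
      exact mul_mem h2 (pow_mem hs.2 2)))
    refine c.base_reg hw mk hs hk 0 (i • w + θ • w) ![0, w, a • w + b • i • w]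
      col ((fs.stQ h.hi).add (fs.smul c θ))
      (fun a => by fin_cases a; exacts [Fx.zero E w, fs, fx _ _])
      (fun a ha => by fin_cases a; exacts [absurd rfl ha, hne, n2]) h3
      (fun g hg e => ?_) (fun q hq x y e => ?_) h1
    · obtain ⟨e1, e2, e3⟩ := h0 g hg e
      exact ⟨e1, e2, fun a => by fin_cases a; exacts [smul_zero g, hg, e3 _ _]⟩
    · have t1 := sy s2 q hq
      generalize a • w + b • i • w = u2 at *
      clear * - t1 e n2 hne
      fin_cases x <;> fin_cases y <;> simp_all [smul_eq_zero_iff_eq, hne.symm, n2.symm]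

theorem exists_d {w : V} (hw : w ≠ 0) (hQ : stQ E w ≤ stAS K E w) {x : G} (hx : x ∈ E)
    (x4 : x ^ 4 = 1) (xS : x ∉ ScalS G K V) :
    ∃ d1 ∈ stA E w, ∃ d2 ∈ E, d1 ^ 2 = 1 ∧ d2 ^ 2 = 1 ∧ Ac V d1 d2 := by
  have x2 : x ^ 2 ∈ ScalS G K V := mem_of_pow_pow (Nat.coprime_two_left.2 c.sym.odd)
    (by rw [← pow_mul, x4]; exact one_mem _) (by rw [← pow_mul]; exact (c.sym.pow x hx).1)
  have key : ∀ d1 ∈ stA E w, ∀ y ∈ E, d1 ^ 2 ∈ ScalS G K V → (y ^ 2 = 1 ∨ Ng V (y ^ 2)) →
      Ac V d1 y → ∃ d1 ∈ stA E w, ∃ d2 ∈ E, d1 ^ 2 = 1 ∧ d2 ^ 2 = 1 ∧ Ac V d1 d2 := by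
    intro d1 h1 y hy d2 y2 ac
    have d2' := scal_eq_one d2 hw (pow_mem h1 2).2
    rcases y2 with y2 | y2
    · exact ⟨d1, h1, y, hy, d2', y2, ac⟩
    · exact ⟨d1, h1, y * d1, mul_mem hy h1.1, d2', ac.symm.sq_of_one y2 d2',
        ac.mul_right (Commute.refl d1)⟩
  by_cases hxQ : x ∈ stQ E w
  · obtain ⟨a, ha, s, hs, rfl⟩ := c.mem_stAS.1 (hQ hxQ)
    have a2 : a ^ 2 ∈ ScalS G K V := by
      rw [(c.cen hs.2 ha.1).mul_pow] at x2
      exact (mul_mem_cancel_right ((ScalS G K V).pow_mem hs.2 2)).1 x2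
    obtain ⟨e, he, hne⟩ := c.exists_not_commute ha.1 fun h => xS (mul_mem h hs.2)
    exact key a ha (e ^ m) (pow_mem he m) a2 (c.sq_pow he)
      (((c.dich he ha.1 a2).resolve_left fun h => hne h.symm).1.symm.pow_right c.sym.odd)
  · obtain ⟨a, ha, hne⟩ : ∃ a ∈ stA E w, ¬ Commute a x := by
      by_contra! hc
      exact hxQ ⟨hx, hc⟩
    exact key (a ^ m) (pow_mem ha m) x hx (by rw [← pow_mul, mul_comm]; exact (c.sym.pow a ha.1).1)
      (scal_sq x2 (by rw [← pow_mul, x4]))
      (((c.dich ha.1 hx x2).resolve_left hne).1.symm.pow_right c.sym.odd).symm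

theorem dl_sub {X : Type*} [CommGroup X] {w : V} (mk : E →* X)
    (hk : ∀ e, mk e = 1 ↔ e.1 ∈ stQ E w) {g d : G} (hd : d ∈ stQ E w)
    (hQ : ∀ q ∈ stQ E w, dl g q ∈ stA E w) {t : X → E} (ht : ∀ x, mk (t x) = x) {P : X → Prop}
    (hP : ∀ D : Subgroup X, (∀ a, P a → a ∈ D) → D = ⊤)
    (h : ∀ a, P a → Commute d (dl g (t a))) (e : E) : Commute d (dl g e) := by
  have hE := c.sym.normal
  have hdl : ∀ e : E, dl g e ∈ E := fun e => mul_mem (inv_mem e.2) (hE.conj_mem _ e.2 g)
  have cj : ∀ x ∈ E, ∀ y ∈ E, Commute d x → Commute d (y * x * y⁻¹) := fun x hx y hy h => by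
    rw [H5.conj_eq_commutator_mul]
    exact (c.cen (c.sym.comm y hy x hx) hd.1).mul_right h
  let D : Subgroup E :=
    { carrier := {e | Commute d (dl g e)}
      mul_mem' := fun {a b} ha hb => by
        change Commute d (dl g (a.1 * b.1))
        rw [dl_mul]
        exact Commute.mul_right (by simpa using cj _ (hdl a) _ (inv_mem b.2) ha) hb
      one_mem' := by change Commute d (dl g 1); simp [dl]
      inv_mem' := fun {a} ha => by
        change Commute d (dl g a.1⁻¹)
        rw [show dl g a.1⁻¹ = a * (dl g a)⁻¹ * a.1⁻¹ by simp only [dl]; group]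
        exact cj _ (inv_mem (hdl a)) _ a.2 (Commute.inv_right ha) }
  obtain ⟨e', he', h1⟩ : mk e ∈ D.map mk := hP (D.map mk) (fun a ha => mem_map.2 ⟨t a, h a ha, ht a⟩) ▸ mem_top _
  have h2 : e'⁻¹ * e ∈ D := ((hd.2 _ (hQ _ ((hk (e'⁻¹ * e)).1 (by simp [h1])))) :
    Commute _ d).symm
  exact (mul_mem_cancel_left (inv_mem he')).1 h2

theorem base_c3 (two : (2 : K) ≠ 0) {w : V} (hw : w ≠ 0) (hQ : stQ E w ≤ stAS K E w)
    {d1 d2 : G} (h1 : d1 ∈ stA E w) (h2 : d2 ∈ E) (s1 : d1 ^ 2 = 1) (s2 : d2 ^ 2 = 1)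
    (ac : Ac V d1 d2) {κ : K} (κ0 : κ ≠ 0) (κ2 : κ ^ 2 ≠ 1)
    (κ4 : κ ^ 4 ≠ 1 ∨ ∀ g : G, Lin K V g) : BaseK 2 G V := by
  have hE := c.sym.normal
  have e1 : d1 • w = w := h1.2
  have e2 : d1 • d2 • w = -(d2 • w) := by rw [ac, e1]
  have e3 : ∀ v : V, d2 • d2 • v = v := fun v => by rw [← mul_smul, ← sq, s2, one_smul]
  have S1 : d1 ^ 2 ∈ ScalS G K V := s1 ▸ one_mem _
  have S2 : d2 ^ 2 ∈ ScalS G K V := s2 ▸ one_mem _
  have n2 : d2 • w ≠ 0 := by rwa [Ne, smul_eq_zero_iff_eq]
  have ind : ∀ a b : K, a • w + b • d2 • w = 0 → a = 0 ∧ b = 0 := fun a b e => by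
    have := congrArg (d1 • ·) e
    simp only [smul_add, c.lin h1.1, e1, e2, smul_zero] at this
    have h3 : (2 * a) • w = 0 := by
      generalize d2 • w = y at e this
      linear_combination (norm := module) e + this
    have h4 : a = 0 := by simpa [hw, two] using h3
    simpa [h4, n2] using e
  set w' := w + κ • d2 • w with hw'
  have hw'0 : w' ≠ 0 := fun e => one_ne_zero (ind 1 κ (by rwa [one_smul])).1
  have f1 : ∀ a ∈ stA E w, Commute a d2 → a ∈ stA E w' := fun a ha h => ⟨ha.1, by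
    change a • w' = w'
    rw [hw', smul_add, c.lin ha.1, ← mul_smul a, h.eq, mul_smul, show a • w = w from ha.2]⟩
  have f2 : ∀ e ∈ stA E w', e ∈ stA E w ∧ Commute e d2 := by
    intro e he
    have h3 : e • w + κ • e • d2 • w = w + κ • d2 • w := by
      rw [← c.lin he.1, ← smul_add]; exact he.2
    have h4 : d1 • w' = w - κ • d2 • w := by
      rw [hw', smul_add, c.lin h1.1, e1, e2, smul_neg, sub_eq_add_neg]
    rcases c.dich he.1 h1.1 S1 with h | ⟨h, -⟩
    · have h5 : e • w - κ • e • d2 • w = w - κ • d2 • w := by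
        rw [← c.lin he.1, ← smul_sub, ← h4, ← mul_smul, h.eq, mul_smul, show e • w' = w' from he.2]
      have h6 : e • w = w := smul_right_injective V two (by
        dsimp only
        generalize e • d2 • w = y at h3 h5 ⊢
        generalize e • w = x, d2 • w = z at h3 h5 ⊢
        linear_combination (norm := module) h3 + h5)
      refine ⟨⟨he.1, h6⟩, (c.dich he.1 h2 S2).resolve_right fun h7 => n2 ?_⟩
      rw [h6, add_right_inj, h7.1, h6] at h3
      exact eq_zero_of_eq_neg two (smul_right_injective V κ0 h3).symm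
    · exfalso
      have h5 : e • w - κ • e • d2 • w = -(w - κ • d2 • w) := by
        rw [← c.lin he.1, ← smul_sub, ← h4, h, show e • w' = w' from he.2]
      have h6 : e • w = κ • d2 • w := smul_right_injective V two (by
        dsimp only
        generalize e • d2 • w = y at h3 h5 ⊢
        generalize e • w = x, d2 • w = z at h3 h5 ⊢
        linear_combination (norm := module) h3 + h5)
      have h7 : κ • e • d2 • w = w := by rw [h6, add_comm w, add_right_inj] at h3; exact h3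
      have h8 : (d2 * e) • w = κ • w := by rw [mul_smul, h6, c.lin h2, e3]
      have hf : d2 * e ∈ E := mul_mem h2 he.1
      have h9 : d2 * e ∈ stQ E w := ⟨hf, fun a ha => commutatorElement_eq_one_iff_mul_comm.1
        (scal_eq_one (c.sym.comm a ha.1 _ hf) hw (smul_right_injective V κ0 (by
          have := H5.mul_eq_commutator_mul a (d2 * e)
          have h10 := congrArg (· • w) this
          simp only [mul_smul _ a, mul_smul a, mul_smul ⁅a, d2 * e⁆, show a • w = w from ha.2, h8,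
            c.lin ha.1] at h10
          simp only [← c.pre.le (c.sym.comm a ha.1 _ hf) κ w, ← h10])))⟩
      obtain ⟨k, k1, hk⟩ := c.stAS_act hw (hQ h9)
      obtain rfl : k = κ := smul_left_injective K hw (by simp only [← hk w (Fx.self E w), h8])
      have h10 : e • d2 • w = d2 • (d2 * e) • d2 • w := by rw [mul_smul, e3]
      have h11 : (k ^ 2) ^ 2 = 1 := by
        rcases c.dich hf h2 S2 with h | ⟨h, -⟩
        · rw [← mul_smul (d2 * e) d2, h.eq, mul_smul d2 (d2 * e), e3, h8] at h10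
          rw [h10, smul_smul] at h7
          have : k * k = 1 := smul_left_injective K hw (by simpa using h7)
          rw [sq k, this, one_pow]
        · rw [h, smul_neg, e3, h8] at h10
          rw [h10, smul_neg, smul_smul, ← neg_smul] at h7
          have : -(k * k) = 1 := smul_left_injective K hw (by simpa using h7)
          rw [sq k, ← neg_sq, this, one_pow]
      rw [pow_mul] at k1
      exact κ2 (by
        rw [← pow_one (k ^ 2), ← Nat.coprime_two_left.2 c.sym.odd, pow_gcd_eq_one]; exact ⟨h11, k1⟩)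
  have fw : Fx E w' w := fun a ha => (f2 a ha).1.2
  have q1 : d1 ∈ stQ E w' := ⟨h1.1, fun a ha => (c.stA_le hw h1).2 a (f2 a ha).1⟩
  have q2 : d2 ∈ stQ E w' := ⟨h2, fun a ha => (f2 a ha).2⟩
  have f3 : ∀ a ∈ stA E w, a ∈ stA E w' ∨ a * d1 ∈ stA E w' := fun a ha =>
    (c.dich ha.1 h2 S2).imp (f1 a ha) fun h => f1 _ (mul_mem ha h1) (h.1.symm.mul_mul ac.symm).symm
  have f4 : ∀ q ∈ stQ E w', Commute q d1 → q ∈ stQ E w := fun q hq h => ⟨hq.1, fun a ha => by
    rcases f3 a ha with h3 | h3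
    · exact hq.2 a h3
    · have := (show Commute (a * d1) q from hq.2 _ h3).mul_left h.symm
      rwa [mul_assoc, ← sq, s1, mul_one] at this⟩
  have act0 : ∀ q ∈ stQ E w, ∃ k : K, k ^ (2 * m) = 1 ∧ ∃ r : G, (r = 1 ∨ r = d1) ∧
      ∀ u, Fx E w' u → q • u = k • r • u := fun q hq => by
    obtain ⟨a, ha, s, ⟨hs, k, hk⟩, rfl⟩ := c.mem_stAS.1 (hQ hq)
    refine ⟨k, c.scal_pow hs hk hw, ?_⟩
    rcases f3 a ha with h3 | h3
    · exact ⟨1, Or.inl rfl, fun u hu => by rw [mul_smul, hk, c.lin ha.1, hu a h3, one_smul]⟩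
    · refine ⟨d1, Or.inr rfl, fun u hu => ?_⟩
      rw [mul_smul, hk, c.lin ha.1, ← (hu.stQ q1) _ h3, ← mul_smul, mul_assoc, ← sq, s1, mul_one]
  have act : ∀ q ∈ stQ E w', ∃ k : K, k ^ (2 * m) = 1 ∧ ∃ r : G,
      (r = 1 ∨ r = d1 ∨ r = d2 ∨ r = d1 * d2) ∧ ∀ u, Fx E w' u → q • u = k • r • u := by
    intro q hq
    rcases c.dich hq.1 h1.1 S1 with h | ⟨h, -⟩
    · obtain ⟨k, k1, r, hr, hk⟩ := act0 q (f4 q hq h)
      exact ⟨k, k1, r, by tauto, hk⟩
    · obtain ⟨k, k1, r, hr, hk⟩ := act0 _ (f4 _ (mul_mem hq q2) (h.symm.mul_mul ac).symm)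
      refine ⟨k, k1, r * d2, by rcases hr with rfl | rfl <;> simp, fun u hu => ?_⟩
      rw [mul_smul, ← hk _ (hu.stQ q2), mul_smul, e3]
  have hn : (d1 * d2) • w' = κ • w - d2 • w := by
    rw [hw', mul_smul, smul_add, c.lin h2, e3, smul_add, c.lin h1.1, e1, e2, add_comm,
      sub_eq_add_neg]
  have fs := Fx.self E w'
  obtain ⟨c0, hc0, h0⟩ : ∃ c0, Fx E w' c0 ∧ ∀ g : G, g • w' = w' → g • c0 = c0 →
      Lin K V g ∧ g • w = w := by
    rcases κ4 with κ4 | hl
    swap
    · exact ⟨w, fw, fun g _ h => ⟨hl g, h⟩⟩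
    obtain ⟨θ, -, hθ⟩ := exists_gen K
    refine ⟨(d1 * d2) • w' + θ • w', (fs.stQ (mul_mem q1 q2)).add (fs.smul c θ), fun g hg h0 => ?_⟩
    have ng := ac.sq_ng s1 s2
    have hi' := conj_stQ hE hg (mul_mem q1 q2)
    obtain ⟨k, k1, r, hr, hk⟩ := act _ hi'
    have hrQ : r ∈ stQ E w' := by
      rcases hr with rfl | rfl | rfl | rfl
      exacts [one_mem _, q1, q2, mul_mem q1 q2]
    have e4 : (k * k) • r ^ 2 • w' = -w' := by
      rw [sq, mul_smul r, mul_smul, ← c.lin hrQ.1, ← hk w' fs, ← hk _ (fs.stQ hi'), ← mul_smul,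
        ← sq, conj_pow, mul_smul, mul_smul, ng, smul_neg, smul_inv_smul]
    have e5 : r ^ 2 ≠ 1 := fun e => by
      have : k * k = -1 := smul_left_injective K hw'0 (by simpa [e] using e4)
      rw [pow_mul, sq, this, c.sym.odd.neg_one_pow] at k1
      exact two (by linear_combination -k1)
    obtain rfl : r = d1 * d2 := by
      rcases hr with rfl | rfl | rfl | rfl
      exacts [absurd (one_pow 2) e5, absurd s1 e5, absurd s2 e5, rfl]
    rw [ng, smul_neg, neg_inj] at e4
    have e6 : k * k = 1 := smul_left_injective K hw'0 (by simpa using e4)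
    have e7 := hk w' fs
    rw [mul_smul _ g⁻¹, mul_smul g, inv_fix hg] at e7
    obtain ⟨θ', hθ'⟩ := c.semi g θ
    rw [smul_add, e7, hθ', hg] at h0
    have κ5 : 1 + κ ^ 2 ≠ 0 := fun e => κ4 (by linear_combination (κ ^ 2 - 1) * e)
    rcases mul_self_eq_one_iff.1 e6 with rfl | rfl
    · rw [one_smul, add_right_inj] at h0
      rw [one_smul] at e7
      have hl := lin_of_gen hw'0 (c.semi g) hθ hg (by rw [hθ', hg, h0])
      refine ⟨hl, smul_right_injective V κ5 ?_⟩
      have : (1 + κ ^ 2) • w = w' + κ • (d1 * d2) • w' := by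
        rw [hn, hw']; generalize d2 • w = y; module
      simp only
      rw [← hl, this, smul_add, hl, hg, e7]
    · exfalso
      rw [hn, hw'] at h0
      obtain ⟨e8, e9⟩ := ind (θ' - θ - 2 * κ) ((θ' - θ) * κ + 2) (by
        generalize d2 • w = y at h0 ⊢
        linear_combination (norm := module) h0)
      exact κ5 (mul_left_cancel₀ two (by linear_combination e9 - κ * e8))
  obtain ⟨X, _, _, mk, hs, hk⟩ := c.exists_X w'
  obtain ⟨col, c1, c2, c3, c4⟩ := col3 (X := X)
  have fu : ∀ a : Fin 4, Fx E w' (![0, w', w, w + d2 • w] a) := fun a => by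
    fin_cases a; exacts [Fx.zero E w', fs, fw, fw.add (fw.stQ q2)]
  have nu : ∀ a : Fin 4, a ≠ 0 → ![0, w', w, w + d2 • w] a ≠ 0 := fun a ha => by
    fin_cases a
    exacts [absurd rfl ha, hw'0, hw, fun e => one_ne_zero (ind 1 1 (by simpa using e)).1]
  obtain ⟨v, hv⟩ := c.frame hw'0 mk hs hk (fun _ : Unit => c0)
    (fun a _ => ![0, w', w, w + d2 • w] a) col (fun _ => hc0) (fun a _ => fu a) _ (size_of_col3 c2)
    (fun g hg h => by
      obtain ⟨hl, g1⟩ := h0 g hg (h ())
      have g2 : g • d2 • w = d2 • w := by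
        rw [hw', smul_add, hl, g1, add_right_inj] at hg
        exact smul_right_injective V κ0 hg
      refine ⟨hl, fun q hq => ?_, fun a _ => by fin_cases a <;> simp [hg, g1, g2]⟩
      obtain ⟨k, -, r, hr, hk⟩ := act q hq
      rw [hk w' fs, hl]; congr 1
      rcases hr with rfl | rfl | rfl | rfl
      · rwa [one_smul]
      · rw [hw']; simp only [smul_add, c.lin h1.1, e1, e2, hl _, smul_neg, g1, g2]
      · rw [hw']; simp only [smul_add, c.lin h2, e3, hl _, g1, g2]
      · rw [hn, smul_sub, hl, g1, g2])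
    (fun q hq a b h => by
      have h := h ()
      have key : ∀ d ∈ E, d ^ 2 ∈ ScalS G K V → ∀ q ∈ E, ∀ u : V, (d • u = u ∨ d • u = -u) →
          (d • q • u = q • u ∨ d • q • u = -(q • u)) := fun d hd d2 q hq u hu => by
        rcases c.dich hq hd d2 with h | ⟨h, -⟩
        · rw [← mul_smul, ← h.eq, mul_smul]
          rcases hu with e | e <;> simp [e]
        · rw [h.symm]
          rcases hu with e | e <;> simp [e]
      have key2 : ∀ d ∈ E, d ^ 2 ∈ ScalS G K V → ∀ u : V,
          ((d • q • u = q • u ∨ d • q • u = -(q • u)) ↔ (d • u = u ∨ d • u = -u)) :=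
        fun d hd d2 u => ⟨fun h => by simpa using key d hd d2 q⁻¹ (inv_mem hq.1) _ h,
          key d hd d2 q hq.1 u⟩
      have k1 := key2 d1 h1.1 S1 (![0, w', w, w + d2 • w] a)
      have k2 := key2 d2 h2 S2 (![0, w', w, w + d2 • w] a)
      have k3 : q • ![0, w', w, w + d2 • w] a = 0 ↔ ![0, w', w, w + d2 • w] a = 0 :=
        smul_eq_zero_iff_eq q
      rw [h] at k1 k2 k3
      have cmp : ∀ a b a' b' : K, a • w + b • d2 • w = a' • w + b' • d2 • w → a = a' ∧ b = b' :=
        fun a b a' b' e => by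
          have := ind (a - a') (b - b') (by rw [sub_smul, sub_smul, sub_add_sub_comm, e, sub_self])
          exact ⟨sub_eq_zero.1 this.1, sub_eq_zero.1 this.2⟩
      have t1 : ∀ a b : K, a ≠ 0 → b ≠ 0 → ¬ (d1 • (a • w + b • d2 • w) = a • w + b • d2 • w ∨
          d1 • (a • w + b • d2 • w) = -(a • w + b • d2 • w)) := fun a b ha hb => by
        rw [smul_add, c.lin h1.1, c.lin h1.1, e1, e2, smul_neg, ← neg_smul, neg_add, ← neg_smul,
          ← neg_smul]
        rintro (e | e)
        · exact hb (by linear_combination (norm := skip) (-(2 : K)⁻¹) * (cmp _ _ _ _ e).2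
                       field_simp; ring)
        · exact ha (by linear_combination (norm := skip) ((2 : K)⁻¹) * (cmp _ _ _ _ e).1
                       field_simp; ring)
      have t2 : ∀ a b : K, a ^ 2 ≠ b ^ 2 → ¬ (d2 • (a • w + b • d2 • w) = a • w + b • d2 • w ∨
          d2 • (a • w + b • d2 • w) = -(a • w + b • d2 • w)) := fun a b hab => by
        rw [smul_add, c.lin h2, c.lin h2, e3, add_comm, neg_add, ← neg_smul, ← neg_smul]
        rintro (e | e)
        · exact hab (by rw [(cmp _ _ _ _ e).1])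
        · exact hab (by rw [(cmp _ _ _ _ e).1, neg_sq])
      have p1 := t1 1 κ one_ne_zero κ0
      have p2 := t2 1 κ (by simpa using κ2.symm)
      have p3 := t2 1 0 (by simp)
      have p4 := t1 1 1 one_ne_zero one_ne_zero
      simp only [one_smul, zero_smul, add_zero, ← hw'] at p1 p2 p3 p4
      have p5 : d2 • (w + d2 • w) = w + d2 • w := by rw [smul_add, e3, add_comm]
      have p6 := nu 3 (by decide)
      simp only [Matrix.cons_val] at p6
      generalize w + d2 • w = y at *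
      clear_value w'
      clear * - k1 k2 k3 p1 p2 p3 p4 p5 p6 e1 hw hw'0
      fin_cases a <;> fin_cases b <;> simp_all)
    (fun g π _ hπ _ hc => c1 π hπ hc)
    (fun g t hg ht hQ' hA hU x hx hN => by
      have r1 : ∀ a, a ≠ 1 → col a = 1 → dl g (t a) ∈ stA E w' := fun a ha e =>
        ⟨(hQ' _ (t a).2).1, by simpa [e] using hU a ha ()⟩
      have D1 := c.dl_sub mk hk q1 hA ht (P := fun a => a ≠ 1 ∧ (col a = 1 ∨ col a = 2))
        (fun D hD => c3 D fun a h1 h2 => hD a ⟨h1, h2⟩) (by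
          rintro a ⟨ha, e | e⟩
          · exact (q1.2 _ (r1 a ha e) : Commute _ _).symm
          · exact ((c.stA_le hw h1).2 _ ⟨(hQ' _ (t a).2).1, by simpa [e] using hU a ha ()⟩ :
              Commute _ _).symm) (t x)
      have D2 := c.dl_sub mk hk q2 hA ht (P := fun a => a ≠ 1 ∧ (col a = 1 ∨ col a = 3))
        (fun D hD => c4 D fun a h1 h2 => hD a ⟨h1, h2⟩) (by
          rintro a ⟨ha, e | e⟩
          · exact (q2.2 _ (r1 a ha e) : Commute _ _).symm
          · refine ((c.dich (hQ' _ (t a).2).1 h2 S2).resolve_right fun h => ?_).symm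
            have h3 : dl g (t a) • (w + d2 • w) = w + d2 • w := by simpa [e] using hU a ha ()
            have h4 := h.1 (w + d2 • w)
            have p5 : d2 • (w + d2 • w) = w + d2 • w := by rw [smul_add, e3, add_comm]
            rw [p5, h3, p5] at h4
            exact nu 3 (by decide) (eq_zero_of_eq_neg two h4)) (t x)
      obtain ⟨a, ha, s, hs, e⟩ := c.mem_stAS.1 (hQ (f4 _ (hQ' _ (t x).2) D1.symm))
      have h3 : a ∈ stA E w' := f1 a ha (by
        have := D2.symm.mul_left (c.cen hs.2 h2).symm.inv_left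
        rwa [← e, mul_inv_cancel_right] at this)
      have h4 := hU x hx ()
      rw [← e, (c.cen hs.2 ha.1).eq, mul_smul, fu _ a h3] at h4
      rw [← e, scal_eq_one hs.2 (nu _ fun e => hN ⟨hx, e⟩) h4, mul_one]
      exact h3)
  exact base_two (v := v ()) fun g a b => hv g a fun _ => b

end Ctx

end H83.Base
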