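import Mathlib
import Cfsg.Agent.Lib.FGS83.BaseH

/-!
# Base sizes, part I: coprime actions over the field with three elements (helper83)
-/

set_option autoImplicit false

namespace H83.Base

open Subgroup MulAction
open scoped commutatorElement

universe u

variable {G : Type u} {V : Type*} [Group G] [AddCommGroup V] [DistribMulAction G V]

/-- `x, y` generate the quaternion group `H` -/
structure Gen (V : Type*) [AddCommGroup V] [DistribMulAction G V] (H : Subgroup G) (x y : G) :
    Prop where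
  eq : H = closure {x, y}
  x2 : Ng V (x ^ 2)
  y2 : Ng V (y ^ 2)
  ac : Ac V x y

namespace Gen

variable {H : Subgroup G} {x y : G} (h : Gen V H x y)
include h

theorem mx : x ∈ H := h.eq ▸ subset_closure (by simp)
theorem my : y ∈ H := h.eq ▸ subset_closure (by simp)

theorem le {D : Subgroup G} (hx : x ∈ D) (hy : y ∈ D) : H ≤ D := by
  rw [h.eq, closure_le]
  rintro _ (rfl | rfl) <;> assumption

theorem comm {c : G} (hx : Commute c x) (hy : Commute c y) {z : G} (hz : z ∈ H) : Commute c z :=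
  (mem_centralizer_singleton_iff.1 (h.le (D := centralizer {c})
    (mem_centralizer_singleton_iff.2 hx.symm.eq) (mem_centralizer_singleton_iff.2 hy.symm.eq) hz) :
    Commute z c).symm

theorem xx (v : V) : x • x • v = -v := by rw [← mul_smul, ← sq, h.x2]
theorem yy (v : V) : y • y • v = -v := by rw [← mul_smul, ← sq, h.y2]

theorem of_mem {a b : G} (ha : a ∈ H) (hb : b ∈ H) (hx : x ∈ closure {a, b})
    (hy : y ∈ closure {a, b}) : H = closure {a, b} :=
  le_antisymm (h.le hx hy) ((closure_le _).2 (by rintro _ (rfl | rfl) <;> assumption))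

omit h in
theorem ng_inv {x : G} (h : Ng V (x ^ 2)) : Ng V (x⁻¹ ^ 2) := fun v => by
  rw [inv_pow, inv_smul_eq_iff, h, neg_neg]

theorem swap : Gen V H y x := ⟨by rw [h.eq, Set.pair_comm], h.y2, h.x2, h.ac.symm⟩

theorem inv_left : Gen V H x⁻¹ y :=
  ⟨h.of_mem (inv_mem h.mx) h.my (inv_mem_iff.1 (subset_closure (by simp)))
    (subset_closure (by simp)), ng_inv h.x2, h.y2, fun v => by
      rw [Ctx.inv_of_ng h.x2, Ctx.inv_of_ng h.x2, h.ac, smul_neg]⟩

theorem inv : Gen V H x⁻¹ y⁻¹ := h.inv_left.swap.inv_left.swap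

theorem mul : Gen V H (x * y) x :=
  ⟨h.of_mem (mul_mem h.mx h.my) h.mx (subset_closure (by simp))
    ((mul_mem_cancel_left (subset_closure (by simp) : x ∈ closure {x * y, x})).1
      (subset_closure (by simp))), h.ac.sq_ng' h.x2 h.y2, h.x2,
    (Ac.mul_right' (Commute.refl x) h.ac).symm⟩

end Gen

variable {K : Type*} [Field K] [Module K V]

theorem lemB (two : (2 : K) ≠ 0) {x y : G} {z : V} {a b a' b' : K} (ha : a = 1 ∨ a = -1)
    (hb : b = 1 ∨ b = -1) (ha' : a' = 1 ∨ a' = -1) (hb' : b' = 1 ∨ b' = -1)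
    (h : a • x • z + b • y • z = z) (h' : a' • x • z + b' • y • z = z) :
    z = 0 ∨ (a = a' ∧ b = b') := by
  have kx : (2 : K) • x • z = 0 → z = 0 := fun e =>
    (smul_eq_zero_iff_eq x).1 ((smul_eq_zero.1 e).resolve_left two)
  have ky : (2 : K) • y • z = 0 → z = 0 := fun e =>
    (smul_eq_zero_iff_eq y).1 ((smul_eq_zero.1 e).resolve_left two)
  have kz : (2 : K) • z = 0 → z = 0 := fun e => (smul_eq_zero.1 e).resolve_left two
  generalize x • z = p, y • z = q at *
  rcases ha with rfl | rfl <;> rcases hb with rfl | rfl <;> rcases ha' with rfl | rfl <;>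
    rcases hb' with rfl | rfl <;>
  first
    | exact Or.inr ⟨rfl, rfl⟩
    | exact Or.inl (kx (by linear_combination (norm := module) h - h'))
    | exact Or.inl (kx (by linear_combination (norm := module) h' - h))
    | exact Or.inl (ky (by linear_combination (norm := module) h - h'))
    | exact Or.inl (ky (by linear_combination (norm := module) h' - h))
    | exact Or.inl (kz (by linear_combination (norm := module) -h - h'))

/-- the centraliser condition -/
def Cen {ι : Type*} (H : ι → Subgroup G) (c : G) : Prop := ∀ i, ∀ x ∈ H i, Commute c x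

structure Fam {ι : Type*} (V : Type*) [AddCommGroup V] [DistribMulAction G V] (E : Subgroup G)
    (H : ι → Subgroup G) : Prop where
  le : ∀ i, H i ≤ E
  gen : ∀ i, ∃ x y, Gen V (H i) x y
  comm : ∀ i j, i ≠ j → ∀ x ∈ H i, ∀ y ∈ H j, Commute x y

theorem exists_fam [Finite G] [Nontrivial V] (two : (2 : K) ≠ 0) (E : Subgroup G) :
    ∃ (n : ℕ) (H : Fin n → Subgroup G), Fam V E H ∧ ∀ x ∈ E, ∀ y ∈ E, Cen H x → Cen H y →
      Ng V (x ^ 2) → Ng V (y ^ 2) → ¬ Ac V x y := by
  obtain ⟨w, hw⟩ := exists_ne (0 : V)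
  obtain ⟨n, ⟨H, hH⟩, hm⟩ := exists_max_bdd {n | ∃ H : Fin n → Subgroup G, Fam V E H} id
    (Nat.card (Subgroup G)) (by
      rintro n ⟨H, hH⟩
      have : Function.Injective H := fun i j e => by
        by_contra hij
        obtain ⟨x, y, h⟩ := hH.gen i
        have h1 := h.ac w
        rw [← mul_smul, (hH.comm i j hij x h.mx y (e ▸ h.my)).eq, mul_smul] at h1
        have := eq_zero_of_eq_neg two h1
        rw [smul_eq_zero_iff_eq, smul_eq_zero_iff_eq] at this
        exact hw this
      simpa using Nat.card_le_card_of_injective H this)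
    ⟨0, Fin.elim0, fun i => i.elim0, fun i => i.elim0, fun i => i.elim0⟩
  refine ⟨n, H, hH, fun x hx y hy cx cy x2 y2 ac => ?_⟩
  have g : Gen V (closure {x, y}) x y := ⟨rfl, x2, y2, ac⟩
  have hc : ∀ j, ∀ a ∈ closure {x, y}, ∀ b ∈ H j, Commute a b := fun j a ha b hb =>
    (g.comm (cx j b hb).symm (cy j b hb).symm ha).symm
  have := hm (n + 1) ⟨Fin.cons (closure {x, y}) H, Fin.cases (g.le hx hy) hH.le,
    Fin.cases ⟨x, y, g⟩ hH.gen, Fin.cases
      (Fin.cases (fun h => absurd rfl h) fun j _ => hc j)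
      fun i => Fin.cases (fun _ a ha b hb => (hc i b hb a ha).symm)
        fun j hij => hH.comm i j fun e => hij (by rw [e])⟩
  simp at this

theorem exists_tau (three : (3 : K) = 0) [Nontrivial V] {ι : Type*} [Finite ι] {E : Subgroup G}
    {H : ι → Subgroup G} (hH : Fam V E H) : ∃ (a b : ι → G) (w : V), w ≠ 0 ∧
      (∀ i, Gen V (H i) (a i) (b i)) ∧ ∀ i, a i • w + b i • w = w := by
  classical
  letI := Fintype.ofFinite ι
  suffices ∀ s : Finset ι, ∃ (a b : ι → G) (w : V), w ≠ 0 ∧
      (∀ i, Gen V (H i) (a i) (b i)) ∧ ∀ i ∈ s, a i • w + b i • w = w by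
    obtain ⟨a, b, w, h1, h2, h3⟩ := this Finset.univ
    exact ⟨a, b, w, h1, h2, fun i => h3 i (Finset.mem_univ i)⟩
  intro s
  induction s using Finset.induction_on with
  | empty =>
    choose a b h using hH.gen
    obtain ⟨w, hw⟩ := exists_ne (0 : V)
    exact ⟨a, b, w, hw, h, by simp⟩
  | insert j s hj ih =>
    obtain ⟨a, b, w, h1, h2, h3⟩ := ih
    by_cases h0 : w + (a j • w + b j • w) = 0
    · refine ⟨Function.update a j (a j)⁻¹, Function.update b j (b j)⁻¹, w, h1, fun i => ?_,
        fun i hi => ?_⟩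
      · by_cases hi : i = j
        · subst hi; simpa using (h2 i).inv
        · simpa [hi] using h2 i
      · rcases Finset.mem_insert.1 hi with rfl | hi
        · simp only [Function.update_self, Ctx.inv_of_ng (h2 i).x2, Ctx.inv_of_ng (h2 i).y2]
          rw [← neg_add, eq_comm, eq_neg_iff_add_eq_zero, h0]
        · have : i ≠ j := fun e => hj (e ▸ hi)
          simpa [this] using h3 i hi
    · refine ⟨a, b, _, h0, h2, fun i hi => ?_⟩
      rcases Finset.mem_insert.1 hi with rfl | hi
      · simp only [smul_add, (h2 i).xx, (h2 i).yy, (h2 i).ac w]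
        generalize b i • a i • w = z
        generalize a i • w = x, b i • w = y
        linear_combination (norm := module) (-three) • w
      · have hij : i ≠ j := fun e => hj (e ▸ hi)
        have key : ∀ x ∈ H j, a i • x • w + b i • x • w = x • w := fun x hx => by
          rw [← mul_smul, ← mul_smul (b i), (hH.comm i j hij _ (h2 i).mx x hx).eq,
            (hH.comm i j hij _ (h2 i).my x hx).eq, mul_smul, mul_smul, ← smul_add, h3 i hi]
        have e1 := h3 i hi
        have e2 := key _ (h2 j).mx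
        have e3 := key _ (h2 j).my
        simp only [smul_add]
        calc _ = (a i • w + b i • w) + ((a i • a j • w + b i • a j • w) +
            (a i • b j • w + b i • b j • w)) := by abel
          _ = _ := by rw [e1, e2, e3]

theorem exists_lam [Finite G] (hl : ∀ g : G, Lin K V g) (hc : ∀ H : Subgroup G, (Nat.card H : K) ≠ 0)
    {w : V} (hw : w ≠ 0) : ∃ lam : V →ₗ[K] K, lam w = 1 ∧
      ∀ g : G, g • w = w → ∀ v, lam (g • v) = lam v := by
  classical
  obtain ⟨f, hf⟩ := Module.Projective.exists_dual_eq_one K hw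
  letI := Fintype.ofFinite (stabilizer G w)
  refine ⟨⟨⟨fun v => (Nat.card (stabilizer G w) : K)⁻¹ * ∑ h : stabilizer G w, f (h.1 • v),
    fun u v => ?_⟩, fun k v => ?_⟩, ?_, fun g hg v => ?_⟩
  · simp only [smul_add, map_add, Finset.sum_add_distrib, mul_add]
  · simp only [hl _ k, map_smul, smul_eq_mul, ← Finset.mul_sum, RingHom.id_apply]; ring
  · have : ∀ h : stabilizer G w, f (h.1 • w) = 1 := fun h => by rw [h.2, hf]
    simp only [LinearMap.coe_mk, AddHom.coe_mk, this, Finset.sum_const, Finset.card_univ,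
      nsmul_eq_mul, mul_one, ← Nat.card_eq_fintype_card]
    exact inv_mul_cancel₀ (hc _)
  · simp only [LinearMap.coe_mk, AddHom.coe_mk]
    congr 1
    exact Fintype.sum_equiv (Equiv.mulRight (⟨g, hg⟩ : stabilizer G w)) _ _ fun h => by
      simp [mul_smul]

variable [FaithfulSMul G V] {E : Subgroup G}

namespace Ctx

variable (c : Ctx K V E 1)
include c

theorem sq1 {x : G} (hx : x ∈ E) : x ^ 2 = 1 ∨ Ng V (x ^ 2) := by simpa using c.sq_pow hx

theorem dich1 {x y : G} (hx : x ∈ E) (hy : y ∈ E) : Commute x y ∨ Ac V x y :=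
  (c.dich hx hy (by simpa using (c.sym.pow y hy).1)).imp id And.left

theorem sg {x e : G} (hx : x ∈ E) (he : e ∈ E) :
    ∃ s : K, (s = 1 ∨ s = -1) ∧ (s = 1 → Commute x e) ∧ ∀ v : V, s • x • e • v = e • x • v := by
  rcases c.dich1 hx he with h | h
  · exact ⟨1, Or.inl rfl, fun _ => h, fun v => by rw [one_smul, ← mul_smul, h.eq, mul_smul]⟩
  · have h1 : ∀ v : V, (-1 : K) • x • e • v = e • x • v := fun v => by rw [h, neg_one_smul, neg_neg]
    exact ⟨-1, Or.inr rfl, fun h2 => FaithfulSMul.eq_of_smul_eq_smul (α := V) fun v => by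
      rw [mul_smul, mul_smul, ← h1, h2, one_smul], h1⟩

theorem typ {H : Subgroup G} (hH : H ≤ E) {a b : G} (g : Gen V H a b) {e : G} (he : e ∈ E) :
    ∃ s t : K, (s = 1 ∨ s = -1) ∧ (t = 1 ∨ t = -1) ∧ (s = 1 ∧ t = 1 → ∀ x ∈ H, Commute e x) ∧
      ∀ v : V, a • v + b • v = v → s • a • e • v + t • b • e • v = e • v := by
  obtain ⟨s, s1, s2, s3⟩ := c.sg (hH g.mx) he
  obtain ⟨t, t1, t2, t3⟩ := c.sg (hH g.my) he
  exact ⟨s, t, s1, t1, fun h x hx => g.comm (s2 h.1).symm (t2 h.2).symm hx,
    fun v hv => by rw [s3, t3, ← smul_add, hv]⟩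

theorem adj1 {H : Subgroup G} (hH : H ≤ E) {a b : G} (g : Gen V H a b) {e : G} (he : e ∈ E) :
    ∃ r, (r = 1 ∨ r = a ∨ r = b ∨ r = a * b) ∧ ∀ x ∈ H, Commute (e * r) x := by
  rcases c.dich1 (hH g.mx) he with h1 | h1 <;> rcases c.dich1 (hH g.my) he with h2 | h2
  · exact ⟨1, by simp, fun x hx => by simpa using g.comm h1.symm h2.symm hx⟩
  · exact ⟨a, by simp, fun x hx => g.comm (h1.mul_right (Commute.refl a)).symm
      (h2.mul_mul g.ac.symm).symm hx⟩
  · exact ⟨b, by simp, fun x hx => g.comm (h1.mul_mul g.ac).symm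
      (h2.mul_right (Commute.refl b)).symm hx⟩
  · exact ⟨a * b, by simp, fun x hx => g.comm (h1.mul_mul (Ac.mul_right' (Commute.refl a) g.ac)).symm
      (h2.mul_mul (g.ac.symm.mul_right (Commute.refl b))).symm hx⟩

theorem adj {ι : Type*} [Finite ι] {H : ι → Subgroup G} (hH : Fam V E H) {e : G} (he : e ∈ E) :
    ∃ r ∈ ⨆ i, H i, Cen H (e * r) := by
  classical
  letI := Fintype.ofFinite ι
  suffices ∀ s : Finset ι, ∃ r ∈ ⨆ i, H i, ∀ i ∈ s, ∀ x ∈ H i, Commute (e * r) x by
    obtain ⟨r, h1, h2⟩ := this Finset.univ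
    exact ⟨r, h1, fun i => h2 i (Finset.mem_univ i)⟩
  intro s
  induction s using Finset.induction_on with
  | empty => exact ⟨1, one_mem _, by simp⟩
  | insert j s hj ih =>
    obtain ⟨r, h1, h2⟩ := ih
    obtain ⟨a, b, g⟩ := hH.gen j
    obtain ⟨r', h3, h4⟩ := c.adj1 (hH.le j) g (mul_mem he (iSup_le hH.le h1))
    have h5 : r' ∈ H j := by
      rcases h3 with rfl | rfl | rfl | rfl
      exacts [one_mem _, g.mx, g.my, mul_mem g.mx g.my]
    refine ⟨r * r', mul_mem h1 (le_iSup H j h5), fun i hi x hx => ?_⟩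
    rw [← mul_assoc]
    rcases Finset.mem_insert.1 hi with rfl | hi
    · exact h4 x hx
    · exact (h2 i hi x hx).mul_left (hH.comm j i (fun e => hj (e ▸ hi)) r' h5 x hx)

omit c [FaithfulSMul G V] in
theorem cen_sup {ι : Type*} {H : ι → Subgroup G} {x r : G} (hx : Cen H x) (hr : r ∈ ⨆ i, H i) :
    Commute x r :=
  (mem_centralizer_singleton_iff.1 ((iSup_le fun i y hy =>
    mem_centralizer_singleton_iff.2 (hx i y hy).symm.eq : ⨆ i, H i ≤ centralizer {x}) hr) :
    Commute r x).symm

theorem k1 (two : (2 : K) ≠ 0) {ι : Type*} {H : ι → Subgroup G} (hH : Fam V E H)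
    (hmax : ∀ x ∈ E, ∀ y ∈ E, Cen H x → Cen H y → Ng V (x ^ 2) → Ng V (y ^ 2) → ¬ Ac V x y)
    {a b : ι → G} (g : ∀ i, Gen V (H i) (a i) (b i)) {w : V} (hw : w ≠ 0)
    (hτ : ∀ i, a i • w + b i • w = w) {x y : G} (hx : x ∈ E) (hy : y ∈ E) (x2 : Ng V (x ^ 2))
    (y2 : Ng V (y ^ 2)) (ac : Ac V x y) (hxy : x • w + y • w = w) :
    ∃ j, ∀ l, l ≠ j → ∀ z ∈ H l, Commute x z ∧ Commute y z := by
  choose s t s1 t1 h1 h2 using fun i => c.typ (hH.le i) (g i) hx
  choose s' t' s1' t1' h1' h2' using fun i => c.typ (hH.le i) (g i) hy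
  have x0 : x • w ≠ 0 := by rwa [Ne, smul_eq_zero_iff_eq]
  have y0 : y • w ≠ 0 := by rwa [Ne, smul_eq_zero_iff_eq]
  have one : (1 : K) = 1 ∨ (1 : K) = -1 := Or.inl rfl
  have tr : ∀ i, (s i = 1 ∧ t i = 1) ↔ (s' i = 1 ∧ t' i = 1) := fun i => by
    have e1 := h2 i w (hτ i)
    have e2 := h2' i w (hτ i)
    have e3 := hτ i
    constructor
    · rintro ⟨p, q⟩
      rw [p, q, one_smul, one_smul] at e1
      refine (lemB two (s1' i) (t1' i) one one e2 ?_).resolve_left y0
      rw [one_smul, one_smul, eq_sub_of_add_eq' hxy, smul_sub, smul_sub, sub_add_sub_comm, e1, e3]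
    · rintro ⟨p, q⟩
      rw [p, q, one_smul, one_smul] at e2
      refine (lemB two (s1 i) (t1 i) one one e1 ?_).resolve_left x0
      rw [one_smul, one_smul, eq_sub_of_add_eq hxy, smul_sub, smul_sub, sub_add_sub_comm, e2, e3]
  by_cases hall : ∀ i, s i = 1 ∧ t i = 1
  · exact absurd ac (hmax x hx y hy (fun i => h1 i (hall i)) (fun i => h1' i ((tr i).1 (hall i)))
      x2 y2)
  push Not at hall
  obtain ⟨j, hj⟩ := hall
  refine ⟨j, fun l hl z hz => ?_⟩
  suffices s l = 1 ∧ t l = 1 from ⟨h1 l this z hz, h1' l ((tr l).1 this) z hz⟩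
  have pres : ∀ (p q : K) (v : V), p • a l • v + q • b l • v = v →
      p • a l • (s' j • a j • v + t' j • b j • v - v) +
        q • b l • (s' j • a j • v + t' j • b j • v - v) = s' j • a j • v + t' j • b j • v - v := by
    intro p q v hv
    have k : ∀ x ∈ H j, p • a l • x • v + q • b l • x • v = x • v := fun x hx => by
      rw [← mul_smul (a l), ← mul_smul (b l), (hH.comm l j hl _ (g l).mx x hx).eq,
        (hH.comm l j hl _ (g l).my x hx).eq, mul_smul, mul_smul, ← c.lin (hH.le j hx),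
        ← c.lin (hH.le j hx), ← smul_add, hv]
    have k1 := k _ (g j).mx
    have k2 := k _ (g j).my
    simp only [smul_sub, smul_add, c.lin (hH.le l (g l).mx), c.lin (hH.le l (g l).my)]
    generalize a l • a j • v = v1, a l • b j • v = v2, b l • a j • v = v3, b l • b j • v = v4 at *
    generalize a l • v = v5, b l • v = v6, a j • v = v7, b j • v = v8 at *
    linear_combination (norm := module) s' j • k1 + t' j • k2 - hv
  have e1 : s' j • a j • w + t' j • b j • w - w =
      s' j • a j • x • w + t' j • b j • x • w - x • w := by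
    have := h2' j w (hτ j)
    rw [eq_sub_of_add_eq' hxy, smul_sub, smul_sub, smul_sub, smul_sub] at this
    generalize a j • x • w = v1, b j • x • w = v2 at *
    generalize a j • w = v3, b j • w = v4, x • w = v5 at *
    linear_combination (norm := module) this
  have e2 := pres 1 1 w (by simpa using hτ l)
  have e3 := pres _ _ _ (h2 l w (hτ l))
  rw [← e1] at e3
  refine (lemB two (s1 l) (t1 l) one one e3 e2).resolve_left fun h0 => ?_
  have := (tr j).2 ((lemB two (s1' j) (t1' j) one one (sub_eq_zero.1 h0)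
    (by simpa using hτ j)).resolve_left hw)
  exact hj this.1 this.2

theorem base_c4 [Finite G] [Finite K] [Nontrivial V] (three : (3 : K) = 0)
    (hK : ∀ k : K, k = 0 ∨ k = 1 ∨ k = -1) (hp : (Nat.card G).Coprime 3) : BaseK 2 G V := by
  classical
  have two : (2 : K) ≠ 0 := fun h => one_ne_zero (by linear_combination three - h : (1 : K) = 0)
  have hl : ∀ g : G, Lin K V g := fun g k v => by rcases hK k with rfl | rfl | rfl <;> simp
  have hE := c.sym.normal
  obtain ⟨n, H, hH, hmax⟩ := exists_fam (V := V) two E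
  obtain ⟨a0, b0, w0, hw0, g0, hτ0⟩ := exists_tau three hH
  let W : AddSubgroup V :=
    { carrier := {v | ∀ i, a0 i • v + b0 i • v = v}
      add_mem' := fun {u v} hu hv i => by rw [smul_add, smul_add, add_add_add_comm, hu i, hv i]
      zero_mem' := fun i => by simp
      neg_mem' := fun {v} hv i => by rw [smul_neg, smul_neg, ← neg_add, hv i] }
  obtain ⟨w, hw⟩ := exists_isMax E W ⟨w0, hτ0, hw0⟩
  have hne := hw.ne
  have fs := Fx.self E w
  have one : (1 : K) = 1 ∨ (1 : K) = -1 := Or.inl rfl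
  have hA : ∀ a ∈ stA E w, Cen H a := fun a ha i => by
    obtain ⟨s, t, s1, t1, h1, h2⟩ := c.typ (hH.le i) (g0 i) ha.1
    have := h2 w (hw.mem i)
    rw [show a • w = w from ha.2] at this
    exact h1 ((lemB two s1 t1 one one this (by simpa using hw.mem i)).resolve_left hne)
  have hHQ : ⨆ i, H i ≤ stQ E w := fun r hr =>
    ⟨iSup_le hH.le hr, fun a ha => cen_sup (hA a ha) hr⟩
  have inv2 : ∀ q ∈ stQ E w, Cen H q → q ^ 2 = 1 → q ∈ stAS K E w := fun q hq cq q2 =>
    c.inv2 hw hq q2 fun i => by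
      rw [← mul_smul, ← mul_smul (b0 i), ← (cq i _ (g0 i).mx).eq, ← (cq i _ (g0 i).my).eq,
        mul_smul, mul_smul, ← smul_add, hw.mem i]
  have cl1 : ∀ q ∈ stQ E w, Cen H q → q ∈ stAS K E w := fun q hq cq => by
    by_contra hn
    have q2 := (c.sq1 hq.1).resolve_left fun e => hn (inv2 q hq cq e)
    obtain ⟨j, hj, hne'⟩ := c.exists_anti hq.1 hn
    obtain ⟨r, hr, cr⟩ := c.adj hH hj.1
    have h1 := mul_mem hj (hHQ hr)
    have ac : Ac V q (j * r) := ((c.dich1 hq.1 hj.1).resolve_left hne').mul_right (cen_sup cq hr)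
    refine hmax q hq.1 _ h1.1 cq cr q2 ((c.sq1 h1.1).resolve_left fun e => ?_) ac
    exact ac.not_commute two hne (c.stAS_comm (inv2 _ h1 cr e) hq).symm
  have sqA : ∀ a ∈ stA E w, a ^ 2 = 1 := fun a ha =>
    scal_eq_one (by simpa using (c.sym.pow a ha.1).1) hne (pow_mem ha 2).2
  have cenm : ∀ {x y : G}, Cen H x → Cen H y → Cen H (x * y) := fun hx hy i z hz =>
    (hx i z hz).mul_left (hy i z hz)
  have cl2 : ∀ d ∈ stA E w, ∀ d' ∈ stA E w, d ≠ 1 → d' ≠ 1 → d = d' := by
    intro d hd d' hd' n1 n2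
    by_contra hdd
    have ex : ∀ a ∈ stA E w, a ≠ 1 → ∃ e ∈ E, Cen H e ∧ Ac V a e := fun a ha a1 => by
      obtain ⟨e, he, h1⟩ := c.exists_not_commute ha.1 fun h => a1 (scal_eq_one h hne ha.2)
      obtain ⟨r, hr, cr⟩ := c.adj hH he
      exact ⟨e * r, mul_mem he (hHQ hr).1, cr,
        ((c.dich1 ha.1 he).resolve_left h1).mul_right (cen_sup (hA a ha) hr)⟩
    have cdd : Commute d d' := (c.stA_le hne hd').2 d hd
    have n3 : d * d' ≠ 1 := fun e => hdd (by
      rw [eq_inv_of_mul_eq_one_left e, inv_eq_iff_mul_eq_one, ← sq, sqA d' hd'])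
    have ex2 : ∀ d ∈ stA E w, ∀ d' ∈ stA E w, d ≠ 1 → d' ≠ 1 → d * d' ≠ 1 →
        ∃ e ∈ E, Cen H e ∧ Ac V d e ∧ Commute d' e := by
      intro d hd d' hd' n1 n2 n3
      obtain ⟨e, he, ce, ae⟩ := ex d hd n1
      rcases c.dich1 hd'.1 he with h | h
      · exact ⟨e, he, ce, ae, h⟩
      obtain ⟨f, hf, cf, af⟩ := ex _ (mul_mem hd hd') n3
      rcases c.dich1 hd.1 hf with h1 | h1 <;> rcases c.dich1 hd'.1 hf with h2 | h2
      · exact absurd (h1.mul_left h2) (af.not_commute two hne)
      · exact ⟨e * f, mul_mem he hf, cenm ce cf, ae.mul_right h1, h.mul_mul h2⟩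
      · exact ⟨f, hf, cf, h1, h2⟩
      · exact absurd (h1.symm.mul_mul h2.symm).symm (af.not_commute two hne)
    obtain ⟨e, he, ce, ae, ce'⟩ : ∃ e ∈ E, Cen H e ∧ Ac V d e ∧ Commute d' e ∧ Ng V (e ^ 2) := by
      obtain ⟨e, he, ce, ae, ce'⟩ := ex2 d hd d' hd' n1 n2 n3
      rcases c.sq1 he with h | h
      · exact ⟨e * d, mul_mem he hd.1, cenm ce (hA d hd), ae.mul_right (Commute.refl d),
          ce'.mul_right cdd.symm, ae.symm.sq_ng h (sqA d hd)⟩
      · exact ⟨e, he, ce, ae, ce', h⟩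
    obtain ⟨f, hf, cf, af, ef⟩ : ∃ f ∈ E, Cen H f ∧ Ac V d' f ∧ Commute e f := by
      obtain ⟨f, hf, cf, af, cf'⟩ := ex2 d' hd' d hd n2 n1 (cdd.eq ▸ n3)
      rcases c.dich1 he hf with h | h
      · exact ⟨f, hf, cf, af, h⟩
      · exact ⟨f * d, mul_mem hf hd.1, cenm cf (hA d hd), af.mul_right cdd.symm,
          h.mul_mul ae.symm⟩
    obtain ⟨f, hf, cf, af, ef, f2⟩ : ∃ f ∈ E, Cen H f ∧ Ac V d' f ∧ Commute e f ∧ f ^ 2 = 1 := by
      rcases c.sq1 hf with h | h
      · exact ⟨f, hf, cf, af, ef, h⟩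
      · exact ⟨f * d', mul_mem hf hd'.1, cenm cf (hA d' hd'), af.mul_right (Commute.refl d'),
          ef.mul_right ce'.1.symm, af.symm.sq_of_one h (sqA d' hd')⟩
    refine hmax (e * d') (mul_mem he hd'.1) (e * f) (mul_mem he hf) (cenm ce (hA d' hd'))
      (cenm ce cf) ?_ ?_ ?_
    · rw [ce'.1.symm.mul_pow, sqA d' hd', mul_one]; exact ce'.2
    · rw [ef.mul_pow, f2, mul_one]; exact ce'.2
    · exact (Ac.mul_right' ((Commute.refl e).mul_left ef.symm)
        (Ac.mul_right' ce'.1 af).symm).symm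
  obtain ⟨lam, l1, l2⟩ := exists_lam hl (fun H h0 => by
    haveI : CharP K 3 := (CharP.charP_iff_prime_eq_zero Nat.prime_three).2 (by exact_mod_cast three)
    exact absurd ((hp.coprime_dvd_left (card_subgroup_dvd_card H)).symm.eq_one_of_dvd
      ((CharP.cast_eq_zero_iff K 3 _).1 h0)) (by norm_num)) hne
  have hab : ∀ {H : Subgroup G} {a b : G}, Gen V H a b → a • w + b • w = w →
      (a * b) • w = w + a • w := fun {H a b} g h => by
    have := congrArg (a • ·) h
    simp only [smul_add, g.xx] at this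
    rw [mul_smul, ← this]; abel
  have : ∀ i, ∃ a b, Gen V (H i) a b ∧ a • w + b • w = w ∧ lam ((a * b) • w) = 0 := fun i => by
    have g := g0 i
    have e0 := hw.mem i
    have e1 := hab g e0
    have e2 := eq_sub_of_add_eq' e0
    have g2 := g.ac.sq_ng' g.x2 g.y2
    rcases hK (lam (a0 i • w)) with h | h | h
    · refine ⟨(b0 i)⁻¹, (a0 i * b0 i)⁻¹, ?_, ?_, ?_⟩
      · have := g.swap.mul.swap
        refine ⟨g.of_mem (inv_mem g.my) (inv_mem (mul_mem g.mx g.my)) ?_ ?_, Gen.ng_inv g.y2,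
          Gen.ng_inv g2, fun v => ?_⟩
        · have h1 : b0 i ∈ closure {(b0 i)⁻¹, (a0 i * b0 i)⁻¹} :=
            inv_mem_iff.1 (subset_closure (by simp))
          exact (mul_mem_cancel_right h1).1 (inv_mem_iff.1 (subset_closure (by simp)))
        · exact inv_mem_iff.1 (subset_closure (by simp))
        · simp only [inv_of_ng g.y2, inv_of_ng g2, smul_neg, neg_neg]
          exact (g.ac.symm.mul_right (Commute.refl _)) v
      · rw [inv_of_ng g.y2, inv_of_ng g2, e1, e2]
        generalize a0 i • w = x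
        linear_combination (norm := module) (-three) • w
      · rw [mul_smul, inv_of_ng g.y2, inv_of_ng g2, smul_neg, neg_neg, mul_smul, g.ac.symm,
          g.yy, smul_neg, neg_neg, h]
    · refine ⟨a0 i * b0 i, (a0 i)⁻¹, g.mul.swap.inv_left.swap, ?_, ?_⟩
      · rw [inv_of_ng g.x2, e1]; abel
      · rw [mul_smul, inv_of_ng g.x2, smul_neg, mul_smul, g.ac, g.xx, smul_neg, neg_neg, map_neg,
          e2, map_sub, h, l1, sub_self, neg_zero]
    · exact ⟨a0 i, b0 i, g, e0, by rw [e1, map_add, l1, h, add_neg_cancel]⟩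
  choose a b g hτ hlam using this
  obtain ⟨t, ht⟩ : ∃ t : Fin n → G, ∀ i, t i = a i * b i := ⟨_, fun _ => rfl⟩
  have tH : ∀ i, t i ∈ H i := fun i => ht i ▸ mul_mem (g i).mx (g i).my
  have tQ : ∀ i, t i ∈ stQ E w := fun i => hHQ (le_iSup H i (tH i))
  have la : ∀ i, lam (a i • w) = -1 := fun i => by
    have := hlam i
    rw [hab (g i) (hτ i), map_add, l1] at this
    linear_combination this
  have k2 : ∀ x : G, x • w = w → ∀ i, ∃ (j : Fin n) (k : K),
      ∀ u, Fx E w u → (x * t i * x⁻¹) • u = k • t j • u := by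
    intro x hx i
    have cj : ∀ {y : G}, Ng V (y ^ 2) → Ng V ((x * y * x⁻¹) ^ 2) := fun h v => by
      rw [conj_pow, mul_smul, mul_smul, h, smul_neg, smul_inv_smul]
    obtain ⟨j, hj⟩ := c.k1 two hH hmax g hne hτ (hE.conj_mem _ (hH.le i (g i).mx) x)
      (hE.conj_mem _ (hH.le i (g i).my) x) (cj (g i).x2) (cj (g i).y2)
      (fun v => by simp only [mul_smul, inv_smul_smul]; rw [(g i).ac, smul_neg])
      (by simp only [mul_smul, inv_fix hx]; rw [← smul_add, hτ, hx])
    have hq := conj_stQ hE hx (tQ i)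
    obtain ⟨r, hr, h1⟩ := c.adj1 (hH.le j) (g j) hq.1
    have hrH : r ∈ H j := by
      rcases hr with rfl | rfl | rfl | rfl
      exacts [one_mem _, (g j).mx, (g j).my, ht j ▸ tH j]
    have hrQ := hHQ (le_iSup H j hrH)
    obtain ⟨k, k1, hk⟩ := c.stAS_act hne (cl1 _ (mul_mem hq hrQ) fun l z hz => by
      by_cases hl : l = j
      · exact h1 z (hl ▸ hz)
      · refine Commute.mul_left ?_ (hH.comm j l (Ne.symm hl) r hrH z hz)
        rw [show x * t i * x⁻¹ = x * a i * x⁻¹ * (x * b i * x⁻¹) by simp only [ht]; group]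
        exact (hj l hl z hz).1.mul_left (hj l hl z hz).2)
    have k0 : k ≠ 0 := fun e => by simp [e] at k1
    have h2 : ∀ u, Fx E w u → (x * t i * x⁻¹) • u = k • r⁻¹ • u := fun u hu => by
      rw [← hk _ (hu.stQ (inv_mem hrQ)), mul_smul _ r, smul_inv_smul]
    have h3 : lam (r⁻¹ • w) = 0 := by
      have := congrArg lam (h2 w fs)
      rw [mul_smul, mul_smul, inv_fix hx, l2 x hx, ht, hlam, map_smul, smul_eq_mul] at this
      exact (mul_eq_zero.1 this.symm).resolve_left k0
    rcases hr with rfl | rfl | rfl | rfl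
    · simp [l1] at h3
    · rw [inv_of_ng (g j).x2, map_neg, la] at h3; simp at h3
    · rw [inv_of_ng (g j).y2, map_neg, eq_sub_of_add_eq' (hτ j), map_sub, la, l1] at h3
      exact absurd (by linear_combination -h3) two
    · exact ⟨j, -k, fun u hu => by
        rw [h2 u hu, inv_of_ng ((g j).ac.sq_ng' (g j).x2 (g j).y2), smul_neg, neg_smul, ht j]⟩
  let T : Fin n → V →+ V := fun i =>
    DistribSMul.toAddMonoidHom V (a i) + DistribSMul.toAddMonoidHom V (b i)
  have hT : ∀ i v, T i v = a i • v + b i • v := fun i v => rfl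
  have hTk : ∀ i (k : K) v, T i (k • v) = k • T i v := fun i k v => by
    rw [hT, hT, hl, hl, smul_add]
  let ε : Fin n → Fin n → K := fun j i => if i = j then -1 else 1
  have hTt : ∀ i j v, T i (t j • v) = ε j i • t j • T i v := fun i j v => by
    simp only [hT, ε]
    split_ifs with h
    · subst h
      rw [ht, (Ac.mul_right' (Commute.refl _) (g i).ac) v,
        ((g i).ac.symm.mul_right (Commute.refl _)) v, neg_one_smul, smul_add, neg_add]
    · rw [← mul_smul, ← mul_smul (b i), (hH.comm i j h _ (g i).mx _ (tH j)).eq,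
        (hH.comm i j h _ (g i).my _ (tH j)).eq, mul_smul, mul_smul, one_smul, smul_add]
  have hTw : ∀ i, T i w = w := hτ
  have m1 : (-1 : K) ≠ 1 := fun e => two (by linear_combination -e)
  let pr : Fin n → Fin n := fun l => ⟨l.1 - 1, by omega⟩
  let u : Fin n → V := fun l => if l.1 = 0 then t l • w else t (pr l) • t l • w
  let χ : (Fin n → Fin n) → Fin n → Fin n → K := fun π l i =>
    if l.1 = 0 then ε (π l) i else ε (π (pr l)) i * ε (π l) i
  have χn : ∀ π : Fin n → Fin n, Function.Injective π → ∀ l i,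
      χ π l i ≠ 1 ↔ i = π l ∨ (l.1 ≠ 0 ∧ i = π (pr l)) := fun π hπ l i => by
    simp only [χ, ε]
    by_cases h0 : l.1 = 0
    · simp [h0, m1]
    · have : π (pr l) ≠ π l := fun e => by
        have := congrArg Fin.val (hπ e)
        simp only [pr] at this; omega
      by_cases h1 : i = π l
      · simp [h0, h1, this.symm, m1]
      · by_cases h2 : i = π (pr l)
        · simp [h0, h2, this, m1]
        · simp [h0, h1, h2]
  have χi : ∀ π : Fin n → Fin n, Function.Injective π → Function.Injective (χ π) := by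
    intro π hπ l l' e
    have key : ∀ l l', χ π l = χ π l' → l.1 ≤ l'.1 := fun l l' e => by
      rcases (χn π hπ l' (π l)).1 (e ▸ (χn π hπ l (π l)).2 (Or.inl rfl)) with h | ⟨-, h⟩
      · rw [hπ h]
      · rw [hπ h]; simp [pr]
    exact Fin.ext (le_antisymm (key _ _ e) (key _ _ e.symm))
  have fu : ∀ l, Fx E w (u l) := fun l => by
    simp only [u]; split_ifs
    exacts [fs.stQ (tQ l), (fs.stQ (tQ l)).stQ (tQ _)]
  have h0 : ∀ x : G, x • w = w → x • ∑ l, u l = ∑ l, u l → ∀ i, x • t i • w = t i • w := by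
    intro x hx hs
    choose π k hk using k2 x hx
    have e1 : ∀ i, x • t i • w = k i • t (π i) • w := fun i => by
      rw [← hk i w fs, mul_smul _ x⁻¹, inv_fix hx, mul_smul]
    have e2 : ∀ i j, x • t i • t j • w = (k i * k j) • t (π i) • t (π j) • w := fun i j => by
      rw [mul_smul, ← hl (t (π i)), ← hk i _ ((fs.stQ (tQ _)).smul c _), ← e1, mul_smul _ x⁻¹,
        inv_smul_smul, mul_smul]
    have nz : ∀ i, x • t i • w ≠ 0 := fun i => by
      rwa [Ne, smul_eq_zero_iff_eq, smul_eq_zero_iff_eq]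
    have hπ : Function.Injective π := fun i j e => by
      by_contra hij
      have k0 : k j ≠ 0 := fun h => nz j (by rw [e1, h, zero_smul])
      have h1 : t i • w = (k i * (k j)⁻¹) • t j • w := MulAction.injective x (by
        simp only
        rw [hl, e1, e1, e, smul_smul, inv_mul_cancel_right₀ k0])
      have h2 := hTt i i w
      rw [hTw, h1, hTk, hTt, hTw] at h2
      simp only [ε, if_pos, if_neg hij, one_smul, neg_one_smul] at h2
      rw [eq_zero_of_eq_neg two h2, smul_eq_zero_iff_eq] at h1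
      exact hne h1
    have mt : ∀ l, ∃ l', χ id l' = χ π l ∧ u l' = x • u l := fun l => by
      obtain ⟨l', -, h⟩ := wt_match T hTk (χ id) Finset.univ (χi id Function.injective_id).injOn u
        (fun l _ i => by
          simp only [u, χ, id]; split_ifs
          · rw [hTt, hTw]
          · rw [hTt, hTt, hTw, hl, mul_smul])
        (χ π) Finset.univ (χi π hπ).injOn (fun l => x • u l) (fun l _ i => by
          simp only [u, χ]; split_ifs
          · rw [e1, hTk, hTt, hTw, smul_comm]
          · rw [e2, hTk, hTt, hTt, hTw, hl, mul_smul (ε _ _), smul_comm (k _ * k _),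
              smul_comm (k _ * k _)])
        (by rw [← Finset.smul_sum, hs]) (Finset.mem_univ l) (by
          simp only [u]; split_ifs <;> simpa [smul_eq_zero_iff_eq] using hne)
      exact ⟨l', h⟩
    have main : ∀ m (i : Fin n), i.1 = m → π i = i ∧ x • t i • w = t i • w := by
      intro m
      induction m using Nat.strong_induction_on with
      | _ m ih =>
      intro i hi
      obtain ⟨l', h1, h2⟩ := mt i
      have hc : ∀ j, (j = l' ∨ (l'.1 ≠ 0 ∧ j = pr l')) ↔ (j = π i ∨ (i.1 ≠ 0 ∧ j = π (pr i))) :=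
        fun j => by rw [← χn π hπ, ← h1, χn id Function.injective_id]; rfl
      by_cases h0 : i.1 = 0
      · have h3 : l' = π i := by simpa [h0] using (hc l').1 (Or.inl rfl)
        have h4 : l'.1 = 0 := by
          by_contra h4
          have h5 : pr l' = π i := by simpa [h0] using (hc (pr l')).1 (Or.inr ⟨h4, rfl⟩)
          have := congrArg Fin.val (h5.trans h3.symm)
          simp only [pr] at this; omega
        have h5 : l' = i := Fin.ext (h4.trans h0.symm)
        subst h5
        exact ⟨h3.symm, by simpa [u, h0] using h2.symm⟩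
      · obtain ⟨p1, p2⟩ := ih (pr i).1 (by simp only [pr]; omega) (pr i) rfl
        have h3 : i.1 ≤ (π i).1 := by
          by_contra h3
          have := hπ (ih (π i).1 (by omega) (π i) rfl).1
          omega
        have h4 := (hc (π i)).2 (Or.inl rfl)
        have h5 := (hc (pr i)).2 (Or.inr ⟨h0, p1.symm⟩)
        have h6 : l' = i ∧ π i = i := by
          simp only [Fin.ext_iff, pr] at h4 h5 ⊢
          omega
        obtain ⟨rfl, h7⟩ := h6
        refine ⟨h7, ?_⟩
        simp only [u, if_neg h0] at h2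
        have h8 := (dl_mem_iff hE hx (tQ (pr l')).1).2 p2
        have h9 := ((fs.stQ (tQ l')).conj hE hx) _ h8
        rw [dl, mul_smul, mul_smul, mul_smul, inv_smul_smul, ← h2, inv_smul_smul] at h9
        exact h9.symm
    exact fun i => (main _ i rfl).2
  obtain ⟨X, _, _, mk, hs, hk⟩ := c.exists_X w
  obtain ⟨v, hv⟩ := c.frame hne mk hs hk (fun _ : Unit => ∑ l, u l) (fun (_ : Unit) _ => w)
    (fun _ => ()) (fun _ a ha => by
      rw [Finset.smul_sum]; exact Finset.sum_congr rfl fun l _ => fu l a ha)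
    (fun _ _ => fs) ∅ (by simp)
    (fun x hx h => ⟨hl x, fun q hq => by
      let D : Subgroup G :=
        { carrier := {q | q ∈ stQ E w ∧ dl x q ∈ stA E w}
          mul_mem' := fun {p q} hp hq => ⟨mul_mem hp.1 hq.1, by
            rw [dl_mul, mul_assoc _ (dl x p), (hq.1.2 _ hp.2 : _ * _ = _ * _), inv_mul_cancel_left]
            exact mul_mem hp.2 hq.2⟩
          one_mem' := ⟨one_mem _, by simp [dl]⟩
          inv_mem' := fun {p} hp => ⟨inv_mem hp.1, by
            rw [show dl x p⁻¹ = p * (dl x p)⁻¹ * p⁻¹ by simp only [dl]; group,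
              ← (hp.1.2 _ (inv_mem hp.2) : _ * _ = _ * _), mul_inv_cancel_right]
            exact inv_mem hp.2⟩ }
      have mD : ∀ q ∈ stQ E w, x • q • w = q • w → q ∈ D := fun q hq h =>
        ⟨hq, (dl_mem_iff hE hx hq.1).2 h⟩
      have h1 : ⨆ i, H i ≤ D := iSup_le fun i => by
        have e1 : x • a i • w = a i • w := by
          have := h0 x hx (h ()) i
          rw [ht] at this
          rwa [hab (g i) (hτ i), smul_add, hx, add_right_inj] at this
        refine (g i).le (mD _ (hHQ (le_iSup H i (g i).mx)) e1) (mD _ (hHQ (le_iSup H i (g i).my)) ?_)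
        rw [eq_sub_of_add_eq' (hτ i), smul_sub, hx, e1]
      obtain ⟨r, hr, cr⟩ := c.adj hH hq.1
      obtain ⟨k, -, hk⟩ := c.stAS_act hne (cl1 _ (mul_mem hq (hHQ hr)) cr)
      have h2 := mD _ (mul_mem hq (hHQ hr)) (by rw [hk w fs, hl, hx])
      exact (dl_mem_iff hE hx hq.1).1 ((mul_mem_cancel_right (h1 hr)).1 h2).2, fun _ _ => hx⟩)
    (fun _ _ _ _ _ => rfl)
    (fun x π _ hπ _ _ y => by
      have key : ∀ y y' : X, y ≠ 1 → y' ≠ 1 → y = y' := fun y y' h1 h2 => by
        obtain ⟨e, rfl⟩ := hs y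
        obtain ⟨e', rfl⟩ := hs y'
        have ex : ∀ e : E, mk e ≠ 1 → ∃ d ∈ stA E w, d ≠ 1 ∧ Ac V d e := fun e he => by
          by_contra! hc
          refine he ((hk e).2 ⟨e.2, fun d hd => ?_⟩)
          by_cases d1 : d = 1
          · simp [d1]
          · exact (c.dich1 hd.1 e.2).resolve_right (hc d hd d1)
        obtain ⟨d, hd, d1, a1⟩ := ex e h1
        obtain ⟨d', hd', d1', a2⟩ := ex e' h2
        obtain rfl := cl2 d hd d' hd' d1 d1'
        have h3 : mk (e * e') = 1 := (hk _).2 ⟨(e * e').2, fun y hy => by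
          by_cases y1 : y = 1
          · simp [y1]
          · rw [cl2 y hy d hd y1 d1]; exact a1.mul_mul a2⟩
        have h4 : mk (e' * e') = 1 := (hk _).2 ⟨(e' * e').2, fun y hy => by
          by_cases y1 : y = 1
          · simp [y1]
          · rw [cl2 y hy d hd y1 d1]; exact a2.mul_mul a2⟩
        rw [map_mul] at h3 h4
        exact mul_right_cancel (h3.trans h4.symm)
      by_cases h : y = 1
      · rw [h, map_one]
      · exact key _ _ (fun e => h (hπ (e.trans (map_one π).symm))) h)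
    (fun x t _ _ hQ _ hU y hy _ => ⟨(hQ _ (t y).2).1, hU y hy ()⟩)
  exact base_two (v := v ()) fun g a b => hv g a fun _ => b

end Ctx

theorem fieldP_p {p : ℕ} (hp : p.Prime) (h2 : p ≠ 2) : FieldP.{u} 2 p p := by
  intro G V K _ _ _ _ _ _ _ _ _ hs hn he _ semi hab
  obtain ⟨E, m, c⟩ := exists_ctx hs semi hab
  obtain ⟨v, hv⟩ := exists_ne (0 : V)
  haveI : CharP K p := (CharP.charP_iff_prime_eq_zero hp).2 (smul_left_injective K hv (by
    simp only [Nat.cast_smul_eq_nsmul, he, zero_smul]))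
  haveI := Fact.mk hp
  have two : (2 : K) ≠ 0 := fun h => h2 ((Nat.prime_dvd_prime_iff_eq hp Nat.prime_two).1
    ((CharP.cast_eq_zero_iff K p 2).1 (by exact_mod_cast h)))
  rcases c.sym.c2 with hodd | ⟨x, hx, x4, xS⟩
  · exact c.base_c1 two hodd
  obtain ⟨θ, θ0, hθ⟩ := exists_gen K
  have hd := c.two_m_dvd two
  have hq : 1 < Nat.card K := Finite.one_lt_card
  by_cases θ2 : θ ^ 2 = 1
  · have hK : ∀ k : K, k = 0 ∨ k = 1 ∨ k = -1 := fun k => by
      by_cases h0 : k = 0
      · exact Or.inl h0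
      obtain ⟨n, rfl⟩ := hθ k h0
      exact Or.inr (mul_self_eq_one_iff.1 (by rw [← sq, ← pow_mul, mul_comm, pow_mul, θ2, one_pow]))
    have three : (3 : K) = 0 := by
      rcases hK 2 with h | h | h
      · exact absurd h two
      · exact absurd (by linear_combination h) (one_ne_zero (α := K))
      · linear_combination h
    obtain rfl : p = 3 := (Nat.prime_dvd_prime_iff_eq hp Nat.prime_three).1
      ((CharP.cast_eq_zero_iff K p 3).1 (by exact_mod_cast three))
    have h3 : Nat.card K ≤ 3 := by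
      have := Nat.card_le_card_of_surjective (![0, 1, -1] : Fin 3 → K) fun k => by
        rcases hK k with rfl | rfl | rfl
        exacts [⟨0, rfl⟩, ⟨1, rfl⟩, ⟨2, rfl⟩]
      simpa using this
    have := Nat.le_of_dvd (by omega) hd
    have := c.sym.odd.pos
    obtain rfl : m = 1 := by omega
    exact c.base_c4 three hK hn
  have h5 : 5 ≤ Nat.card K := by
    have h1 : θ ^ (Nat.card K - 1) = 1 := by
      have := pow_card_eq_one' (x := Units.mk0 θ θ0)
      rw [Nat.card_units] at this
      simpa using congrArg Units.val this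
    by_contra h5
    have h6 : 2 ∣ Nat.card K - 1 := (Dvd.intro _ rfl).trans hd
    have : Nat.card K - 1 = 2 := by omega
    exact θ2 (this ▸ h1)
  obtain ⟨w, hw, h | ⟨i, j, α, β, h⟩⟩ := c.ms
  · obtain ⟨d1, h1, d2, h2, s1, s2, ac⟩ := c.exists_d hw.ne h hx x4 xS
    refine c.base_c3 two hw.ne h h1 h2 s1 s2 ac θ0 θ2 ?_
    by_cases θ4 : θ ^ 4 = 1
    swap
    · exact Or.inl θ4
    right
    have h6 : Nat.card K ≤ 5 := by
      have := Nat.card_le_card_of_surjective (![0, 1, θ, θ ^ 2, θ ^ 3] : Fin 5 → K) fun k => by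
        by_cases h0 : k = 0
        · exact ⟨0, h0.symm⟩
        obtain ⟨n, rfl⟩ := hθ k h0
        rw [← Nat.div_add_mod n 4, pow_add, pow_mul, θ4, one_pow, one_mul]
        have : n % 4 < 4 := Nat.mod_lt _ (by norm_num)
        interval_cases n % 4
        exacts [⟨1, by simp⟩, ⟨2, by simp⟩, ⟨3, rfl⟩, ⟨4, rfl⟩]
      simpa using this
    letI := Fintype.ofFinite K
    obtain ⟨n, -, hn⟩ := FiniteField.card K p
    have h7 : Fintype.card K = 5 := by rw [← Nat.card_eq_fintype_card]; omega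
    have h8 : p = 5 := (Nat.prime_dvd_prime_iff_eq hp Nat.prime_five).1
      (by rw [← h7, hn]; exact dvd_pow_self p n.ne_zero)
    intro g k v
    obtain ⟨z, rfl⟩ := (ZMod.castHom_bijective K (h7.trans h8.symm)).2 k
    obtain ⟨z, rfl⟩ := ZMod.natCast_zmod_surjective z
    rw [map_natCast, Nat.cast_smul_eq_nsmul, Nat.cast_smul_eq_nsmul, smul_comm]
  · exact c.base_c2 hn he h5 hw h

theorem modP_p {p : ℕ} (hp : p.Prime) (N : ℕ) : ModP.{u} 2 p p N := by
  by_cases h2 : p = 2
  · subst h2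
    intro G V _ _ _ _ _ hs hn _ hi hN
    exact modP_odd N G V hs hn (by simp) hi hN
  by_cases h3 : p = 3
  · subst h3
    exact modP_of_perm (mulP_p hp le_rfl) (fieldP_p hp h2) permP_three N
  · exact modP_of_perm (mulP_p hp (hp.five_le_of_ne_two_of_ne_three h2 h3)) (fieldP_p hp h2)
      (permP_five p) N

end H83.Base
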