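import Mathlib
import Cfsg.Agent.Lib.FGS83.BaseI
import Cfsg.Agent.Lib.Core.CoprimeExt
import Cfsg.Agent.Lib.Core.CoprimeNorm
import Cfsg.Agent.Lib.Core.Hall
import Cfsg.Agent.Lib.Core.HallSZ
import Cfsg.Agent.Lib.Core.PCore

/-!
# Base sizes, part J: coprime actions of solvable groups on arbitrary groups (helper83)
-/

set_option autoImplicit false

namespace H83.Base

open Subgroup MulAction Cfsg H68
open scoped commutatorElement Pointwise

universe u

/-- two points whose common stabilizer acts trivially -/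
def Two {A K : Type*} [Group A] [Group K] (φ : A →* MulAut K) : Prop :=
  ∃ x y : K, ∀ a : A, φ a x = x → φ a y = y → ∀ z, φ a z = z

section Solv

variable {A : Type*} [Group A] [Finite A]

/-- the elements of `A` fixing a point -/
def stb {K : Type*} [Group K] (φ : A →* MulAut K) (x : K) : Subgroup A where
  carrier := {a | φ a x = x}
  mul_mem' := fun {a b} ha hb => by
    simp only [Set.mem_setOf_eq] at *
    rw [map_mul, MulAut.mul_apply, hb, ha]
  one_mem' := by simp
  inv_mem' := fun {a} ha => by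
    simp only [Set.mem_setOf_eq] at *
    conv_lhs => rw [← ha]
    rw [← MulAut.mul_apply, ← map_mul, inv_mul_cancel, map_one, MulAut.one_apply]

omit [Finite A] in
theorem mem_stb {K : Type*} [Group K] {φ : A →* MulAut K} {x : K} {a : A} :
    a ∈ stb φ x ↔ φ a x = x := Iff.rfl

theorem two_ext {K : Type*} [Group K] [Finite K] (φ : A →* MulAut K) (hA : Group.IsSolvable A)
    (hcop : (Nat.card A).Coprime (Nat.card K)) (N : Subgroup K) [N.Normal]
    (hN : ∀ a, ∀ x ∈ N, φ a x ∈ N) (h1 : Two (H2.subAut φ N hN)) (h2 : Two (H2.quotAut φ N hN)) :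
    Two φ := by
  obtain ⟨n1, n2, hn⟩ := h1
  obtain ⟨x, y, hxy⟩ := h2
  have lift : ∀ x : K ⧸ N, ∃ x0 : K, (x0 : K ⧸ N) = x ∧
      ∀ a, H2.quotAut φ N hN a x = x → φ a x0 = x0 := by
    intro x
    obtain ⟨x, rfl⟩ := QuotientGroup.mk_surjective x
    obtain ⟨n, hn, h⟩ := H2.ext_exists_mul_mem_fixSub (φ := φ) (N := N)
      (B := stb (H2.quotAut φ N hN) (x : K ⧸ N)) (fun b _ => hN b) (H2.coprime_subgroups hcop)
      (H2.solv_subgroups (Or.inl hA)) (x := x) (fun b hb => by
        rw [mem_stb, H2.quotAut_mk] at hb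
        exact QuotientGroup.eq.1 hb.symm)
    exact ⟨x * n, by simp [(QuotientGroup.eq_one_iff n).2 hn],
      fun a ha => H2.mem_fixSub.1 h a ha⟩
  obtain ⟨x0, hx0, hx⟩ := lift x
  obtain ⟨y0, hy0, hy⟩ := lift y
  have key : ∀ (a : A) (x0 : K) (n : N), (H2.quotAut φ N hN a x0 = x0 → φ a x0 = x0) →
      φ a (x0 * n) = x0 * n → H2.quotAut φ N hN a x0 = x0 ∧ H2.subAut φ N hN a n = n := by
    intro a x0 n h e
    have e1 : H2.quotAut φ N hN a x0 = x0 := by
      have := congrArg (QuotientGroup.mk (s := N)) e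
      rw [map_mul, QuotientGroup.mk_mul, QuotientGroup.mk_mul,
        (QuotientGroup.eq_one_iff _).2 (hN a n n.2), (QuotientGroup.eq_one_iff _).2 n.2, mul_one,
        mul_one] at this
      exact this
    refine ⟨e1, Subtype.ext ?_⟩
    rw [map_mul, h e1] at e
    exact mul_left_cancel e
  refine ⟨x0 * n1, y0 * n2, fun a hax hay z => ?_⟩
  subst hx0 hy0
  obtain ⟨e1, e2⟩ := key a x0 n1 (hx a) hax
  obtain ⟨e3, e4⟩ := key a y0 n2 (hy a) hay
  have hq := hxy a e1 e3
  have hs := hn a e2 e4
  have := H2.ext_le_fixSub_of_stable (φ := φ) (K := ⊤) (N := N) (B := zpowers a)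
    (H2.coprime_subgroups hcop) (fun b hb x _ => by
      have : b ∈ stb (H2.quotAut φ N hN) (x : K ⧸ N) := zpowers_le.2 (hq x) hb
      rw [mem_stb, H2.quotAut_mk] at this
      exact QuotientGroup.eq.1 this.symm)
    (fun n hn' => H2.mem_fixSub.2 fun b hb => by
      have : b ∈ stb φ n := zpowers_le.2 (congrArg Subtype.val (hs ⟨n, hn'⟩)) hb
      exact this)
  exact H2.mem_fixSub.1 (this (mem_top z)) a (mem_zpowers a)

theorem two_irr {K : Type*} [CommGroup K] [Finite K] [Nontrivial K] (φ : A →* MulAut K)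
    (hA : Group.IsSolvable A) (hcop : (Nat.card A).Coprime (Nat.card K))
    (h : ∀ N : Subgroup K, (∀ a, ∀ x ∈ N, φ a x ∈ N) → N = ⊥ ∨ N = ⊤) : Two φ := by
  obtain ⟨p, hp, hpK⟩ := Nat.exists_prime_and_dvd (Finite.one_lt_card (α := K)).ne'
  haveI := Fact.mk hp
  obtain ⟨g, hg⟩ := exists_prime_orderOf_dvd_card' p hpK
  have he : ∀ x : K, x ^ p = 1 := by
    rcases h (powMonoidHom p : K →* K).ker (fun a x hx => by
      rw [MonoidHom.mem_ker, powMonoidHom_apply] at *
      rw [← map_pow, hx, map_one]) with h | h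
    · have : g ∈ (powMonoidHom p : K →* K).ker := by
        rw [MonoidHom.mem_ker, powMonoidHom_apply, ← hg, pow_orderOf_eq_one]
      rw [h, mem_bot] at this
      rw [this, orderOf_one] at hg
      exact absurd hg.symm hp.one_lt.ne'
    · intro x
      have : x ∈ (powMonoidHom p : K →* K).ker := h ▸ mem_top x
      exact this
  letI : DistribMulAction A (Additive K) :=
    { smul := fun a x => Additive.ofMul (φ a x.toMul)
      one_smul := fun x => by change Additive.ofMul (φ 1 x.toMul) = x; simp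
      mul_smul := fun a b x => by
        change Additive.ofMul (φ (a * b) x.toMul) = Additive.ofMul (φ a (φ b x.toMul)); simp
      smul_zero := fun a => by change Additive.ofMul (φ a 1) = 0; simp
      smul_add := fun a x y => by
        change Additive.ofMul (φ a (x.toMul * y.toMul)) =
          Additive.ofMul (φ a x.toMul * φ a y.toMul)
        simp }
  have hi : Irr A (Additive K) := ⟨inferInstance, fun U hU => by
    rcases h (AddSubgroup.toSubgroup' U) (fun a x hx => hU a (Additive.ofMul x) hx) with h | h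
    · left; exact AddSubgroup.toSubgroup'.injective (h.trans (by simp))
    · right; exact AddSubgroup.toSubgroup'.injective (h.trans (by simp))⟩
  obtain ⟨v, hv⟩ := ModP.base (modP_p hp) hA (hcop.coprime_dvd_right hpK)
    (fun v : Additive K => by
      have := he v.toMul
      exact congrArg Additive.ofMul this) hi
  refine ⟨(v 0).toMul, (v 1).toMul, fun a h0 h1 z => ?_⟩
  have := hv a (fun j => by
    fin_cases j
    · exact congrArg Additive.ofMul h0
    · exact congrArg Additive.ofMul h1) (Additive.ofMul z)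
  exact congrArg Additive.toMul this

theorem two_solv (hA : Group.IsSolvable A) (n : ℕ) : ∀ (K : Type u) [Group K] [Finite K]
    (φ : A →* MulAut K), Nat.card K = n → Group.IsSolvable K →
    (Nat.card A).Coprime (Nat.card K) → Two φ := by
  induction n using Nat.strong_induction_on with
  | _ n ih =>
  intro K _ _ φ hn hK hcop
  rcases subsingleton_or_nontrivial K with h0 | h0
  · exact ⟨1, 1, fun a _ _ z => Subsingleton.elim _ _⟩
  by_cases hN : ∃ N : Subgroup K, N.Normal ∧ (∀ a, ∀ x ∈ N, φ a x ∈ N) ∧ N ≠ ⊥ ∧ N ≠ ⊤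
  · obtain ⟨N, _, hN, h1, h2⟩ := hN
    refine two_ext φ hA hcop N hN ?_ ?_
    · refine ih _ ?_ N _ rfl inferInstance (hcop.coprime_dvd_right (card_subgroup_dvd_card N))
      rw [← hn]
      exact Nat.lt_of_le_of_ne (card_le_card_group N) fun e => h2 (eq_top_of_card_eq N e)
    · refine ih _ ?_ (K ⧸ N) _ rfl inferInstance
        (hcop.coprime_dvd_right (card_quotient_dvd_card N))
      rw [← hn, card_eq_card_quotient_mul_card_subgroup N]
      exact lt_mul_of_one_lt_right Nat.card_pos ((one_lt_card_iff_ne_bot N).2 h1)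
  push Not at hN
  have hc : commutator K = ⊥ := by
    by_contra hc
    have := hN (commutator K) inferInstance (fun a x hx => by
      have := (characteristic_iff_map_le.1 (inferInstance : (commutator K).Characteristic)) (φ a)
      exact this (mem_map_of_mem _ hx)) hc
    exact (Group.IsSolvable.commutator_lt_top_of_nontrivial K).ne this
  letI : CommGroup K := { (inferInstance : Group K) with
    mul_comm := fun a b => by
      have : ⁅a, b⁆ ∈ commutator K := commutator_mem_commutator (mem_top a) (mem_top b)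
      rw [hc, mem_bot] at this
      exact commutatorElement_eq_one_iff_mul_comm.1 this }
  refine two_irr φ hA hcop fun N h => ?_
  by_cases h1 : N = ⊥
  · exact Or.inl h1
  · exact Or.inr (hN N inferInstance h h1)

end Solv

theorem marks_aux {L Ω : Type*} [PartialOrder L] [Fintype L] [DecidableLT L] [Finite Ω]
    (s : Ω → L) (B : L) : Nat.card {ω // B ≤ s ω} =
      Nat.card {ω // s ω = B} + ∑ C ∈ Finset.univ.filter (B < ·), Nat.card {ω // s ω = C} := by
  classical
  haveI := Fintype.ofFinite Ω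
  have h1 : ∀ P : Ω → Prop, Nat.card {ω // P ω} = (Finset.univ.filter P).card := fun P => by
    rw [Nat.card_eq_fintype_card, Fintype.card_subtype]
  simp only [h1]
  rw [Finset.card_eq_sum_card_fiberwise (f := s) (t := insert B (Finset.univ.filter (B < ·)))
    (fun ω hω => by
      have : B ≤ s ω := by simpa using hω
      simpa using this.eq_or_lt.imp_left Eq.symm), Finset.sum_insert (by simp)]
  congr 1
  · congr 1; ext ω; simp only [Finset.mem_filter, Finset.mem_univ, true_and]
    exact ⟨fun h => h.2, fun h => ⟨h.ge, h⟩⟩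
  · refine Finset.sum_congr rfl fun C hC => ?_
    have hC : B < C := by simpa using hC
    congr 1; ext ω; simp only [Finset.mem_filter, Finset.mem_univ, true_and]
    exact ⟨fun h => h.2, fun h => ⟨h ▸ hC.le, h⟩⟩

/-- the table of marks is invertible -/
theorem marks {L Ω₁ Ω₂ : Type*} [PartialOrder L] [Finite L] [Finite Ω₁] [Finite Ω₂]
    (s : Ω₁ → L) (t : Ω₂ → L)
    (h : ∀ B, Nat.card {ω // B ≤ s ω} = Nat.card {ω // B ≤ t ω}) (B : L) :
    Nat.card {ω // s ω = B} = Nat.card {ω // t ω = B} := by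
  classical
  haveI := Fintype.ofFinite L
  induction B using WellFoundedGT.induction with
  | _ B ih =>
  have := h B
  rw [marks_aux s, marks_aux t, Finset.sum_congr rfl fun C hC => ih C (by simpa using hC)] at this
  exact Nat.add_right_cancel this

theorem marks_pair {L Ω : Type*} [SemilatticeInf L] (s : Ω → L) (B : L) :
    Nat.card {ω : Ω × Ω // B ≤ s ω.1 ⊓ s ω.2} =
      Nat.card {ω // B ≤ s ω} * Nat.card {ω // B ≤ s ω} := by
  rw [← Nat.card_prod, ← Nat.card_congr Equiv.subtypeProdEquivProd]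
  exact Nat.card_congr (Equiv.subtypeEquivRight fun ω => le_inf_iff)

section Gen

variable {A K : Type*} [Group A] [Finite A] [Group K] [Finite K] (φ : A →* MulAut K)

theorem card_fixSub (hA : Group.IsSolvable A) (hcop : (Nat.card A).Coprime (Nat.card K))
    (P : (Nat.card K).primeFactors → Subgroup K) (hP : ∀ r, SylowIn r.1 (P r) ⊤)
    (hi : ∀ r a, ∀ x ∈ P r, φ a x ∈ P r) (B : Subgroup A) :
    Nat.card (H2.fixSub φ B) = ∏ r, Nat.card ↥(P r ⊓ H2.fixSub φ B) := by
  have h1 : ∀ r, Nat.card ↥(P r ⊓ H2.fixSub φ B) =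
      r.1 ^ (Nat.card (H2.fixSub φ B)).factorization r.1 := by
    intro r
    haveI := Fact.mk (Nat.prime_of_mem_primeFactors r.2)
    have := H2.sylowIn_inf_centralizer (p := r.1) (H2.sdR_le_normalizer_top (φ := φ) B)
      (H2.sd_coprime (H2.coprime_subgroups hcop)) (H2.sd_solv (H2.solv_subgroups (Or.inl hA)))
      (H2.sylowIn_sdL_iff.2 (hP r)) (H2.sdR_le_normalizer_iff.2 fun b _ => hi r b)
    rw [← H2.sdL_inf_fixSub, ← H2.sdL_inf_fixSub, H2.sylowIn_sdL_iff, top_inf_eq] at this
    exact this.card_eq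
  simp only [h1]
  rw [Finset.prod_coe_sort (Nat.card K).primeFactors
    (fun r => r ^ (Nat.card (H2.fixSub φ B)).factorization r)]
  conv_lhs => rw [← Nat.prod_factorization_pow_eq_self (Nat.card_pos (α := H2.fixSub φ B)).ne']
  refine Finsupp.prod_of_support_subset _ ?_ _ (fun _ _ => pow_zero _)
  rw [Nat.support_factorization]
  exact Nat.primeFactors_mono (card_subgroup_dvd_card _) Nat.card_pos.ne'

theorem two_all (hA : Group.IsSolvable A) (hcop : (Nat.card A).Coprime (Nat.card K)) : Two φ := by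
  have h0 : ∀ r : (Nat.card K).primeFactors, ∃ P, SylowIn r.1 P (⊤ : Subgroup K) ∧
      ∀ a, ∀ x ∈ P, φ a x ∈ P := fun r => by
    haveI := Fact.mk (Nat.prime_of_mem_primeFactors r.2)
    obtain ⟨P, h1, h2⟩ := H2.ext_exists_invariant_sylowIn (φ := φ) (K := ⊤) (B := ⊤)
      (fun _ _ _ _ => mem_top _) (H2.coprime_subgroups hcop) (H2.solv_subgroups (Or.inl hA)) r.1
    exact ⟨P, h1, fun a => h2 a (mem_top a)⟩
  choose P hP hi using h0
  have h1 : ∀ r, Two (H2.subAut φ (P r) (hi r)) := fun r => by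
    haveI := Fact.mk (Nat.prime_of_mem_primeFactors r.2)
    haveI := (hP r).isPGroup.isNilpotent
    exact two_solv hA _ _ _ rfl inferInstance (hcop.coprime_dvd_right (card_subgroup_dvd_card _))
  choose x y hxy using h1
  let t : (∀ r, P r) → Subgroup A := fun v => ⨅ r, stb φ (v r : K)
  have hm : ∀ B, Nat.card {ω // B ≤ stb φ ω} = Nat.card {ω // B ≤ t ω} := by
    intro B
    have e1 : Nat.card {ω // B ≤ stb φ ω} = Nat.card (H2.fixSub φ B) :=
      Nat.card_congr (Equiv.subtypeEquivRight fun ω => H2.mem_fixSub.symm)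
    have e2 : Nat.card {ω // B ≤ t ω} =
        Nat.card {ω : ∀ r, P r // ∀ r, (ω r : K) ∈ H2.fixSub φ B} :=
      Nat.card_congr (Equiv.subtypeEquivRight fun ω => by
        simp only [t, le_iInf_iff]; rfl)
    rw [e1, e2, card_fixSub φ hA hcop P hP hi B,
      Nat.card_congr (Equiv.subtypePiEquivPi (p := fun r (v : P r) => (v : K) ∈ H2.fixSub φ B)),
      Nat.card_pi]
    refine Finset.prod_congr rfl fun r _ => ?_
    rw [inf_comm, ← H3.card_subgroupOf]
    rfl
  have hmk := marks (fun ω : K × K => stb φ ω.1 ⊓ stb φ ω.2)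
    (fun ω : (∀ r, P r) × (∀ r, P r) => t ω.1 ⊓ t ω.2)
    (fun B => by rw [marks_pair, marks_pair, hm]) (t x ⊓ t y)
  haveI : Nonempty {ω : (∀ r, P r) × (∀ r, P r) // t ω.1 ⊓ t ω.2 = t x ⊓ t y} := ⟨⟨(x, y), rfl⟩⟩
  obtain ⟨⟨⟨u, v⟩, huv⟩⟩ := (Nat.card_pos_iff.1 (Nat.card_pos.trans_eq hmk.symm)).1
  refine ⟨u, v, fun a hu hv z => ?_⟩
  have ha : a ∈ t x ⊓ t y := huv ▸ ⟨hu, hv⟩
  have : (⊤ : Subgroup K) ≤ H2.fixSub φ (zpowers a) := by
    refine H2.le_of_forall_sylowIn_le fun p hp => ?_
    by_cases hpK : p ∣ Nat.card K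
    · let r : (Nat.card K).primeFactors := ⟨p, Nat.mem_primeFactors.2 ⟨hp, hpK, Nat.card_pos.ne'⟩⟩
      refine ⟨P r, hP r, fun w hw => H2.mem_fixSub.2 fun b hb => ?_⟩
      have : b ∈ stb φ w := zpowers_le.2 (congrArg Subtype.val (hxy r a
        (Subtype.ext (mem_iInf.1 ha.1 r)) (Subtype.ext (mem_iInf.1 ha.2 r)) ⟨w, hw⟩)) hb
      exact this
    · haveI := Fact.mk hp
      obtain ⟨Q, hQ⟩ := exists_sylowIn p (⊤ : Subgroup K)
      refine ⟨Q, hQ, ?_⟩
      have := hQ.card_eq
      rw [card_top, Nat.factorization_eq_zero_of_not_dvd hpK, pow_zero, card_eq_one] at this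
      rw [this]; exact bot_le
  exact H2.mem_fixSub.1 (this (mem_top z)) a (mem_zpowers a)

end Gen

section Pi

variable {G : Type*} [Group G] [Finite G] {π : Set ℕ}

theorem eq_top_of_central (h : H3.IsPiSeparable π G) (h1 : piCore π G = ⊥) (Z : Subgroup G)
    [Z.Normal] (hZ : Z ≤ center G) (h2 : piCore πᶜ G ≤ Z) (h3 : IsPiSubgroup πᶜ Z) : Z = ⊤ := by
  by_contra hne
  obtain ⟨L, hL, hlt, hi⟩ := h Z inferInstance hne
  rw [H3.isPiSubgroup_iff_piNum] at h3
  rcases hi with hi | hi
  · obtain ⟨H, hHL, hs, -, hc⟩ := H3.exists_complement_in hlt.le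
      (by rw [normalizer_eq_top]; exact le_top) (h3.coprime' hi)
    have : H ≤ piCoreOf π L := H1.le_piCoreOf hHL (by
      rw [← hs]
      exact sup_le (hZ.trans ((center_le_centralizer _).trans (centralizer_le_normalizer _)))
        le_normalizer) (by rw [H3.isPiSubgroup_iff_piNum, hc]; exact hi)
    have := this.trans (H1.map_subtype_piCore_le L)
    rw [h1, le_bot_iff] at this
    rw [this, sup_bot_eq] at hs
    exact hlt.ne hs
  · have : L ≤ piCore πᶜ G := H1.le_piCore (by
      rw [H3.isPiSubgroup_iff_piNum, ← H3.relIndex_mul_card hlt.le]; exact hi.mul h3)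
    exact hlt.not_ge (this.trans h2)

/-- Hall-Higman 1.2.3 -/
theorem centralizer_piCore_le (h : H3.IsPiSeparable π G) (h1 : piCore π G = ⊥) :
    centralizer (piCore πᶜ G : Set G) ≤ piCore πᶜ G := by
  set C := centralizer (piCore πᶜ G : Set G)
  rw [← subgroupOf_eq_top]
  refine eq_top_of_central (h.subgroup C) ?_ _ ?_ ?_ ?_
  · have := H1.map_subtype_piCore_le (π := π) C
    rw [h1, le_bot_iff] at this
    exact (map_eq_bot_iff_of_injective _ C.subtype_injective).1 this
  · intro z hz
    rw [mem_center_iff]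
    intro g
    exact Subtype.ext (mem_centralizer_iff.1 g.2 z hz).symm
  · exact map_le_iff_le_comap.1 (H1.map_subtype_piCore_le C)
  · rw [H3.isPiSubgroup_iff_piNum]
    exact (H3.isPiSubgroup_iff_piNum.1 H1.isPiSubgroup_piCore).of_dvd (H3.card_subgroupOf_dvd _ _)

theorem hall_three_aux (h : H3.IsPiSeparable π G) (h1 : piCore π G = ⊥) {H : Subgroup G}
    (hH : IsPiSubgroup π H) (hs : Group.IsSolvable H) :
    ∃ x y : G, H ⊓ MulAut.conj x • H ⊓ MulAut.conj y • H = ⊥ := by
  set N := piCore πᶜ G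
  have hc : (Nat.card H).Coprime (Nat.card N) :=
    (H3.isPiSubgroup_iff_piNum.1 hH).coprime (H3.isPiSubgroup_iff_piNum.1 H1.isPiSubgroup_piCore)
  have hd : H ⊓ N = ⊥ := inf_eq_bot_of_coprime hc
  have hn : H ≤ normalizer (N : Set G) := by rw [normalizer_eq_top]; exact le_top
  obtain ⟨x, y, hxy⟩ := two_all (H2.conjAut hn) hs hc
  have key : ∀ (x : N) (a : H), (a : G) ∈ MulAut.conj (x : G) • H → H2.conjAut hn a x = x := by
    intro x a ha
    rw [H3.mem_conj_smul_iff] at ha
    have : (a : G)⁻¹ * ((x : G)⁻¹ * a * x) ∈ H ⊓ N := ⟨H.mul_mem (H.inv_mem a.2) ha, by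
      have := N.mul_mem ((inferInstance : N.Normal).conj_mem' _ (N.inv_mem x.2) a) x.2
      change _ ∈ N
      simpa only [mul_assoc] using this⟩
    rw [hd, mem_bot] at this
    apply Subtype.ext
    rw [H2.coe_conjAut_apply]
    calc (a : G) * x * (a : G)⁻¹ = x * a * ((a : G)⁻¹ * ((x : G)⁻¹ * a * x)) * (a : G)⁻¹ := by group
      _ = x := by rw [this]; group
  refine ⟨x, y, eq_bot_iff.2 fun a ha => ?_⟩
  have h2 := hxy ⟨a, ha.1.1⟩ (key x _ ha.1.2) (key y _ ha.2)
  have : a ∈ H ⊓ N := ⟨ha.1.1, centralizer_piCore_le h h1 (mem_centralizer_iff.2 fun z hz => by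
    have := congrArg Subtype.val (h2 ⟨z, hz⟩)
    rw [H2.coe_conjAut_apply] at this
    exact (mul_inv_eq_iff_eq_mul.1 this).symm)⟩
  rwa [hd] at this

theorem hall_three (h : H3.IsPiSeparable π G) {H : Subgroup G}
    (hH : IsPiHall π H) (hs : Group.IsSolvable H) :
    ∃ x y : G, H ⊓ MulAut.conj x • H ⊓ MulAut.conj y • H = piCore π G := by
  have hf := QuotientGroup.mk'_surjective (piCore π G)
  obtain ⟨x, y, hxy⟩ := hall_three_aux (h.quotient (piCore π G)) H1.piCore_quotient_piCore
    (H := H.map (QuotientGroup.mk' _))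
    (H3.isPiSubgroup_iff_piNum.2 (H3.isPiHall_iff.1 (H3.isPiHall_map hH hf)).1)
    (Group.isSolvable_of_surjective ((QuotientGroup.mk' _).subgroupMap_surjective H))
  obtain ⟨x, rfl⟩ := hf x
  obtain ⟨y, rfl⟩ := hf y
  refine ⟨x, y, le_antisymm (fun a ha => ?_) ?_⟩
  · rw [← H3.map_conj_smul, ← H3.map_conj_smul] at hxy
    have : QuotientGroup.mk' (piCore π G) a ∈ (⊥ : Subgroup _) :=
      hxy ▸ ⟨⟨mem_map_of_mem _ ha.1.1, mem_map_of_mem _ ha.1.2⟩, mem_map_of_mem _ ha.2⟩
    exact (QuotientGroup.eq_one_iff a).1 this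
  · exact le_inf (le_inf (H1.piCore_le_of_isPiHall hH)
      (H1.piCore_le_of_isPiHall (H3.isPiHall_conj_smul hH x)))
      (H1.piCore_le_of_isPiHall (H3.isPiHall_conj_smul hH y))

theorem solv_of_chain {n : ℕ} (N : Fin (n + 1) → Subgroup G) (h0 : N 0 = ⊥)
    (hl : N (Fin.last n) = ⊤) (hn : ∀ i, (N i).Normal)
    (hi : ∀ i : Fin n, (∃ p : ℕ, p.Prime ∧ ∃ k : ℕ, (N i.castSucc).relIndex (N i.succ) = p ^ k) ∨
      H3.PiNum πᶜ ((N i.castSucc).relIndex (N i.succ))) {H : Subgroup G} (hH : IsPiSubgroup π H) :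
    Group.IsSolvable H := by
  have key : ∀ i, Group.IsSolvable ↥(H ⊓ N i) := by
    intro i
    induction i using Fin.induction with
    | zero => rw [h0, inf_bot_eq]; infer_instance
    | succ i ih =>
      haveI := hn i.castSucc
      let g : ↥(H ⊓ N i.succ) →* G ⧸ N i.castSucc := (QuotientGroup.mk' _).comp (Subgroup.subtype _)
      have d1 : Nat.card g.range ∣ (N i.castSucc).relIndex (N i.succ) := by
        rw [← H3.card_map_mk'_eq_relIndex]
        refine card_dvd_of_le ?_
        rintro _ ⟨a, rfl⟩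
        exact mem_map_of_mem _ a.2.2
      have d2 : Nat.card g.range ∣ Nat.card H :=
        (card_range_dvd g).trans (card_dvd_of_le inf_le_left)
      haveI : Group.IsSolvable g.range := by
        rcases hi i with ⟨p, hp, k, hk⟩ | h
        · haveI := Fact.mk hp
          rw [hk, Nat.dvd_prime_pow hp] at d1
          obtain ⟨m, -, hm⟩ := d1
          haveI := (IsPGroup.of_card hm).isNilpotent
          infer_instance
        · have := ((H3.isPiSubgroup_iff_piNum.1 hH).of_dvd d2).eq_one (h.of_dvd d1)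
          haveI := (Nat.card_eq_one_iff_unique.1 this).1
          infer_instance
      haveI : Group.IsSolvable g.ker := by
        let f : g.ker →* ↥(H ⊓ N i.castSucc) :=
          ((Subgroup.subtype _).comp g.ker.subtype).codRestrict _ fun a =>
            ⟨a.1.2.1, (QuotientGroup.eq_one_iff _).1 a.2⟩
        exact Group.isSolvable_of_isSolvable_injective (f := f) fun a b e =>
          Subtype.ext (Subtype.ext (congrArg (fun z : ↥(H ⊓ N i.castSucc) => (z : G)) e))
      exact Group.isSolvable_of_ker_le_range g.ker.subtype g.rangeRestrict (by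
        rw [MonoidHom.ker_rangeRestrict, range_subtype])
  have := key (Fin.last n)
  rwa [hl, inf_top_eq] at this

end Pi

end H83.Base
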