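import Mathlib
import Cfsg.Agent.Base
import Cfsg.Agent.Lib.FGS83.FH1
import Cfsg.Agent.Lib.BG3.Weights
import Cfsg.Agent.Lib.BG3.ElemAb

/-!
# The module step for Frobenius groups of operators (helper83)
-/

set_option autoImplicit false

namespace H83

open Subgroup H2

variable {A : Type*} [Group A]

/-- The action of an operator group on the characters of the group it acts on. -/
@[reducible] def charAct {Q : Type*} [Group Q] (ψ : A →* MulAut Q) (k : Type*) [Monoid k] :
    MulAction A (Q →* k) where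
  smul a μ := μ.comp ((ψ a⁻¹ : Q ≃* Q) : Q →* Q)
  one_smul μ := by
    ext x
    change μ (ψ 1⁻¹ x) = μ x
    rw [inv_one, act_one]
  mul_smul a b μ := by
    ext x
    change μ (ψ (a * b)⁻¹ x) = μ (ψ b⁻¹ (ψ a⁻¹ x))
    rw [act_act, mul_inv_rev]

theorem prod_mem_fixSub {Q : Type*} [CommGroup Q] (ψ : A →* MulAut Q) (H : Subgroup A)
    [Fintype H] (y : Q) : (∏ h : H, ψ h y) ∈ fixSub ψ H := by
  intro b hb
  rw [map_prod]
  exact Fintype.prod_equiv (Equiv.mulLeft (⟨b, hb⟩ : H)) _ _ fun f => by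
    rw [act_act]; rfl

theorem prod_conj_norm {Q : Type*} [CommGroup Q] (ψ : A →* MulAut Q) {K H : Subgroup A}
    [Fintype K] [Fintype H] (hHK : H ≤ normalizer (K : Set A))
    (hsr : ∀ h ∈ H, h ≠ 1 → K ⊓ centralizer {h} = ⊥) (hfix : fixSub ψ K = ⊥) (x : Q) :
    ∏ f : K, ψ f (∏ h : H, ψ h (ψ (f : A)⁻¹ x)) = x ^ Nat.card K := by
  classical
  simp only [map_prod, act_act]
  rw [Finset.prod_comm, Finset.prod_eq_single (1 : H)]
  · simp [act_one, Nat.card_eq_fintype_card]
  · intro h _ hne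
    have hb := H46.bijective_mul_inv_of_fpf ((conjAut hHK h : K ≃* K) : K →* K)
      (conjAut_fpf_of_semiregular hHK hsr h hne)
    have h1 := prod_mem_fixSub ψ K (ψ h x)
    rw [hfix, mem_bot] at h1
    rw [← h1, ← hb.prod_comp (fun f : K => ψ f (ψ h x))]
    refine Finset.prod_congr rfl fun f _ => ?_
    rw [act_act]
    congr 2
    change (f : A) * ((h : A) * (f : A)⁻¹) = (f : A) * ((h : A) * f * (h : A)⁻¹)⁻¹ * h
    group
  · simp

theorem eq_one_of_pow_coprime {k : Type*} [Monoid k] {a : k} {m n : ℕ} (h : m.Coprime n)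
    (h1 : a ^ m = 1) (h2 : a ^ n = 1) : a = 1 := by
  have := pow_gcd_eq_one.2 ⟨h1, h2⟩
  rwa [h.gcd_eq_one, pow_one] at this

theorem frob_module [Finite A] {Q V : Type*} [CommGroup Q] [Finite Q] [CommGroup V] [Finite V]
    (ψ : A →* MulAut Q) (φ : A →* MulAut V) (ρ : Q →* MulAut V)
    (hc : ∀ a x, φ a * ρ x = ρ (ψ a x) * φ a) {p : ℕ} [Fact p.Prime] (hV : ∀ v : V, v ^ p = 1)
    (hQ : ¬ p ∣ Nat.card Q) {K H : Subgroup A} (hHK : H ≤ normalizer (K : Set A))
    (hsr : ∀ h ∈ H, h ≠ 1 → K ⊓ centralizer {h} = ⊥) (hKs : Group.IsSolvable K)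
    (hcop : (Nat.card K).Coprime (Nat.card Q)) (hfix : fixSub ψ K = ⊥)
    (hcent : ∀ c ∈ fixSub ψ H, ∀ v ∈ fixSub φ H, ρ c v = v) (x₀ : Q) : ρ x₀ = 1 := by
  classical
  by_contra hne
  let _ := Fintype.ofFinite A
  let _ := Fintype.ofFinite Q
  let k := AlgebraicClosure (ZMod p)
  have hQk : (Nat.card Q : k) ≠ 0 := by rwa [Ne, CharP.cast_eq_zero_iff k p]
  let σ : Representation k Q (Additive V →+ k) := (H46.dualRep k V).comp ρ
  let τ : Representation k A (Additive V →+ k) := (H46.dualRep k V).comp φ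
  have hστ : ∀ a x, τ a * σ x = σ (ψ a x) * τ a := fun a x => by
    simp only [σ, τ, MonoidHom.comp_apply, ← map_mul, hc]
  obtain ⟨w₀, lam, hw₀, hlam, hw₀'⟩ := H46.exists_weight_ne_one σ hQk
    (fun a b => by rw [← map_mul, mul_comm, map_mul]) (a₀ := x₀) (fun e => hne
      (H46.dualRep_injective (k := k) ⟨inferInstance, hV⟩ (e.trans (map_one _).symm)))
  let _ : MulAction A (Q →* k) := charAct ψ k
  have hsm : ∀ (a : A) (μ : Q →* k) (x : Q), (a • μ) x = μ (ψ a⁻¹ x) := fun _ _ _ => rfl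
  have hwt : ∀ (a : A) (μ : Q →* k) (w : Additive V →+ k), (∀ x, σ x w = μ x • w) →
      ∀ x, σ x (τ a w) = (a • μ) x • τ a w := by
    intro a μ w hw x
    have := hστ a (ψ a⁻¹ x)
    rw [act_act, mul_inv_cancel, act_one] at this
    rw [← Module.End.mul_apply, ← this, Module.End.mul_apply, hw, map_smul, hsm]
  have hτ0 : ∀ (a : A) (w : Additive V →+ k), w ≠ 0 → τ a w ≠ 0 := by
    intro a w hw e
    apply hw
    have := congrArg (τ a⁻¹) e
    rwa [← Module.End.mul_apply, ← map_mul, inv_mul_cancel, map_one, map_zero] at this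
  have hR : ∀ (μ : Q →* k) (w : Additive V →+ k), w ≠ 0 → (∀ x, σ x w = μ x • w) →
      (∀ h ∈ H, h • μ = μ → h = 1) → ∀ c ∈ fixSub ψ H, μ c = 1 := by
    intro μ w hw0 hw hst c hcH
    have h1 : ∑ h : H, τ h w ≠ 0 := by
      intro e
      have := congrArg (H46.proj σ μ) e
      rw [map_sum, map_zero, Finset.sum_eq_single (1 : H)] at this
      · rw [OneMemClass.coe_one, map_one, Module.End.one_apply, H46.proj_apply_self σ μ hw,
          ← Nat.card_eq_fintype_card] at this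
        exact hw0 ((smul_eq_zero.1 this).resolve_left hQk)
      · intro h _ hh
        exact H46.proj_apply_ne σ μ _ (hwt h μ w hw) fun e => hh (Subtype.ext (hst h h.2 e))
      · simp
    have h2 : σ c (∑ h : H, τ h w) = μ c • ∑ h : H, τ h w := by
      rw [map_sum, Finset.smul_sum]
      refine Finset.sum_congr rfl fun h _ => ?_
      rw [hwt h μ w hw, hsm, hcH _ (H.inv_mem h.2)]
    have h3 : ∀ v : V, (∑ h : H, τ h w) (Additive.ofMul v) =
        w (Additive.ofMul (∏ h : H, φ h v)) := by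
      intro v
      rw [AddMonoidHom.finset_sum_apply, ofMul_prod, map_sum]
      refine Fintype.sum_equiv (Equiv.inv H) _ _ fun h => ?_
      simp only [τ, MonoidHom.comp_apply, H46.dualRep_apply, Equiv.inv_apply, InvMemClass.coe_inv,
        map_inv]
      rfl
    have h4 : σ c (∑ h : H, τ h w) = ∑ h : H, τ h w := by
      change H46.dualRep k V (ρ c) _ = _
      rw [H46.dualRep_eq_self_iff]
      intro v
      rw [h3, h3]
      congr 2
      rw [← hcent c hcH _ (prod_mem_fixSub φ H v), map_prod]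
      refine Finset.prod_congr rfl fun h _ => ?_
      rw [← MulAut.mul_apply, hc, hcH _ h.2, MulAut.mul_apply]
    rw [h4] at h2
    have h5 : (μ c - 1) • ∑ h : H, τ h w = 0 := by rw [sub_smul, ← h2, one_smul, sub_self]
    exact sub_eq_zero.1 ((smul_eq_zero.1 h5).resolve_right h1)
  let HO : Subgroup A :=
    { carrier := {h | h ∈ H ∧ ∃ f ∈ K, f • h • lam = lam}
      one_mem' := ⟨H.one_mem, 1, K.one_mem, by simp⟩
      mul_mem' := by
        rintro a b ⟨ha, f, hf, e⟩ ⟨hb, f', hf', e'⟩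
        refine ⟨H.mul_mem ha hb, f * (a * f' * a⁻¹),
          K.mul_mem hf (conj_mem_of_le_normalizer hHK ha hf'), ?_⟩
        rw [smul_smul, show f * (a * f' * a⁻¹) * (a * b) = f * a * (f' * b) by group,
          mul_smul, mul_smul f', e', mul_smul, e]
      inv_mem' := by
        rintro a ⟨ha, f, hf, e⟩
        refine ⟨H.inv_mem ha, a⁻¹ * f⁻¹ * a,
          inv_conj_mem_of_le_normalizer hHK ha (K.inv_mem hf), ?_⟩
        rw [smul_smul, show a⁻¹ * f⁻¹ * a * a⁻¹ = (f * a)⁻¹ by group, inv_smul_eq_iff, mul_smul, e] }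
  have hHO : HO ≤ H := fun _ h => h.1
  have hcHK := coprime_of_semiregular hHK hsr
  obtain ⟨f₀, hf₀, hμ₀⟩ := exists_fixed_point (A := HO) (K := K) (hHO.trans hHK)
    (coprime_of_le_left hcHK hHO) (Or.inr hKs) (x := lam) (fun a ha => ha.2)
  set μ₀ := f₀ • lam with hμ₀def
  have hdich : ∀ f ∈ K, f • μ₀ ≠ μ₀ → ∀ c ∈ fixSub ψ H, (f • μ₀) c = 1 := by
    intro f hf hne'
    refine hR _ (τ f (τ f₀ w₀)) (hτ0 _ _ (hτ0 _ _ hw₀)) (hwt _ _ _ (hwt _ _ _ hw₀')) ?_
    intro h hh e
    by_contra h1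
    have h2 : h ∈ HO := by
      refine ⟨hh, (f * f₀)⁻¹ * (h * (f * f₀) * h⁻¹), K.mul_mem (K.inv_mem (K.mul_mem hf hf₀))
        (conj_mem_of_le_normalizer hHK hh (K.mul_mem hf hf₀)), ?_⟩
      rw [smul_smul, show (f * f₀)⁻¹ * (h * (f * f₀) * h⁻¹) * h = (f * f₀)⁻¹ * (h * (f * f₀)) by group,
        mul_smul, inv_smul_eq_iff, mul_smul, mul_smul, e]
    have h3 : zpowers h ≤ HO := zpowers_le.2 h2
    obtain ⟨c, hc1, hc2⟩ := exists_centralizer_smul_eq (A := zpowers h) (K := K)
      ((h3.trans hHO).trans hHK) (coprime_of_le_left hcHK (h3.trans hHO)) (Or.inr hKs)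
      (x := μ₀) (fun a ha => hμ₀ a (h3 ha)) hf
      (fun a ha => (zpowers_le.2 (MulAction.mem_stabilizer_iff.2 e) ha :))
    rw [centralizer_zpowers, hsr h hh h1, mem_bot] at hc1
    rw [hc1, one_smul] at hc2
    exact hne' hc2.symm
  have hpowQ : ∀ (μ : Q →* k) (x : Q), μ x ^ Nat.card Q = 1 := fun μ x => by
    rw [← map_pow, pow_card_eq_one', map_one]
  have hμc : ∀ c ∈ fixSub ψ H, μ₀ c = 1 := by
    intro c hcH
    have h1 : ∏ f : K, ((f : A) • μ₀) c = 1 := by
      have h2 := prod_mem_fixSub ψ K c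
      rw [hfix, mem_bot] at h2
      rw [← map_one μ₀, ← h2, map_prod]
      exact Fintype.prod_equiv (Equiv.inv K) _ _ fun f => rfl
    rw [← Finset.prod_filter_mul_prod_filter_not Finset.univ (fun f : K => (f : A) • μ₀ = μ₀),
      Finset.prod_eq_one (s := Finset.univ.filter fun f : K => ¬ (f : A) • μ₀ = μ₀)
        (fun f hf => hdich f f.2 (Finset.mem_filter.1 hf).2 c hcH), mul_one,
      Finset.prod_congr rfl (g := fun _ => μ₀ c)
        (fun f hf => by rw [(Finset.mem_filter.1 hf).2]), Finset.prod_const] at h1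
    have h3 : (Finset.univ.filter fun f : K => (f : A) • μ₀ = μ₀).card =
        Nat.card ((MulAction.stabilizer A μ₀).subgroupOf K) := by
      rw [Nat.card_eq_fintype_card, Fintype.card_subtype]
      congr 1
      exact Finset.filter_congr fun _ _ => Iff.rfl
    rw [h3] at h1
    exact eq_one_of_pow_coprime (Nat.Coprime.coprime_dvd_left (card_subgroup_dvd_card _) hcop) h1
      (hpowQ _ _)
  have hall : ∀ f ∈ K, ∀ c ∈ fixSub ψ H, (f • μ₀) c = 1 := by
    intro f hf c hcH
    by_cases e : f • μ₀ = μ₀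
    · rw [e]; exact hμc c hcH
    · exact hdich f hf e c hcH
  have hone : ∀ x, μ₀ x = 1 := by
    intro x
    refine eq_one_of_pow_coprime hcop ?_ (hpowQ _ _)
    rw [← map_pow, ← prod_conj_norm ψ hHK hsr hfix x, map_prod]
    refine Finset.prod_eq_one fun f _ => ?_
    have := hall _ (K.inv_mem f.2) _ (prod_mem_fixSub ψ H (ψ (f : A)⁻¹ x))
    rwa [hsm, inv_inv] at this
  apply hlam
  have := hone (ψ f₀ x₀)
  rwa [hμ₀def, hsm, act_act, inv_mul_cancel, act_one] at this

end H83
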