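import Mathlib
import Cfsg.Agent.Base
import Cfsg.Agent.Lib.FGS83.FH2
import Cfsg.Agent.Lib.FGS83.FH3
import Cfsg.Agent.Lib.FGS.NilpCover

/-!
# Frobenius groups of operators with fixed-point-free kernel (helper83)
-/

set_option autoImplicit false

namespace H83

open Subgroup H2 H68

variable {A G : Type*} [Group A] [Group G]

/-- A normal solvable operator subgroup acting coprimely without fixed points fixes a unique
Sylow subgroup, which is therefore invariant under all operators. -/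
theorem exists_inv_sylowIn_of_fpf [Finite G] (φ : A →* MulAut G) (L : Subgroup A) [hL : L.Normal]
    (hLs : Group.IsSolvable L) (hfix : fixSub φ L = ⊥)
    (hcop : (Nat.card (L.map φ)).Coprime (Nat.card G)) (p : ℕ) [Fact p.Prime] :
    ∃ P, SylowIn p P ⊤ ∧ ∀ a, ∀ x ∈ P, φ a x ∈ P := by
  have hcop' : (Nat.card (L.map φ)).Coprime (Nat.card (⊤ : Subgroup G)) := by rwa [card_top]
  have hs : Group.IsSolvable (L.map φ) ∨ Group.IsSolvable (⊤ : Subgroup G) :=
    Or.inl (H1.isSolvable_map hLs φ)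
  obtain ⟨P, hP, hPi⟩ := ext_exists_invariant_sylowIn (φ := MonoidHom.id (MulAut G))
    (K := ⊤) (B := L.map φ) (fun _ _ _ _ => mem_top _) hcop' hs p
  have hPi' : ∀ b ∈ L, ∀ x ∈ P, φ b x ∈ P := fun b hb x hx => hPi _ ⟨b, hb, rfl⟩ x hx
  refine ⟨P, hP, fun a => inv_of_map_eq φ ?_⟩
  have h1 : SylowIn p (P.map ((φ a : G ≃* G) : G →* G)) ⊤ := by
    have := hP.map ((φ a : G ≃* G) : G →* G)
    rwa [map_top_of_surjective _ (φ a).surjective] at this
  obtain ⟨k, -, hk⟩ := hP.exists_cj_eq h1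
  obtain ⟨c, hc, e⟩ := ext_exists_fixSub_cj_eq (φ := MonoidHom.id (MulAut G))
    (K := ⊤) (B := L.map φ) (U := P) (fun _ _ _ _ => mem_top _) hcop' hs hPi (mem_top k) (by
      rw [hk]
      rintro _ ⟨b, hb, rfl⟩ _ ⟨x, hx, rfl⟩
      refine ⟨φ (a⁻¹ * b * a) x, hPi' _ (by simpa using hL.conj_mem b hb a⁻¹) x hx, ?_⟩
      change φ a (φ (a⁻¹ * b * a) x) = φ b (φ a x)
      rw [act_act, act_act]
      congr 2
      group)
  have hc1 : c ∈ fixSub φ L := fun b hb => hc.2 _ ⟨b, hb, rfl⟩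
  rw [hfix, mem_bot] at hc1
  rw [← hk, ← e, hc1, cj_one]

theorem coprime_card_map_of_trivial [Finite A] [Finite G] (φ : A →* MulAut G) {F L : Subgroup A}
    (hF : Group.IsNilpotent F) (hLF : L ≤ F)
    (h : ∀ r : ℕ, r.Prime → r ∣ Nat.card G → r ∣ Nat.card L → fixSub φ (Cfsg.pCoreOf r F) = ⊤) :
    (Nat.card (L.map φ)).Coprime (Nat.card G) := by
  apply Nat.coprime_of_dvd
  intro r hr h1 h2
  have : Fact r.Prime := ⟨hr⟩
  have h3 := h r hr h2 (h1.trans (card_map_dvd L φ))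
  obtain ⟨_, ⟨f, hf, rfl⟩, ho⟩ := H1.exists_mem_orderOf_eq_prime hr h1
  obtain ⟨a, m, hm, e⟩ := Nat.exists_eq_pow_mul_and_not_dvd (orderOf_pos f).ne' r hr.ne_one
  have h4 : f ^ m ∈ Cfsg.pCoreOf r F := mem_pCoreOf_of_isNilpotent hF (pow_mem (hLF hf) m)
    (n := a) (by rw [← pow_mul, mul_comm, ← e, pow_orderOf_eq_one])
  have h5 : φ f ^ m = 1 := by
    rw [← map_pow]
    ext x
    exact (h3 ▸ mem_top x : x ∈ fixSub φ (Cfsg.pCoreOf r F)) _ h4
  have h6 := orderOf_dvd_of_pow_eq_one h5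
  rw [ho] at h6
  exact hm h6

theorem exists_inv_odd_pSubgroup [Finite A] [Finite G] (φ : A →* MulAut G) (F : Subgroup A)
    [hFn : F.Normal] (hF : Group.IsNilpotent F) (hfix : fixSub φ F = ⊥)
    (hnil : ∀ M : Subgroup G, (∀ a, ∀ x ∈ M, φ a x ∈ M) → M ≠ ⊤ → Group.IsNilpotent M)
    (h2 : ¬ IsPGroup 2 G) : ∃ p : ℕ, p.Prime ∧ p ≠ 2 ∧ ∃ R : Subgroup G, IsPGroup p R ∧
      (∀ a, ∀ x ∈ R, φ a x ∈ R) ∧ R ≠ ⊥ := by
  by_contra hcon
  have hodd : ∀ M : Subgroup G, (∀ a, ∀ x ∈ M, φ a x ∈ M) → M ≠ ⊤ → ∀ r : ℕ, r.Prime →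
      r ∣ Nat.card M → r = 2 := by
    intro M hM hne r hr hd
    by_contra hr2
    have : Fact r.Prime := ⟨hr⟩
    exact hcon ⟨r, hr, hr2, Cfsg.pCoreOf r M, H1.isPGroup_pCoreOf _, inv_pCoreOf φ hM r,
      pCoreOf_ne_bot_of_isNilpotent (hnil M hM hne) hd⟩
  have htriv : ∀ r : ℕ, r.Prime → r ∣ Nat.card G → r ≠ 2 → fixSub φ (Cfsg.pCoreOf r F) = ⊤ := by
    intro r hr hd hr2
    by_contra hne
    have : Fact r.Prime := ⟨hr⟩
    have h1 := dvd_card_inf_fixSub φ (Cfsg.pCoreOf r F) ⊤ (fun _ _ _ _ => mem_top _)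
      (p := r) (by rwa [card_top]) (fun a ha => by
        obtain ⟨n, hn⟩ := isPGroup_iff_forall.1 (H1.isPGroup_pCoreOf (p := r) F) a ha
        exact ⟨n, fun x _ => by rw [hn, act_one]⟩)
    rw [top_inf_eq] at h1
    refine hr2 (hodd _ (fun a => fixSub_inv φ (C := ⊤) ?_ a (mem_top a)) hne r hr h1)
    exact (normalizer_eq_top F).ge.trans (H1.normalizer_le_normalizer_pCoreOf F)
  obtain ⟨r, hr, hd, hr2⟩ : ∃ r : ℕ, r.Prime ∧ r ∣ Nat.card G ∧ r ≠ 2 := by
    by_contra hh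
    push Not at hh
    exact h2 (IsPGroup.of_card (Nat.eq_prime_pow_of_unique_prime_dvd Nat.card_pos.ne'
      (fun {d} hd h => hh d hd h)))
  have : Fact r.Prime := ⟨hr⟩
  suffices ∃ P, SylowIn r P ⊤ ∧ ∀ a, ∀ x ∈ P, φ a x ∈ P by
    obtain ⟨P, hP, hPi⟩ := this
    exact hcon ⟨r, hr, hr2, P, hP.isPGroup, hPi, hP.ne_bot (by rwa [card_top])⟩
  obtain ⟨K, hKF, hnK, hcop, hK⟩ := exists_pPrime_part F hF 2
  have hKn : K.Normal := normalizer_eq_top_iff.1 (eq_top_iff.2 ((normalizer_eq_top F).ge.trans hnK))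
  have hKi : ∀ a, ∀ x ∈ fixSub φ K, φ a x ∈ fixSub φ K :=
    fun a => fixSub_inv φ (C := ⊤) (normalizer_eq_top K).ge a (mem_top a)
  by_cases hC : fixSub φ K = ⊤
  · have hG2 : ¬ 2 ∣ Nat.card G := by
      intro hd2
      have h1 := dvd_card_inf_fixSub φ F ⊤ (fun _ _ _ _ => mem_top _)
        (p := 2) (by rwa [card_top]) (fun a ha => by
          obtain ⟨n, hn⟩ := hK a ha
          exact ⟨n, fun x _ => (hC ▸ mem_top x : x ∈ fixSub φ K) _ hn⟩)
      rw [hfix, inf_bot_eq, card_bot] at h1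
      omega
    exact exists_inv_sylowIn_of_fpf φ F inferInstance hfix
      (coprime_card_map_of_trivial φ hF le_rfl
        (fun s hs h1 _ => htriv s hs h1 (by rintro rfl; exact hG2 h1))) r
  · have hC2 : IsPGroup 2 (fixSub φ K) :=
      IsPGroup.of_card (Nat.eq_prime_pow_of_unique_prime_dvd Nat.card_pos.ne'
        (fun {d} hd h => hodd _ hKi hC d hd h))
    have h0 := fpf_of_pPrime_part φ (le_normalizer.trans hnK) hK hC2 (fun a _ => hKi a)
      (by rw [hfix, inf_bot_eq])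
    rw [inf_idem] at h0
    have := H1.isNilpotent_of_le hF hKF
    exact exists_inv_sylowIn_of_fpf φ K inferInstance h0
      (coprime_card_map_of_trivial φ hF hKF
        (fun s hs h1 h3 => htriv s hs h1 (by
          rintro rfl
          exact (Nat.Prime.coprime_iff_not_dvd Nat.prime_two).1 hcop.symm h3))) r

theorem fixSub_subAut_eq_bot (φ : A →* MulAut G) {F : Subgroup A} (hfix : fixSub φ F = ⊥)
    (M : Subgroup G) (hM : ∀ a, ∀ x ∈ M, φ a x ∈ M) : fixSub (subAut φ M hM) F = ⊥ := by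
  rw [eq_bot_iff]
  intro x hx
  have : (x : G) ∈ fixSub φ F := fun b hb => congrArg Subtype.val (hx b hb)
  rw [hfix, mem_bot] at this
  exact mem_bot.2 (Subtype.ext this)

theorem map_fixSub_subAut (φ : A →* MulAut G) (H : Subgroup A)
    (M : Subgroup G) (hM : ∀ a, ∀ x ∈ M, φ a x ∈ M) :
    (fixSub (subAut φ M hM) H).map M.subtype = M ⊓ fixSub φ H := by
  apply le_antisymm
  · rintro _ ⟨x, hx, rfl⟩
    exact ⟨x.2, fun b hb => congrArg Subtype.val (hx b hb)⟩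
  · intro x hx
    exact ⟨⟨x, hx.1⟩, fun b hb => Subtype.ext (hx.2 b hb), rfl⟩

theorem mem_fixSub_quotAut (φ : A →* MulAut G) (H : Subgroup A) (N : Subgroup G) [N.Normal]
    (hN : ∀ a, ∀ x ∈ N, φ a x ∈ N) (g : G) :
    (g : G ⧸ N) ∈ fixSub (quotAut φ N hN) H ↔ ∀ h ∈ H, g⁻¹ * φ h g ∈ N := by
  refine forall₂_congr fun h _ => ?_
  rw [quotAut_mk, eq_comm, QuotientGroup.eq]

/-- The conjugation action of `G ⧸ V` on an abelian normal subgroup `V`. -/
def quotConj (V : Subgroup G) [V.Normal] (hV : IsMulCommutative V) : G ⧸ V →* MulAut V :=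
  QuotientGroup.lift V MulAut.conjNormal (fun x hx => by
    ext y
    have := congrArg Subtype.val (hV.is_comm.comm ⟨x, hx⟩ y)
    simp only [coe_mul] at this
    simp [this])

theorem coe_quotConj (V : Subgroup G) [V.Normal] (hV : IsMulCommutative V) (g : G) (v : V) :
    (quotConj V hV g v : G) = g * v * g⁻¹ := rfl

end H83
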