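import Mathlib
import Cfsg.Agent.Lib.FGS83.MacG
import Cfsg.Agent.Lib.TwoGrp.Three
import Cfsg.Agent.Lib.FGS.SmallExp
import Cfsg.Agent.Lib.PGroup.Extra

/-!
# `2`-groups without normal `E₈` that equal their commutator with an odd group of automorphisms
(helper83)
-/

set_option autoImplicit false

namespace H83.Scn

open Subgroup H83.Mac
open scoped commutatorElement

variable {X : Type*} [Group X]

theorem fix_of_sq {φ : MulAut X} (ho : Odd (orderOf φ)) {x : X} (h : φ (φ x) = x) : φ x = x := by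
  obtain ⟨k, hk⟩ := ho
  have h1 : φ * φ ∈ MulAction.stabilizer (MulAut X) x := h
  have h2 := pow_mem h1 (k + 1)
  rwa [← pow_two, ← pow_mul, show 2 * (k + 1) = 2 * k + 1 + 1 by ring, pow_succ, ← hk,
    pow_orderOf_eq_one, one_mul] at h2

theorem fix_of_two [Finite X] {φ : MulAut X} (ho : Odd (orderOf φ)) {S : Set X}
    (hS : ∀ x ∈ S, φ x ∈ S) (h2 : S.ncard ≤ 2) {x : X} (hx : x ∈ S) : φ x = x := by
  by_contra hne
  have h1 : ({φ x, x} : Set X) = S := Set.eq_of_subset_of_ncard_le (by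
    rintro _ (rfl | rfl); exacts [hS _ hx, hx]) (by rwa [Set.ncard_pair hne])
  have := hS _ (hS _ hx)
  rw [← h1] at this
  exact hne (this.elim (fun e => φ.injective e) (fix_of_sq ho))

/-- the involutions of an abelian subgroup -/
def om (H : Subgroup X) (hc : ∀ x ∈ H, ∀ y ∈ H, x * y = y * x) : Subgroup X where
  carrier := {x | x ∈ H ∧ x * x = 1}
  mul_mem' := fun {x y} hx hy => ⟨H.mul_mem hx.1 hy.1, by
    rw [mul_assoc, ← mul_assoc y, ← hc x hx.1 y hy.1, mul_assoc, hy.2, mul_one, hx.2]⟩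
  one_mem' := ⟨H.one_mem, one_mul 1⟩
  inv_mem' := fun {x} hx => ⟨H.inv_mem hx.1, by rw [← mul_inv_rev, hx.2, inv_one]⟩

/-- the central involutions -/
abbrev V (X : Type*) [Group X] : Subgroup X := om (center X) fun _ _ y hy => mem_center_iff.1 hy _

theorem V_le : V X ≤ center X := fun _ hx => hx.1

instance V_normal : (V X).Normal := ⟨fun x hx g => by rwa [fix_of_center hx.1]⟩

theorem V_aut (φ : MulAut X) {x : X} (hx : x ∈ V X) : φ x ∈ V X :=
  ⟨H5.aut_mem_of_characteristic inferInstance φ hx.1, by rw [← map_mul, hx.2, map_one]⟩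

/-- the preimage of the central involutions of `X / V` -/
def Y (X : Type*) [Group X] : Subgroup X where
  carrier := {y | y * y ∈ V X ∧ ∀ g, ⁅y, g⁆ ∈ V X}
  mul_mem' := fun {x y} hx hy => ⟨by
    have : x * y * (x * y) = x * ⁅y, x⁆ * x⁻¹ * (x * x) * (y * y) := by
      rw [commutatorElement_def]; group
    rw [this]; exact mul_mem (mul_mem (V_normal.conj_mem _ (hy.2 x) x) hx.1) hy.1, fun g => by
    have : ⁅x * y, g⁆ = x * ⁅y, g⁆ * x⁻¹ * ⁅x, g⁆ := by simp only [commutatorElement_def]; group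
    rw [this]; exact mul_mem (V_normal.conj_mem _ (hy.2 g) x) (hx.2 g)⟩
  one_mem' := ⟨by simp, fun g => by simp⟩
  inv_mem' := fun {x} hx => ⟨by rw [← mul_inv_rev]; exact inv_mem hx.1, fun g => by
    have : ⁅x⁻¹, g⁆ = x⁻¹ * ⁅x, g⁆⁻¹ * x := by simp only [commutatorElement_def]; group
    rw [this]; exact V_normal.conj_mem' _ (inv_mem (hx.2 g)) x⟩

instance Y_char : (Y X).Characteristic := H5.characteristic_of_aut_mem fun φ x hx =>
  ⟨by rw [← map_mul]; exact V_aut φ hx.1, fun g => by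
    have := V_aut φ (hx.2 (φ.symm g))
    rwa [map_commutatorElement, MulEquiv.apply_symm_apply] at this⟩

theorem V_le_Y : V X ≤ Y X := fun x hx => ⟨mul_mem hx hx, fun g => by
  rw [commutatorElement_eq_one_iff_mul_comm.2 (mem_center_iff.1 hx.1 g).symm]; exact one_mem _⟩

theorem sq_mem_cent (g : X) : g * g ∈ centralizer (Y X : Set X) :=
  mem_centralizer_iff.2 fun y hy => by
    have h1 := inv_mem (hy.2 g)
    rw [commutatorElement_inv] at h1
    refine (conj_eq_iff.1 ?_).symm
    calc g * g * y * (g * g)⁻¹ = g * ⁅g, y⁆ * g⁻¹ * ⁅g, y⁆ * y := by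
          simp only [commutatorElement_def]; group
      _ = y := by rw [fix_of_center h1.1, h1.2, one_mul]

theorem comm_le_of_sq {N : Subgroup X} (h : ∀ x, x * x ∈ N) : commutator X ≤ N :=
  commutator_le.2 fun x _ y _ => by
    have : ⁅x, y⁆ = x * x * ((x⁻¹ * y) * (x⁻¹ * y)) * (y⁻¹ * y⁻¹) := by
      rw [commutatorElement_def]; group
    rw [this]; exact mul_mem (mul_mem (h _) (h _)) (h _)

theorem card_invol [Finite X] : Nat.card {x : X // orderOf x = 2} + 1 = {x : X | x * x = 1}.ncard := by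
  have : {x : X | x * x = 1} = insert 1 {x | orderOf x = 2} := by
    ext x
    simp only [Set.mem_setOf_eq, Set.mem_insert_iff, orderOf_eq_prime_iff, pow_two]
    exact ⟨fun h => or_iff_not_imp_left.2 fun e => ⟨h, e⟩, fun h => h.elim (by rintro rfl; simp) (·.1)⟩
  rw [this, Set.ncard_insert_of_notMem (by simp)]; rfl

structure Hyp (A : Subgroup (MulAut X)) : Prop where
  two : IsPGroup 2 X
  na : ¬ IsMulCommutative X
  no8 : ∀ B : Subgroup X, B.Normal → IsMulCommutative B → (∀ a ∈ B, a ^ 2 = 1) → Nat.card B ≤ 4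
  odd : Odd (Nat.card A)
  gen : closure {x : X | ∃ g : X, ∃ a ∈ A, x = g⁻¹ * a g} = ⊤

namespace Hyp

variable [Finite X] {A : Subgroup (MulAut X)} (h : Hyp A)
include h

omit [Finite X] in
theorem odd' {φ : MulAut X} (hφ : φ ∈ A) : Odd (orderOf φ) :=
  h.odd.of_dvd_nat (orderOf_dvd_natCard A hφ)

omit [Finite X] in
theorem cop {φ : MulAut X} (hφ : φ ∈ A) : (orderOf φ).Coprime 2 :=
  Nat.coprime_two_right.2 (h.odd' hφ)

theorem cen {U : Subgroup X} [U.Characteristic] (hc : ∀ x ∈ U, ∀ y ∈ U, x * y = y * x)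
    (he : ∀ x ∈ U, x * x = 1) : U ≤ V X := by
  have h1 := index_cent_le h.two (h.no8 U inferInstance
    ⟨⟨fun x y => Subtype.ext (hc _ x.2 _ y.2)⟩⟩ fun a ha => by rw [pow_two, he a ha])
  have h2 : centralizer (U : Set X) = ⊤ := by
    by_contra e
    have h3 : (centralizer (U : Set X)).index = 2 := by
      have := index_eq_one.not.2 e
      have := (centralizer (U : Set X)).index_ne_zero_of_finite
      omega
    refine e (eq_top_iff.2 (h.gen ▸ (closure_le _).2 ?_))
    rintro _ ⟨g, a, -, rfl⟩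
    rw [SetLike.mem_coe, mul_mem_iff_of_index_two h3, inv_mem_iff]
    exact ⟨H5.aut_mem_of_characteristic inferInstance a, fun e => by
      simpa using H5.aut_mem_of_characteristic inferInstance a.symm e⟩
  exact fun u hu => ⟨mem_center_iff.2 fun g =>
    (mem_centralizer_iff.1 (h2 ▸ mem_top g) u hu).symm, he u hu⟩

theorem mem_comm {x : X} (hx : ∀ φ ∈ A, φ x = x) : x ∈ commutator X :=
  H5.mem_of_pow_mem_of_coprime h.two (Nat.coprime_two_right.2 h.odd)
    (H5.pow_card_mem_of_fixed A h.gen fun a ha => by rw [hx a ha, inv_mul_cancel]; exact one_mem _)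

theorem invol {U : Subgroup X} [U.Normal] (h4 : 4 ≤ Nat.card U) (hc : IsMulCommutative U)
    (he : ∀ x ∈ U, x * x = 1) {t : X} (ht : t * t = 1) (htc : t ∈ centralizer (U : Set X))
    (hg : ∀ g, ⁅t, g⁆ ∈ U) : t ∈ U := by
  by_contra e
  have hn := centralizer_le_normalizer _ htc
  have := h.no8 _ (H5.normal_sup_zpowers hg) (H5.isMulCommutative_sup_zpowers hc htc) fun a ha => by
    obtain ⟨k, hk, i, rfl⟩ := (H5.mem_sup_zpowers_iff_nat hn).1 ha
    rw [(Commute.pow_right (mem_centralizer_iff.1 htc k hk) i).mul_pow, pow_two, he k hk,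
      ← pow_mul, mul_comm i, pow_mul, pow_two, ht, one_pow, one_mul]
  rw [H5.card_sup_zpowers Nat.prime_two hn e (by rw [pow_two, ht]; exact one_mem _)] at this
  omega

theorem involV (h4 : Nat.card (V X) = 4) {t : X} (ht : t * t = 1) (hg : ∀ g, ⁅t, g⁆ ∈ V X) :
    t ∈ V X :=
  h.invol h4.ge ⟨⟨fun x y => Subtype.ext (mem_center_iff.1 y.2.1 _)⟩⟩ (fun _ hx => hx.2) ht
    (mem_centralizer_iff.2 fun _ hy => (mem_center_iff.1 hy.1 _).symm) hg

theorem end4 (h4 : Nat.card (V X) = 4) (hc : commutator X = V X) (hsq : ∀ x : X, x * x ∈ V X) :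
    Nat.card X = 64 ∧ Nat.card {x : X // orderOf x = 2} = 3 ∧
      ∀ x : X, orderOf x = 2 → x ∈ center X := by
  have h1 : ∀ x : X, x ∈ V X ↔ x * x = 1 := fun x => ⟨fun e => e.2, fun e =>
    h.involV h4 e fun g => hc ▸ commutator_mem_commutator (mem_top _) (mem_top _)⟩
  have c3 : H13.TG.C3 (V X) := ⟨h1, hsq, V_le, h4⟩
  refine ⟨?_, ?_, fun x hx => ((h1 x).2 (by rw [← pow_two, ← hx, pow_orderOf_eq_one])).1⟩
  swap
  · have := card_invol (X := X)
    rw [show {x : X | x * x = 1} = V X from Set.ext fun x => (h1 x).symm, ← card_eq_ncard] at this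
    omega
  by_contra h64
  have h3 : IsPGroup 3 A := by
    refine IsPGroup.of_card (Nat.eq_prime_pow_of_unique_prime_dvd Nat.card_pos.ne' fun {r} hr hd => ?_)
    haveI := Fact.mk hr
    obtain ⟨⟨φ, hφ⟩, e⟩ := exists_prime_orderOf_dvd_card' r hd
    rw [orderOf_mk] at e
    have h2 : r ≠ 2 := by rintro rfl; exact absurd (e ▸ h.odd' hφ) (by decide)
    by_contra h3
    have h5 := H13.TG.ncard_modEq (α := φ) (r := r) (e ▸ pow_orderOf_eq_one φ) (V X \ {1})
      fun x hx => ⟨V_aut φ hx.1, fun e => hx.2 (by simpa using e)⟩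
    have h6 : ((V X : Set X) \ {1}).ncard = 3 := by
      rw [Set.ncard_diff_singleton_of_mem (one_mem _), ← card_eq_ncard, h4]
    have h7 := Set.ncard_le_ncard (Set.inter_subset_left (s := (V X : Set X) \ {1})
      (t := H5.fixedSub φ))
    have h8 : 3 < r := by have := hr.two_le; omega
    have h9 := Set.eq_of_subset_of_ncard_le Set.inter_subset_left
      (Nat.ModEq.eq_of_lt_of_lt h5 (by omega) (by omega)).le
    rcases c3.prime_cases e (fun x hx => by
      by_cases hx1 : x = 1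
      · rw [hx1]; exact one_mem _
      · exact (h9.ge ⟨hx, hx1⟩).2) with e | e | e
    exacts [h2 e, h3 e, h64 e.2.1]
  let S : SubMulAction A X := ⟨{x | x ∉ V X}, fun φ x hx e => hx (by
    simpa using V_aut (φ : MulAut X).symm (show (φ : MulAut X) x ∈ V X from e))⟩
  have h5 := h3.card_modEq_card_fixedPoints S
  haveI : IsEmpty (MulAction.fixedPoints A S) := ⟨fun ⟨x, hx⟩ => x.2 (hc ▸ h.mem_comm fun φ hφ =>
    congrArg Subtype.val (hx ⟨φ, hφ⟩))⟩
  have h6 := Set.ncard_add_ncard_compl (V X : Set X)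
  rw [Nat.card_of_isEmpty (α := MulAction.fixedPoints A S), Nat.modEq_zero_iff_dvd] at h5
  change 3 ∣ (V X : Set X)ᶜ.ncard at h5
  rw [← card_eq_ncard, h4] at h6
  obtain ⟨n, hn⟩ := h.two.exists_card_eq
  have h7 := c3.card_le
  have h8 : n ≤ 6 := (Nat.pow_le_pow_iff_right one_lt_two).1 (hn ▸ h7)
  have h9 : Nat.card X ≠ 4 := fun e => h.na ⟨⟨fun x y => (mem_center_iff.1
    (V_le (eq_top_of_le_card (V X) (by omega) ▸ mem_top y)) x)⟩⟩
  have h10 : Nat.card X ≠ 16 := fun e => by
    have e1 := (V X).index_mul_card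
    obtain ⟨g, hg⟩ := taussky h.two (by rw [h4] at e1; rw [hc]; omega) (hc ▸ hsq)
    have e2 := (zpowers g).index_mul_card
    have := Nat.le_of_dvd (by norm_num) (orderOf_dvd_of_pow_eq_one (show g ^ 4 = 1 by
      rw [pow4]; exact (hsq g).2))
    rw [Nat.card_zpowers, hg] at e2
    omega
  interval_cases n <;> omega

theorem end2 (hx : Cfsg.IsExtraspecial 2 X) (hZ : center X = V X) :
    Nonempty (X ≃* QuaternionGroup 2) ∨
      (Nat.card X = 32 ∧ Nat.card {x : X // orderOf x = 2} = 11) := by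
  have h2 : Nat.card (V X) = 2 := hZ ▸ hx.2
  have hc : commutator X = V X := hx.1.2.2.trans hZ
  have hcm : ∀ x y : X, ⁅x, y⁆ ∈ V X := fun x y =>
    hc ▸ commutator_mem_commutator (mem_top _) (mem_top _)
  have hsq : ∀ x : X, x * x ∈ V X := fun x => by
    rw [← hZ, ← hx.1.2.1, ← pow_two]; exact H5.pow_mem_frattini h.two x
  by_cases ht : ∀ t : X, t * t = 1 → t ∈ V X
  · left
    have h1 : ∀ a : X, orderOf a = 2 → a ∈ V X ∧ a ≠ 1 := fun a ha =>
      ⟨ht a (by rw [← pow_two, ← ha, pow_orderOf_eq_one]), by rintro rfl; simp at ha⟩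
    refine (H79.cyclic_four_or_quaternion h.two (fun a b ha hb => (eq_of_card_two h2.le (h1 b hb).1
      (h1 b hb).2 (h1 a ha).1).resolve_left (h1 a ha).2) ?_ fun g hg => ?_).resolve_left
        fun e => h.na e.1.isMulCommutative
    · by_contra e
      push Not at e
      refine h.na ⟨⟨fun x y => mem_center_iff.1 (ht y ?_).1 x⟩⟩
      by_contra e1
      exact e y (orderOf_eq_prime_pow (x := y) (p := 2) (n := 1) (by rwa [pow_one, pow_two])
        (by rw [← (hsq y).2, ← pow4]; rfl) ▸ dvd_rfl)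
    · have := Nat.le_of_dvd (by norm_num) (hg.trans (orderOf_dvd_of_pow_eq_one (show g ^ 4 = 1 by
        rw [pow4]; exact (hsq g).2)))
      omega
  right
  push Not at ht
  obtain ⟨t, tt, htV⟩ := ht
  set C := centralizer ({t} : Set X)
  have hC : C.index = 2 := by
    have e1 : C.index ≤ _ := H13.TG.index_centralizer_le V_le hcm t
    have e2 : C.index ≠ 1 := fun e => htV ⟨mem_center_iff.2 fun g =>
      mem_centralizer_singleton_iff.1 (index_eq_one.1 e ▸ mem_top g : g ∈ C), tt⟩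
    have := C.index_ne_zero_of_finite
    omega
  have htc : t ∈ centralizer (V X : Set X) :=
    mem_centralizer_iff.2 fun _ hy => (mem_center_iff.1 hy.1 _).symm
  have hn := centralizer_le_normalizer _ htc
  set E := V X ⊔ zpowers t
  have hE4 : Nat.card E = 4 := by
    rw [H5.card_sup_zpowers Nat.prime_two hn htV (by rw [pow_two, tt]; exact one_mem _), h2]
  have hEc : ∀ s ∈ C, E ≤ centralizer {s} := fun s hs => sup_le
    (V_le.trans (center_le_centralizer _)) (zpowers_le.2 (mem_centralizer_singleton_iff.2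
      (mem_centralizer_singleton_iff.1 hs).symm))
  have hEC : E ≤ C := hEc t (mem_centralizer_singleton_iff.2 rfl)
  have hE2 : ∀ e ∈ E, e * e = 1 := fun a ha => by
    obtain ⟨k, hk, i, rfl⟩ := (H5.mem_sup_zpowers_iff_nat hn).1 ha
    rw [← pow_two, (Commute.pow_right (mem_centralizer_iff.1 htc k hk) i).mul_pow, pow_two, hk.2,
      ← pow_mul, mul_comm i, pow_mul, pow_two, tt, one_pow, one_mul]
  haveI : E.Normal := H5.normal_sup_zpowers (hcm t)
  have hI : ∀ s ∈ C, s * s = 1 → s ∈ E := fun s hs e => h.invol hE4.ge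
    ⟨⟨fun x y => Subtype.ext (mem_centralizer_singleton_iff.1 (hEc _ (hEC y.2) x.2))⟩⟩ hE2 e
    (mem_centralizer_iff.2 fun y hy => mem_centralizer_singleton_iff.1 (hEc s hs hy))
    fun g => mem_sup_left (hcm s g)
  have h3 := H13.TG.index_le_sq_of_anisotropic (F := (V X).subgroupOf C) (E := E.subgroupOf C)
    (fun x hx => mem_sup_left hx) (fun e he => Subtype.ext (hE2 _ he))
    (fun e he => mem_center_iff.2 fun g => Subtype.ext
      (mem_centralizer_singleton_iff.1 (hEc _ g.2 he)).symm) (fun x => hsq x)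
    fun x e => hI _ x.2 (congrArg Subtype.val e)
  rw [H3.card_subgroupOf_of_le (le_sup_left.trans hEC), h2] at h3
  have h4 := H3.relIndex_mul_card hEC
  have h5 := C.index_mul_card
  change E.relIndex C ≤ _ at h3
  obtain ⟨z, hw, -⟩ := H5.exists_wes_top hx
  obtain ⟨n, hn'⟩ := H5.WES.exists_card Nat.prime_two _ hw
  rw [card_top] at hn'
  set S : Set X := {x | x * x = 1}
  have h6 : ∀ g, g ∉ C → (t * g * (t * g) = 1 ↔ ¬ g * g = 1) := fun g hg => by
    have e1 : ⁅t, g⁆ ≠ 1 := fun e => hg (mem_centralizer_singleton_iff.2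
      (commutatorElement_eq_one_iff_mul_comm.1 e).symm)
    have e2 : t * g * (t * g) = ⁅t, g⁆ * (g * g) := by
      rw [commutatorElement_def, inv_eq_self tt]; group
    rw [e2]
    rcases eq_of_card_two h2.le (hcm t g) e1 (hsq g) with e | e <;> rw [e]
    · simpa using e1
    · simpa [e1] using (hcm t g).2
  have htC : ∀ g, g ∉ C → t * g ∉ C := fun g hg e =>
    hg ((mul_mem_cancel_left (mem_centralizer_singleton_iff.2 rfl)).1 e)
  have h7 : ((C : Set X)ᶜ ∩ S).ncard = ((C : Set X)ᶜ \ S).ncard := le_antisymm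
    (ncard_le_of_inj (t * ·) (fun g hg => ⟨htC g hg.1, fun e => (h6 g hg.1).1 e hg.2⟩)
      fun _ _ _ _ e => mul_left_cancel e)
    (ncard_le_of_inj (t * ·) (fun g hg => ⟨htC g hg.1, (h6 g hg.1).2 hg.2⟩)
      fun _ _ _ _ e => mul_left_cancel e)
  have h8 := Set.ncard_inter_add_ncard_diff_eq_ncard (C : Set X)ᶜ S
  have h9 := Set.ncard_inter_add_ncard_diff_eq_ncard S C
  have h10 := Set.ncard_add_ncard_compl (C : Set X)
  have h11 := Set.ncard_add_ncard_compl S
  rw [show S ∩ C = E from Set.ext fun x => ⟨fun e => hI x e.2 e.1, fun e => ⟨hE2 x e, hEC e⟩⟩,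
    Set.diff_eq, Set.inter_comm, ← card_eq_ncard] at h9
  rw [← card_eq_ncard] at h10
  rw [hC] at h5
  rw [hE4] at h4
  have h12 := card_invol (X := X)
  change _ = S.ncard at h12
  have h13 : 2 * n + 1 ≤ 5 := (Nat.pow_le_pow_iff_right one_lt_two).1 (by nlinarith)
  have h14 := card_le_of_le hEC
  have h15 : Nat.card X ≠ 8 := fun e => by
    obtain ⟨x, hxS⟩ := Set.nonempty_of_ncard_ne_zero (s := Sᶜ) (by omega)
    refine hxS (hc ▸ h.mem_comm fun φ hφ => fix_of_two (h.odd' hφ) (S := Sᶜ) (fun y hy e => hy ?_)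
      (by omega) hxS : x ∈ V X).2
    exact φ.injective (by rw [map_mul, map_one]; exact e)
  have : n ≤ 2 := by omega
  interval_cases n <;> omega

theorem card_V : Nat.card (V X) ≤ 4 := h.no8 _ inferInstance
  ⟨⟨fun x y => Subtype.ext (mem_center_iff.1 y.2.1 _)⟩⟩ fun a ha => by rw [pow_two, ha.2]

theorem four {α : MulAut X} {v : X} (hv : v ∈ V X) (hv1 : v ≠ 1) (hne : α v ≠ v) {u : X}
    (hu : u ∈ V X) : u = 1 ∨ u = v ∨ u = α v ∨ u = v * α v :=
  mem_four (s := (V X : Set X)) h.card_V hv1 (by simpa using hv1) hne.symm (fun e => hne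
    ((eq_inv_of_mul_eq_one_right e).trans (inv_eq_self hv.2))) (one_mem _) hv (V_aut α hv)
    (mul_mem hv (V_aut α hv)) hu

theorem fixV {φ : MulAut X} (hφ : φ ∈ A) {v : X} (hv : v ∈ V X) (hv1 : v ≠ 1) (e : φ v = v) :
    ∀ u ∈ V X, φ u = u := fun u hu => by
  by_cases h1 : u ∈ ({1, v} : Set X)
  · rcases h1 with rfl | rfl
    exacts [map_one _, e]
  refine fix_of_two (h.odd' hφ) (S := (V X : Set X) \ {1, v}) (fun x hx => ⟨V_aut φ hx.1, fun e1 =>
    hx.2 (e1.imp (fun e2 => by simpa using e2) fun e2 => φ.injective (e2.trans e.symm))⟩) ?_ ⟨hu, h1⟩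
  have := h.card_V
  rw [Set.ncard_diff (by rintro _ (rfl | rfl); exacts [one_mem _, hv]), Set.ncard_pair hv1.symm,
    ← card_eq_ncard]
  omega

theorem moving {α : MulAut X} (hα : α ∈ A) {v : X} (hv : v ∈ V X) (hne : α v ≠ v) :
    Nat.card (V X) = 4 ∧ center X = V X ∧ commutator X = V X ∧ ∀ x : X, x * x ∈ V X := by
  have hfp : ∀ u ∈ V X, u ≠ 1 → α u ≠ u := fun u hu h1 e => hne (h.fixV hα hu h1 e v hv)
  have hv1 : v ≠ 1 := by rintro rfl; simp at hne
  have h4 : Nat.card (V X) = 4 := by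
    have e1 := h.card_V
    by_contra e
    have e2 := card_le_of_lt h.two (H := V X) (m := 1) (by omega)
    exact ((eq_of_card_two e2 hv hv1 (V_aut α hv)).elim (by simpa using hv1) hne)
  refine ⟨h4, ?_⟩
  by_cases hW : Y X ⊓ centralizer (Y X : Set X) ≤ V X
  · have h1 : centralizer (Y X : Set X) ≤ V X := by
      by_contra e
      obtain ⟨x, h1, h2, h3, h5⟩ := H5.exists_step h.two (V X) _ e
      exact h2 (hW ⟨⟨pow_two x ▸ h3, h5⟩, h1⟩)
    have h2 : ∀ x : X, x * x ∈ V X := fun x => h1 (sq_mem_cent x)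
    refine ⟨le_antisymm ((center_le_centralizer _).trans h1) V_le,
      le_antisymm (comm_le_of_sq h2) fun u hu => ?_, h2⟩
    obtain ⟨x, hx, hx1⟩ := (commutator X).bot_or_exists_ne_one.resolve_left fun e =>
      h.na ((commutator_eq_bot_iff X).1 e)
    have hxV := comm_le_of_sq h2 hx
    have := H5.aut_mem_of_characteristic inferInstance α hx
    rcases h.four hxV hx1 (hfp x hxV hx1) hu with rfl | rfl | rfl | rfl
    exacts [one_mem _, hx, this, mul_mem hx this]
  exfalso
  have surj : ∀ N : Subgroup X, N.Characteristic → N ≤ Y X ⊓ centralizer (Y X : Set X) →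
      ¬ N ≤ V X → Y X ≤ N ⊔ V X := fun N hN h1 h2 y hy => by
    obtain ⟨w, hw, hwV⟩ := SetLike.not_le_iff_exists.1 h2
    have hw' := H5.aut_mem_of_characteristic hN α hw
    have e1 : w * w ≠ 1 := fun e => hwV (h.involV h4 e (h1 hw).1.2)
    obtain ⟨x, hx, e⟩ : ∃ x ∈ N, x * x = y * y := by
      rcases h.four (h1 hw).1.1 e1 (hfp _ (h1 hw).1.1 e1) hy.1 with e | e | e | e <;> rw [e]
      exacts [⟨1, one_mem _, one_mul 1⟩, ⟨w, hw, rfl⟩, ⟨_, hw', (map_mul _ _ _).symm⟩,
        ⟨_, mul_mem hw hw', by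
          rw [map_mul, mul_assoc, ← mul_assoc (α w), mem_centralizer_iff.1 (h1 hw).2 _ (h1 hw').1]
          group⟩]
    have e2 := (Y X).mul_mem ((Y X).inv_mem (h1 hx).1) hy
    simpa using mul_mem (mem_sup_left hx) (mem_sup_right (h.involV h4 (by
      rw [mul_assoc, ← mul_assoc y, mem_centralizer_iff.1 (inv_mem (h1 hx).2) y hy, mul_assoc, ← e]
      group) e2.2) : _ ∈ N ⊔ V X)
  have hVC : V X ≤ centralizer (Y X : Set X) := V_le.trans (center_le_centralizer _)
  have hYC : Y X ≤ centralizer (Y X : Set X) := (surj _ (H5.characteristic_inf inferInstance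
    inferInstance) le_rfl hW).trans (sup_le inf_le_right hVC)
  obtain ⟨W, k, hYW⟩ := exists_WS h.two (Y X)
    ⟨⟨fun x y => Subtype.ext (mem_centralizer_iff.1 (hYC y.2) _ x.2)⟩⟩ fun a ha => by
      rw [pow4]; exact ha.1.2
  have hV : V X = k.V := eq_of_le_of_card_ge (fun x hx => ⟨hYW (V_le_Y hx), hx.2⟩)
    (h4 ▸ h.no8 _ k.V_normal k.V_comm fun a ha => by rw [pow_two, ha.2])
  obtain rfl : Y X = W := by
    refine eq_of_le_of_card_ge hYW ?_
    have e1 := card_le_of_le k.P_le
    obtain ⟨w, hw, hwV⟩ := SetLike.not_le_iff_exists.1 hW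
    have e2 : ¬ Nat.card (Y X) < 16 := fun e => by
      have e3 := card_le_of_lt h.two (m := 3) e
      have e4 : w * w ≠ 1 := fun e => hwV (h.involV h4 e hw.1.2)
      have hw' := H5.aut_mem_of_characteristic inferInstance α hw.1
      rcases mem_cases V_le_Y (by omega) hw.1 hwV hw' with e5 | e5
      · exact hwV (by simpa using V_aut α.symm e5)
      · refine hfp _ hw.1.1 e4 ?_
        have := e5.2
        rw [mul_assoc, ← mul_assoc (α w), mem_centralizer_iff.1 (inv_mem hw.2) _ hw', mul_assoc,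
          ← mul_assoc, ← mul_inv_rev, inv_mul_eq_one, ← map_mul] at this
        exact this.symm
    rw [k.card_W, ← hV, h4] at *
    omega
  have faith : ∀ φ ∈ A, φ v = v → φ = 1 := fun φ hφ e => by
    have h1 := h.fixV hφ hv hv1 e
    have h2 : ∀ y ∈ Y X, φ y = y := fun y hy => H5.aut_apply_eq_of_isPGroup h.two φ (h.cop hφ)
      (h1 _ (hV ▸ k.mem_V_of_sq (H5.aut_mem_of_characteristic inferInstance φ hy) hy
        (by rw [← map_mul, h1 _ hy.1])))
    refine H5.aut_eq_one_of_centralizer h.two φ (h.cop hφ) _ h2 fun x hx => ?_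
    have := H5.aut_eq_one_of_omega_two (h.two.to_subgroup _)
      (MulAut.characteristic (centralizer (Y X : Set X)) φ)
      ((h.cop hφ).coprime_dvd_left (orderOf_map_dvd _ _)) fun c hc =>
        Subtype.ext (h2 _ (k.alp _ c.2 (congrArg Subtype.val hc)))
    exact congrArg Subtype.val (DFunLike.congr_fun this ⟨x, hx⟩)
  have e2 : α (α v) = v * α v := by
    rcases h.four hv hv1 hne (V_aut α (V_aut α hv)) with e | e | e | e
    exacts [absurd (by simpa using e) hv1, absurd (fix_of_sq (h.odd' hα) e) hne,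
      absurd (α.injective e) hne, e]
  have e3 : α (α (α v)) = v := by
    rw [e2, map_mul, e2, ← mul_assoc, mem_center_iff.1 hv.1, mul_assoc, (V_aut α hv).2, mul_one]
  have h3 : α ^ 3 = 1 := faith _ (pow_mem hα 3) e3
  have hf : ∀ x, α x = x → x = 1 := fun x hx => by
    have h1 := comm_le_of_sq sq_mem_cent (h.mem_comm (x := x) fun φ hφ => by
      rcases h.four hv hv1 hne (V_aut φ hv) with e | e | e | e
      · exact absurd (by simpa using e) hv1
      · rw [faith φ hφ e]; rfl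
      · rw [← inv_mul_eq_one.1 (faith (α⁻¹ * φ) (mul_mem (inv_mem hα) hφ) (by simp [e])), hx]
      · rw [← inv_mul_eq_one.1 (faith ((α * α)⁻¹ * φ) (mul_mem (inv_mem (mul_mem hα hα)) hφ)
          (by simp [e, ← e2])), MulAut.mul_apply, hx, hx])
    by_contra e
    obtain ⟨j, e1, e4⟩ := exists_pw h.two (x := x) (m := 0) (by simpa using e)
    exact hfp _ (hV ▸ k.mem_V_of_C (pow_mem h1 _) (by simpa [pow_two] using e4)) (by simpa using e1)
      (by rw [map_pow, hx])
  obtain ⟨hn, hcl⟩ := H79.class_le_two_of_fpf_three α h3 hf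
  have hc := H13.TG.commutator_mem_center_of_class hcl
  by_cases hZ : center X ≤ V X
  · have : ∀ x, x ∈ Y X := fun x => ⟨hZ (mem_center_iff.2 fun g =>
      (commutatorElement_eq_one_iff_mul_comm.1 (by
        rw [← pow_two, H5.commutator_pow_left (mem_center_iff.1 (hc x g) x), pow_two]
        exact (hZ (hc x g)).2)).symm), fun g => hZ (hc x g)⟩
    exact h.na ⟨⟨fun x y => k.comm x (this x) y (this y)⟩⟩
  obtain ⟨z, hz, hzV⟩ := SetLike.not_le_iff_exists.1 hZ
  obtain ⟨j, e4, e5⟩ := k.exists_four h.two (center_le_centralizer _ hz) fun e => hzV ⟨hz, e⟩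
  have h5 := (surj (Y X ⊓ center X) (H5.characteristic_inf inferInstance inferInstance)
    (inf_le_inf_left _ (center_le_centralizer _)) fun e => e5 (e ⟨e4, pow_mem hz _⟩).2).trans
      (sup_le inf_le_right V_le)
  obtain ⟨a, b, hab⟩ := SR.two_gen h.two (fun H K _ hsq => (k.rel_C h.two (fun x _ =>
    mem_centralizer_iff.2 fun y hy => (mem_center_iff.1 (h5 hy) x).symm) hsq).trans (by rw [← hV, h4]; rfl))
  haveI : (zpowers ⁅a, b⁆).Normal := ⟨fun x hx g => by
    rwa [fix_of_center (zpowers_le.2 (hc a b) hx)]⟩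
  have h6 : commutator X ≤ zpowers ⁅a, b⁆ := by
    let f := QuotientGroup.mk' (zpowers ⁅a, b⁆)
    have e6 : Commute (f a) (f b) := by
      rw [← commutatorElement_eq_one_iff_commute, ← map_commutatorElement]
      exact (QuotientGroup.eq_one_iff _).2 (mem_zpowers _)
    have e7 : ∀ c, Commute (f a) c → Commute (f b) c → ∀ x, Commute (f x) c := fun c c1 c2 x =>
      mem_centralizer_singleton_iff.1 (show x ∈ (centralizer {c}).comap f from
        (sup_le (zpowers_le.2 (mem_centralizer_singleton_iff.2 c1))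
          (zpowers_le.2 (mem_centralizer_singleton_iff.2 c2)) : _ ≤ (centralizer {c}).comap f)
            (hab ▸ mem_top x))
    refine commutator_le.2 fun x _ y _ => (QuotientGroup.eq_one_iff _).1 ?_
    change f ⁅x, y⁆ = 1
    rw [map_commutatorElement, commutatorElement_eq_one_iff_commute]
    exact e7 _ (e7 _ rfl e6.symm y).symm (e7 _ e6 rfl y).symm x
  obtain ⟨u, hu, huc, hu2⟩ := H5.exists_mem_center_orderOf_eq h.two (commutator X) fun e =>
    h.na ((commutator_eq_bot_iff X).1 e)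
  have hu1 : u ≠ 1 := by rintro rfl; simp at hu2
  have huV : u ∈ V X := ⟨huc, by rw [← pow_two, ← hu2, pow_orderOf_eq_one]⟩
  exact H5.not_isCyclic_of_two_invol (h6 hu) (h6 (H5.aut_mem_of_characteristic inferInstance α hu))
    hu1 (by simpa using hu1) (hfp u huV hu1) huV.2 (V_aut α huV).2 inferInstance

theorem main : Nonempty (X ≃* QuaternionGroup 2) ∨
    (Cfsg.IsSpecial 2 X ∧ Nat.card X = 64 ∧ Nat.card {x : X // orderOf x = 2} = 3 ∧
      ∀ x : X, orderOf x = 2 → x ∈ center X) ∨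
    (Cfsg.IsExtraspecial 2 X ∧ Nat.card X = 32 ∧ Nat.card {x : X // orderOf x = 2} = 11) := by
  by_cases hf : ∀ φ ∈ A, ∀ v ∈ V X, φ v = v
  swap
  · push Not at hf
    obtain ⟨α, hα, v, hv, hne⟩ := hf
    obtain ⟨h4, hZ, hc, hsq⟩ := h.moving hα hv hne
    refine Or.inr (Or.inl ⟨⟨h.two, le_antisymm ?_ ?_, hc.trans hZ.symm⟩, h.end4 h4 hc hsq⟩)
    · exact hZ ▸ H5.frattini_le_of_commutator_le_of_pow_mem (p := 2) hc.le fun x => pow_two x ▸ hsq x
    · rw [hZ, ← hc]; exact H5.commutator_le_frattini h.two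
  obtain ⟨hs, -⟩ := H5.isSpecial_of_centralizes_char_abelian h.two A
    (Nat.coprime_two_right.2 h.odd) h.gen fun H hH hc a ha x hx => by
      have hc' : ∀ x ∈ H, ∀ y ∈ H, x * y = y * x := fun x hx y hy =>
        congrArg Subtype.val (hc.1.1 ⟨x, hx⟩ ⟨y, hy⟩)
      haveI : (om H hc').Characteristic := H5.characteristic_of_aut_mem fun φ x hx =>
        ⟨H5.aut_mem_of_characteristic hH φ hx.1, by rw [← map_mul, hx.2, map_one]⟩
      exact H5.aut_apply_eq_of_powHom (h.two.to_subgroup H)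
        (fun x hx y hy => (show Commute x y from hc' x hx y hy).mul_pow 2) a
        (fun x hx => H5.aut_mem_of_characteristic hH a hx) (h.cop ha) (fun y hy e => hf a ha y
          (h.cen (U := om H hc') (fun x hx y hy => hc' x hx.1 y hy.1) (fun _ hx => hx.2)
            ⟨hy, pow_two y ▸ e⟩)) hx
  have hsq : ∀ x : X, x ^ 2 ∈ center X := fun x => hs.2.1 ▸ H5.pow_mem_frattini h.two x
  have hZ : center X = V X := le_antisymm (fun x hx => ⟨hx, by
    rw [← pow_two]
    refine H5.commutator_pow_eq_one_of_class_two (H := ⊤) ?_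
      (fun x _ => center_le_centralizer _ (hsq x)) (show x ∈ commutator X from hs.2.2 ▸ hx)
    rw [commutator_eq_bot_iff_le_centralizer]
    exact hs.2.2.le.trans (center_le_centralizer _)⟩) V_le
  by_cases h4 : Nat.card (V X) = 4
  · exact Or.inr (Or.inl ⟨hs, h.end4 h4 (hs.2.2.trans hZ) fun x => by rw [← pow_two, ← hZ]; exact hsq x⟩)
  have e1 := h.card_V
  have e2 := card_le_of_lt h.two (H := V X) (m := 1) (by omega)
  have e3 : Nat.card (V X) ≠ 1 := fun e => h.na ((commutator_eq_bot_iff X).1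
    (hs.2.2.trans (hZ.trans (card_eq_one.1 e))))
  have e4 : 0 < Nat.card (V X) := Nat.card_pos
  have hx : Cfsg.IsExtraspecial 2 X := ⟨hs, by rw [hZ]; omega⟩
  exact (h.end2 hx hZ).imp_right fun e => Or.inr ⟨hx, e⟩

end Hyp

end H83.Scn
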