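import Mathlib
import Cfsg.Agent.Lib.BG3.Core25

/-!
# Multiplicities of eigenvalues, and isometry groups of symplectic forms (helper83)
-/

set_option autoImplicit false

namespace H83

open Module H46
open scoped commutatorElement

theorem arith_two {Λ : Type*} (s : Finset Λ) (n : Λ → ℕ) (h d : ℕ) (hs : s.card = h)
    (hd : ∑ μ ∈ s, n μ = d) (hle : h * (∑ μ ∈ s, n μ ^ 2) + 1 ≤ d ^ 2 + h) (e : h = d + 1)
    (h0 : 0 < d) {a b : Λ} (hab : a ≠ b) (ha : a ∈ s) (hb : b ∈ s) (na : n a = 0)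
    (nb : n b = 0) : False := by
  classical
  have hb' : b ∈ s.erase a := Finset.mem_erase.2 ⟨hab.symm, hb⟩
  have h1 : ∑ μ ∈ (s.erase a).erase b, n μ = d := by
    rw [Finset.sum_erase _ nb, Finset.sum_erase _ na, hd]
  have h2 : ∑ μ ∈ (s.erase a).erase b, n μ ^ 2 = ∑ μ ∈ s, n μ ^ 2 := by
    rw [Finset.sum_erase _ (by rw [nb]; rfl), Finset.sum_erase _ (by rw [na]; rfl)]
  have h3 := sq_sum_le_card_mul_sum_sq (s := (s.erase a).erase b) (f := n)
  rw [h1, h2, Finset.card_erase_of_mem hb', Finset.card_erase_of_mem ha, hs] at h3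
  subst e
  obtain ⟨c, rfl⟩ : ∃ c, d = c + 1 := ⟨d - 1, by omega⟩
  simp only [Nat.add_sub_cancel] at h3
  nlinarith

theorem arith_one {Λ : Type*} (s : Finset Λ) (n : Λ → ℕ) (h d : ℕ) (hs : s.card = h)
    (hd : ∑ μ ∈ s, n μ = d) (hle : h * (∑ μ ∈ s, n μ ^ 2) + 1 ≤ d ^ 2 + h) {a : Λ} (ha : a ∈ s)
    (na : n a ≤ 1) : d + 1 ≤ 2 * h := by
  classical
  have h3 := sq_sum_le_card_mul_sum_sq (s := s.erase a) (f := n)
  rw [← Finset.add_sum_erase _ _ ha] at hd hle
  rw [Finset.card_erase_of_mem ha, hs] at h3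
  obtain ⟨c, rfl⟩ : ∃ c, h = c + 1 := ⟨h - 1, by have := Finset.card_pos.2 ⟨a, ha⟩; omega⟩
  simp only [Nat.add_sub_cancel] at h3
  generalize ∑ μ ∈ s.erase a, n μ = x at *
  generalize ∑ μ ∈ s.erase a, n μ ^ 2 = y at *
  subst hd
  by_contra hc
  have h4 := Nat.mul_le_mul_left (c + 1) h3
  have h5 := Nat.mul_le_mul_left c hle
  rcases Nat.le_one_iff_eq_zero_or_eq_one.1 na with e | e <;> rw [e] at h5 hc
  · obtain ⟨t, rfl⟩ : ∃ t, x = 2 * c + 2 + t := ⟨x - (2 * c + 2), by omega⟩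
    nlinarith [Nat.zero_le (c * t), Nat.zero_le (t * t)]
  · obtain ⟨t, rfl⟩ : ∃ t, x = 2 * c + 1 + t := ⟨x - (2 * c + 1), by omega⟩
    nlinarith [Nat.zero_le (c * t), Nat.zero_le (t * t)]

theorem core25x {k V P : Type*} [Field k] [IsAlgClosed k] [AddCommGroup V] [Module k V]
    [FiniteDimensional k V] [Nontrivial V] [Group P] [Finite P]
    (σ : Representation k P V) (b : End k V) (φ : MulAut P) (h : ℕ) (hh : 1 < h)
    (hk : (h : k) ≠ 0) (hP : (Nat.card P : k) ≠ 0) (hcop : Nat.Coprime h (Nat.card P))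
    (hb : b ^ h = 1) (hbσ : ∀ g, b * σ g = σ (φ g) * b)
    (hS : ∀ W : Submodule k V, (∀ g, ∀ v ∈ W, σ g v ∈ W) → (∀ v ∈ W, b v ∈ W) → W = ⊥ ∨ W = ⊤)
    (Z : Subgroup P) (hZ1 : ∀ z ∈ Z, ∃ c : k, σ z = c • (1 : End k V))
    (hZ2 : ∀ g y : P, ⁅g, y⁆ ∈ Z) (hZ3 : ∀ g, g ∉ Z → ∃ y : P, σ ⁅y, g⁆ ≠ 1)
    (hZ4 : ∀ i, 0 < i → i < h → ∀ g, (φ ^ i) g * g⁻¹ ∈ Z → g ∈ Z) :
    finrank k V ^ 2 = Z.index ∧ (h ∣ finrank k V + 1 ∨ h ∣ finrank k V - 1) ∧
      ((∀ v w, b v = v → b w = w → v ≠ 0 → ∃ a : k, w = a • v) → finrank k V + 1 ≤ 2 * h) ∧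
      (∀ ζ : k, ζ ^ h = 1 → (∀ v, b v = ζ • v → v = 0) → h = finrank k V + 1 ∨ finrank k V = 1) ∧
      ∀ ζ ζ' : k, ζ ≠ ζ' → ζ ^ h = 1 → ζ' ^ h = 1 → (∀ v, b v = ζ • v → v = 0) →
        (∀ v, b v = ζ' • v → v = 0) → finrank k V = 1 := by
  classical
  let _ := Fintype.ofFinite P
  have hZn : Z.Normal := ⟨fun z hz g => by
    have : g * z * g⁻¹ = ⁅g, z⁆ * z := by simp [commutatorElement_def]
    rw [this]; exact Z.mul_mem (hZ2 g z) hz⟩
  have hP' : (Fintype.card P : k) ≠ 0 := by rwa [← Nat.card_eq_fintype_card]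
  have hZk : (Nat.card Z : k) ≠ 0 := by
    intro h0
    apply hP
    rw [← Z.card_mul_index, Nat.cast_mul, h0, zero_mul]
  have hZc : ∀ z ∈ Z, ∀ T : End k V, σ z * T = T * σ z := by
    intro z hz T
    obtain ⟨c, hc⟩ := hZ1 z hz
    rw [hc]; simp
  have hA0 : ∀ w, w ∉ Z → avg σ (σ w) = 0 := by
    intro w hw
    obtain ⟨y, hy⟩ := hZ3 w hw
    obtain ⟨c, hc⟩ := hZ1 _ (hZ2 y w)
    refine avg_eq_zero σ w y c ?_ hc
    rintro rfl
    exact hy (by simpa using hc)
  have hA1 : ∀ w ∈ Z, avg σ (σ w) = (Fintype.card P : k) • σ w :=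
    fun w hw => avg_of_comm σ _ fun y => (hZc w hw _).symm
  set b' : End k V := b ^ (h - 1) with hb'
  have hbb' : b * b' = 1 := by rw [hb', ← pow_succ', Nat.sub_add_cancel hh.le, hb]
  have hb'b : b' * b = 1 := by rw [hb', ← pow_succ, Nat.sub_add_cancel hh.le, hb]
  have hconj : ∀ g, b * σ g * b' = σ (φ g) := fun g => by rw [hbσ, mul_assoc, hbb', mul_one]
  have hφZ : ∀ z ∈ Z, σ (φ z) = σ z := fun z hz => by
    rw [← hconj, ← hZc z hz, mul_assoc, hbb', mul_one]
  have hφZ' : ∀ z ∈ Z, φ z ∈ Z := by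
    intro z hz
    by_contra hc
    obtain ⟨y, hy⟩ := hZ3 _ hc
    apply hy
    rw [commutatorElement_def, map_mul, map_mul, map_mul, ← map_inv φ, hφZ z hz,
      hφZ _ (Z.inv_mem hz), ← hZc z hz, mul_assoc (σ z), ← map_mul, mul_inv_cancel, map_one,
      mul_one, ← map_mul, mul_inv_cancel, map_one]
  have hZmap : Z.map (φ : P →* P) = Z := by
    apply Subgroup.eq_of_le_of_card_ge
    · rintro _ ⟨z, hz, rfl⟩; exact hφZ' z hz
    · rw [Subgroup.card_map_of_injective φ.injective]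
  have hsumZ : ∀ T : End k V, ∑ g : P, (if g ∈ Z then T else 0) = (Nat.card Z : k) • T := by
    intro T
    rw [← Finset.sum_filter, Finset.sum_const, Nat.cast_smul_eq_nsmul, Nat.card_eq_fintype_card,
      Fintype.card_subtype]
  -- the element of the span of `σ P` inducing `φ`
  set a : End k V := ∑ g, σ (φ g * g⁻¹) with ha
  have ha1 : ∀ y, a * σ y = σ (φ y) * a := by
    intro y
    rw [ha, Finset.sum_mul, Finset.mul_sum]
    refine (Fintype.sum_equiv (Equiv.mulLeft y) _ _ fun g => ?_).symm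
    simp only [Equiv.coe_mulLeft, ← map_mul]
    congr 1
    simp [mul_assoc]
  have ha2 : b * a = a * b := by
    rw [ha, Finset.sum_mul, Finset.mul_sum]
    refine Fintype.sum_equiv φ.toEquiv _ _ fun g => ?_
    rw [hbσ]; simp
  have ha0 : a ≠ 0 := by
    intro h0
    have h1 : avg σ a = (Nat.card Z : k) • (Fintype.card P : k) • (1 : End k V) := by
      rw [ha, map_sum, ← hsumZ]
      refine Finset.sum_congr rfl fun g _ => ?_
      split_ifs with hg
      · rw [hA1 _ (Z.mul_mem (hφZ' g hg) (Z.inv_mem hg)), map_mul, hφZ g hg, ← map_mul]; simp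
      · exact hA0 _ fun hc => hg (hZ4 1 one_pos hh g (by simpa using hc))
    rw [h0, map_zero, smul_smul] at h1
    rcases smul_eq_zero.1 h1.symm with h2 | h2
    · exact mul_ne_zero hZk hP' h2
    · exact one_ne_zero h2
  have hau : IsUnit a := by
    rw [LinearMap.isUnit_iff_ker_eq_bot]
    refine (hS _ ?_ ?_).resolve_right fun h0 => ha0 (LinearMap.ker_eq_top.1 h0)
    · intro g v hv
      rw [LinearMap.mem_ker] at hv ⊢
      rw [← End.mul_apply, ha1, End.mul_apply, hv, map_zero]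
    · intro v hv
      rw [LinearMap.mem_ker] at hv ⊢
      rw [← End.mul_apply, ← ha2, End.mul_apply, hv, map_zero]
  have hS' : ∀ W : Submodule k V, (∀ T ∈ insert b (Set.range σ), ∀ v ∈ W, T v ∈ W) →
      W = ⊥ ∨ W = ⊤ := fun W hW =>
    hS W (fun g => hW _ (Set.mem_insert_of_mem _ ⟨g, rfl⟩)) (hW _ (Set.mem_insert _ _))
  obtain ⟨u, hu⟩ := hau
  obtain ⟨μ, hμ⟩ := scalar_of_commute _ hS' ((u⁻¹ : (End k V)ˣ) * b) (by
    rintro T (rfl | ⟨y, rfl⟩)
    · have : T * (u⁻¹ : (End k V)ˣ) = (u⁻¹ : (End k V)ˣ) * T := by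
        rw [Units.mul_inv_eq_iff_eq_mul, mul_assoc, Units.eq_inv_mul_iff_mul_eq, hu, ha2]
      rw [← mul_assoc, this]
    · have : σ y * (u⁻¹ : (End k V)ˣ) = (u⁻¹ : (End k V)ˣ) * σ (φ y) := by
        rw [Units.mul_inv_eq_iff_eq_mul, mul_assoc, Units.eq_inv_mul_iff_mul_eq, hu, ha1]
      rw [← mul_assoc, this, mul_assoc, ← hbσ, mul_assoc])
  have hba : b = μ • a := by
    rw [Units.inv_mul_eq_iff_eq_mul, hu] at hμ
    rw [hμ]; simp
  have hSch : ∀ T : End k V, (∀ y, σ y * T = T * σ y) → ∃ c : k, T = c • (1 : End k V) := by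
    intro T hT
    apply scalar_of_commute _ hS'
    rintro T' (rfl | ⟨y, rfl⟩)
    · rw [hba, smul_mul_assoc, mul_smul_comm, ha, Finset.sum_mul, Finset.mul_sum]
      congr 1
      exact Finset.sum_congr rfl fun g _ => hT _
    · exact hT y
  -- Burnside
  have hspan : ∀ T : End k V, T ∈ Submodule.span k (Set.range σ) := by
    intro T
    have h1 : ∑ g, avg σ (T * σ g⁻¹) * σ g =
        (Nat.card Z : k) • (Fintype.card P : k) • T := by
      simp only [avg_apply, Finset.sum_mul]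
      rw [Finset.sum_comm, ← hsumZ]
      refine Finset.sum_congr rfl fun y _ => ?_
      have h2 : ∑ g, σ y * (T * σ g⁻¹) * σ y⁻¹ * σ g = σ y * T * avg σ (σ y⁻¹) := by
        rw [avg_apply, Finset.mul_sum]
        refine Fintype.sum_equiv (Equiv.inv P) _ _ fun g => ?_
        simp [mul_assoc]
      rw [h2]
      split_ifs with hy
      · rw [hA1 _ (Z.inv_mem hy), mul_smul_comm, hZc y hy, mul_assoc, ← map_mul]; simp
      · rw [hA0 _ fun hc => hy (by simpa using hc), mul_zero]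
    have h2 : (Nat.card Z : k) • (Fintype.card P : k) • T ∈ Submodule.span k (Set.range σ) := by
      rw [← h1]
      refine Submodule.sum_mem _ fun g _ => ?_
      obtain ⟨c, hc⟩ := hSch _ (avg_comm σ (T * σ g⁻¹))
      rw [hc, smul_mul_assoc, one_mul]
      exact Submodule.smul_mem _ _ (Submodule.subset_span ⟨g, rfl⟩)
    rwa [Submodule.smul_mem_iff _ hZk, Submodule.smul_mem_iff _ hP'] at h2
  have hout : ∀ g g' : P, (g : P ⧸ Z) = g' → ∃ c : k, σ g' = c • σ g := by
    intro g g' e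
    obtain ⟨c, hc⟩ := hZ1 _ (QuotientGroup.eq.1 e)
    refine ⟨c, ?_⟩
    have : g' = g * (g⁻¹ * g') := by group
    rw [this, map_mul, hc]; simp
  let _ := Fintype.ofFinite (P ⧸ Z)
  have hli : LinearIndependent k fun q : P ⧸ Z => σ q.out := by
    rw [Fintype.linearIndependent_iff]
    intro c hc q₀
    have h1 := congrArg (fun T => avg σ (σ (q₀.out)⁻¹ * T)) hc
    simp only [Finset.mul_sum, mul_smul_comm, map_sum, map_smul, mul_zero, map_zero,
      ← map_mul] at h1
    rw [Finset.sum_eq_single q₀] at h1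
    · rw [inv_mul_cancel, hA1 1 Z.one_mem, map_one, smul_smul] at h1
      rcases smul_eq_zero.1 h1 with h2 | h2
      · exact (mul_eq_zero.1 h2).resolve_right hP'
      · exact absurd h2 one_ne_zero
    · intro q _ hq
      rw [hA0, smul_zero]
      intro hc
      apply hq
      have := QuotientGroup.eq.2 hc
      simpa using this.symm
    · simp
  have hdim : finrank k V ^ 2 = Z.index := by
    have h1 : Submodule.span k (Set.range fun q : P ⧸ Z => σ q.out) = ⊤ := by
      rw [eq_top_iff]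
      intro T _
      refine Submodule.span_le.2 ?_ (hspan T)
      rintro _ ⟨g, rfl⟩
      obtain ⟨c, hc⟩ := hout (g : P ⧸ Z).out g (by simp)
      rw [hc]
      exact Submodule.smul_mem _ _ (Submodule.subset_span ⟨_, rfl⟩)
    have h2 := finrank_span_eq_card hli
    rw [h1, finrank_top, finrank_linearMap] at h2
    rw [sq, h2, Subgroup.index, Nat.card_eq_fintype_card]
  -- orbits
  let ψ : MulAut (P ⧸ Z) := QuotientGroup.congr Z Z φ hZmap
  have hψ : ∀ (i : ℕ) (g : P), (ψ.toEquiv ^ i : Equiv.Perm (P ⧸ Z)) (g : P ⧸ Z) =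
      (((φ ^ i) g : P) : P ⧸ Z) := by
    intro i
    induction i with
    | zero => intro g; rfl
    | succ i ih =>
      intro g
      rw [pow_succ', pow_succ', Equiv.Perm.mul_apply, ih]; rfl
  obtain ⟨R, hR1, hR2⟩ := exists_orbit_reps (ψ.toEquiv : Equiv.Perm (P ⧸ Z)) 1 (map_one ψ) h (by
    intro q hq i hi1 hi2 e
    obtain ⟨g, rfl⟩ := QuotientGroup.mk_surjective q
    rw [hψ] at e
    apply hq
    rw [QuotientGroup.eq_one_iff]
    apply hZ4 i hi1 hi2
    have := QuotientGroup.eq.1 e.symm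
    have h2 := hZn.conj_mem _ this g
    simpa [mul_assoc] using h2)
  let N : End k V →ₗ[k] End k V := ∑ i ∈ Finset.range h, LinearMap.mulLeftRight k (b ^ i, b' ^ i)
  have hN : ∀ T, N T = ∑ i ∈ Finset.range h, b ^ i * T * b' ^ i := fun T => by
    simp [N, LinearMap.sum_apply]
  have hN1 : ∀ T, b * T = T * b → N T = (h : k) • T := by
    intro T hT
    have : ∀ i : ℕ, b ^ i * T * b' ^ i = T := by
      intro i
      induction i with
      | zero => simp
      | succ i ih =>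
        rw [pow_succ, pow_succ', mul_assoc (b ^ i), hT, ← mul_assoc (b ^ i), mul_assoc _ b,
          ← mul_assoc b, hbb', one_mul, ih]
    rw [hN]; simp [this, Nat.cast_smul_eq_nsmul]
  have hN2 : ∀ T, N (b * T * b') = N T := by
    intro T
    have h1 : b' ^ h = 1 := by rw [hb', ← pow_mul, mul_comm, pow_mul, hb, one_pow]
    have h2 := Finset.sum_range_succ (fun i => b ^ i * T * b' ^ i) h
    rw [Finset.sum_range_succ'] at h2
    simp only [pow_zero, hb, h1, add_left_inj] at h2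
    rw [hN, hN, ← h2]
    refine Finset.sum_congr rfl fun i _ => ?_
    rw [pow_succ, pow_succ']; simp only [mul_assoc]
  have hN3 : ∀ (i : ℕ) (g : P), N (σ ((φ ^ i) g)) = N (σ g) := by
    intro i g
    induction i with
    | zero => rfl
    | succ i ih => rw [pow_succ', MulAut.mul_apply, ← hconj, hN2, ih]
  let w : Finset (End k V) := (insert 1 R).image fun q : P ⧸ Z => N (σ q.out)
  have hw : ∀ T, b * T = T * b → T ∈ Submodule.span k (w : Set (End k V)) := by
    intro T hT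
    have h1 : N T ∈ Submodule.span k (w : Set (End k V)) := by
      refine (Submodule.span_le (p := (Submodule.span k (w : Set (End k V))).comap N)).2 ?_
        (hspan T)
      rintro _ ⟨g, rfl⟩
      rw [SetLike.mem_coe, Submodule.mem_comap]
      rcases hR1 (g : P ⧸ Z) with h2 | ⟨r, hr, i, h2⟩
      · obtain ⟨c, hc⟩ := hout (1 : P ⧸ Z).out g (by simp [h2])
        rw [hc, map_smul]
        refine Submodule.smul_mem _ _ (Submodule.subset_span ?_)
        exact Finset.mem_coe.2 (Finset.mem_image_of_mem _ (Finset.mem_insert_self _ _))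
      · obtain ⟨c, hc⟩ := hout ((φ ^ i) r.out) g (by rw [← hψ, h2]; simp)
        rw [hc, map_smul, hN3]
        refine Submodule.smul_mem _ _ (Submodule.subset_span ?_)
        exact Finset.mem_coe.2 (Finset.mem_image_of_mem _ (Finset.mem_insert_of_mem hr))
    rwa [hN1 T hT, Submodule.smul_mem_iff _ hk] at h1
  obtain ⟨e, d, hd⟩ := exists_eigenbasis b hk hb
  have : NeZero (h : k) := ⟨hk⟩
  obtain ⟨ζ, hζ⟩ := HasEnoughRootsOfUnity.exists_primitiveRoot k h
  have hdm : ∀ i, d i ∈ Polynomial.nthRootsFinset h (1 : k) := fun i =>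
    (Polynomial.mem_nthRootsFinset (by omega) _).2 (eigen_pow_eq_one b hb (e.ne_zero i) (hd i))
  have hli2 : LinearIndependent k
      fun p : {p : Fin (finrank k V) × Fin (finrank k V) // d p.1 = d p.2} => e.end p.1 :=
    e.end.linearIndependent.comp _ Subtype.val_injective
  have hle := linearIndependent_le_span_aux' _ hli2 (w : Set (End k V)) (by
    rintro _ ⟨⟨⟨i, j⟩, hp⟩, rfl⟩
    apply hw
    apply e.ext
    intro l
    simp only [End.mul_apply, hd, map_smul, Basis.end_apply_apply]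
    split_ifs with hl
    · subst hl; rw [hd]; exact congrArg (· • e i) hp
    · simp)
  rw [card_pairs_eq d _ hdm] at hle
  have hwc : Fintype.card (w : Set (End k V)) ≤ R.card + 1 := by
    simp only [Finset.coe_sort_coe, Fintype.card_coe]
    exact Finset.card_image_le.trans (Finset.card_insert_le _ _)
  have hcop' : Nat.Coprime h (finrank k V) := by
    refine Nat.Coprime.coprime_dvd_right ?_ hcop
    refine Dvd.dvd.trans (Dvd.intro _ (sq _).symm) ?_
    rw [hdim]; exact Z.index_dvd_card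
  have hsum : ∑ μ ∈ Polynomial.nthRootsFinset h (1 : k),
      (Finset.univ.filter fun i => d i = μ).card = finrank k V := by
    rw [← Finset.card_eq_sum_card_fiberwise (f := d) (fun i _ => hdm i)]; simp
  have hineq : h * (∑ μ ∈ Polynomial.nthRootsFinset h (1 : k),
      (Finset.univ.filter fun i => d i = μ).card ^ 2) + 1 ≤ finrank k V ^ 2 + h := by
    have h1 : Nat.card (P ⧸ Z) = finrank k V ^ 2 := by rw [hdim]; rfl
    have h2 := Nat.mul_le_mul_left h (hle.trans hwc)
    rw [h1] at hR2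
    nlinarith
  have harith := arith_multiplicities (Polynomial.nthRootsFinset h (1 : k))
    (fun μ => (Finset.univ.filter fun i => d i = μ).card) h (finrank k V)
    hζ.card_nthRootsFinset hh hsum hcop' hineq
  have hmiss : ∀ ζ : k, (∀ v, b v = ζ • v → v = 0) →
      (Finset.univ.filter fun i => d i = ζ).card = 0 := fun ζ hfix => by
    rw [Finset.card_eq_zero, Finset.filter_eq_empty_iff]
    intro i _ hi
    exact e.ne_zero i (hfix _ (by rw [hd, hi]))
  have hmem : ∀ ζ : k, ζ ^ h = 1 → ζ ∈ Polynomial.nthRootsFinset h (1 : k) := fun ζ h1 =>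
    (Polynomial.mem_nthRootsFinset (by omega) _).2 h1
  refine ⟨hdim, harith.1, fun h1 => arith_one _ _ h _ hζ.card_nthRootsFinset hsum hineq
    (hmem 1 (one_pow _)) (Finset.card_le_one.2 fun i hi j hj => ?_),
    fun ζ h1 hfix => harith.2 ζ (hmem ζ h1) (hmiss ζ hfix), fun ζ ζ' hne h1 h2 f1 f2 => ?_⟩
  · obtain ⟨a, ha⟩ := h1 (e i) (e j) (by rw [hd, (Finset.mem_filter.1 hi).2, one_smul])
      (by rw [hd, (Finset.mem_filter.1 hj).2, one_smul]) (e.ne_zero i)
    by_contra hij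
    have := congrArg (fun v => e.repr v j) ha
    simp [hij] at this
  refine (harith.2 ζ (hmem ζ h1) (hmiss ζ f1)).resolve_left fun e => ?_
  exact arith_two _ _ h (finrank k V) hζ.card_nthRootsFinset hsum hineq e finrank_pos hne
    (hmem ζ h1) (hmem ζ' h2) (hmiss ζ f1) (hmiss ζ' f2)

theorem schur_pair {k V P : Type*} [Field k] [IsAlgClosed k] [AddCommGroup V] [Module k V]
    [FiniteDimensional k V] [Nontrivial V] [Group P] [Finite P]
    (σ : Representation k P V) (b b' : End k V) (φ : MulAut P) (hP : (Nat.card P : k) ≠ 0)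
    (hbb' : b * b' = 1) (hbσ : ∀ g, b * σ g = σ (φ g) * b)
    (hS : ∀ W : Submodule k V, (∀ g, ∀ v ∈ W, σ g v ∈ W) → (∀ v ∈ W, b v ∈ W) → W = ⊥ ∨ W = ⊤)
    (Z : Subgroup P) (hZ1 : ∀ z ∈ Z, ∃ c : k, σ z = c • (1 : End k V))
    (hZ2 : ∀ g y : P, ⁅g, y⁆ ∈ Z) (hZ3 : ∀ g, g ∉ Z → ∃ y : P, σ ⁅y, g⁆ ≠ 1)
    (hZ4 : ∀ g, φ g * g⁻¹ ∈ Z → g ∈ Z) :
    ∀ T : End k V, (∀ y, σ y * T = T * σ y) → ∃ c : k, T = c • (1 : End k V) := by
  classical
  let _ := Fintype.ofFinite P
  have hP' : (Fintype.card P : k) ≠ 0 := by rwa [← Nat.card_eq_fintype_card]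
  have hZk : (Nat.card Z : k) ≠ 0 := by
    intro h0
    apply hP
    rw [← Z.card_mul_index, Nat.cast_mul, h0, zero_mul]
  have hZc : ∀ z ∈ Z, ∀ T : End k V, σ z * T = T * σ z := by
    intro z hz T
    obtain ⟨c, hc⟩ := hZ1 z hz
    rw [hc]; simp
  have hA0 : ∀ w, w ∉ Z → avg σ (σ w) = 0 := by
    intro w hw
    obtain ⟨y, hy⟩ := hZ3 w hw
    obtain ⟨c, hc⟩ := hZ1 _ (hZ2 y w)
    refine avg_eq_zero σ w y c ?_ hc
    rintro rfl
    exact hy (by simpa using hc)
  have hA1 : ∀ w ∈ Z, avg σ (σ w) = (Fintype.card P : k) • σ w :=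
    fun w hw => avg_of_comm σ _ fun y => (hZc w hw _).symm
  have hconj : ∀ g, b * σ g * b' = σ (φ g) := fun g => by rw [hbσ, mul_assoc, hbb', mul_one]
  have hφZ : ∀ z ∈ Z, σ (φ z) = σ z := fun z hz => by
    rw [← hconj, ← hZc z hz, mul_assoc, hbb', mul_one]
  have hφZ' : ∀ z ∈ Z, φ z ∈ Z := by
    intro z hz
    by_contra hc
    obtain ⟨y, hy⟩ := hZ3 _ hc
    apply hy
    rw [commutatorElement_def, map_mul, map_mul, map_mul, ← map_inv φ, hφZ z hz,
      hφZ _ (Z.inv_mem hz), ← hZc z hz, mul_assoc (σ z), ← map_mul, mul_inv_cancel, map_one,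
      mul_one, ← map_mul, mul_inv_cancel, map_one]
  have hsumZ : ∀ T : End k V, ∑ g : P, (if g ∈ Z then T else 0) = (Nat.card Z : k) • T := by
    intro T
    rw [← Finset.sum_filter, Finset.sum_const, Nat.cast_smul_eq_nsmul, Nat.card_eq_fintype_card,
      Fintype.card_subtype]
  -- the element of the span of `σ P` inducing `φ`
  set a : End k V := ∑ g, σ (φ g * g⁻¹) with ha
  have ha1 : ∀ y, a * σ y = σ (φ y) * a := by
    intro y
    rw [ha, Finset.sum_mul, Finset.mul_sum]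
    refine (Fintype.sum_equiv (Equiv.mulLeft y) _ _ fun g => ?_).symm
    simp only [Equiv.coe_mulLeft, ← map_mul]
    congr 1
    simp [mul_assoc]
  have ha2 : b * a = a * b := by
    rw [ha, Finset.sum_mul, Finset.mul_sum]
    refine Fintype.sum_equiv φ.toEquiv _ _ fun g => ?_
    rw [hbσ]; simp
  have ha0 : a ≠ 0 := by
    intro h0
    have h1 : avg σ a = (Nat.card Z : k) • (Fintype.card P : k) • (1 : End k V) := by
      rw [ha, map_sum, ← hsumZ]
      refine Finset.sum_congr rfl fun g _ => ?_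
      split_ifs with hg
      · rw [hA1 _ (Z.mul_mem (hφZ' g hg) (Z.inv_mem hg)), map_mul, hφZ g hg, ← map_mul]; simp
      · exact hA0 _ fun hc => hg (hZ4 g hc)
    rw [h0, map_zero, smul_smul] at h1
    rcases smul_eq_zero.1 h1.symm with h2 | h2
    · exact mul_ne_zero hZk hP' h2
    · exact one_ne_zero h2
  have hau : IsUnit a := by
    rw [LinearMap.isUnit_iff_ker_eq_bot]
    refine (hS _ ?_ ?_).resolve_right fun h0 => ha0 (LinearMap.ker_eq_top.1 h0)
    · intro g v hv
      rw [LinearMap.mem_ker] at hv ⊢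
      rw [← End.mul_apply, ha1, End.mul_apply, hv, map_zero]
    · intro v hv
      rw [LinearMap.mem_ker] at hv ⊢
      rw [← End.mul_apply, ← ha2, End.mul_apply, hv, map_zero]
  have hS' : ∀ W : Submodule k V, (∀ T ∈ insert b (Set.range σ), ∀ v ∈ W, T v ∈ W) →
      W = ⊥ ∨ W = ⊤ := fun W hW =>
    hS W (fun g => hW _ (Set.mem_insert_of_mem _ ⟨g, rfl⟩)) (hW _ (Set.mem_insert _ _))
  obtain ⟨u, hu⟩ := hau
  obtain ⟨μ, hμ⟩ := scalar_of_commute _ hS' ((u⁻¹ : (End k V)ˣ) * b) (by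
    rintro T (rfl | ⟨y, rfl⟩)
    · have : T * (u⁻¹ : (End k V)ˣ) = (u⁻¹ : (End k V)ˣ) * T := by
        rw [Units.mul_inv_eq_iff_eq_mul, mul_assoc, Units.eq_inv_mul_iff_mul_eq, hu, ha2]
      rw [← mul_assoc, this]
    · have : σ y * (u⁻¹ : (End k V)ˣ) = (u⁻¹ : (End k V)ˣ) * σ (φ y) := by
        rw [Units.mul_inv_eq_iff_eq_mul, mul_assoc, Units.eq_inv_mul_iff_mul_eq, hu, ha1]
      rw [← mul_assoc, this, mul_assoc, ← hbσ, mul_assoc])
  have hba : b = μ • a := by
    rw [Units.inv_mul_eq_iff_eq_mul, hu] at hμ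
    rw [hμ]; simp
  intro T hT
  apply scalar_of_commute _ hS'
  rintro T' (rfl | ⟨y, rfl⟩)
  · rw [hba, smul_mul_assoc, mul_smul_comm, ha, Finset.sum_mul, Finset.mul_sum]
    congr 1
    exact Finset.sum_congr rfl fun g _ => hT _
  · exact hT y

theorem burnside_sum {k V P : Type*} [Field k] [AddCommGroup V] [Module k V] [Group P] [Fintype P]
    (σ : Representation k P V) (Z : Subgroup P) (hZ1 : ∀ z ∈ Z, ∃ c : k, σ z = c • (1 : End k V))
    (hZ2 : ∀ g y : P, ⁅g, y⁆ ∈ Z) (hZ3 : ∀ g, g ∉ Z → ∃ y : P, σ ⁅y, g⁆ ≠ 1) (T : End k V) :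
    ∑ g, avg σ (T * σ g⁻¹) * σ g = (Nat.card Z : k) • (Fintype.card P : k) • T := by
  classical
  have hZc : ∀ z ∈ Z, ∀ T : End k V, σ z * T = T * σ z := by
    intro z hz T
    obtain ⟨c, hc⟩ := hZ1 z hz
    rw [hc]; simp
  have hsumZ : ∀ T : End k V, ∑ g : P, (if g ∈ Z then T else 0) = (Nat.card Z : k) • T := by
    intro T
    rw [← Finset.sum_filter, Finset.sum_const, Nat.cast_smul_eq_nsmul, Nat.card_eq_fintype_card,
      Fintype.card_subtype]
  simp only [avg_apply, Finset.sum_mul]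
  rw [Finset.sum_comm, ← hsumZ]
  refine Finset.sum_congr rfl fun y _ => ?_
  have h2 : ∑ g, σ y * (T * σ g⁻¹) * σ y⁻¹ * σ g = σ y * T * avg σ (σ y⁻¹) := by
    rw [avg_apply, Finset.mul_sum]
    refine Fintype.sum_equiv (Equiv.inv P) _ _ fun g => ?_
    simp [mul_assoc]
  rw [h2]
  split_ifs with hy
  · rw [avg_of_comm σ _ fun x => (hZc _ (Z.inv_mem hy) _).symm, mul_smul_comm, hZc y hy, mul_assoc,
      ← map_mul]; simp
  · obtain ⟨x, hx⟩ := hZ3 y⁻¹ fun hc => hy (by simpa using hc)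
    obtain ⟨c, hc⟩ := hZ1 _ (hZ2 x y⁻¹)
    rw [avg_eq_zero σ _ x c (by rintro rfl; exact hx (by simpa using hc)) hc, mul_zero]

theorem sum_eq_zero_of_perm {P E : Type*} [Fintype P] [AddCommGroup E] {l n : ℕ} [Fact l.Prime]
    (hE : ∀ x : E, l • x = 0) (ψ : P → P) (hψ : ∀ g, ψ^[l ^ n] g = g) (F : P → E)
    (hF : ∀ g, F (ψ g) = F g) (h0 : ∀ g, ψ g = g → F g = 0) : ∑ g, F g = 0 := by
  classical
  rw [← Finset.sum_fiberwise_of_maps_to (t := Finset.univ.image F) (g := F)
    fun g _ => Finset.mem_image_of_mem _ (Finset.mem_univ g)]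
  refine Finset.sum_eq_zero fun y _ => ?_
  rw [Finset.sum_congr rfl fun g hg => (Finset.mem_filter.1 hg).2, Finset.sum_const]
  by_cases hy : y = 0
  · rw [hy, smul_zero]
  let f : Function.End {g // F g = y} := fun x => ⟨ψ x.1, (hF _).trans x.2⟩
  have hf : ∀ (m : ℕ) x, ((f ^ m) x).1 = ψ^[m] x.1 := fun m x => by
    induction m with
    | zero => rfl
    | succ m ih => rw [pow_succ', Function.iterate_succ_apply', ← ih]; rfl
  have h1 := Equiv.Perm.card_fixedPoints_modEq (p := l) (n := n) (f := f)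
    (funext fun x => Subtype.ext ((hf _ x).trans (hψ _)))
  rw [Fintype.card_subtype, Fintype.card_eq_zero_iff.2 ⟨fun x => hy
    (x.1.2.symm.trans (h0 _ (congrArg Subtype.val x.2)))⟩] at h1
  obtain ⟨c, hc⟩ := (Nat.modEq_zero_iff_dvd).1 h1
  rw [hc, mul_smul, hE]

theorem exists_end_apply_eq {k V : Type*} [Field k] [AddCommGroup V] [Module k V] {v : V}
    (hv : v ≠ 0) (w : V) : ∃ T : End k V, T v = w := by
  obtain ⟨f, hf⟩ := Projective.exists_dual_eq_one k hv
  exact ⟨f.smulRight w, by simp [hf]⟩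

/-- The modular case. -/
theorem core_mod {k V P : Type*} [Field k] [IsAlgClosed k] [AddCommGroup V] [Module k V]
    [FiniteDimensional k V] [Nontrivial V] [Group P] [Finite P]
    (σ : Representation k P V) (b c : End k V) (φ ψ : MulAut P) (h : ℕ) (hh : 1 < h)
    (hk : (h : k) ≠ 0) (hP : (Nat.card P : k) ≠ 0) (hcop : Nat.Coprime h (Nat.card P))
    (hb : b ^ h = 1) (hbσ : ∀ g, b * σ g = σ (φ g) * b) {l n : ℕ} [Fact l.Prime] (hl : (l : k) = 0)
    (hc : c ^ l ^ n = 1) (hψ : ψ ^ l ^ n = 1) (hcσ : ∀ g, c * σ g = σ (ψ g) * c)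
    (hbc : b * c = c * b) (hfix : ∀ v, b v = v → c v = v)
    (hS : ∀ W : Submodule k V, (∀ g, ∀ v ∈ W, σ g v ∈ W) → (∀ v ∈ W, (b * c) v ∈ W) →
      W = ⊥ ∨ W = ⊤)
    (Z : Subgroup P) (hZ1 : ∀ z ∈ Z, ∃ c : k, σ z = c • (1 : End k V))
    (hZ2 : ∀ g y : P, ⁅g, y⁆ ∈ Z) (hZ3 : ∀ g, g ∉ Z → ∃ y : P, σ ⁅y, g⁆ ≠ 1)
    (hZ4 : ∀ i, 0 < i → i < h → ∀ g, (φ ^ i) g * g⁻¹ ∈ Z → g ∈ Z)
    (hZ5 : ∀ g, ψ g = g → g ∈ Z) (hZ6 : ∀ g, (φ * ψ) g * g⁻¹ ∈ Z → g ∈ Z)
    (hZ7 : ∀ g, ψ g ∈ Z ↔ g ∈ Z) :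
    finrank k V ^ 2 = Z.index ∧ (h ∣ finrank k V + 1 ∨ h ∣ finrank k V - 1) ∧
      finrank k V + 1 ≤ 2 * h := by
  classical
  let _ := Fintype.ofFinite P
  have hP' : (Fintype.card P : k) ≠ 0 := by rwa [← Nat.card_eq_fintype_card]
  have hZk : (Nat.card Z : k) ≠ 0 := by
    intro h0
    apply hP
    rw [← Z.card_mul_index, Nat.cast_mul, h0, zero_mul]
  have hl0 : 0 < l ^ n := pow_pos (Fact.out : l.Prime).pos n
  set c' : End k V := c ^ (l ^ n - 1) with hc'
  have hcc' : c * c' = 1 := by rw [hc', ← pow_succ', Nat.sub_add_cancel hl0, hc]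
  have hc'c : c' * c = 1 := by rw [hc', ← pow_succ, Nat.sub_add_cancel hl0, hc]
  have hSch := schur_pair σ (b * c) (c' * b ^ (h - 1)) (φ * ψ) hP
    (by rw [mul_assoc, ← mul_assoc c, hcc', one_mul, ← pow_succ', Nat.sub_add_cancel hh.le, hb])
    (fun g => by rw [mul_assoc, hcσ, ← mul_assoc, hbσ, mul_assoc]; rfl) hS Z hZ1 hZ2 hZ3 hZ6
  choose t ht using fun (T : End k V) (g : P) => hSch _ (avg_comm σ (T * σ g⁻¹))
  have hexp : ∀ T : End k V, ∑ g, t T g • σ g = (Nat.card Z : k) • (Fintype.card P : k) • T :=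
    fun T => by
      rw [← burnside_sum σ Z hZ1 hZ2 hZ3 T]
      exact Finset.sum_congr rfl fun g _ => by rw [ht, smul_mul_assoc, one_mul]
  obtain ⟨c1, c2, c3, -⟩ := core25x σ b φ h hh hk hP hcop hb hbσ (fun W hW _ => by
    refine or_iff_not_imp_left.2 fun h0 => eq_top_iff.2 fun w _ => ?_
    obtain ⟨v, hv, hv0⟩ := Submodule.exists_mem_ne_zero_of_ne_bot h0
    obtain ⟨T, rfl⟩ := exists_end_apply_eq (k := k) hv0 w
    have := congrArg (fun T : End k V => T v) (hexp T)
    simp only [LinearMap.sum_apply, LinearMap.smul_apply] at this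
    rw [← Submodule.smul_mem_iff _ hP', ← Submodule.smul_mem_iff _ hZk, ← this]
    exact Submodule.sum_mem _ fun g _ => W.smul_mem _ (hW g v hv)) Z hZ1 hZ2 hZ3 hZ4
  refine ⟨c1, c2, c3 fun v w hv hw hv0 => ?_⟩
  let e : End k V := ∑ i ∈ Finset.range h, b ^ i
  have he1 : ∀ x, b x = x → e x = (h : k) • x := fun x hx => by
    have : ∀ i : ℕ, (b ^ i) x = x := fun i => by
      induction i with
      | zero => rfl
      | succ i ih => rw [pow_succ, End.mul_apply, hx, ih]
    simp [e, LinearMap.sum_apply, this, Nat.cast_smul_eq_nsmul]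
  have hbe : b * e = e := by
    have h2 := Finset.sum_range_succ (fun i => b ^ i) h
    rw [Finset.sum_range_succ', pow_zero, hb, add_left_inj] at h2
    rw [Finset.mul_sum]
    exact (Finset.sum_congr rfl fun i _ => (pow_succ' b i).symm).trans h2
  have hce : c * e = e := LinearMap.ext fun x => hfix _ (LinearMap.congr_fun hbe x)
  have hec : e * c = e := by
    refine Eq.trans ?_ hce
    rw [Finset.mul_sum, Finset.sum_mul]
    exact Finset.sum_congr rfl fun i _ => (Commute.pow_left hbc i).eq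
  obtain ⟨T₀, hT₀⟩ := exists_end_apply_eq (k := k) hv0 w
  set T := e * T₀ * e with hT
  have hinv : ∀ g, t T (ψ g) = t T g := fun g => by
    have h1 : avg σ (T * σ (ψ g)⁻¹) * c = c * avg σ (T * σ g⁻¹) := by
      rw [avg_apply, avg_apply, Finset.sum_mul, Finset.mul_sum]
      refine (Fintype.sum_equiv ψ.toEquiv _ _ fun y => ?_).symm
      have h2 : c * T = T * c := by
        rw [hT, ← mul_assoc, ← mul_assoc, hce, mul_assoc _ e c, hec]
      simp only [MulEquiv.toEquiv_eq_coe, EquivLike.coe_coe, ← map_inv, mul_assoc, ← hcσ]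
      rw [← mul_assoc c, hcσ, mul_assoc, ← mul_assoc c T, h2, mul_assoc, ← mul_assoc c, hcσ]
      simp only [mul_assoc]
    rw [ht, ht, smul_mul_assoc, mul_smul_comm, one_mul, mul_one] at h1
    have h3 := congrArg (· * c') h1
    simp only [smul_mul_assoc, hcc'] at h3
    exact smul_left_injective k one_ne_zero h3
  have hsum := sum_eq_zero_of_perm (l := l) (n := n) (E := End k V)
    (fun x => by rw [← Nat.cast_smul_eq_nsmul k, hl, zero_smul]) ψ
    (fun g => by
      have : ∀ m : ℕ, ψ^[m] g = (ψ ^ m) g := fun m => by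
        induction m with
        | zero => rfl
        | succ m ih => rw [Function.iterate_succ_apply', ih, pow_succ']; rfl
      rw [this, hψ]; rfl)
    (fun g => if g ∈ Z then 0 else t T g • (e * σ g * e)) (fun g => by
      have : e * σ (ψ g) * e = e * σ g * e := by
        conv_lhs => rw [← hce, ← mul_assoc, mul_assoc _ _ c, ← hcσ, hce, ← mul_assoc, hec]
      simp only [hZ7, hinv, this])
    (fun g hg => if_pos (hZ5 g hg))
  have h1 : ∑ g, t T g • (e * σ g * e) ∈ Submodule.span k {e * e} := by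
    rw [← sub_zero (∑ g, _), ← hsum, ← Finset.sum_sub_distrib]
    refine Submodule.sum_mem _ fun g _ => ?_
    split_ifs with hg
    · obtain ⟨a, ha⟩ := hZ1 g hg
      rw [sub_zero, ha, mul_smul_comm, mul_one, smul_mul_assoc]
      exact Submodule.smul_mem _ _ (Submodule.smul_mem _ _ (Submodule.mem_span_singleton_self _))
    · simp
  obtain ⟨a, ha⟩ := Submodule.mem_span_singleton.1 h1
  have h2 : ∑ g, t T g • (e * σ g * e) =
      (Nat.card Z : k) • (Fintype.card P : k) • (e * T * e) := by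
    rw [← smul_mul_assoc, ← smul_mul_assoc, ← mul_smul_comm, ← mul_smul_comm, ← hexp,
      Finset.mul_sum Finset.univ, Finset.sum_mul Finset.univ]
    exact Finset.sum_congr rfl fun g _ => by rw [mul_smul_comm, smul_mul_assoc]
  have h3 := LinearMap.congr_fun (ha.trans h2) v
  simp only [hT, LinearMap.smul_apply, End.mul_apply, he1 v hv, map_smul, hT₀, he1 w hw,
    smul_smul] at h3
  have h4 : (Nat.card Z : k) * Fintype.card P * (h * (h * h * h)) ≠ 0 := by
    simp only [ne_eq, mul_eq_zero, hZk, hP', hk, or_self, not_false_eq_true]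
  exact ⟨_, by rw [← inv_smul_smul₀ h4 w, ← h3, smul_smul]⟩

/-- An isotropic subgroup is small. -/
theorem card_sq_le_of_isotropic {A k : Type*} [CommGroup A] [Finite A] [Field k]
    (β : A →* A →* k) (nd : ∀ a, (∀ x, β a x = 1) → a = 1) (I : Subgroup A)
    (hI : ∀ x ∈ I, ∀ y ∈ I, β x y = 1) : Nat.card I ^ 2 ≤ Nat.card A := by
  let f : I → (A ⧸ I →* k) := fun x => QuotientGroup.lift I (β x) fun y hy => hI x x.2 y hy
  have hf : Function.Injective f := fun x y e => by
    apply Subtype.ext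
    rw [← mul_inv_eq_one]
    refine nd _ fun z => ?_
    have : β x z = β y z := DFunLike.congr_fun e (z : A ⧸ I)
    have h1 : β (y * (y : A)⁻¹) z = 1 := by simp
    rw [map_mul, MonoidHom.mul_apply] at h1 ⊢
    rw [this, h1]
  haveI := Fintype.ofFinite (A ⧸ I)
  haveI := Fintype.ofFinite I
  have h1 := ((linearIndependent_monoidHom (A ⧸ I) k).comp f hf).fintype_card_le_finrank
  rw [finrank_fintype_fun_eq_card, ← Nat.card_eq_fintype_card, ← Nat.card_eq_fintype_card] at h1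
  rw [← I.card_mul_index, sq]
  exact Nat.mul_le_mul_left _ h1

theorem card_le_of_semiregular {A k : Type*} [CommGroup A] [Finite A] [Nontrivial A] [Field k]
    (β : A →* A →* k) (alt : ∀ a, β a a = 1) (nd : ∀ a, (∀ x, β a x = 1) → a = 1)
    (H : Subgroup (MulAut A)) (hc : ∀ g ∈ H, ∀ h ∈ H, g * h = h * g)
    (hβ : ∀ h ∈ H, ∀ x y, β (h x) (h y) = β x y)
    (hf : ∀ h ∈ H, h ≠ 1 → ∀ a, h a = a → a = 1) : Nat.card H ^ 2 ≤ 4 * Nat.card A := by
  classical
  obtain ⟨a, ha⟩ := exists_ne (1 : A)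
  have skew : ∀ x y, β x y * β y x = 1 := fun x y => by
    have := alt (x * y)
    simp only [map_mul, MonoidHom.mul_apply, alt, one_mul, mul_one] at this
    rw [← this, mul_comm]
  let F : MulAut A → A := fun h => h a * h⁻¹ a
  have key : ∀ g ∈ H, ∀ h ∈ H, β (g a) (h a) * β (g⁻¹ a) (h⁻¹ a) = 1 := fun g hg h hh => by
    rw [← hβ (g * h) (mul_mem hg hh) (g⁻¹ a), ← skew (g a) (h a)]
    congr 2
    · rw [hc g hg h hh]; simp
    · simp
  have iso : ∀ x ∈ Subgroup.closure (F '' H), ∀ y ∈ Subgroup.closure (F '' H), β x y = 1 := by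
    intro x hx y hy
    have h1 : Subgroup.closure (F '' H) ≤ (β.flip y).ker := by
      rw [Subgroup.closure_le]
      rintro _ ⟨g, hg, rfl⟩
      have h2 : Subgroup.closure (F '' H) ≤ (β (F g)).ker := by
        rw [Subgroup.closure_le]
        rintro _ ⟨h, hh, rfl⟩
        have k1 := key g hg h hh
        have k2 := key g hg h⁻¹ (inv_mem hh)
        simp only [SetLike.mem_coe, MonoidHom.mem_ker, F, map_mul, MonoidHom.mul_apply, inv_inv]
          at k2 ⊢
        calc _ = (β (g a) (h a) * β (g⁻¹ a) (h⁻¹ a)) * (β (g a) (h⁻¹ a) * β (g⁻¹ a) (h a)) := by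
              ring
          _ = 1 := by rw [k1, k2, one_mul]
      exact h2 hy
    exact h1 hx
  have h1 := card_sq_le_of_isotropic β nd _ iso
  haveI : Finite (MulAut A) := Finite.of_injective _ (DFunLike.coe_injective (F := MulAut A))
  haveI := Fintype.ofFinite H
  haveI := Fintype.ofFinite (Subgroup.closure (F '' H))
  have h2 : (Finset.univ : Finset H).card ≤
      2 * (Finset.univ : Finset (Subgroup.closure (F '' H))).card := by
    refine Finset.card_le_mul_card_image_of_maps_to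
      (f := fun h : H => (⟨F h, Subgroup.subset_closure ⟨h, h.2, rfl⟩⟩ : Subgroup.closure (F '' H)))
      (fun _ _ => Finset.mem_univ _) 2 fun y _ => ?_
    by_cases h0 : (Finset.univ.filter fun h : H =>
        (⟨F h, Subgroup.subset_closure ⟨h, h.2, rfl⟩⟩ : Subgroup.closure (F '' H)) = y).Nonempty
    · obtain ⟨g, hg⟩ := h0
      refine (Finset.card_le_card (t := {g, g⁻¹}) fun h hh => ?_).trans Finset.card_le_two
      have e : F h = F g := congrArg Subtype.val
        ((Finset.mem_filter.1 hh).2.trans (Finset.mem_filter.1 hg).2.symm)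
      rw [Finset.mem_insert, Finset.mem_singleton]
      by_contra hcon
      push Not at hcon
      have e1 : ((g : MulAut A)⁻¹ * h) (a * (((h : MulAut A) * g)⁻¹ a)⁻¹) =
          a * (((h : MulAut A) * g)⁻¹ a)⁻¹ := by
        have k1 : (h : MulAut A) (((h : MulAut A) * g)⁻¹ a) = (g : MulAut A)⁻¹ a := by
          rw [hc h h.2 g g.2]; simp
        have k2 : (g : MulAut A) (((h : MulAut A) * g)⁻¹ a) = (h : MulAut A)⁻¹ a := by simp
        apply (g : MulAut A).injective
        rw [← MulAut.mul_apply, mul_inv_cancel_left, map_mul, map_mul, map_inv, map_inv, k1, k2,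
          mul_inv_eq_iff_eq_mul, mul_right_comm, eq_mul_inv_iff_mul_eq]
        exact e
      have e2 := hf _ (mul_mem (inv_mem g.2) h.2) (fun e => hcon.1 (Subtype.ext
        (inv_mul_eq_one.1 e).symm)) _ e1
      refine ha (hf _ (inv_mem (mul_mem h.2 g.2)) (fun e => hcon.2 (Subtype.ext
        (eq_inv_of_mul_eq_one_left (inv_eq_one.1 e)))) a (mul_inv_eq_one.1 e2).symm)
    · rw [Finset.not_nonempty_iff_eq_empty.1 h0]; simp
  rw [Finset.card_univ, Finset.card_univ, ← Nat.card_eq_fintype_card,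
    ← Nat.card_eq_fintype_card] at h2
  nlinarith [Nat.pow_le_pow_left h2 2]

theorem le_card_of_fpf {A : Type*} [Group A] [Finite A] (b : MulAut A) {n : ℕ}
    (hf : ∀ i, 0 < i → i < n → ∀ a, (b ^ i) a = a → a = 1) (C : Subgroup A) (hC : C ≠ ⊥)
    (hb : ∀ a ∈ C, b a ∈ C) : n ≤ Nat.card C := by
  obtain ⟨⟨a, ha⟩, h0⟩ := Subgroup.ne_bot_iff_exists_ne_one.1 hC
  have hm : ∀ i : ℕ, (b ^ i) a ∈ C := fun i => by
    induction i with
    | zero => exact ha
    | succ i ih => rw [pow_succ', MulAut.mul_apply]; exact hb _ ih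
  have key : ∀ i j : ℕ, i < j → j < n → (b ^ i) a ≠ (b ^ j) a := fun i j hij hj e => by
    obtain ⟨c, rfl⟩ := Nat.exists_eq_add_of_lt hij
    rw [add_assoc, pow_add, MulAut.mul_apply, (b ^ i).apply_eq_iff_eq] at e
    exact h0 (Subtype.ext (hf _ (by omega) (by omega) a e.symm))
  have := Nat.card_le_card_of_injective (fun i : Fin n => (⟨(b ^ (i : ℕ)) a, hm i⟩ : C))
    fun i j e => by
      have e' := congrArg Subtype.val e
      rcases lt_trichotomy i j with h | h | h
      · exact absurd e' (key i j h j.2)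
      · exact h
      · exact absurd e'.symm (key j i h i.2)
  simpa using this

/-- An isometry commuting with a large semiregular cyclic group of isometries lies in it. -/
theorem mem_zpowers_of_isometry {A k : Type*} [CommGroup A] [Finite A] [Field k]
    (β : A →* A →* k) (alt : ∀ a, β a a = 1) (nd : ∀ a, (∀ x, β a x = 1) → a = 1)
    (b g : MulAut A) {D : ℕ} (hD : 1 < D) (hA : Nat.card A = D ^ 2) (hb : b ^ (D + 1) = 1)
    (hf : ∀ i, 0 < i → i < D + 1 → ∀ a, (b ^ i) a = a → a = 1) (hc : b * g = g * b)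
    (hβb : ∀ x y, β (b x) (b y) = β x y) (hβg : ∀ x y, β (g x) (g y) = β x y) :
    g ∈ Subgroup.zpowers b := by
  haveI : Nontrivial A := Finite.one_lt_card_iff_nontrivial.1 (by rw [hA]; nlinarith)
  haveI : Finite (MulAut A) := Finite.of_injective _ (DFunLike.coe_injective (F := MulAut A))
  set H := Subgroup.closure {b, g} with hH
  have hcH : ∀ x ∈ H, ∀ y ∈ H, x * y = y * x := by
    have h1 : H ≤ Subgroup.centralizer {b, g} := (Subgroup.closure_le _).2 (by
      rintro x (rfl | rfl) y (rfl | rfl) <;> simp [hc])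
    rw [← Subgroup.centralizer_closure] at h1
    exact fun x hx y hy => h1 hy x hx
  have hβ : ∀ h ∈ H, ∀ x y, β (h x) (h y) = β x y := by
    intro h hh
    induction hh using Subgroup.closure_induction with
    | mem x hx => rcases hx with rfl | rfl <;> assumption
    | one => intro x y; rfl
    | mul x y _ _ h1 h2 => intro u v; rw [MulAut.mul_apply, MulAut.mul_apply, h1, h2]
    | inv x _ h1 => intro u v; rw [← h1]; simp
  have hbH : b ∈ H := Subgroup.subset_closure (by simp)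
  have hsemi : ∀ h ∈ H, h ≠ 1 → ∀ a, h a = a → a = 1 := by
    intro h hh h1 a ha
    by_contra h0
    let f : A →* A := (h : A →* A) / MonoidHom.id A
    have hfa : ∀ x, f x = h x / x := fun _ => rfl
    have hbf : ∀ x, f (b x) = b (f x) := fun x => by
      rw [hfa, hfa, map_div, ← MulAut.mul_apply, ← MulAut.mul_apply, hcH h hh b hbH]
    have c1 := le_card_of_fpf b hf f.ker (fun e => h0 (by
      rw [← Subgroup.mem_bot, ← e, MonoidHom.mem_ker, hfa, ha, div_self']))
      fun x hx => by rw [MonoidHom.mem_ker] at hx ⊢; rw [hbf, hx, map_one]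
    have c2 := le_card_of_fpf b hf f.range (fun e => h1 (by
      ext x
      have : f x ∈ (⊥ : Subgroup A) := e ▸ ⟨x, rfl⟩
      exact div_eq_one.1 (Subgroup.mem_bot.1 this)))
      (by rintro _ ⟨x, rfl⟩; exact ⟨b x, hbf x⟩)
    have c3 := f.ker.card_mul_index
    rw [Subgroup.index_ker, hA] at c3
    nlinarith [Nat.mul_le_mul c1 c2]
  have h1 := card_le_of_semiregular β alt nd H hcH hβ hsemi
  have ho : orderOf b = D + 1 := by
    refine (orderOf_eq_iff (by omega)).2 ⟨hb, fun m h1 h2 e => ?_⟩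
    obtain ⟨a, ha⟩ := exists_ne (1 : A)
    exact ha (hf m h2 h1 a (by rw [e]; rfl))
  have hle : Subgroup.zpowers b ≤ H := (Subgroup.zpowers_le).2 hbH
  obtain ⟨c, hc'⟩ := Subgroup.card_dvd_of_le hle
  rw [Nat.card_zpowers, ho] at hc'
  have hc1 : c ≤ 1 := by
    by_contra h2
    rw [hc', hA] at h1
    have : 2 ≤ c := by omega
    nlinarith [Nat.pow_le_pow_left (Nat.mul_le_mul_left (D + 1) this) 2]
  rw [Subgroup.eq_of_le_of_card_ge hle (by rw [Nat.card_zpowers, ho, hc']; nlinarith)]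
  exact Subgroup.subset_closure (by simp)

theorem fix_pow {A : Type*} [Group A] {b : MulAut A} {a : A} (h : b a = a) (m : ℕ) :
    (b ^ m) a = a := by
  induction m with
  | zero => rfl
  | succ m ih => rw [pow_succ, MulAut.mul_apply, h, ih]

theorem fpf_pow {A : Type*} [Group A] {b : MulAut A} {r : ℕ} (hr : r.Prime) (hb : b ^ r = 1)
    (hf : ∀ a, b a = a → a = 1) {i : ℕ} (hi : ¬ r ∣ i) (a : A) (h : (b ^ i) a = a) : a = 1 := by
  obtain ⟨m, hm⟩ := exists_pow_eq_self_of_coprime (x := b) (n := i)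
    (((Nat.Prime.coprime_iff_not_dvd hr).2 hi).symm.coprime_dvd_right (orderOf_dvd_of_pow_eq_one hb))
  exact hf a (hm ▸ fix_pow h m)

theorem fpf_mul {A : Type*} [Group A] {b c : MulAut A} {r s : ℕ} (hr : r.Prime) (hs : s.Prime)
    (hrs : r ≠ s) (hb : b ^ r = 1) (hc : c ^ s = 1) (hbc : b * c = c * b)
    (hfb : ∀ a, b a = a → a = 1) (hfc : ∀ a, c a = a → a = 1) (i : ℕ) (h0 : 0 < i)
    (h1 : i < r * s) (a : A) (h : ((b * c) ^ i) a = a) : a = 1 := by
  have hco := (Nat.coprime_primes hr hs).2 hrs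
  have key := fix_pow h
  by_cases h2 : r ∣ i
  · refine fpf_pow hs hc hfc (i := i) (fun h3 => ?_) a ?_
    · exact absurd (Nat.le_of_dvd h0 (hco.mul_dvd_of_dvd_of_dvd h2 h3)) (by omega)
    · obtain ⟨j, rfl⟩ := h2
      rwa [Commute.mul_pow hbc, pow_mul b, hb, one_pow, one_mul] at h
  · refine fpf_pow hr hb hfb (i := i * s) (fun h3 => ?_) a ?_
    · exact h2 (hco.dvd_of_dvd_mul_right h3)
    · have := key s
      rwa [← pow_mul, Commute.mul_pow hbc, pow_mul' c, hc, one_pow, mul_one] at this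

theorem orderOf_eq_of_fpf {A : Type*} [Group A] [Nontrivial A] {b : MulAut A} {n : ℕ} (hn : 0 < n)
    (hb : b ^ n = 1) (hf : ∀ i, 0 < i → i < n → ∀ a, (b ^ i) a = a → a = 1) : orderOf b = n := by
  refine (orderOf_eq_iff hn).2 ⟨hb, fun m h1 h2 e => ?_⟩
  obtain ⟨a, ha⟩ := exists_ne (1 : A)
  exact ha (hf m h2 h1 a (by rw [e]; rfl))

/-- Small symplectic spaces: the isometries commuting with `b` commute. -/
theorem comm_of_small {A k : Type*} [CommGroup A] [Finite A] [Field k]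
    (β : A →* A →* k) (alt : ∀ a, β a a = 1) (nd : ∀ a, (∀ x, β a x = 1) → a = 1)
    {b c : MulAut A} {r s d : ℕ} (hr : r.Prime) (hs : s.Prime) (hrs : r ≠ s) (hb : b ^ r = 1)
    (hc : c ^ s = 1) (hbc : b * c = c * b) (hfb : ∀ a, b a = a → a = 1)
    (hfc : ∀ a, c a = a → a = 1) (hβb : ∀ x y, β (b x) (b y) = β x y)
    (hβc : ∀ x y, β (c x) (c y) = β x y) (hd : 1 < d) (hA : Nat.card A = d ^ 2)
    (hsd : s.Coprime d) (h1 : r ∣ d + 1 ∨ r ∣ d - 1) (h2 : d + 1 ≤ 2 * r) {g g' : MulAut A}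
    (hg : b * g = g * b) (hg' : b * g' = g' * b) (hβg : ∀ x y, β (g x) (g y) = β x y)
    (hβg' : ∀ x y, β (g' x) (g' y) = β x y) : g * g' = g' * g := by
  haveI : Nontrivial A := Finite.one_lt_card_iff_nontrivial.1 (by rw [hA]; nlinarith)
  classical
  haveI : Finite (MulAut A) := Finite.of_injective _ (DFunLike.coe_injective (F := MulAut A))
  have hr2 := hr.two_le
  have hs2 := hs.two_le
  have hf := fpf_mul hr hs hrs hb hc hbc hfb hfc
  have hn : (b * c) ^ (r * s) = 1 := by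
    rw [Commute.mul_pow hbc, pow_mul, hb, pow_mul', hc]; simp
  have ho := orderOf_eq_of_fpf (by positivity) hn hf
  have h3 := card_le_of_semiregular β alt nd (Subgroup.zpowers (b * c))
    (by rintro _ ⟨i, rfl⟩ _ ⟨j, rfl⟩; exact zpow_mul_comm _ _ _)
    (fun h hh => by
      obtain ⟨m, rfl⟩ := mem_powers_iff_mem_zpowers.2 hh
      induction m with
      | zero => intro x y; rfl
      | succ m ih =>
        intro x y
        simp only [pow_succ', MulAut.mul_apply, hβb, hβc]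
        exact ih (Subgroup.npow_mem_zpowers _ _) x y)
    (fun h hh h1 a ha => by
      obtain ⟨i, hi, rfl⟩ := Finset.mem_image.1 (mem_zpowers_iff_mem_range_orderOf.1 hh)
      refine hf i (Nat.pos_of_ne_zero ?_) (ho ▸ Finset.mem_range.1 hi) a ha
      rintro rfl
      exact h1 (pow_zero _))
  rw [Nat.card_zpowers, ho, hA, show 4 * d ^ 2 = (2 * d) ^ 2 by ring] at h3
  have h4 : r * s ≤ 2 * d := (Nat.pow_le_pow_iff_left two_ne_zero).1 h3
  have fin : ∀ b' : MulAut A, b' ^ (d + 1) = 1 →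
      (∀ i, 0 < i → i < d + 1 → ∀ a, (b' ^ i) a = a → a = 1) → b' * g = g * b' →
      b' * g' = g' * b' → (∀ x y, β (b' x) (b' y) = β x y) → g * g' = g' * g := by
    intro b' e1 e2 e3 e4 e5
    obtain ⟨i, rfl⟩ := mem_zpowers_of_isometry β alt nd b' g hd hA e1 e2 e3 e5 hβg
    obtain ⟨j, rfl⟩ := mem_zpowers_of_isometry β alt nd b' g' hd hA e1 e2 e4 e5 hβg'
    exact zpow_mul_comm _ _ _
  have h5 : d + 1 = r ∨ d = r + 1 ∨ d + 1 = 2 * r := by
    rcases h1 with ⟨m, hm⟩ | ⟨m, hm⟩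
    · have : m ≤ 2 := by nlinarith
      interval_cases m <;> omega
    · have : m < 2 := by
        by_contra h
        have := Nat.mul_le_mul_left r (not_lt.1 h)
        omega
      interval_cases m <;> omega
  have h6 : d ≠ r + 1 := by
    rintro rfl
    have : s ≤ 3 := by nlinarith
    interval_cases s
    · rcases hr.eq_two_or_odd' with h | h
      · exact hrs h
      · exact absurd (Nat.coprime_two_left.1 hsd) (Nat.not_odd_iff_even.2 h.add_one)
    · obtain rfl : r = 2 := by omega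
      simp at hsd
  rcases h5 with h5 | h5 | h5
  · exact fin b (h5 ▸ hb) (fun i h0 hi => fpf_pow hr hb hfb fun h => by
      have := Nat.le_of_dvd h0 h; omega) hg hg' hβb
  · exact absurd h5 h6
  · have hm : ∀ x : MulAut A, MulEquiv.inv A * x = x * MulEquiv.inv A := fun x => by ext; simp
    have h7 : (MulEquiv.inv A : MulAut A) ^ 2 = 1 := by ext; simp [sq]
    have hf' := fpf_mul hr Nat.prime_two (by omega) hb h7 (hm b).symm hfb fun a ha => by
      have h8 : a ^ 2 = 1 := by rw [sq, mul_eq_one_iff_eq_inv]; exact ha.symm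
      have h9 : (orderOf a) ∣ Nat.gcd 2 (d ^ 2) :=
        Nat.dvd_gcd (orderOf_dvd_of_pow_eq_one h8) (hA ▸ orderOf_dvd_natCard a)
      rwa [Nat.Coprime.gcd_eq_one (Nat.Coprime.pow_right 2 (Nat.coprime_two_left.2
        ⟨r - 1, by omega⟩)), Nat.dvd_one, orderOf_eq_one_iff] at h9
    refine fin (b * MulEquiv.inv A) ?_ (fun i h0 hi => hf' i h0 (by omega)) ?_ ?_ fun x y => ?_
    · rw [Commute.mul_pow (hm b).symm, h5, pow_mul', hb, pow_mul, h7]; simp
    · rw [mul_assoc, hm, ← mul_assoc, hg, mul_assoc]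
    · rw [mul_assoc, hm, ← mul_assoc, hg', mul_assoc]
    · rw [MulAut.mul_apply, MulAut.mul_apply, hβb]
      exact (map_inv (β x⁻¹) y).trans (by rw [show β x⁻¹ y = _ from map_inv (β.flip y) x, inv_inv]; rfl)

end H83
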