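import Mathlib
import Cfsg.Agent.Base
import Cfsg.Agent.Lib.FGS83.PQ3
import Cfsg.Agent.Lib.FGS83.TurA

/-!
# Commutator forms on sections, the exceptional configuration (helper83)
-/

set_option autoImplicit false

namespace H83

open Subgroup H2 H68
open scoped commutatorElement

universe u

variable {Y : Type u} [Group Y]

local notation "𝐍(" H ")" => Subgroup.normalizer (SetLike.coe H)
local notation "𝐂(" H ")" => Subgroup.centralizer (SetLike.coe H)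

theorem commutator_le_of_le_right {X B C : Subgroup Y} (hX : X ≤ 𝐍(C)) (hB : B ≤ C) :
    ⁅X, B⁆ ≤ C := by
  rw [commutator_comm]
  exact (commutator_mono hB le_rfl).trans (commutator_le_of_le_normalizer hX)

theorem comm_mem_symm {N : Subgroup Y} {x y : Y} (h : ⁅x, y⁆ ∈ N) : ⁅y, x⁆ ∈ N := by
  rw [← commutatorElement_inv]; exact inv_mem h

theorem le_relC {X H N : Subgroup Y} (hX : X ≤ 𝐍(N)) (h : ⁅H, X⁆ ≤ N) :
    X ≤ relCentralizer H N := le_relCentralizer_iff.2 ⟨hX, commutator_comm H X ▸ h⟩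

theorem comm_le_of_le_relC {X H N : Subgroup Y} (h : X ≤ relCentralizer H N) : ⁅H, X⁆ ≤ N :=
  commutator_comm X H ▸ (le_relCentralizer_iff.1 h).2

theorem comm_sup_right {H X X' N : Subgroup Y} (hX : X ≤ 𝐍(N)) (hX' : X' ≤ 𝐍(N))
    (h1 : ⁅H, X⁆ ≤ N) (h2 : ⁅H, X'⁆ ≤ N) : ⁅H, X ⊔ X'⁆ ≤ N :=
  comm_le_of_le_relC (sup_le (le_relC hX h1) (le_relC hX' h2))

theorem comm_bot_of_le_centralizer {H X N : Subgroup Y} (h : H ≤ 𝐂(X)) : ⁅H, X⁆ ≤ N :=
  (commutator_eq_bot_iff_le_centralizer.2 h).le.trans bot_le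

theorem le_normalizer_of_comm_le {X N : Subgroup Y} (h : ⁅N, X⁆ ≤ N) : X ≤ 𝐍(N) :=
  le_normalizer_of_forall_cj_le fun g hg => cj_le_iff'.2 fun x hx => by
    have := mul_mem (comm_mem_symm (h (commutator_mem_commutator hx hg))) hx
    simpa [commutatorElement_def] using this

/-- The radical of the commutator form of `S` modulo `J`. -/
def rad (S J : Subgroup Y) : Subgroup Y := S ⊓ relCentralizer S J

theorem rad_le {S J : Subgroup Y} : rad S J ≤ S := inf_le_left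

theorem rad_comm_le {S J : Subgroup Y} : ⁅rad S J, S⁆ ≤ J :=
  (le_relCentralizer_iff.1 inf_le_right).2

theorem le_rad {S J X : Subgroup Y} (hSJ : S ≤ 𝐍(J)) (hX : X ≤ S) (h : ⁅X, S⁆ ≤ J) :
    X ≤ rad S J := le_inf hX (le_relCentralizer_iff.2 ⟨hX.trans hSJ, h⟩)

theorem mem_rad {S J : Subgroup Y} (hSJ : S ≤ 𝐍(J)) {x : Y} :
    x ∈ rad S J ↔ x ∈ S ∧ ∀ y ∈ S, ⁅x, y⁆ ∈ J :=
  ⟨fun h => ⟨h.1, h.2.2⟩, fun h => ⟨h.1, hSJ h.1, h.2⟩⟩

theorem comm_le_rad {S J : Subgroup Y} (hSJ : S ≤ 𝐍(J)) (hc : ⁅⁅S, S⁆, S⁆ ≤ J) :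
    ⁅S, S⁆ ≤ rad S J := le_rad hSJ (commutator_le_of_le_normalizer le_normalizer) hc

theorem le_normalizer_rad [Finite Y] {S J D : Subgroup Y} (hS : D ≤ 𝐍(S)) (hJ : D ≤ 𝐍(J)) :
    D ≤ 𝐍(rad S J) := le_normalizer_inf hS (le_normalizer_relCentralizer hS hJ)

theorem rad_congr {S J N : Subgroup Y} (hJ : S ≤ 𝐍(J)) (hN : S ≤ 𝐍(N))
    (h : ∀ z ∈ ⁅S, S⁆, z ∈ J ↔ z ∈ N) : rad S J = rad S N := by
  ext x
  rw [mem_rad hJ, mem_rad hN]
  exact and_congr_right fun hx => forall₂_congr fun y hy => h _ (commutator_mem_commutator hx hy)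

theorem inf_le_rad {S J : Subgroup Y} (hSJ : S ≤ 𝐍(J)) : S ⊓ J ≤ rad S J :=
  le_rad hSJ inf_le_left
    ((commutator_mono inf_le_right le_rfl).trans (commutator_le_of_le_normalizer hSJ))

variable [Finite Y]

theorem rad_comm_eq {U B J : Subgroup Y} (hBU : B ≤ 𝐍(U)) (hUJ : U ≤ 𝐍(J)) (hBJ : B ≤ 𝐍(J))
    (hB : ⁅⁅U, U⁆, B⁆ ≤ J) (hp : (Nat.card B).Prime)
    (c3 : (Nat.card B).Coprime (Nat.card U)) : rad ⁅U, B⁆ J = ⁅U, B⁆ ⊓ rad U J := by
  have hN : ⁅U, B⁆ ≤ U := commutator_le_of_le_normalizer hBU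
  refine le_antisymm (le_inf rad_le (le_rad hUJ (rad_le.trans hN) ?_)) (le_rad (hN.trans hUJ)
    inf_le_left ((commutator_mono inf_le_right hN).trans rad_comm_le))
  exact (commutator_mono le_rfl (commutator_sup_centralizer hBU c3
    (Or.inl (H47.isSolvable_of_card_prime hp))).ge).trans
    (comm_sup_right (hN.trans hUJ) (inf_le_left.trans hUJ) rad_comm_le
    ((commutator_mono rad_le le_rfl).trans (commutator_fix_le hUJ hBJ hB)))

theorem zpowers_eq_of_prime {B : Subgroup Y} (hp : (Nat.card B).Prime) {a : Y} (ha : a ∈ B)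
    (h1 : a ≠ 1) : zpowers a = B :=
  H47.eq_of_card_prime hp ((zpowers_le).2 ha) (by rwa [Ne, zpowers_eq_bot])

theorem fpf_prime {D D₁ B : Subgroup Y} (hp : (Nat.card B).Prime) (hB : B ≤ 𝐍(D₁))
    (hle : D₁ ≤ D) (cop : (Nat.card B).Coprime (Nat.card D)) (hC : D ⊓ 𝐂(B) ≤ D₁) {u a : Y}
    (hu : u ∈ D) (ha : a ∈ B) (h1 : a ≠ 1) (h : ⁅u⁻¹, a⁆ ∈ D₁) : u ∈ D₁ := by
  obtain ⟨n, hn, hc⟩ := exists_mul_mem_centralizer (g := u) hB (coprime_of_le_right cop hle)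
    (Or.inl (H47.isSolvable_of_card_prime hp)) fun b hb => by
      rw [← zpowers_eq_of_prime hp ha h1, ← mem_powers_iff_mem_zpowers] at hb
      obtain ⟨m, rfl⟩ := hb
      simpa [commutatorElement_def] using commutator_pow_mem (hB ha) h m
  exact (mul_mem_cancel_right hn).1 (hC ⟨mul_mem hu (hle hn), hc⟩)

theorem mem_of_pow_mem_of_coprime {C : Subgroup Y} {g : Y} {n : ℕ} (h : g ^ n ∈ C)
    (hc : n.Coprime (orderOf g)) : g ∈ C := by
  obtain ⟨m, hm⟩ := exists_pow_eq_self_of_coprime hc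
  rw [← hm]; exact pow_mem h m

/-- A character of `Z` with kernel `Z ⊓ J`. -/
structure Form {k : Type*} [Field k] (Z J : Subgroup Y) (μ : Y → k) : Prop where
  mul : ∀ x ∈ Z, ∀ y ∈ Z, μ (x * y) = μ x * μ y
  one : ∀ z ∈ Z, z ∈ J ↔ μ z = 1

variable {k : Type*} [Field k] {μ : Y → k}

theorem exists_formModel {S Z J D : Subgroup Y} (hμ : Form Z J μ) (hSZ : ⁅S, S⁆ ≤ Z)
    (hSJ : S ≤ 𝐍(J)) (hc : ⁅⁅S, S⁆, S⁆ ≤ J) (hDS : D ≤ 𝐍(S)) (hDJ : D ≤ 𝐍(J))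
    (hD : ⁅⁅S, S⁆, D⁆ ≤ J) : ∃ (A : Type u) (_ : CommGroup A) (_ : Finite A) (β : A →* A →* k)
      (φ : D →* MulAut A), (∀ a, β a a = 1) ∧ (∀ a, (∀ x, β a x = 1) → a = 1) ∧
      (∀ g x y, β (φ g x) (φ g y) = β x y) ∧
      (∀ g, φ g = 1 ↔ (g : Y) ∈ relCentralizer S (rad S J)) ∧
      Nat.card A = (rad S J).relIndex S ∧ ∀ g : D, (∀ a, φ g a = a → a = 1) ↔
        ∀ x ∈ S, ⁅x⁻¹, (g : Y)⁆ ∈ rad S J → x ∈ rad S J := by
  have hSR := comm_le_rad hSJ hc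
  haveI := normal_subgroupOf_of_commutator_le hSR
  have hDR : D ≤ 𝐍(rad S J) := le_normalizer_rad hDS hDJ
  let _ : CommGroup (S ⧸ (rad S J).subgroupOf S) :=
    { (inferInstance : Group (S ⧸ (rad S J).subgroupOf S)) with
      mul_comm := (isMulCommutative_section hSR).is_comm.comm }
  have hinv : ∀ g ∈ 𝐍(S), ∀ w ∈ ⁅S, S⁆, ⁅w, g⁆ ∈ J → μ (g * w * g⁻¹) = μ w := by
    intro g hg w hw h
    have h1 : ⁅g, w⁆ ∈ Z := hSZ (comm_mem_symm (commutator_le_of_le_normalizer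
      (le_normalizer_commutator ((zpowers_le).2 hg) ((zpowers_le).2 hg))
      (commutator_mem_commutator hw (mem_zpowers g))))
    have : g * w * g⁻¹ = ⁅g, w⁆ * w := by simp [commutatorElement_def]
    rw [this, hμ.mul _ h1 _ (hSZ hw), (hμ.one _ h1).1 (comm_mem_symm h), one_mul]
  have hm : ∀ x y : S, ⁅(x : Y), (y : Y)⁆ ∈ ⁅S, S⁆ := fun x y => commutator_mem_commutator x.2 y.2
  have h1 : μ 1 = 1 := (hμ.one 1 (one_mem _)).1 (one_mem _)
  let β₁ : S →* S →* k :=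
    { toFun := fun x =>
        { toFun := fun y => μ ⁅(x : Y), (y : Y)⁆
          map_one' := by simpa using h1
          map_mul' := fun y y' => by
            have : ⁅(x : Y), ((y * y' : S) : Y)⁆ =
                ⁅(x : Y), (y : Y)⁆ * (y * ⁅(x : Y), (y' : Y)⁆ * (y : Y)⁻¹) := by
              simp [commutatorElement_def, mul_assoc]
            rw [this, hμ.mul _ (hSZ (hm _ _)) _ (hSZ (conj_mem_of_le_normalizer
              (le_normalizer_commutator le_normalizer le_normalizer) y.2 (hm _ _))),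
              hinv _ (le_normalizer y.2) _ (hm _ _) (hc (commutator_mem_commutator (hm _ _) y.2))] }
      map_one' := by ext y; simpa using h1
      map_mul' := fun x x' => by
        ext y
        have : ⁅((x * x' : S) : Y), (y : Y)⁆ =
            (x * ⁅(x' : Y), (y : Y)⁆ * (x : Y)⁻¹) * ⁅(x : Y), (y : Y)⁆ := by
          simp [commutatorElement_def, mul_assoc]
        change μ _ = μ _ * μ _
        rw [this, hμ.mul _ (hSZ (conj_mem_of_le_normalizer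
          (le_normalizer_commutator le_normalizer le_normalizer) x.2 (hm _ _))) _ (hSZ (hm _ _)),
          hinv _ (le_normalizer x.2) _ (hm _ _) (hc (commutator_mem_commutator (hm _ _) x.2)),
          mul_comm] }
  let β₂ : (S ⧸ (rad S J).subgroupOf S) →* S →* k := QuotientGroup.lift _ β₁ fun x hx => by
    ext y
    exact (hμ.one _ (hSZ (hm x y))).1 (rad_comm_le (commutator_mem_commutator hx y.2))
  let β₃ : (S ⧸ (rad S J).subgroupOf S) →* (S ⧸ (rad S J).subgroupOf S) →* k :=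
    QuotientGroup.lift _ β₂.flip fun y hy => by
      ext x
      exact (hμ.one _ (hSZ (hm x y))).1
        (comm_mem_symm (rad_comm_le (commutator_mem_commutator hy x.2)))
  have hβ : ∀ x y : S, β₃ x y = μ ⁅(y : Y), (x : Y)⁆ := fun _ _ => rfl
  let φ := sectionAut (N := rad S J) hDS hDR
  have hφ : ∀ g : D, φ g = 1 ↔ (g : Y) ∈ relCentralizer S (rad S J) := fun g =>
    (mem_ker_sectionAut hDS hDR g).trans ⟨fun h => ⟨hDR g.2, fun x hx => comm_mem_symm (h x hx)⟩,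
      fun h x hx => comm_mem_symm (h.2 x hx)⟩
  have hiso : ∀ (g : D) x y, β₃ (φ g x) (φ g y) = β₃ x y := fun g x y => by
    obtain ⟨x, rfl⟩ := QuotientGroup.mk_surjective x
    obtain ⟨y, rfl⟩ := QuotientGroup.mk_surjective y
    rw [sectionAut_mk, sectionAut_mk, hβ, hβ, ← hinv g (hDS g.2) _ (hm y x)
      (hD (commutator_mem_commutator (hm _ _) g.2))]
    simp [coe_conjAut_apply, commutatorElement_def, mul_assoc]
  refine ⟨_, inferInstance, inferInstance, β₃, φ, fun a => ?_, fun a ha => ?_, hiso, hφ, rfl,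
    fun g => ⟨fun h x hx h1 => (QuotientGroup.eq_one_iff (⟨x, hx⟩ : S)).1
      (h (⟨x, hx⟩ : S) ((sectionAut_mk_eq_iff hDS hDR g _).2 h1)), fun h a ha => ?_⟩⟩
  · obtain ⟨x, rfl⟩ := QuotientGroup.mk_surjective a
    rw [hβ]; simpa using h1
  · obtain ⟨x, rfl⟩ := QuotientGroup.mk_surjective a
    refine (QuotientGroup.eq_one_iff _).2 ((mem_rad hSJ).2 ⟨x.2, fun y hy => comm_mem_symm ?_⟩)
    exact (hμ.one _ (hSZ (hm ⟨y, hy⟩ x))).2 (ha (⟨y, hy⟩ : S))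
  · obtain ⟨x, rfl⟩ := QuotientGroup.mk_surjective a
    exact (QuotientGroup.eq_one_iff _).2 (h x x.2 ((sectionAut_mk_eq_iff hDS hDR g _).1 ha))

theorem l0_sec {S Z J D : Subgroup Y} (hμ : Form Z J μ) (hSZ : ⁅S, S⁆ ≤ Z) (hSJ : S ≤ 𝐍(J))
    (hc : ⁅⁅S, S⁆, S⁆ ≤ J) (hDS : D ≤ 𝐍(S)) (hDJ : D ≤ 𝐍(J)) (hD : ⁅⁅S, S⁆, D⁆ ≤ J) {b : Y}
    (hb : b ∈ D) {d : ℕ} (hd : 1 < d) (hA : d ^ 2 = (rad S J).relIndex S)
    (hbn : b ^ (d + 1) ∈ relCentralizer S (rad S J))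
    (hf : ∀ i, 0 < i → i < d + 1 → ∀ g ∈ S, ⁅g⁻¹, b ^ i⁆ ∈ rad S J → g ∈ rad S J) :
    (∀ g ∈ D, ⁅b, g⁆ ∈ relCentralizer S (rad S J) → g ^ (d + 1) ∈ relCentralizer S (rad S J)) ∧
    ∀ g ∈ D, ∀ g' ∈ D, ⁅b, g⁆ ∈ relCentralizer S (rad S J) →
      ⁅b, g'⁆ ∈ relCentralizer S (rad S J) → ⁅g, g'⁆ ∈ relCentralizer S (rad S J) := by
  obtain ⟨A, _, _, β, φ, alt, nd, hiso, hφ, hcard, hfpf⟩ := exists_formModel hμ hSZ hSJ hc hDS hDJ hD
  have key : ∀ g (hg : g ∈ D), ⁅b, g⁆ ∈ relCentralizer S (rad S J) →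
      φ ⟨g, hg⟩ ∈ zpowers (φ ⟨b, hb⟩) := fun g hg h => by
    refine mem_zpowers_of_isometry β alt nd _ _ hd (hcard.trans hA.symm) ?_
      (fun i h0 hi => ?_) ?_ (hiso _) (hiso _)
    · rw [← map_pow]; exact (hφ _).2 hbn
    · rw [← map_pow]; exact (hfpf _).2 (hf i h0 hi)
    · rw [← commutatorElement_eq_one_iff_mul_comm, ← map_commutatorElement]
      exact (hφ _).2 h
  refine ⟨fun g hg h => (hφ (⟨g, hg⟩ ^ (d + 1))).1 ?_, fun g hg g' hg' h h' =>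
    (hφ ⁅(⟨g, hg⟩ : D), (⟨g', hg'⟩ : D)⁆).1 ?_⟩
  · obtain ⟨i, hi⟩ := key g hg h
    have : φ ⟨b, hb⟩ ^ (d + 1) = 1 := by rw [← map_pow]; exact (hφ _).2 hbn
    rw [map_pow, ← hi, ← zpow_natCast, ← zpow_mul, mul_comm, zpow_mul, zpow_natCast, this, one_zpow]
  · obtain ⟨i, hi⟩ := key g hg h
    obtain ⟨j, hj⟩ := key g' hg' h'
    rw [map_commutatorElement, ← hi, ← hj, commutatorElement_eq_one_iff_mul_comm]
    exact zpow_mul_comm _ _ _

/-- In the exceptional configuration, coprime operators commuting with `B` act trivially. -/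
theorem l0_cent {U Z J B Q : Subgroup Y} (hμ : Form Z J μ) (hUZ : ⁅U, U⁆ ≤ Z) (hUJ : U ≤ 𝐍(J))
    (hc : ⁅⁅U, U⁆, U⁆ ≤ J) (hp : (Nat.card B).Prime) (hBU : B ≤ 𝐍(U)) (hBJ : B ≤ 𝐍(J))
    (hB : ⁅⁅U, U⁆, B⁆ ≤ J) (hQU : Q ≤ 𝐍(U)) (hQJ : Q ≤ 𝐍(J)) (hQ : ⁅⁅U, U⁆, Q⁆ ≤ J)
    (hQB : Q ≤ 𝐂(B)) (c1 : (Nat.card B).Coprime (Nat.card Q))
    (c3 : (Nat.card B).Coprime (Nat.card U)) {d : ℕ} (hd : 1 < d) (hr : Nat.card B = d + 1)
    (hA : d ^ 2 = (rad U J).relIndex ⁅U, B⁆) : ⁅⁅U, B⁆, Q⁆ ≤ rad U J := by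
  have hN : ⁅U, B⁆ ≤ U := commutator_le_of_le_normalizer hBU
  have hNN : ⁅⁅U, B⁆, ⁅U, B⁆⁆ ≤ ⁅U, U⁆ := commutator_mono hN hN
  have hBN : B ≤ 𝐍((⁅U, B⁆ : Subgroup Y)) := le_normalizer_commutator hBU le_normalizer
  have hQN : Q ≤ 𝐍((⁅U, B⁆ : Subgroup Y)) :=
    le_normalizer_commutator hQU (hQB.trans (centralizer_le_normalizer _))
  have he := rad_comm_eq hBU hUJ hBJ hB hp c3
  obtain ⟨b, hb, hb1, hbp⟩ := H46.exists_generator_of_prime_card hp
  have hbB : b ∈ B := hb ▸ mem_zpowers b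
  have ho : orderOf b = d + 1 := by rw [← Nat.card_zpowers, ← hb, hr]
  have hc' : ⁅⁅⁅U, B⁆, ⁅U, B⁆⁆, ⁅U, B⁆⁆ ≤ J := (commutator_mono hNN hN).trans hc
  obtain ⟨h1, -⟩ := l0_sec (D := B ⊔ Q) hμ (hNN.trans hUZ) (hN.trans hUJ) hc' (sup_le hBN hQN)
    (sup_le hBJ hQJ) ((commutator_mono hNN le_rfl).trans (comm_sup_right hBJ hQJ hB hQ))
    (mem_sup_left hbB) hd (by rw [hA, he, inf_comm, inf_relIndex_right])
    (by rw [← hr, hbp]; exact one_mem _) fun i h0 hi g hg h =>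
      fpf_prime hp (le_normalizer_rad hBN hBJ) rad_le (coprime_of_le_right c3 hN)
        (le_trans (le_inf inf_le_left ((commutator_inf_centralizer_le hBU c3).trans
          (comm_le_rad hUJ hc))) he.ge) hg (pow_mem hbB i)
        (pow_ne_one_of_lt_orderOf h0.ne' (ho ▸ hi)) h
  refine le_trans (comm_le_of_le_relC fun g hg => mem_of_pow_mem_of_coprime
    (h1 g (mem_sup_right hg) ?_) ?_) (he.le.trans inf_le_right)
  · rw [commutatorElement_eq_one_iff_mul_comm.2 (hQB hg b hbB)]; exact one_mem _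
  · exact hr ▸ c1.coprime_dvd_right (H1.orderOf_dvd_card_of_mem hg)

theorem relIndex_ne_two' {S L B N : Subgroup Y} (hp : (Nat.card B).Prime) (hLS : L ≤ 𝐍(S))
    (hBS : B ≤ 𝐍(S)) (hBL : B ≤ 𝐍(L)) (hSN : S ≤ 𝐍(N)) (hBN : B ≤ 𝐍(N)) (hLN : L ≤ 𝐍(N))
    (hZB : ⁅⁅S, S⁆, B⁆ ≤ N) (hZL : ⁅⁅S, S⁆, L⁆ ≤ N) (hs : Group.IsSolvable S)
    (c2 : (Nat.card L).Coprime (Nat.card S)) (c3 : (Nat.card B).Coprime (Nat.card S)) :
    (rad S N).relIndex (⁅S, L⁆ ⊓ 𝐂(B)) ≠ 2 := by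
  intro e
  set W := ⁅S, L⁆ with hW
  have hWS : W ≤ S := commutator_le_of_le_normalizer hLS
  have hBW : B ≤ 𝐍(W) := le_normalizer_commutator hBS hBL
  obtain ⟨⟨x, hx⟩, ha⟩ := index_eq_two_iff.1 e
  have hx0 : x ∉ rad S N := fun h => by
    rcases ha 1 with ⟨-, h1⟩ | ⟨-, h1⟩
    · exact h1 (one_mem _)
    · exact h1 (by simpa [mem_subgroupOf] using h)
  have hxS := hWS hx.1
  apply hx0
  refine ⟨hxS, hSN hxS, ?_⟩
  rw [← commutator_sup_centralizer hLS c2 (Or.inr hs)]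
  refine mem_relCentralizer_of_sup (hSN hxS) (hWS.trans hSN) (inf_le_left.trans hSN) ?_
    (fun y hy => commutator_fix_le hSN hLN hZL (commutator_mem_commutator hx.1 hy))
  rw [← hW, ← commutator_sup_centralizer hBW (coprime_of_le_right c3 hWS)
    (Or.inl (H47.isSolvable_of_card_prime hp))]
  refine mem_relCentralizer_of_sup (hSN hxS)
    ((commutator_le_of_le_normalizer hBW).trans (hWS.trans hSN))
    (inf_le_left.trans (hWS.trans hSN)) (fun y hy => ?_) (fun y hy => ?_)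
  · exact comm_mem_symm (commutator_fix_le hSN hBN hZB (commutator_mem_commutator
      (commutator_mono hWS le_rfl hy) ⟨hxS, hx.2⟩))
  · rcases ha ⟨y, hy⟩ with ⟨h1, -⟩ | ⟨h1, -⟩
    · have h2 : ⁅y * x, x⁆ ∈ N := (mem_subgroupOf.1 h1).2.2 x hxS
      have := inv_mem h2
      convert this using 1
      simp only [commutatorElement_def]; group
    · exact comm_mem_symm ((mem_subgroupOf.1 h1).2.2 x hxS)

/-- In the exceptional configuration `⁅X, B⁆` acts trivially. -/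
theorem lemL {U Z J B X : Subgroup Y} (hμ : Form Z J μ) (hUZ : ⁅U, U⁆ ≤ Z) (hUJ : U ≤ 𝐍(J))
    (hc : ⁅⁅U, U⁆, U⁆ ≤ J) (hp : (Nat.card B).Prime) (hBU : B ≤ 𝐍(U)) (hBJ : B ≤ 𝐍(J))
    (hB : ⁅⁅U, U⁆, B⁆ ≤ J) (hXU : X ≤ 𝐍(U)) (hXJ : X ≤ 𝐍(J)) (hX : ⁅⁅U, U⁆, X⁆ ≤ J)
    (hBX : B ≤ 𝐍(X)) (hXX : ⁅U, ⁅⁅X, X⁆, X⁆⁆ ≤ rad U J) (hs : Group.IsSolvable U)
    (c1 : (Nat.card B).Coprime (Nat.card X)) (c2 : (Nat.card X).Coprime (Nat.card U))
    (c3 : (Nat.card B).Coprime (Nat.card U)) {d : ℕ} (hd : 1 < d) (hr : Nat.card B = d + 1)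
    (hA : d ^ 2 = (rad U J).relIndex ⁅U, B⁆) : ⁅U, ⁅X, B⁆⁆ ≤ rad U J := by
  have hUR := comm_le_rad hUJ hc
  have hXR : X ≤ 𝐍(rad U J) := le_normalizer_rad hXU hXJ
  have hBR : B ≤ 𝐍(rad U J) := le_normalizer_rad hBU hBJ
  have hsB := H47.isSolvable_of_card_prime hp
  have stepA : ∀ R ≤ X, B ≤ 𝐍(R) → ⁅U, ⁅R, R⁆⁆ ≤ rad U J → ⁅U, ⁅R, B⁆⁆ ≤ rad U J := by
    intro R hR hBR' h
    by_contra hne
    have hL : ⁅R, B⁆ ≤ X := (commutator_le_of_le_normalizer hBR').trans hR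
    obtain ⟨w1, w2⟩ := wiel_section hp (hR.trans hXU) hBU hBR' rad_le hUR (hR.trans hXR) hBR
      (commutator_comm U _ ▸ h) (coprime_of_le_right c1 hR) (coprime_of_le_left c2 hR) c3 hne
    have w3 := relIndex_ne_two' hp (hL.trans hXU) hBU (le_normalizer_commutator hBR' le_normalizer)
      hUJ hBJ (hL.trans hXJ) hB ((commutator_mono le_rfl hL).trans hX) hs
      (coprime_of_le_left c2 hL) c3
    have w4 : (rad U J).relIndex (⁅U, ⁅R, B⁆⁆ ⊓ 𝐂(B)) ≠ 0 := index_ne_zero_of_finite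
    rw [← hA, hr, Nat.add_sub_cancel] at w2
    have := (Nat.pow_le_pow_left (by omega : 3 ≤ _) d).trans w2
    exact absurd (sq_lt_three_pow d) (by omega)
  have hX' : ⁅X, X⁆ ≤ X := commutator_le_of_le_normalizer le_normalizer
  have stepB := stepA ⁅X, X⁆ hX' (le_normalizer_commutator hBX hBX)
    ((commutator_mono le_rfl (commutator_mono le_rfl hX')).trans hXX)
  set N := ⁅X, B⁆ with hN
  have hNX : N ≤ X := commutator_le_of_le_normalizer hBX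
  have hBN : B ≤ 𝐍(N) := le_normalizer_commutator hBX le_normalizer
  have hNN : ⁅N, N⁆ ≤ ⁅X, X⁆ := commutator_mono hNX hNX
  set Z' := ⁅N, N⁆ ⊓ 𝐂(B) with hZ'
  have hZX : Z' ≤ X := inf_le_left.trans (hNN.trans hX')
  have h1 := l0_cent hμ hUZ hUJ hc hp hBU hBJ hB (hZX.trans hXU) (hZX.trans hXJ)
    ((commutator_mono le_rfl hZX).trans hX) inf_le_right (coprime_of_le_right c1 hZX) c3 hd hr hA
  have hUR' : U ≤ 𝐍(rad U J) := le_normalizer_rad le_normalizer hUJ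
  have hZC : Z' ≤ 𝐍(U ⊓ 𝐂(B)) := le_normalizer_inf (hZX.trans hXU)
    (le_normalizer_centralizer (inf_le_right.trans (centralizer_le_normalizer _)))
  have hE : U ≤ 𝐍(rad U J ⊔ U ⊓ 𝐂(B)) :=
    le_normalizer_of_commutator_le (sup_le rad_le inf_le_left) (hUR.trans le_sup_left)
  have h2 : ⁅U, Z'⁆ ≤ rad U J ⊔ U ⊓ 𝐂(B) := by
    conv_lhs => rw [← commutator_sup_centralizer hBU c3 (Or.inl hsB)]
    exact commutator_sup_le ((commutator_le_of_le_normalizer hBU).trans hE) (inf_le_left.trans hE)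
      (h1.trans le_sup_left) ((commutator_le_of_le_normalizer hZC).trans le_sup_right)
  have hUZ' : ⁅U, Z'⁆ ≤ U := commutator_le_of_le_normalizer (hZX.trans hXU)
  set W := ⁅U, Z'⁆ ⊔ rad U J with hW
  have hWU : W ≤ U := sup_le hUZ' rad_le
  have hUW : U ≤ 𝐍(W) := le_normalizer_of_commutator_le hWU (hUR.trans le_sup_right)
  have hXW : X ≤ 𝐍(W) := by
    refine le_normalizer_of_forall_cj_le fun g hg => ?_
    rw [hW, cj_sup, cj_eq_of_mem_normalizer (hXR hg), cj_commutator,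
      cj_eq_of_mem_normalizer (hXU hg)]
    refine sup_le (comm_le_of_le_relC (cj_le_iff'.2 fun z hz => ?_)) le_sup_right
    have hZW : Z' ≤ 𝐍(W) := le_normalizer_of_comm_le
      ((commutator_mono hWU le_rfl).trans le_sup_left)
    have hCW : ⁅⁅X, X⁆, X⁆ ≤ 𝐍(W) := le_normalizer_of_comm_le
      ((commutator_mono hWU le_rfl).trans (hXX.trans le_sup_right))
    have := mul_mem (comm_mem_symm (le_relC hCW (hXX.trans le_sup_right)
      (commutator_mem_commutator (hNN hz.1) hg))) (le_relC hZW le_sup_left hz)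
    simpa [commutatorElement_def] using this
  have h3 : ⁅W, B⁆ ≤ rad U J := by
    refine (commutator_mono (sup_le h2 le_sup_left) le_rfl).trans (commutator_sup_le
      le_normalizer (inf_le_left.trans hUR') (commutator_le_of_le_normalizer hBR)
      (comm_bot_of_le_centralizer inf_le_right))
  have h4 : N ≤ relCentralizer W (rad U J) :=
    commutator_le_of_le_right (le_normalizer_relCentralizer hXW hXR) (le_relC hBR h3)
  have h5 : ⁅U, Z'⁆ ≤ rad U J := by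
    rw [← commutator_commutator_eq (hZX.trans hXU) (coprime_of_le_left c2 hZX)]
    exact (commutator_mono le_sup_left (inf_le_left.trans
      (commutator_le_of_le_normalizer le_normalizer))).trans (comm_le_of_le_relC h4)
  have hBNN : B ≤ 𝐍((⁅N, N⁆ : Subgroup Y)) := le_normalizer_commutator hBN hBN
  have := stepA N hNX hBN (by
    rw [← commutator_sup_centralizer hBNN (coprime_of_le_right c1 (hNN.trans hX')) (Or.inl hsB)]
    exact comm_sup_right (((commutator_le_of_le_normalizer hBNN).trans (hNN.trans hX')).trans hXR)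
      (hZX.trans hXR) ((commutator_mono le_rfl (commutator_mono hNN le_rfl)).trans stepB) h5)
  rwa [hN, commutator_commutator_eq hBX c1] at this

end H83
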