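import Mathlib
import Cfsg.Agent.Base
import Cfsg.Agent.Lib.FGS83.TurB

/-!
# Relative weight spaces and the basic analysis of one level of a tower (helper83)
-/

set_option autoImplicit false

namespace H83

open Subgroup H2 H68 Module
open scoped commutatorElement

variable {Y : Type*} [Group Y] {k M : Type*} [Field k] [AddCommGroup M] [Module k M]

local notation "𝐍(" H ")" => Subgroup.normalizer (SetLike.coe H)
local notation "𝐂(" H ")" => Subgroup.centralizer (SetLike.coe H)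

/-- `Z` acts by scalars on the non-zero subspace `U`. -/
def Scal (σ : Representation k Y M) (Z : Subgroup Y) (U : Submodule k M) : Prop :=
  U ≠ ⊥ ∧ ∀ z ∈ Z, ∃ c : k, ∀ v ∈ U, σ z v = c • v

variable {σ : Representation k Y M} {Z : Subgroup Y} {U W M₀ : Submodule k M}

theorem kerOn_anti (h : U ≤ W) : kerOn σ W ≤ kerOn σ U := fun _ hy v hv => hy v (h hv)

theorem stabS_inf {D : Subgroup Y} (h1 : D ≤ stabS σ U) (h2 : D ≤ stabS σ W) :
    D ≤ stabS σ (U ⊓ W) :=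
  le_stabS fun _ hy _ hv => ⟨apply_mem_of_stabS (h1 hy) hv.1, apply_mem_of_stabS (h2 hy) hv.2⟩

theorem tr_inf (y : Y) : tr σ y (U ⊓ W) = tr σ y U ⊓ tr σ y W := rfl

theorem tr_ne_bot (y : Y) (h : U ≠ ⊥) : tr σ y U ≠ ⊥ := by
  obtain ⟨v, hv, h0⟩ := Submodule.exists_mem_ne_zero_of_ne_bot h
  intro e
  have : σ y v ∈ tr σ y U := apply_mem_tr.2 hv
  rw [e, Submodule.mem_bot] at this
  exact h0 (by rw [← rep_inv_apply σ y v, this, map_zero])

theorem Scal.mono (h : Scal σ Z U) {Z' : Subgroup Y} (hZ : Z' ≤ Z) (hU : W ≤ U) (h0 : W ≠ ⊥) :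
    Scal σ Z' W := ⟨h0, fun z hz => (h.2 z (hZ hz)).imp fun _ hc v hv => hc v (hU hv)⟩

theorem Scal.commutator_le (h : Scal σ Z U) : ⁅Z, stabS σ U⁆ ≤ kerOn σ U := by
  refine Subgroup.commutator_le.2 fun z hz b hb v hv => ?_
  obtain ⟨c, hc⟩ := h.2 _ (inv_mem hz)
  rw [commutatorElement_def, rep_mul_apply, rep_mul_apply, rep_mul_apply,
    hc _ (apply_mem_of_stabS (inv_mem hb) hv), map_smul, rep_apply_inv, ← hc v hv, rep_apply_inv]

theorem Scal.mem_kerOn_of_fix (h : Scal σ Z U) {z : Y} (hz : z ∈ Z) {v : M} (hv : v ∈ U)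
    (h0 : v ≠ 0) (hf : σ z v = v) : z ∈ kerOn σ U := by
  obtain ⟨c, hc⟩ := h.2 z hz
  have h1 : c = 1 := smul_left_injective k h0 (by simpa using ((hc v hv).symm.trans hf))
  intro w hw
  rw [hc w hw, h1, one_smul]

theorem Scal.mem_kerOn_iff (h : Scal σ Z U) (hW : W ≤ U) (h0 : W ≠ ⊥) {z : Y} (hz : z ∈ Z) :
    z ∈ kerOn σ W ↔ z ∈ kerOn σ U := by
  obtain ⟨v, hv, hv0⟩ := Submodule.exists_mem_ne_zero_of_ne_bot h0
  exact ⟨fun h1 => h.mem_kerOn_of_fix hz (hW hv) hv0 (h1 v hv), fun h1 => kerOn_anti hW h1⟩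

namespace IsWsp

theorem scal (h : IsWsp σ Z W) : Scal σ Z W := by
  obtain ⟨h0, μ, hμ⟩ := h
  exact ⟨h0, fun z hz => ⟨μ z, fun v hv => (hμ v).1 hv z hz⟩⟩

theorem form (h : IsWsp σ Z W) : ∃ μ : Y → k, Form Z (Z ⊓ kerOn σ W) μ := by
  obtain ⟨v, hv, hv0⟩ := Submodule.exists_mem_ne_zero_of_ne_bot h.1
  obtain ⟨h0, μ, hμ⟩ := h
  refine ⟨μ, fun x hx y hy => smul_left_injective k hv0 ?_, fun z hz => ⟨fun h => ?_, fun h => ?_⟩⟩
  · simp only
    rw [← (hμ v).1 hv _ (mul_mem hx hy), rep_mul_apply, (hμ v).1 hv _ hy, map_smul,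
      (hμ v).1 hv _ hx, smul_smul, mul_comm]
  · exact smul_left_injective k hv0 (by simpa using ((hμ v).1 hv z hz).symm.trans (h.2 v hv))
  · exact ⟨hz, fun w hw => by rw [(hμ w).1 hw z hz, h, one_smul]⟩

theorem le_stabS_inf (h : IsWsp σ Z W) {D : Subgroup Y} (hD : D ≤ stabS σ M₀)
    (hc : ⁅Z, D⁆ ≤ kerOn σ M₀) : D ≤ stabS σ (M₀ ⊓ W) := by
  obtain ⟨-, μ, hμ⟩ := h
  refine le_stabS fun y hy v hv => ⟨apply_mem_of_stabS (hD hy) hv.1, (hμ _).2 fun z hz => ?_⟩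
  have : z * y = ⁅z, y⁆ * (y * z) := by simp [commutatorElement_def]
  rw [← rep_mul_apply, this, rep_mul_apply, rep_mul_apply, (hμ v).1 hv.2 z hz, map_smul, map_smul,
    hc (commutator_mem_commutator hz hy) _ (apply_mem_of_stabS (hD hy) hv.1)]

variable [Finite Y]

theorem trace (h : IsWsp σ Z W) (hZ : (Nat.card Z : k) ≠ 0) {B : Subgroup Y}
    (hp : (Nat.card B).Prime) (hBZ : B ≤ 𝐍(Z)) (hBM : B ≤ stabS σ M₀) (hmv : ¬ B ≤ stabS σ W)
    {t : Y} (htZ : t ∈ 𝐍(Z)) (htB : t ∈ 𝐂(B)) (hco : (Nat.card B).Coprime (orderOf t))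
    (hfix : ∀ v ∈ M₀, (∀ b ∈ B, σ b v = v) → σ t v = v) : t ∈ kerOn σ (M₀ ⊓ W) := by
  classical
  haveI := Fintype.ofFinite B
  intro v hv
  obtain ⟨P, hP1, hP2⟩ := h.exists_proj
  have h1 : ∀ s ∈ 𝐍(Z), s ∈ 𝐂(B) → (Nat.card B).Coprime (orderOf s) →
      P (σ s (∑ a : B, σ a v)) = P (σ s v) := by
    intro s hsZ hsB hs
    rw [map_sum, map_sum, Finset.sum_eq_single 1 ?_ (by simp)]
    · simp
    intro a _ ha
    rw [← rep_mul_apply]
    refine hP2 _ (h.translate (mul_mem hsZ (hBZ a.2))) (fun e => hmv ?_) _ (apply_mem_tr.2 hv.2)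
    have h2 := pow_mem (mem_stabS.2 e) (orderOf s)
    rw [(Commute.symm (hsB a a.2)).mul_pow, pow_orderOf_eq_one, one_mul] at h2
    rw [← zpowers_eq_of_prime hp a.2 (fun e => ha (Subtype.ext e)), zpowers_le]
    exact mem_of_pow_mem_of_coprime h2
      (hs.symm.coprime_dvd_right (H1.orderOf_dvd_card_of_mem a.2))
  have h2 := h1 t htZ htB hco
  rw [hfix _ (Submodule.sum_mem _ fun a _ => apply_mem_of_stabS (hBM a.2) hv.1) fun b hb => ?_]
    at h2
  · have h3 := h1 1 (one_mem _) (one_mem _) (by simp)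
    simp only [map_one, End.one_apply] at h3
    rw [h3, hP1 v hv.2] at h2
    by_cases ht : t ∈ stabS σ W
    · rw [hP1 _ (apply_mem_of_stabS ht hv.2)] at h2
      exact (smul_right_injective M hZ h2).symm
    · rw [hP2 _ (h.translate htZ) ht _ (apply_mem_tr.2 hv.2)] at h2
      rw [(smul_eq_zero.1 h2).resolve_left hZ, map_zero]
  · rw [map_sum]
    exact Fintype.sum_equiv (Equiv.mulLeft (⟨b, hb⟩ : B)) _ _ fun a => by simp [rep_mul_apply]

theorem inf_ne_bot_or (h : IsWsp σ Z W) (hZ : (Nat.card Z : k) ≠ 0) {M₁ M₂ : Submodule k M}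
    (h1 : Z ≤ stabS σ M₁) (h2 : Z ≤ stabS σ M₂) (hne : (M₁ ⊔ M₂) ⊓ W ≠ ⊥) :
    M₁ ⊓ W ≠ ⊥ ∨ M₂ ⊓ W ≠ ⊥ := by
  haveI := Fintype.ofFinite Z
  obtain ⟨lam, hl⟩ := h.exists_hom
  obtain ⟨v, hv, hv0⟩ := Submodule.exists_mem_ne_zero_of_ne_bot hne
  obtain ⟨v₁, g1, v₂, g2, rfl⟩ := Submodule.mem_sup.1 hv.1
  have key : ∀ M' : Submodule k M, Z ≤ stabS σ M' → ∀ w ∈ M',
      H46.proj (σ.comp Z.subtype) lam w ∈ M' ⊓ W := fun M' hM w hw => by
    simp only [H46.proj, LinearMap.sum_apply, LinearMap.smul_apply]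
    refine ⟨Submodule.sum_mem _ fun a _ => M'.smul_mem _ (apply_mem_of_stabS (hM a.2) hw),
      (hl _).2 fun z => ?_⟩
    rw [map_sum, Finset.smul_sum]
    refine Fintype.sum_equiv (Equiv.mulLeft z) _ _ fun a => ?_
    simp only [Equiv.coe_mulLeft, map_smul, smul_smul, ← map_mul lam]
    congr 1
    · rw [mul_inv_rev, ← mul_assoc, map_mul, mul_comm, ← map_mul, inv_mul_cancel_left]
    · simp [rep_mul_apply]
  by_contra hc
  push Not at hc
  have e1 := key _ h1 _ g1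
  have e2 := key _ h2 _ g2
  rw [hc.1] at e1
  rw [hc.2] at e2
  have := H46.proj_apply_self (σ.comp Z.subtype) lam ((hl _).1 hv.2)
  rw [map_add, Submodule.mem_bot _ |>.1 e1, Submodule.mem_bot _ |>.1 e2, add_zero,
    ← Nat.card_eq_fintype_card] at this
  exact hv0 ((smul_eq_zero.1 this.symm).resolve_left hZ)

end IsWsp

variable [IsAlgClosed k] [FiniteDimensional k M] [Finite Y]

theorem exists_wsp_rel (hZ : (Nat.card Z : k) ≠ 0) (hZM : Z ≤ stabS σ M₀)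
    (hc : ⁅Z, Z⁆ ≤ kerOn σ M₀) {z₀ : Y} (hz : z₀ ∈ Z) (h0 : z₀ ∉ kerOn σ M₀) :
    ∃ W, IsWsp σ Z W ∧ M₀ ⊓ W ≠ ⊥ ∧ z₀ ∉ kerOn σ W := by
  classical
  obtain ⟨τ, -, h1, -, -, -, h5, -, -⟩ := exists_res σ M₀ hZM (one_mem _) (one_mem _)
  obtain ⟨v, lam, hv0, hl1, hl⟩ := H46.exists_weight_ne_one τ hZ
    (fun a a' => (h5 a a').2 (hc (commutator_mem_commutator a.2 a'.2))) (a₀ := ⟨z₀, hz⟩)
    fun e => h0 fun w hw => by
      have := h1 ⟨z₀, hz⟩ ⟨w, hw⟩
      rw [e] at this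
      exact this.symm
  have hl' : ∀ z : Z, σ z v = lam z • (v : M) := fun z => by rw [← h1, hl]; rfl
  let U : Submodule k M :=
    { carrier := {w | ∀ z : Z, σ z w = lam z • w}
      zero_mem' := fun z => by simp
      add_mem' := fun {a b} ha hb z => by rw [map_add, ha z, hb z, smul_add]
      smul_mem' := fun c w hw z => by rw [map_smul, hw z, smul_comm] }
  have hv : (v : M) ∈ U := hl'
  have hv0' : (v : M) ≠ 0 := fun e => hv0 (Subtype.ext e)
  refine ⟨U, ⟨fun e => hv0' (by simpa [e] using hv), fun y => if h : y ∈ Z then lam ⟨y, h⟩ else 0,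
    fun w => ⟨fun hw z hz => ?_, fun hw z => ?_⟩⟩, fun e => hv0' ?_, fun h => hl1 ?_⟩
  · simp only [hz, dif_pos]
    exact hw ⟨z, hz⟩
  · simpa using hw z z.2
  · rw [← Submodule.mem_bot k, ← e]; exact ⟨v.2, hv⟩
  · have := hl' ⟨z₀, hz⟩
    rw [h _ hv] at this
    exact smul_left_injective k hv0' (by simpa using this.symm)

theorem core_sec {S : Subgroup Y} {b : Y} {h : ℕ} (hU : Scal σ ⁅S, S⁆ U) (hS : S ≤ stabS σ U)
    (hb : b ∈ stabS σ U) (hbS : b ∈ 𝐍(S)) (hh : 1 < h) (hbh : b ^ h ∈ kerOn σ U)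
    (hk : (Nat.card S : k) ≠ 0) (hkh : (h : k) ≠ 0) (hcop : h.Coprime (Nat.card S))
    (hRad : ∀ z ∈ rad S (kerOn σ U), ⁅b, z⁆ ∈ kerOn σ U)
    (hf : ∀ i, 0 < i → i < h → ∀ g ∈ S, ⁅g⁻¹, b ^ i⁆ ∈ rad S (kerOn σ U) →
      g ∈ rad S (kerOn σ U)) :
    ∃ d, 0 < d ∧ d ^ 2 = (rad S (kerOn σ U)).relIndex S ∧
      (∀ ζ : k, ζ ^ h = 1 → (∀ v ∈ U, σ b v = ζ • v → v = 0) → h = d + 1 ∨ d = 1) ∧
      ∀ ζ ζ' : k, ζ ≠ ζ' → ζ ^ h = 1 → ζ' ^ h = 1 → (∀ v ∈ U, σ b v = ζ • v → v = 0) →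
        (∀ v ∈ U, σ b v = ζ' • v → v = 0) → d = 1 := by
  have hSN : S ≤ 𝐍(kerOn σ U) := hS.trans (stabS_le_normalizer σ U)
  have hZRad := comm_le_rad hSN ((commutator_mono le_rfl hS).trans hU.commutator_le)
  have hSRad : S ≤ 𝐍(rad S (kerOn σ U)) := le_normalizer_rad le_normalizer hSN
  obtain ⟨τ, β, h1, h2, -, h4, h5, h6, -⟩ := exists_res σ U hS hb hbS
  haveI : Nontrivial U := Submodule.nontrivial_iff_ne_bot.2 hU.1
  obtain ⟨U', τ', β', -, hU', g1, g2, hsim⟩ := H46.exists_simple_pair τ β ⊤ (fun _ _ _ => trivial)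
    (fun _ _ => trivial) top_ne_bot
  have g2' : ∀ v, (β' v : U) = β v := fun v => by simpa using g2 1 v
  have h3 : ∀ (n : ℕ) (v : U), ((β ^ n) v : M) = σ (b ^ n) v := fun n v => by
    induction n with
    | zero => simp
    | succ n ih => rw [pow_succ', pow_succ', End.mul_apply, h2, ih, rep_mul_apply]
  have hb' : β' ^ h = 1 := by ext v; rw [g2, h3]; exact hbh _ (v : U).2
  have hbσ : ∀ g, β' * τ' g = τ' (H46.conjAut S b hbS g) * β' := fun g => by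
    apply LinearMap.ext
    intro v
    apply Subtype.ext
    have := congrArg (fun T : End k U => T v) (h4 g)
    simpa only [End.mul_apply, g1, g2'] using this
  have hsim' : ∀ W : Submodule k U', (∀ T ∈ insert β' (Set.range τ'), ∀ v ∈ W, T v ∈ W) →
      W = ⊥ ∨ W = ⊤ := fun W hW =>
    hsim W (fun g => hW _ (Set.mem_insert_of_mem _ ⟨g, rfl⟩)) (hW _ (Set.mem_insert _ _))
  obtain ⟨c1, -, -, c2, c3⟩ := core25x τ' β' (H46.conjAut S b hbS) h hh hkh hk hcop hb' hbσ hsim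
    ((rad S (kerOn σ U)).subgroupOf S) (fun z hz => H46.scalar_of_commute _ hsim' _ (by
      rintro T (rfl | ⟨g, rfl⟩)
      · have := (h6 z).2 (hRad z hz)
        apply LinearMap.ext
        intro v
        apply Subtype.ext
        have := congrArg (fun T : End k U => T v) this
        simpa only [End.mul_apply, g1, g2'] using this
      · have := (h5 z g).2 (rad_comm_le (commutator_mem_commutator hz g.2))
        apply LinearMap.ext
        intro v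
        apply Subtype.ext
        have := congrArg (fun T : End k U => T v) this.symm
        simpa only [End.mul_apply, g1, g2'] using this))
    (fun g y => hZRad (commutator_mem_commutator g.2 y.2))
    (fun g hg => by
      by_contra hc
      push Not at hc
      refine hg ((mem_rad hSN).2 ⟨g.2, fun y hy => comm_mem_symm ?_⟩)
      obtain ⟨v, hv⟩ := exists_ne (0 : U')
      refine hU.mem_kerOn_of_fix (commutator_mem_commutator hy g.2) (v : U).2
        (fun e => hv (Subtype.ext (Subtype.ext e))) ?_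
      have := congrArg (fun T : End k U' => ((T v : U) : M)) (hc ⟨y, hy⟩)
      simp only [g1, h1] at this
      exact this)
    (fun i h0 hi g hg => by
      have hg' : b ^ i * g * (b ^ i)⁻¹ * (g : Y)⁻¹ ∈ rad S (kerOn σ U) := by
        have := mem_subgroupOf.1 hg
        simpa only [Subgroup.coe_mul, Subgroup.coe_inv, H46.conjAut_pow_apply] using this
      refine hf i h0 hi g g.2 ?_
      have := inv_conj_mem_of_le_normalizer hSRad g.2 hg'
      convert this using 1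
      simp only [commutatorElement_def]; group)
  have hfix : ∀ ζ : k, (∀ v ∈ U, σ b v = ζ • v → v = 0) → ∀ v, β' v = ζ • v → v = 0 :=
    fun ζ hζ v hv => Subtype.ext (Subtype.ext (hζ _ (v : U).2 (by rw [← h2, ← g2', hv]; rfl)))
  exact ⟨finrank k U', finrank_pos, c1, fun ζ e1 f1 => c2 ζ e1 (hfix ζ f1),
    fun ζ ζ' hne e1 e2 f1 f2 => c3 ζ ζ' hne e1 e2 (hfix ζ f1) (hfix ζ' f2)⟩

theorem exc' {S B : Subgroup Y} (hU : Scal σ ⁅S, S⁆ U) (hS : S ≤ stabS σ U)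
    (hB : B ≤ stabS σ U) (hBS : B ≤ 𝐍(S)) (hp : (Nat.card B).Prime)
    (hk : (Nat.card S : k) ≠ 0) (hkB : (Nat.card B : k) ≠ 0)
    (hcop : (Nat.card B).Coprime (Nat.card S)) (hSB : S ≤ ⁅S, B⁆) (hf : NoFix σ B U) :
    ⁅S, S⁆ ≤ kerOn σ U ∨ ∃ d, 1 < d ∧ Nat.card B = d + 1 ∧
      d ^ 2 = (rad S (kerOn σ U)).relIndex S := by
  have hSN : S ≤ 𝐍(kerOn σ U) := hS.trans (stabS_le_normalizer σ U)
  have hBR : B ≤ 𝐍(rad S (kerOn σ U)) := le_normalizer_rad hBS (hB.trans (stabS_le_normalizer σ U))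
  have hDB := commutator_le_kerOn_of_comm (rad_le.trans hS) hB hBR hp
    (natCast_card_ne_zero_of_le rad_le hk) ((commutator_mono le_rfl rad_le).trans rad_comm_le) hf
  obtain ⟨b, hb, -, hbp⟩ := H46.exists_generator_of_prime_card hp
  have hbB : b ∈ B := hb ▸ mem_zpowers b
  have ho : orderOf b = Nat.card B := by rw [← Nat.card_zpowers, ← hb]
  obtain ⟨d, d0, d1, d2, -⟩ := core_sec hU hS (hB hbB) (hBS hbB) hp.one_lt
    (by rw [hbp]; exact one_mem _) hk hkB hcop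
    (fun z hz => comm_mem_symm (hDB (commutator_mem_commutator hz hbB))) fun i h0 hi g hg h =>
      fpf_prime hp hBR rad_le hcop ((inf_centralizer_le_commutator hBS hcop hSB).trans
        (comm_le_rad hSN ((commutator_mono le_rfl hS).trans hU.commutator_le))) hg (pow_mem hbB i)
        (pow_ne_one_of_lt_orderOf h0.ne' (ho ▸ hi)) h
  by_cases h7 : d = 1
  · left
    rw [h7, one_pow] at d1
    exact (commutator_mono (relIndex_eq_one.1 d1.symm) le_rfl).trans rad_comm_le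
  · refine Or.inr ⟨d, by omega, (d2 1 (one_pow _) fun v hv e => hf v hv ?_).resolve_right h7, d1⟩
    rw [hb]
    exact fix_zpowers σ (by rw [e, one_smul])

omit [IsAlgClosed k] [FiniteDimensional k M] in
/-- The subspace `[W, T]`. -/
theorem exists_comm_sub {T : Subgroup Y} (hT : T ≤ stabS σ W) (hk : (Nat.card T : k) ≠ 0)
    (hne : ¬ T ≤ kerOn σ W) : ∃ W₁ ≤ W, W₁ ≠ ⊥ ∧ NoFix σ T W₁ ∧
      ∀ D ≤ stabS σ W, ⁅D, T⁆ ≤ kerOn σ W → D ≤ stabS σ W₁ := by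
  haveI := Fintype.ofFinite T
  let E : End k M := ∑ t : T, σ t
  have hE : ∀ v, E v = ∑ t : T, σ t v := fun v => LinearMap.sum_apply _ _ _
  refine ⟨W ⊓ LinearMap.ker E, inf_le_left, fun e => hne fun t ht v hv => ?_, fun v hv hf => ?_,
    fun D hD hc => le_stabS fun y hy v hv => ⟨apply_mem_of_stabS (hD hy) hv.1, ?_⟩⟩
  · rw [← sub_eq_zero, ← Submodule.mem_bot k, ← e]
    refine ⟨sub_mem (apply_mem_of_stabS (hT ht) hv) hv, ?_⟩
    rw [SetLike.mem_coe, LinearMap.mem_ker, map_sub, sub_eq_zero, hE, hE]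
    exact Fintype.sum_equiv (Equiv.mulRight (⟨t, ht⟩ : T)) _ _ fun a => by simp [rep_mul_apply]
  · have := LinearMap.mem_ker.1 hv.2
    rw [hE, Finset.sum_congr rfl fun (t : T) _ => hf t t.2, Finset.sum_const, Finset.card_univ,
      ← Nat.card_eq_fintype_card, ← Nat.cast_smul_eq_nsmul k] at this
    exact (smul_eq_zero.1 this).resolve_left hk
  · have := congrArg (σ y) (LinearMap.mem_ker.1 hv.2)
    rw [map_zero, hE, map_sum] at this
    rw [SetLike.mem_coe, LinearMap.mem_ker, hE, ← this]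
    refine Finset.sum_congr rfl fun t _ => ?_
    have e : y * t = ⁅y, (t : Y)⁆ * (t * y) := by simp [commutatorElement_def]
    rw [← rep_mul_apply σ y, e, rep_mul_apply, hc (commutator_mem_commutator hy t.2) _
      (apply_mem_of_stabS (mul_mem (hT t.2) (hD hy)) hv.1), rep_mul_apply]

/-- The conclusion of the analysis of a weight. -/
def Pr (U Z T B J : Subgroup Y) : Prop :=
  (⁅T, U⁆ ≤ J ∧ T ⊓ Z ≤ J) ∨ (⁅Z, B⁆ ≤ J ∧ (⁅⁅U, B⁆, U⁆ ≤ J ∨
    ∃ d, 1 < d ∧ Nat.card B = d + 1 ∧ d ^ 2 = (rad U J).relIndex ⁅U, B⁆))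

theorem ana {U T B : Subgroup Y} (hW : IsWsp σ Z W) (h0 : M₀ ⊓ W ≠ ⊥) (hUM : U ≤ stabS σ M₀)
    (hBM : B ≤ stabS σ M₀) (hBU : B ≤ 𝐍(U)) (hBZ : B ≤ 𝐍(Z)) (hT : T ≤ U ⊓ 𝐂(B)) (hZU : Z ≤ U)
    (hUZ : ⁅U, U⁆ ≤ Z) (hc : ⁅Z, U⁆ ≤ kerOn σ M₀) (hp : (Nat.card B).Prime)
    (hk : (Nat.card U : k) ≠ 0) (hkB : (Nat.card B : k) ≠ 0)
    (cop : (Nat.card B).Coprime (Nat.card U))
    (h : (∀ v ∈ M₀, (∀ b ∈ B, σ b v = v) → ∀ t ∈ T, σ t v = v) ∨ (⁅Z, B⁆ ≤ kerOn σ M₀ ∧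
      ∀ v ∈ M₀, ∀ t ∈ T, ∀ n ∈ ⁅U, B⁆, σ n (σ t v - v) = σ t v - v)) :
    Pr U Z T B (Z ⊓ kerOn σ W) := by
  have hTU := hT.trans inf_le_left
  have hU0 : U ≤ stabS σ (M₀ ⊓ W) := hW.le_stabS_inf hUM hc
  have key : ∀ W₁ ≤ M₀ ⊓ W, W₁ ≠ ⊥ → ∀ z ∈ Z, z ∈ kerOn σ W₁ ↔ z ∈ Z ⊓ kerOn σ W :=
    fun W₁ h1 h2 z hz => (hW.scal.mem_kerOn_iff (h1.trans inf_le_right) h2 hz).trans
      ⟨fun h => ⟨hz, h⟩, fun h => h.2⟩
  have key' : ∀ X ≤ Z, X ≤ kerOn σ (M₀ ⊓ W) → X ≤ Z ⊓ kerOn σ W := fun X h1 h2 z hz =>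
    (key _ le_rfl h0 z (h1 hz)).1 (h2 hz)
  have hUZ' : U ≤ 𝐍(Z) := le_normalizer_of_commutator_le hZU hUZ
  by_cases hT0 : T ≤ kerOn σ (M₀ ⊓ W)
  · exact Or.inl ⟨key' _ ((commutator_mono hTU le_rfl).trans hUZ) ((commutator_mono hT0 le_rfl).trans
      (commutator_le_of_le_normalizer (hU0.trans (stabS_le_normalizer _ _)))),
      key' _ inf_le_right (inf_le_left.trans hT0)⟩
  have hB0 : B ≤ stabS σ (M₀ ⊓ W) := by
    rcases h with h | h
    · refine stabS_inf hBM (by_contra fun hmv => hT0 fun t ht => hW.trace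
        (natCast_card_ne_zero_of_le hZU hk) hp hBZ hBM hmv (hUZ' (hTU ht)) (hT ht).2
        (cop.coprime_dvd_right (H1.orderOf_dvd_card_of_mem (hTU ht))) fun v hv hf => h v hv hf t ht)
    · exact hW.le_stabS_inf hBM h.1
  have hS0 : Scal σ Z (M₀ ⊓ W) := hW.scal.mono le_rfl inf_le_right h0
  have hZB : ⁅Z, B⁆ ≤ Z ⊓ kerOn σ W := key' _ (commutator_le_of_le_normalizer hBZ)
    ((commutator_mono le_rfl hB0).trans hS0.commutator_le)
  have hUJ : U ≤ 𝐍((Z ⊓ kerOn σ W : Subgroup Y)) := le_normalizer_of_comm_le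
    ((commutator_mono inf_le_left le_rfl).trans (key' _ (commutator_le_of_le_normalizer hUZ')
      (hc.trans (kerOn_anti inf_le_left))))
  have hBJ : B ≤ 𝐍((Z ⊓ kerOn σ W : Subgroup Y)) :=
    le_normalizer_of_comm_le ((commutator_mono inf_le_left le_rfl).trans hZB)
  have hUUB := (commutator_mono hUZ le_rfl).trans hZB
  have hNC := commutator_fix_le hUJ hBJ hUUB
  have hN : ⁅U, B⁆ ≤ U := commutator_le_of_le_normalizer hBU
  have hNZ := (commutator_mono hN hN).trans hUZ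
  refine Or.inr ⟨hZB, ?_⟩
  suffices H : ⁅⁅U, B⁆, ⁅U, B⁆⁆ ≤ Z ⊓ kerOn σ W ∨ ∃ d, 1 < d ∧ Nat.card B = d + 1 ∧
      d ^ 2 = (rad ⁅U, B⁆ (Z ⊓ kerOn σ W)).relIndex ⁅U, B⁆ by
    refine H.imp (fun H => (commutator_mono le_rfl (commutator_sup_centralizer hBU cop
      (Or.inl (H47.isSolvable_of_card_prime hp))).ge).trans
      (comm_sup_right (hN.trans hUJ) (inf_le_left.trans hUJ) H hNC)) ?_
    rw [rad_comm_eq hBU hUJ hBJ hUUB hp cop, inf_comm, inf_relIndex_right]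
    exact id
  rcases h with h | h
  · obtain ⟨W₁, w1, w2, w3, w4⟩ := exists_comm_sub (hTU.trans hU0)
      (natCast_card_ne_zero_of_le hTU hk) hT0
    have hN1 := w4 _ (hN.trans hU0) (((commutator_mono le_rfl hT).trans hNC).trans
      (inf_le_right.trans (kerOn_anti inf_le_right)))
    have := exc' (hS0.mono hNZ w1 w2) hN1 (w4 _ hB0 (by
      rw [commutator_comm]; exact comm_bot_of_le_centralizer (hT.trans inf_le_right)))
      (le_normalizer_commutator hBU le_normalizer) hp (natCast_card_ne_zero_of_le hN hk) hkB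
      (coprime_of_le_right cop hN) (commutator_commutator_eq hBU cop).ge
      fun v hv hf => w3 v hv (h v (w1 hv).1 hf)
    rw [rad_congr (hN1.trans (stabS_le_normalizer _ _)) (hN.trans hUJ)
      fun z hz => key _ w1 w2 z (hNZ hz)] at this
    exact this.imp_left fun H z hz => (key _ w1 w2 z (hNZ hz)).1 (H hz)
  · left
    obtain ⟨t, ht, h1⟩ := SetLike.not_le_iff_exists.1 hT0
    rw [mem_kerOn] at h1
    push Not at h1
    obtain ⟨v, hv, h1⟩ := h1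
    exact fun z hz => ⟨hNZ hz, hW.mem_kerOn_of_fix (hNZ hz)
      (sub_mem (apply_mem_of_stabS (hU0 (hTU ht)) hv) hv).2 (sub_ne_zero.2 h1)
      (h.2 v hv.1 t ht z (commutator_le_of_le_normalizer le_normalizer hz))⟩

end H83
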