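import Mathlib
import Cfsg.Agent.Base
import Cfsg.Agent.Lib.FGS83.TurC

/-!
# Operators acting trivially on the fixed space (helper83)
-/

set_option autoImplicit false

namespace H83

open Subgroup H2 H68 Module
open scoped commutatorElement

variable {Y : Type*} [Group Y] {k M : Type*} [Field k] [AddCommGroup M] [Module k M]

local notation "𝐍(" H ")" => Subgroup.normalizer (SetLike.coe H)
local notation "𝐂(" H ")" => Subgroup.centralizer (SetLike.coe H)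

theorem exists_central_mod [Finite Y] {s : ℕ} [Fact s.Prime] {Q C : Subgroup Y}
    (hQ : IsPGroup s Q) (hn : Q ≤ 𝐍(C)) (h : ¬ Q ≤ C) :
    ∃ c ∈ Q, c ∉ C ∧ c ^ s ∈ C ∧ ∀ q ∈ Q, ⁅c, q⁆ ∈ C := by
  haveI : (C.subgroupOf Q).Normal := normal_subgroupOf_of_le_normalizer hn
  haveI : Nontrivial (Q ⧸ C.subgroupOf Q) := by
    obtain ⟨x, hx, hx'⟩ := SetLike.not_le_iff_exists.1 h
    exact ⟨⟨(⟨x, hx⟩ : Q), 1, fun e => hx' ((QuotientGroup.eq_one_iff (⟨x, hx⟩ : Q)).1 e)⟩⟩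
  have h1 := hQ.to_quotient (C.subgroupOf Q)
  haveI := h1.center_nontrivial
  obtain ⟨n, hn0, hn⟩ := (h1.to_subgroup (center _)).nontrivial_iff_card.1 inferInstance
  obtain ⟨⟨x, hx⟩, ho⟩ := exists_prime_orderOf_dvd_card' (G := center (Q ⧸ C.subgroupOf Q)) s
    (hn ▸ dvd_pow_self s hn0.ne')
  obtain ⟨c, rfl⟩ := QuotientGroup.mk_surjective x
  rw [← orderOf_coe] at ho
  refine ⟨c, c.2, fun e => (Fact.out : s.Prime).one_lt.ne' ?_,
    (QuotientGroup.eq_one_iff (N := C.subgroupOf Q) (c ^ s)).1 ?_, fun q hq =>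
    (QuotientGroup.eq_one_iff (N := C.subgroupOf Q) ⁅c, (⟨q, hq⟩ : Q)⁆).1 ?_⟩
  · rw [← ho, orderOf_eq_one_iff]; exact (QuotientGroup.eq_one_iff c).2 e
  · rw [QuotientGroup.mk_pow, ← ho]; exact pow_orderOf_eq_one _
  · rw [← QuotientGroup.mk'_apply, map_commutatorElement, commutatorElement_eq_one_iff_mul_comm]
    exact (mem_center_iff.1 hx _).symm

variable {σ : Representation k Y M} {U W M₀ : Submodule k M} [Finite Y]

theorem mem_stabS_of_maps {y : Y} (h : ∀ v ∈ U, σ y v ∈ U) : y ∈ stabS σ U :=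
  le_stabS (H := zpowers y) (fun x hx v hv => by
    obtain ⟨m, rfl⟩ := mem_powers_iff_mem_zpowers.2 hx
    induction m with
    | zero => simpa using hv
    | succ m ih => simpa only [pow_succ', rep_mul_apply] using h _ (ih (npow_mem_zpowers _ _)))
    (mem_zpowers y)

theorem exists_im_sub {B : Subgroup Y} {c : Y} (hB : B ≤ stabS σ W) (hkB : (Nat.card B : k) ≠ 0)
    (hc : c ∈ stabS σ W) (hcB : c ∈ 𝐂(B)) (hne : c ∉ kerOn σ W)
    (hfix : ∀ v ∈ W, (∀ b ∈ B, σ b v = v) → σ c v = v) : ∃ W₁ ≤ W, W₁ ≠ ⊥ ∧ NoFix σ B W₁ ∧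
      ∀ D ≤ stabS σ W, (∀ y ∈ D, ⁅y, c⁆ ∈ kerOn σ W) → D ≤ stabS σ W₁ := by
  haveI := Fintype.ofFinite B
  refine ⟨W.map (σ c - 1), ?_, fun e => hne fun v hv => ?_, ?_,
    fun D hD h => le_stabS fun y hy => ?_⟩
  · rintro _ ⟨v, hv, rfl⟩
    exact sub_mem (apply_mem_of_stabS hc hv) hv
  · rw [← sub_eq_zero, ← Submodule.mem_bot k, ← e]
    exact ⟨v, hv, rfl⟩
  · rintro _ ⟨v, hv, rfl⟩ hf
    have h1 := hfix _ (Submodule.sum_mem _ fun (a : B) (_ : a ∈ Finset.univ) =>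
      apply_mem_of_stabS (hB a.2) hv) fun b hb => by
        rw [map_sum]
        exact Fintype.sum_equiv (Equiv.mulLeft (⟨b, hb⟩ : B)) _ _ fun a => by simp [rep_mul_apply]
    rw [← sub_eq_zero, map_sum, ← Finset.sum_sub_distrib, Finset.sum_congr rfl
      (g := fun _ => (σ c - 1) v) fun a _ => ?_, Finset.sum_const, Finset.card_univ,
      ← Nat.card_eq_fintype_card, ← Nat.cast_smul_eq_nsmul k] at h1
    · exact (smul_eq_zero.1 h1).resolve_left hkB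
    · rw [← hf a a.2, LinearMap.sub_apply, map_sub, ← rep_mul_apply, ← rep_mul_apply, hcB a a.2]
      rfl
  · rintro _ ⟨v, hv, rfl⟩
    refine ⟨σ y v, apply_mem_of_stabS (hD hy) hv, ?_⟩
    have e : y * c = ⁅y, c⁆ * (c * y) := by simp [commutatorElement_def]
    rw [LinearMap.sub_apply, LinearMap.sub_apply, map_sub, ← rep_mul_apply σ y, e, rep_mul_apply,
      h y hy _ (apply_mem_of_stabS (mul_mem hc (hD hy)) hv), rep_mul_apply]
    rfl

variable [IsAlgClosed k] [FiniteDimensional k M]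

theorem core_mod_sec {S : Subgroup Y} {b c : Y} {r l n : ℕ} [Fact l.Prime]
    (hU : Scal σ ⁅S, S⁆ U) (hR : Scal σ (rad S (kerOn σ U)) U) (hS : S ≤ stabS σ U)
    (hb : b ∈ stabS σ U) (hc : c ∈ stabS σ U) (hbS : b ∈ 𝐍(S)) (hcS : c ∈ 𝐍(S)) (hr : 1 < r)
    (hbr : b ^ r = 1) (hcl : c ^ l ^ n = 1) (hbc : b * c = c * b)
    (hfix : ∀ v ∈ U, σ b v = v → σ c v = v) (hk : (Nat.card S : k) ≠ 0) (hkr : (r : k) ≠ 0)
    (hl : (l : k) = 0) (hcop : r.Coprime (Nat.card S))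
    (hf : ∀ i, 0 < i → i < r → ∀ g ∈ S, ⁅g⁻¹, b ^ i⁆ ∈ rad S (kerOn σ U) →
      g ∈ rad S (kerOn σ U))
    (hfc : ∀ g ∈ S, ⁅g⁻¹, c⁆ ∈ rad S (kerOn σ U) → g ∈ rad S (kerOn σ U))
    (hfbc : ∀ g ∈ S, ⁅g⁻¹, b * c⁆ ∈ rad S (kerOn σ U) → g ∈ rad S (kerOn σ U)) :
    ∃ d, 0 < d ∧ d ^ 2 = (rad S (kerOn σ U)).relIndex S ∧ (r ∣ d + 1 ∨ r ∣ d - 1) ∧
      d + 1 ≤ 2 * r := by
  have hSN : S ≤ 𝐍(kerOn σ U) := hS.trans (stabS_le_normalizer σ U)
  have hZRad := comm_le_rad hSN ((commutator_mono le_rfl hS).trans hU.commutator_le)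
  have hSRad : S ≤ 𝐍(rad S (kerOn σ U)) := le_normalizer_rad le_normalizer hSN
  obtain ⟨X, hXU, hX0, hX1, hX2⟩ := H46.exists_minimal_invariant
    (insert (σ (b * c)) (σ '' S)) U (by
      rintro T (rfl | ⟨g, hg, rfl⟩) v hv
      · exact apply_mem_of_stabS (mul_mem hb hc) hv
      · exact apply_mem_of_stabS (hS hg) hv) hU.1
  have hSX : S ≤ stabS σ X := le_stabS fun g hg => hX1 _ (Or.inr ⟨g, hg, rfl⟩)
  have hgX : b * c ∈ stabS σ X := mem_stabS_of_maps (hX1 _ (Or.inl rfl))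
  have hco : (l ^ n).Coprime r := Nat.Coprime.pow_left _ ((Nat.Prime.coprime_iff_not_dvd
    Fact.out).2 (by rintro ⟨m, rfl⟩; exact hkr (by rw [Nat.cast_mul, hl, zero_mul])))
  have hbX : b ∈ stabS σ X := mem_of_pow_mem_of_coprime (n := l ^ n) (by
    have := pow_mem hgX (l ^ n)
    rwa [Commute.mul_pow hbc, hcl, mul_one] at this)
    (hco.coprime_dvd_right (orderOf_dvd_of_pow_eq_one hbr))
  have hcX : c ∈ stabS σ X := (mul_mem_cancel_left hbX).1 hgX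
  obtain ⟨τ, β, h1, h2, h3, h4, -⟩ := exists_res σ X hSX hbX hbS
  obtain ⟨τ', γ, g1, g2, g3, g4, -⟩ := exists_res σ X hSX hcX hcS
  obtain rfl : τ' = τ := MonoidHom.ext fun g => LinearMap.ext fun v =>
    Subtype.ext ((g1 g v).trans (h1 g v).symm)
  haveI : Nontrivial X := Submodule.nontrivial_iff_ne_bot.2 hX0
  have conv : ∀ (y : Y) (g : S), y * g * y⁻¹ * (g : Y)⁻¹ ∈ rad S (kerOn σ U) →
      ⁅(g : Y)⁻¹, y⁆ ∈ rad S (kerOn σ U) := fun y g h => by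
    have := inv_conj_mem_of_le_normalizer hSRad g.2 h
    convert this using 1
    simp only [commutatorElement_def]; group
  obtain ⟨c1, c2, c3⟩ := core_mod τ' β γ (H46.conjAut S b hbS) (H46.conjAut S c hcS) r hr hkr hk
    hcop (h3 _ hbr) h4 hl (g3 _ hcl) (H46.conjAut_pow_eq_one S c hcS hcl) g4
    (LinearMap.ext fun v => Subtype.ext (by
      rw [End.mul_apply, End.mul_apply, h2, g2, g2, h2, ← rep_mul_apply, hbc, rep_mul_apply]))
    (fun v hv => Subtype.ext (by rw [g2]; exact hfix _ (hXU v.2) (by rw [← h2, hv])))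
    (fun W hW1 hW2 => by
      have := hX2 (W.map X.subtype) (Submodule.map_subtype_le X W) (by
        rintro T (rfl | ⟨g, hg, rfl⟩) _ ⟨v, hv, rfl⟩
        · exact ⟨_, hW2 v hv, by
            simp only [Submodule.subtype_apply, End.mul_apply, h2, g2, rep_mul_apply]⟩
        · exact ⟨_, hW1 ⟨g, hg⟩ v hv, h1 _ _⟩)
      refine this.imp (fun e => ?_) fun e => ?_
      · exact Submodule.map_injective_of_injective X.injective_subtype (by rw [e, Submodule.map_bot])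
      · exact Submodule.map_injective_of_injective X.injective_subtype
          (by rw [e, Submodule.map_subtype_top]))
    ((rad S (kerOn σ U)).subgroupOf S) (fun z hz => by
      obtain ⟨a, ha⟩ := hR.2 z hz
      exact ⟨a, LinearMap.ext fun v => Subtype.ext ((h1 z v).trans (ha v (hXU v.2)))⟩)
    (fun g y => hZRad (commutator_mem_commutator g.2 y.2))
    (fun g hg => by
      by_contra hc
      push Not at hc
      refine hg ((mem_rad hSN).2 ⟨g.2, fun y hy => comm_mem_symm ?_⟩)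
      exact (hU.mem_kerOn_iff hXU hX0 (commutator_mem_commutator hy g.2)).1 fun v hv =>
        (h1 ⁅(⟨y, hy⟩ : S), g⁆ ⟨v, hv⟩).symm.trans (by rw [hc]; rfl))
    (fun i h0 hi g hg => hf i h0 hi g g.2 (conv _ g (by
      simpa only [mem_subgroupOf, Subgroup.coe_mul, Subgroup.coe_inv, H46.conjAut_pow_apply]
        using hg)))
    (fun g hg => hfc g g.2 (conv _ g (by
      rw [← H46.conjAut_apply S c hcS, hg, mul_inv_cancel]; exact one_mem _)))
    (fun g hg => hfbc g g.2 (conv _ g (by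
      simpa only [mem_subgroupOf, Subgroup.coe_mul, Subgroup.coe_inv, MulAut.mul_apply,
        H46.conjAut_apply, mul_inv_rev, mul_assoc] using hg)))
    (fun g => (mem_normalizer_iff.1 (le_normalizer_rad ((zpowers_le).2 hcS)
      ((zpowers_le).2 (stabS_le_normalizer σ U hc)) (mem_zpowers c)) g).symm)
  exact ⟨finrank k X, finrank_pos, c1, c2, c3⟩

theorem key1 {U Z B Q : Subgroup Y} (hUM : U ≤ stabS σ M₀) (hBM : B ≤ stabS σ M₀) (hZU : Z ≤ U)
    (hc : ⁅Z, U⁆ ≤ kerOn σ M₀) (hBZ : B ≤ 𝐍(Z)) (hQZ : Q ≤ 𝐍(Z)) (hQB : Q ≤ 𝐂(B))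
    (hUQ : U ≤ ⁅U, Q⁆) (hp : (Nat.card B).Prime) (hk : (Nat.card Z : k) ≠ 0)
    (cop : (Nat.card B).Coprime (Nat.card Q))
    (hfix : ∀ v ∈ M₀, (∀ b ∈ B, σ b v = v) → ∀ t ∈ Q, σ t v = v) : ⁅Z, B⁆ ≤ kerOn σ M₀ := by
  intro z hz
  by_contra h0
  have hzZ := commutator_le_of_le_normalizer hBZ hz
  obtain ⟨W, hW, h1, h2⟩ := exists_wsp_rel hk (hZU.trans hUM)
    ((commutator_mono le_rfl hZU).trans hc) hzZ h0
  have hmv : ¬ B ≤ stabS σ W := fun h => h2 ((commutator_mono le_rfl h).trans hW.commutator_le hz)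
  refine h2 ((hW.scal.mem_kerOn_iff inf_le_right h1 hzZ).1 (hUQ.trans (commutator_le_of_le_right
    ((hW.le_stabS_inf hUM hc).trans (stabS_le_normalizer _ _)) fun t ht => ?_) (hZU hzZ)))
  exact hW.trace hk hp hBZ hBM hmv (hQZ ht) (hQB ht)
    (cop.coprime_dvd_right (H1.orderOf_dvd_card_of_mem ht)) fun v hv hf => hfix v hv hf t ht

theorem key2 {U B Q R : Subgroup Y} {s : ℕ} [hs' : Fact s.Prime] (hUM : U ≤ stabS σ M₀)
    (hBM : B ≤ stabS σ M₀) (hQM : Q ≤ stabS σ M₀) (hRM : R ≤ stabS σ M₀) (hBU : B ≤ 𝐍(U))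
    (hQU : Q ≤ 𝐍(U)) (hRU : R ≤ 𝐍(U)) (hQB : Q ≤ 𝐂(B)) (hRB : R ≤ 𝐂(B))
    (hc : ⁅⁅U, U⁆, U⁆ ≤ kerOn σ M₀) (hZB : ⁅⁅U, U⁆, B⁆ ≤ kerOn σ M₀)
    (hZQ : ⁅⁅U, U⁆, Q⁆ ≤ kerOn σ M₀) (hZR : ⁅⁅U, U⁆, R⁆ ≤ kerOn σ M₀) (hUB : U ≤ ⁅U, B⁆)
    (hUQ : U ≤ ⁅U, Q⁆) (hQR : Q ≤ ⁅Q, R⁆) (hQ : IsPGroup s Q) (hp : (Nat.card B).Prime)
    (hk : (Nat.card U : k) ≠ 0) (hkB : (Nat.card B : k) ≠ 0)
    (c1 : (Nat.card B).Coprime (Nat.card Q)) (c2 : (Nat.card Q).Coprime (Nat.card U))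
    (c3 : (Nat.card B).Coprime (Nat.card U)) (hs : Group.IsSolvable U)
    (hfix : ∀ v ∈ M₀, (∀ b ∈ B, σ b v = v) → ∀ t ∈ Q, σ t v = v) : ⁅U, U⁆ ≤ kerOn σ M₀ := by
  intro z hz
  by_contra h0
  have hZU : ⁅U, U⁆ ≤ U := commutator_le_of_le_normalizer le_normalizer
  obtain ⟨W, hW, h1, h2⟩ := exists_wsp_rel (natCast_card_ne_zero_of_le hZU hk) (hZU.trans hUM)
    ((commutator_mono le_rfl hZU).trans hc) hz h0
  have hU0 := hW.le_stabS_inf hUM hc
  have hB0 := hW.le_stabS_inf hBM hZB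
  have hQ0 := hW.le_stabS_inf hQM hZQ
  have hR0 := hW.le_stabS_inf hRM hZR
  have hS : Scal σ ⁅U, U⁆ (M₀ ⊓ W) := hW.scal.mono le_rfl inf_le_right h1
  have hne : ¬ ⁅U, U⁆ ≤ kerOn σ (M₀ ⊓ W) := fun h =>
    h2 ((hW.scal.mem_kerOn_iff inf_le_right h1 hz).1 (h hz))
  obtain ⟨μ, hμ'⟩ := hW.form
  have hμ : Form ⁅U, U⁆ (kerOn σ (M₀ ⊓ W)) μ := ⟨hμ'.mul, fun x hx =>
    (hW.scal.mem_kerOn_iff inf_le_right h1 hx).trans
      (Iff.trans ⟨fun h => ⟨hx, h⟩, fun h => h.2⟩ (hμ'.one x hx))⟩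
  replace hfix : ∀ v ∈ M₀ ⊓ W, (∀ b ∈ B, σ b v = v) → ∀ t ∈ Q, σ t v = v :=
    fun v hv => hfix v hv.1
  generalize M₀ ⊓ W = W₀ at *
  clear hc hZB hZQ hZR hμ' h2 h0 hUM hBM hQM hRM hW
  set N := kerOn σ W₀ with hN
  have hUN : U ≤ 𝐍(N) := hU0.trans (stabS_le_normalizer _ _)
  have hBN : B ≤ 𝐍(N) := hB0.trans (stabS_le_normalizer _ _)
  have hQN : Q ≤ 𝐍(N) := hQ0.trans (stabS_le_normalizer _ _)
  have hRN : R ≤ 𝐍(N) := hR0.trans (stabS_le_normalizer _ _)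
  have hc : ⁅⁅U, U⁆, U⁆ ≤ N := (commutator_mono le_rfl hU0).trans hS.commutator_le
  have hZB : ⁅⁅U, U⁆, B⁆ ≤ N := (commutator_mono le_rfl hB0).trans hS.commutator_le
  have hZQ : ⁅⁅U, U⁆, Q⁆ ≤ N := (commutator_mono le_rfl hQ0).trans hS.commutator_le
  have hZR : ⁅⁅U, U⁆, R⁆ ≤ N := (commutator_mono le_rfl hR0).trans hS.commutator_le
  have hsB := H47.isSolvable_of_card_prime hp
  have hBR : B ≤ 𝐍(rad U N) := le_normalizer_rad hBU hBN
  have hQR' : Q ≤ 𝐍(rad U N) := le_normalizer_rad hQU hQN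
  have hUR : ⁅U, U⁆ ≤ rad U N := comm_le_rad hUN hc
  have hCU : U ⊓ 𝐂(B) ≤ ⁅U, U⁆ := inf_centralizer_le_commutator hBU c3 hUB
  have hRadB : ⁅rad U N, B⁆ ≤ N := key1 hU0 hB0 rad_le rad_comm_le hBR hQR' hQB hUQ hp
    (natCast_card_ne_zero_of_le rad_le hk) c1 hfix
  have hRad : rad U N ≤ ⁅U, U⁆ ⊔ N :=
    (commutator_sup_centralizer hBR (coprime_of_le_right c3 rad_le) (Or.inl hsB)).ge.trans
      (sup_le (hRadB.trans le_sup_right)
        (((inf_le_inf_right _ rad_le).trans hCU).trans le_sup_left))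
  have hRadQ : ⁅rad U N, Q⁆ ≤ N := (commutator_mono hRad le_rfl).trans
    (commutator_sup_le (hZU.trans hUN) le_normalizer hZQ (commutator_le_of_le_normalizer hQN))
  have hSR : Scal σ (rad U N) W₀ := ⟨hS.1, fun x hx => by
    obtain ⟨a, ha, b, hb, rfl⟩ := (mem_sup_of_le_normalizer (hZU.trans hUN)).1 (hRad hx)
    exact (hS.2 a ha).imp fun c hc v hv => by rw [rep_mul_apply, hb v hv, hc v hv]⟩
  have notU : ¬ U ≤ rad U N := fun h => hne ((commutator_mono h le_rfl).trans rad_comm_le)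
  have step : ∀ c ∈ Q, c ∉ N → ∀ S₀ ≤ U, B ≤ 𝐍(S₀) → Q ≤ 𝐍(S₀) → ⁅S₀, zpowers c⁆ ≤ N →
      ⁅⁅S₀, B⁆, ⁅S₀, B⁆⁆ ≤ N ∨ ⁅⁅S₀, B⁆, Q⁆ ≤ rad ⁅S₀, B⁆ N := by
    intro c hcQ hcN S₀ h1 h2 h3 h4
    obtain ⟨W₁, w1, w2, w3, w4⟩ := exists_im_sub hB0 hkB (hQ0 hcQ) (hQB hcQ) hcN
      fun v hv hf => hfix v hv hf c hcQ
    have e1 : ⁅S₀, B⁆ ≤ S₀ := commutator_le_of_le_normalizer h2
    have e2 := e1.trans h1
    have e3 := commutator_mono e2 e2
    have e4 := commutator_commutator_eq h2 (coprime_of_le_right c3 h1)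
    have e5 : B ≤ 𝐍((⁅S₀, B⁆ : Subgroup Y)) := le_normalizer_commutator h2 le_normalizer
    have hS1 := w4 _ (e2.trans hU0) fun y hy => h4 (commutator_mem_commutator (e1 hy) (mem_zpowers c))
    have := exc' (hS.mono e3 w1 w2) hS1 (w4 _ hB0 fun y hy => by
      rw [commutatorElement_eq_one_iff_mul_comm.2 (hQB hcQ y hy)]; exact one_mem _) e5 hp
      (natCast_card_ne_zero_of_le e2 hk) hkB (coprime_of_le_right c3 e2) e4.ge w3
    rw [rad_congr (hS1.trans (stabS_le_normalizer _ _)) (e2.trans hUN)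
      fun x hx => hS.mem_kerOn_iff w1 w2 (e3 hx)] at this
    refine this.imp (fun h x hx => (hS.mem_kerOn_iff w1 w2 (e3 hx)).1 (h hx)) ?_
    rintro ⟨d, d1, d2, d3⟩
    have := l0_cent hμ e3 (e2.trans hUN) ((commutator_mono e3 e2).trans hc) hp e5 hBN
      ((commutator_mono e3 le_rfl).trans hZB)
      (le_normalizer_commutator h3 (hQB.trans (centralizer_le_normalizer _))) hQN
      ((commutator_mono e3 le_rfl).trans hZQ) hQB c1 (coprime_of_le_right c3 e2) d1 d2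
      (by rw [e4]; exact d3)
    rwa [e4] at this
  have cop : ∀ c ∈ Q, ∀ S₀ ≤ U, c ∈ 𝐍(S₀) → ⁅S₀, zpowers c⁆ ≤ rad U N → ⁅S₀, zpowers c⁆ ≤ N := by
    intro c hcQ S₀ h1 h2 h3
    rw [← commutator_commutator_eq ((zpowers_le).2 h2)
      (coprime_of_le_right (coprime_of_le_left c2 ((zpowers_le).2 hcQ)) h1)]
    exact (commutator_mono h3 ((zpowers_le).2 hcQ)).trans hRadQ
  have hUBe : ⁅U, B⁆ = U := le_antisymm (commutator_le_of_le_normalizer hBU) hUB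
  have hCN : Q ⊓ relCentralizer U (rad U N) ≤ N := fun c hc => by
    by_contra hcN
    have := step c hc.1 hcN U le_rfl hBU hQU (cop c hc.1 U le_rfl (hQU hc.1)
      (comm_le_of_le_relC ((zpowers_le).2 hc.2)))
    rw [hUBe] at this
    exact this.elim hne fun h => notU (hUQ.trans h)
  have hQC : Q ≤ 𝐍(relCentralizer U (rad U N)) := le_normalizer_relCentralizer hQU hQR'
  have notQ : ¬ Q ≤ relCentralizer U (rad U N) := fun h => notU (hUQ.trans (comm_le_of_le_relC h))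
  obtain ⟨c, hcQ, hc0, hcs, hcc⟩ := exists_central_mod hQ hQC notQ
  have hUR' : U ≤ 𝐍(rad U N) := le_normalizer_rad le_normalizer hUN
  have hcN : c ∉ N := fun h => hc0 (le_relC ((zpowers_le).2 (hQR' hcQ)) (le_trans
    (le_inf (commutator_le_of_le_normalizer ((zpowers_le).2 (hQU hcQ)))
      (commutator_le_of_le_right hUN ((zpowers_le).2 h))) (inf_le_rad hUN)) (mem_zpowers c))
  have hcQ' : zpowers c ≤ Q := (zpowers_le).2 hcQ
  have hfc : ∀ x ∈ U, ⁅x⁻¹, c⁆ ∈ rad U N → x ∈ rad U N := by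
    set S₀ := U ⊓ relCentralizer (zpowers c) (rad U N) with hS₀
    have m1 : ∀ x ∈ U, ⁅x, c⁆ ∈ rad U N → x ∈ S₀ := fun x hx h => ⟨hx, hUR' hx, fun y hy => by
      obtain ⟨m, rfl⟩ := mem_powers_iff_mem_zpowers.2 hy
      exact commutator_pow_mem (hQR' hcQ) h m⟩
    have m2 : ⁅S₀, zpowers c⁆ ≤ rad U N := (le_relCentralizer_iff.1 inf_le_right).2
    have m3 : B ≤ 𝐍(S₀) := le_normalizer_inf hBU (le_normalizer_relCentralizer
      ((le_centralizer_iff.1 (hcQ'.trans hQB)).trans (centralizer_le_normalizer _)) hBR)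
    have m4 : Q ≤ 𝐍(S₀) := le_normalizer_of_forall_cj_le fun q hq => cj_le_iff'.2 fun x hx => by
      refine m1 _ (conj_mem_of_le_normalizer hQU hq hx.1) ?_
      have hw := comm_mem_symm (hcc q⁻¹ (inv_mem hq))
      have a3 := conj_mem_of_le_normalizer hQR' hq (mul_mem (comm_mem_symm (hw.2 x hx.1))
        (conj_mem_of_mem_normalizer hw.1 (hx.2.2 c (mem_zpowers c))))
      convert a3 using 1
      simp only [commutatorElement_def]; group
    have m5 := cop c hcQ S₀ inf_le_left (m4 hcQ) m2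
    have m6 : S₀ ≤ 𝐍(N) := inf_le_left.trans hUN
    have m7 : ∀ X ≤ S₀, ⁅X, S₀⁆ ≤ N → X ≤ rad U N := fun X a1 a2 => by
      refine le_rad hUN (a1.trans inf_le_left) ((commutator_mono le_rfl (commutator_sup_centralizer
        (hcQ'.trans hQU) (coprime_of_le_left c2 hcQ') (Or.inr hs)).ge).trans (comm_sup_right
        ((commutator_le_of_le_normalizer (hcQ'.trans hQU)).trans hUN) (inf_le_left.trans hUN) ?_
        ((commutator_mono le_rfl fun x hx => m1 x (mem_inf.1 hx).1 ?_).trans a2)))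
      · rw [commutator_comm]
        refine three_subgroups_le hUN (hcQ'.trans hQN) (a1.trans m6) ?_
          ((commutator_mono (commutator_mono (a1.trans inf_le_left) le_rfl) hcQ').trans hZQ)
        rw [commutator_comm (zpowers c)]
        exact (commutator_mono ((commutator_mono a1 le_rfl).trans m5) le_rfl).trans
          (commutator_le_of_le_normalizer hUN)
      · rw [commutatorElement_eq_one_iff_mul_comm.2 (hx.2 c (mem_zpowers c)).symm]
        exact one_mem _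
    have m8 : S₀ ≤ ⁅S₀, B⁆ ⊔ ⁅U, U⁆ := (commutator_sup_centralizer m3
      (coprime_of_le_right c3 inf_le_left) (Or.inl hsB)).ge.trans
      (sup_le_sup_left ((inf_le_inf_right _ inf_le_left).trans hCU) _)
    have m9 : ⁅S₀, B⁆ ≤ S₀ := commutator_le_of_le_normalizer m3
    have m10 : ∀ X ≤ ⁅S₀, B⁆, ⁅X, ⁅S₀, B⁆⁆ ≤ N → X ≤ rad U N := fun X a1 a2 =>
      m7 X (a1.trans m9) ((commutator_mono le_rfl m8).trans (comm_sup_right (m9.trans m6)
        (hZU.trans hUN) a2 (by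
          rw [commutator_comm]
          exact (commutator_mono le_rfl (a1.trans (m9.trans inf_le_left))).trans hc)))
    suffices H : S₀ ≤ rad U N from fun x hx h => inv_mem_iff.1 (H (m1 _ (inv_mem hx) h))
    rcases step c hcQ hcN S₀ inf_le_left m3 m4 m5 with h | h
    · exact m8.trans (sup_le (m10 _ le_rfl h) hUR)
    · have a1 : ⁅S₀, Q⁆ ≤ rad U N := (commutator_mono m8 le_rfl).trans (commutator_sup_le
        ((m9.trans inf_le_left).trans hUR') (hZU.trans hUR') (h.trans (m10 _ rad_le rad_comm_le))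
        ((commutator_mono hUR le_rfl).trans (commutator_le_of_le_normalizer hQR')))
      refine le_rad hUN inf_le_left ((commutator_mono le_rfl hUQ).trans ?_)
      rw [commutator_comm]
      refine three_subgroups_le hUN hQN m6 ?_
        ((commutator_mono (commutator_mono inf_le_left le_rfl) le_rfl).trans hZQ)
      rw [commutator_comm Q]
      exact (commutator_mono a1 le_rfl).trans rad_comm_le
  obtain ⟨A, _, _, β, φ, alt, nd, hiso, hφ, hcard, hfpf⟩ := exists_formModel (D := B ⊔ Q ⊔ R) hμ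
    le_rfl hUN hc (sup_le (sup_le hBU hQU) hRU) (sup_le (sup_le hBN hQN) hRN)
    (comm_sup_right (sup_le hBN hQN) hRN (comm_sup_right hBN hQN hZB hZQ) hZR)
  obtain ⟨b, hb, hb1, hbp⟩ := H46.exists_generator_of_prime_card hp
  have hbB : b ∈ B := hb ▸ mem_zpowers b
  have ho : orderOf b = Nat.card B := by rw [← Nat.card_zpowers, ← hb]
  have hf : ∀ i, 0 < i → i < Nat.card B → ∀ g ∈ U, ⁅g⁻¹, b ^ i⁆ ∈ rad U N → g ∈ rad U N :=
    fun i h0 hi g hg h => fpf_prime hp hBR rad_le c3 (hCU.trans hUR) hg (pow_mem hbB i)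
      (pow_ne_one_of_lt_orderOf h0.ne' (ho ▸ hi)) h
  have iQ : Q ≤ B ⊔ Q ⊔ R := le_sup_of_le_left le_sup_right
  have iB : b ∈ B ⊔ Q ⊔ R := mem_sup_left (mem_sup_left hbB)
  have hsQ : s ∣ Nat.card Q := dvd_card_of_isPGroup_of_ne_bot hQ
    (fun e => notQ (e ▸ bot_le)) le_rfl
  have hrs : Nat.card B ≠ s := fun e => hs'.out.one_lt.ne'
    (Nat.eq_one_of_dvd_coprimes c1 (e ▸ dvd_rfl) hsQ)
  have hcomm : ∀ g (hg : g ∈ B ⊔ Q ⊔ R), g ∈ 𝐂(B) →
      φ ⟨b, iB⟩ * φ ⟨g, hg⟩ = φ ⟨g, hg⟩ * φ ⟨b, iB⟩ := fun g hg h => by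
    rw [← map_mul, ← map_mul]; congr 1; exact Subtype.ext (h b hbB)
  have φb : φ ⟨b, iB⟩ ^ Nat.card B = 1 := by
    rw [← map_pow, ← map_one φ]; congr 1; exact Subtype.ext hbp
  have φc : φ ⟨c, iQ hcQ⟩ ^ s = 1 := by rw [← map_pow]; exact (hφ _).2 hcs
  have φfb := (hfpf ⟨b, iB⟩).2 (by simpa using hf 1 one_pos hp.one_lt)
  have φfc := (hfpf ⟨c, iQ hcQ⟩).2 hfc
  have hbc : b * c = c * b := hQB hcQ b hbB
  have hfbc : ∀ i, 0 < i → i < Nat.card B * s → ∀ g ∈ U, ⁅g⁻¹, (b * c) ^ i⁆ ∈ rad U N →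
      g ∈ rad U N := fun i h0 hi => (hfpf ((⟨b, iB⟩ * ⟨c, iQ hcQ⟩) ^ i)).1 (by
    rw [map_pow, map_mul]
    exact fpf_mul hp hs'.out hrs φb φc (hcomm _ _ (hQB hcQ)) φfb φfc i h0 hi)
  have hrs1 : 1 < Nat.card B * s := one_lt_mul'' hp.one_lt hs'.out.one_lt
  obtain ⟨d, d0, d1, d2⟩ : ∃ d, 0 < d ∧ d ^ 2 = (rad U N).relIndex U ∧ (d = 1 ∨
      (Nat.card B ∣ d + 1 ∨ Nat.card B ∣ d - 1) ∧ d + 1 ≤ 2 * Nat.card B) := by
    by_cases hl : (s : k) = 0
    · obtain ⟨n, hn⟩ := isPGroup_iff_forall.1 hQ c hcQ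
      obtain ⟨d, d0, d1, d2⟩ := core_mod_sec hS hSR hU0 (hB0 hbB) (hQ0 hcQ) (hBU hbB) (hQU hcQ)
        hp.one_lt hbp hn hbc (fun v hv e => hfix v hv (hb ▸ fix_zpowers σ e) c hcQ) hk hkB hl c3
        hf hfc (by simpa using hfbc 1 one_pos hrs1)
      exact ⟨d, d0, d1, Or.inr d2⟩
    have hcsN : c ^ s ∈ N := hCN ⟨pow_mem hcQ s, hcs⟩
    obtain ⟨d, d0, d1, d2, d3⟩ := core_sec hS hU0 (mul_mem (hB0 hbB) (hQ0 hcQ))
      (mul_mem (hBU hbB) (hQU hcQ)) hrs1 (by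
        rw [Commute.mul_pow hbc, pow_mul, hbp, one_pow, one_mul, pow_mul']; exact pow_mem hcsN _)
      hk (by rw [Nat.cast_mul]; exact mul_ne_zero hkB hl)
      (Nat.Coprime.mul_left c3 (c2.coprime_dvd_left hsQ))
      (fun z hz => comm_mem_symm (comm_sup_right hBN hQN hRadB hRadQ
        (commutator_mem_commutator hz (mul_mem (mem_sup_left hbB) (mem_sup_right hcQ))))) hfbc
    have miss : ∀ ζ : k, ζ ^ s = 1 → ζ ≠ 1 → ∀ v ∈ W₀, σ (b * c) v = ζ • v → v = 0 := by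
      intro ζ z1 z2 v hv e
      have e1 : σ (b ^ s) v = v := by
        have := H46.pow_apply_of_eigen _ e s
        rwa [z1, one_smul, ← map_pow, Commute.mul_pow hbc, rep_mul_apply, hcsN v hv] at this
      have e2 : ∀ a ∈ B, σ a v = v := by
        rw [← zpowers_eq_of_prime hp (pow_mem hbB s) fun e => hrs
          ((Nat.prime_dvd_prime_iff_eq hp hs'.out).1 (ho ▸ orderOf_dvd_of_pow_eq_one e))]
        exact fix_zpowers σ e1
      rw [rep_mul_apply, hfix v hv e2 c hcQ, e2 b hbB] at e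
      by_contra h0
      exact z2 (smul_left_injective k h0 (by simpa using e.symm))
    haveI : NeZero (s : k) := ⟨hl⟩
    obtain ⟨ζ, hζ⟩ := HasEnoughRootsOfUnity.exists_primitiveRoot k s
    have z1 : ∀ ζ : k, ζ ^ s = 1 → ζ ^ (Nat.card B * s) = 1 := fun ζ h => by
      rw [pow_mul', h, one_pow]
    refine ⟨d, d0, d1, ?_⟩
    rcases hs'.out.eq_two_or_odd' with rfl | hodd
    · refine (d2 ζ (z1 ζ hζ.pow_eq_one) (miss ζ hζ.pow_eq_one (hζ.ne_one one_lt_two))).symm.imp_right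
        fun e => ⟨Or.inl ⟨2, e.symm⟩, by omega⟩
    · have s3 : 2 < s := lt_of_le_of_ne hs'.out.two_le (by rintro rfl; exact absurd hodd (by decide))
      have z2 : (ζ ^ 2) ^ s = 1 := by rw [← pow_mul, pow_mul', hζ.pow_eq_one, one_pow]
      refine Or.inl (d3 ζ (ζ ^ 2) (fun e => ?_) (z1 ζ hζ.pow_eq_one) (z1 _ z2)
        (miss ζ hζ.pow_eq_one (hζ.ne_one hs'.out.one_lt))
        (miss _ z2 (hζ.pow_ne_one_of_pos_of_lt two_ne_zero s3)))
      exact absurd (hζ.pow_inj (i := 1) (j := 2) hs'.out.one_lt s3 (by simpa using e)) (by simp)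
  have d3 : d ≠ 1 := by
    rintro rfl
    exact notU (relIndex_eq_one.1 (by simpa using d1.symm))
  obtain ⟨d4, d5⟩ := d2.resolve_left d3
  refine notQ (hQR.trans (Subgroup.commutator_le.2 fun q hq x hx =>
    (hφ ⁅(⟨q, iQ hq⟩ : ↥(B ⊔ Q ⊔ R)), ⟨x, mem_sup_right hx⟩⁆).1 ?_))
  rw [map_commutatorElement, commutatorElement_eq_one_iff_mul_comm]
  exact comm_of_small β alt nd hp hs'.out hrs φb φc (hcomm _ _ (hQB hcQ)) φfb φfc (hiso _) (hiso _)
    (by omega) (hcard.trans d1.symm) ((c2.coprime_dvd_left hsQ).coprime_dvd_right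
      ((Dvd.intro _ (sq d).symm).trans (d1 ▸ relIndex_dvd_card _ _))) d4 d5
    (hcomm _ _ (hQB hq)) (hcomm _ _ (hRB hx)) (hiso _) (hiso _)

end H83
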