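import Mathlib
import Cfsg.Agent.Base
import Cfsg.Agent.Lib.FGS83.TurB
import Cfsg.Agent.Lib.PGroup.Frattini

/-!
# Families of subgroups of an abelian section permuted by an operator group (helper83)
-/

set_option autoImplicit false

namespace H83

open Subgroup H2 H68
open scoped commutatorElement

variable {Y : Type*} [Group Y]

local notation "𝐍(" H ")" => Subgroup.normalizer (SetLike.coe H)
local notation "𝐂(" H ")" => Subgroup.centralizer (SetLike.coe H)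

theorem le_relC' {X P J : Subgroup Y} (hJ : J ≤ P) (h : ⁅P, X⁆ ≤ J) : X ≤ relCentralizer P J :=
  le_relC (le_normalizer_of_comm_le ((commutator_mono hJ le_rfl).trans h)) h

theorem cj_relC (g : Y) (P J : Subgroup Y) :
    cj g (relCentralizer P J) ≤ relCentralizer (cj g P) (cj g J) :=
  le_relC (by rw [← cj_normalizer]; exact cj_mono g fun x hx => hx.1)
    (by rw [← cj_commutator]; exact cj_mono g (comm_le_of_le_relC le_rfl))

theorem le_normalizer_comm_sup {D P T R : Subgroup Y} (hDP : D ≤ 𝐍(P)) (hDR : D ≤ 𝐍(R))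
    (hR : R ≤ P) (hT : T ≤ 𝐍(P)) (h : ⁅P, ⁅D, T⁆⁆ ≤ R) :
    D ≤ 𝐍((⁅P, T⁆ ⊔ R : Subgroup Y)) := by
  have hW : ⁅P, T⁆ ⊔ R ≤ P := sup_le (commutator_le_of_le_normalizer hT) hR
  refine le_normalizer_of_forall_cj_le fun g hg => ?_
  rw [cj_sup, cj_eq_of_mem_normalizer (hDR hg), cj_commutator, cj_eq_of_mem_normalizer (hDP hg)]
  refine sup_le (comm_le_of_le_relC (cj_le_iff'.2 fun z hz => ?_)) le_sup_right
  have := mul_mem (le_relC' hW (h.trans le_sup_right) (commutator_mem_commutator hg hz))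
    (le_relC' hW le_sup_left hz)
  simpa [commutatorElement_def] using this

/-- The intersection of the conjugates of `J` under `H`. -/
def coreBy (H J : Subgroup Y) : Subgroup Y := ⨅ g : H, cj (g : Y) J

theorem le_coreBy {H J X : Subgroup Y} : X ≤ coreBy H J ↔ ∀ g ∈ H, X ≤ cj g J :=
  le_iInf_iff.trans Subtype.forall

theorem coreBy_le {H J : Subgroup Y} {g : Y} (hg : g ∈ H) : coreBy H J ≤ cj g J :=
  le_coreBy.1 le_rfl g hg

theorem coreBy_le_self {H J : Subgroup Y} : coreBy H J ≤ J :=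
  (coreBy_le (one_mem H)).trans (cj_one J).le

theorem le_normalizer_coreBy {H J : Subgroup Y} : H ≤ 𝐍(coreBy H J) :=
  le_normalizer_of_forall_cj_le fun g hg => le_coreBy.2 fun x hx => by
    rw [cj_le_iff, ← cj_mul]; exact coreBy_le (mul_mem (inv_mem hg) hx)

variable [Finite Y]

theorem le_of_le_comm_sup {p : ℕ} [Fact p.Prime] {U H : Subgroup Y} (hU : IsPGroup p U)
    (hH : H ≤ U) (h : U ≤ ⁅U, U⁆ ⊔ H) : U ≤ H :=
  (eq_of_sup_frattini hH (h.trans (sup_le_sup_right (H5.commutator_le_map_frattini hU) H))).ge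

open H45 H47 in
theorem norm_rel {W K B : Subgroup Y} (hWK : W ≤ 𝐍(K)) (hWW : ⁅W, W⁆ ≤ K) (hBW : B ≤ 𝐍(W))
    (hBK : B ≤ 𝐍(K)) (cop : (Nat.card B).Coprime (Nat.card W)) (hs : Group.IsSolvable B) {v : Y}
    (hv : v ∈ W) : ∃ x ∈ W ⊓ 𝐂(B), ∀ J, K ≤ J → (∀ a ∈ B, a ≠ 1 → a * v * a⁻¹ ∈ J) →
      v⁻¹ * x ∈ J := by
  obtain ⟨N, h1, -, -, h4⟩ := exists_norm (A := B /ₙ K) (V := W /ₙ K)
    (isMulCommutative_iff_commutator_eq_bot.2 (by
      rw [← im_commutator _ hWK hWK]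
      exact (quo_eq_bot_iff ((commutator_le_of_le_normalizer le_normalizer).trans hWK)).2 hWW))
    (im_le_normalizer _ hBW)
  let v' : W /ₙ K := ⟨coset K ⟨v, hWK hv⟩, (mem_im _).2 ⟨v, _, hv, rfl⟩⟩
  obtain ⟨x, hxK, hx, e⟩ := (mem_im _).1 ((im_inf_centralizer _ hWK hBK hBW cop (Or.inl hs)).ge
    ⟨(N v').2, h1 v'⟩)
  refine ⟨x, hx, fun J hJ h => ?_⟩
  have := h4 v' ((J ⊓ W) /ₙ K) fun a ha h0 => by
    obtain ⟨a, haK, ha', rfl⟩ := (mem_im _).1 ha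
    exact (mem_im _).2 ⟨_, mul_mem (mul_mem haK (hWK hv)) (inv_mem haK),
      ⟨h a ha' (by rintro rfl; exact h0 (map_one _)), conj_mem_of_le_normalizer hBW ha' hv⟩, rfl⟩
  refine sup_le inf_le_left hJ ((qpre_quo (inf_le_right.trans hWK)).le
    ((mem_pre _).2 ⟨mul_mem (inv_mem (hWK hv)) hxK, ?_⟩))
  rw [← e] at this
  exact this

theorem trick {W K B D D₁ J T : Subgroup Y} (hp : (Nat.card B).Prime) (hWK : W ≤ 𝐍(K))
    (hWW : ⁅W, W⁆ ≤ K) (hBW : B ≤ 𝐍(W)) (hBK : B ≤ 𝐍(K))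
    (cW : (Nat.card B).Coprime (Nat.card W)) (hDW : D ≤ 𝐍(W)) (hDK : D ≤ 𝐍(K)) (hBD : B ≤ 𝐍(D))
    (hBD₁ : B ≤ 𝐍(D₁)) (hle : D₁ ≤ D) (cD : (Nat.card B).Coprime (Nat.card D))
    (hC : D ⊓ 𝐂(B) ≤ D₁) (hKJ : K ≤ J) {u : Y} (hu : u ∈ D) (hu1 : u ∉ D₁)
    (h : ∀ u ∈ D, u ∉ D₁ → T ≤ cj u J) {w : Y} (hw : w ∈ W ⊓ 𝐂(B)) (hwT : w ∈ T) (hwJ : w ∉ J) :
    ∃ x ∈ W ⊓ 𝐂(B), x ∉ cj u J ∧
      ∀ J', K ≤ J' → (∀ a ∈ B, a * (u * w * u⁻¹) * a⁻¹ ∈ J') → x ∈ J' := by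
  obtain ⟨x, hx, h1⟩ := norm_rel hWK hWW hBW hBK cW (H47.isSolvable_of_card_prime hp)
    (conj_mem_of_le_normalizer hDW hu hw.1)
  refine ⟨x, hx, fun h2 => hwJ (conj_mem_cj.1 (inv_mem_iff.1 ((mul_mem_cancel_right h2).1
    (h1 _ ((cj_eq_of_mem_normalizer (hDK hu)).ge.trans (cj_mono u hKJ)) fun a ha h0 => ?_)))),
    fun J' h2 h3 => (mul_mem_cancel_left (inv_mem (by simpa using h3 1 (one_mem _)))).1
      (h1 J' h2 fun a ha _ => h3 a ha)⟩
  have h3 := mem_cj.1 (h ⁅u⁻¹, a⁆⁻¹ (inv_mem (commutator_le_of_le_normalizer hBD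
    (commutator_mem_commutator (inv_mem hu) ha)))
    (fun e => hu1 (fpf_prime hp hBD₁ hle cD hC hu ha h0 (inv_mem_iff.1 e))) hwT)
  have h4 : w = a⁻¹ * w * a := by rw [mul_assoc, ← hw.2 a ha]; simp
  rw [mem_cj]
  convert h3 using 1
  conv_lhs => rw [h4]
  simp only [commutatorElement_def]; group

theorem glaub {P J B D : Subgroup Y} (hp : (Nat.card B).Prime) (hBD : B ≤ 𝐍(D))
    (cD : (Nat.card B).Coprime (Nat.card D)) (hDP : D ≤ 𝐍(P)) (hJP : J ≤ P) (h1 : ⁅P, B⁆ ≤ J)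
    {u : Y} (hu : u ∈ D) (h2 : ⁅P, B⁆ ≤ cj u J) :
    ∃ c ∈ D ⊓ 𝐂(B), ∃ s ∈ D ⊓ relCentralizer P J, u = c * s := by
  have hs := H47.isSolvable_of_card_prime hp
  have hB := le_relC' hJP h1
  have hBJ : B ≤ 𝐍(J) := fun x hx => (hB hx).1
  obtain ⟨c, hc, e⟩ := exists_centralizer_cj_eq hBD cD (Or.inl hs) hBJ hu
    (le_normalizer_of_comm_le ((commutator_mono ((cj_mono u hJP).trans
      (cj_eq_of_mem_normalizer (hDP hu)).le) le_rfl).trans h2))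
  have hn : c⁻¹ * u ∈ D ⊓ 𝐍(J) := mem_inf.2 ⟨mul_mem (inv_mem (mem_inf.1 hc).1) hu, mem_normalizer_iff_cj.2 (by
    rw [cj_mul, ← e, cj_inv_cj])⟩
  have hBN : B ≤ 𝐍((D ⊓ 𝐍(J) : Subgroup Y)) :=
    le_normalizer_inf hBD (H2.normalizer_le_normalizer_normalizer J hBJ)
  obtain ⟨c', hc', m, hm, e'⟩ := exists_centralizer_mul_commutator hBN
    (coprime_of_le_right cD inf_le_left) (Or.inl hs) hn
  exact ⟨c * c', mul_mem hc ⟨hc'.1.1, hc'.2⟩, m, ⟨(commutator_le_of_le_normalizer hBN hm).1,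
    commutator_le_of_le_right (le_normalizer_relCentralizer (inf_le_left.trans hDP) inf_le_right)
      hB hm⟩, by rw [mul_assoc, ← e', mul_inv_cancel_left]⟩

theorem fix_comm_le {P R T B : Subgroup Y} (hp : (Nat.card B).Prime) (hPP : ⁅P, P⁆ ≤ R)
    (hR : R ≤ P) (hBP : B ≤ 𝐍(P)) (hBR : B ≤ 𝐍(R)) (hTP : T ≤ 𝐍(P)) (hTB : T ≤ 𝐂(B))
    (cop : (Nat.card B).Coprime (Nat.card P)) :
    (⁅P, T⁆ ⊔ R) ⊓ 𝐂(B) ≤ ⁅P ⊓ 𝐂(B), T⁆ ⊔ R := by
  have hTB' : T ≤ 𝐍(B) := hTB.trans (centralizer_le_normalizer _)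
  have h1 : ⁅P ⊓ 𝐂(B), T⁆ ≤ P ⊓ 𝐂(B) :=
    commutator_le_of_le_normalizer (le_normalizer_inf hTP (le_normalizer_centralizer hTB'))
  have hE : ⁅P ⊓ 𝐂(B), T⁆ ⊔ R ≤ P := sup_le (h1.trans inf_le_left) hR
  have hBE : B ≤ 𝐍((⁅P ⊓ 𝐂(B), T⁆ ⊔ R : Subgroup Y)) := le_normalizer_sup
    ((le_centralizer_iff.1 (h1.trans inf_le_right)).trans (centralizer_le_normalizer _)) hBR
  have hN : ⁅P, B⁆ ≤ P := commutator_le_of_le_normalizer hBP
  have hPE := le_normalizer_of_commutator_le hE (hPP.trans le_sup_right)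
  have hPE' := le_normalizer_of_commutator_le (sup_le hN hE)
    (hPP.trans (le_sup_of_le_right le_sup_right))
  have h2 : ⁅P, T⁆ ≤ ⁅P, B⁆ ⊔ (⁅P ⊓ 𝐂(B), T⁆ ⊔ R) :=
    (commutator_mono (commutator_sup_centralizer hBP cop
      (Or.inl (H47.isSolvable_of_card_prime hp))).ge le_rfl).trans (commutator_sup_le
      (hN.trans hPE') (inf_le_left.trans hPE') ((commutator_le_of_le_normalizer
        (le_normalizer_commutator hTP hTB')).trans le_sup_left) (le_sup_of_le_right le_sup_left))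
  intro x hx
  obtain ⟨n, hn, e, he, rfl⟩ := (mem_sup_of_le_normalizer (hN.trans hPE)).1
    (sup_le h2 (le_sup_of_le_right le_sup_right) hx.1)
  refine mul_mem (mem_of_mem_commutator_of_fixed hBP hBE (hPP.trans le_sup_right)
    (cop.coprime_dvd_right (relIndex_dvd_card _ _)) hn fun a ha => ?_) he
  have := commutator_le_of_le_normalizer hBE (commutator_mem_commutator he ha)
  convert this using 1
  have h3 : (n * e)⁻¹ * a * (n * e) = a := by rw [mul_assoc, hx.2 a ha]; simp [mul_assoc]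
  calc ⁅n⁻¹, a⁆ = e * ((n * e)⁻¹ * a * (n * e)) * e⁻¹ * a⁻¹ := by
        simp only [commutatorElement_def]; group
    _ = ⁅e, a⁆ := by rw [h3]; rfl

theorem ab_step {P K U Z T B : Subgroup Y} (𝓙 : Set (Subgroup Y)) (hp : (Nat.card B).Prime)
    (hPP : ⁅P, P⁆ ≤ K) (hUP : U ≤ 𝐍(P)) (hUK : U ≤ 𝐍(K)) (hBP : B ≤ 𝐍(P)) (hBK : B ≤ 𝐍(K))
    (hBU : B ≤ 𝐍(U)) (hBZ : B ≤ 𝐍(Z)) (hZU : Z ≤ U) (hUZ : ⁅U, U⁆ ≤ Z) (hZ : ⁅P, ⁅Z, U⁆⁆ ≤ K)
    (hT : T ≤ U ⊓ 𝐂(B)) (cP : (Nat.card B).Coprime (Nat.card P))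
    (cU : (Nat.card B).Coprime (Nat.card U)) (cUP : (Nat.card U).Coprime (Nat.card P))
    (h1 : ∀ J ∈ 𝓙, K ≤ J ∧ J ≤ P ∧ (⁅P ⊓ 𝐂(B), T⁆ ≤ J ∨ ⁅P, B⁆ ≤ J))
    (h2 : ∀ J ∈ 𝓙, ∀ g ∈ U ⊔ B, cj g J ∈ 𝓙) {J : Subgroup Y} (hJ : J ∈ 𝓙) :
    ∃ R, K ≤ R ∧ R ≤ J ∧ U ≤ 𝐍(R) ∧ B ≤ 𝐍(R) ∧
      (⁅P ⊓ 𝐂(B), T⁆ ≤ R ∨ (⁅P, ⁅Z, B⁆⁆ ≤ R ∧ ⁅⁅P, ⁅U, B⁆⁆, T⁆ ≤ R)) := by
  have hsB := H47.isSolvable_of_card_prime hp
  set R := coreBy (U ⊔ B) J with hR
  have hKR : K ≤ R := le_coreBy.2 fun g hg => (h1 _ (h2 J hJ g hg)).1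
  have hUR : U ≤ 𝐍(R) := le_sup_left.trans le_normalizer_coreBy
  have hBR : B ≤ 𝐍(R) := le_sup_right.trans le_normalizer_coreBy
  refine ⟨R, hKR, coreBy_le_self, hUR, hBR, or_iff_not_imp_left.2 fun h0 => ?_⟩
  rw [le_coreBy] at h0
  push Not at h0
  obtain ⟨g₀, hg₀, h0⟩ := h0
  have hJ₁ := h2 J hJ g₀ hg₀
  have hR1 : ∀ u ∈ U, R ≤ cj u (cj g₀ J) := fun u hu => by
    rw [← cj_mul]; exact coreBy_le (mul_mem (mem_sup_left hu) hg₀)
  obtain ⟨hK1, hP1, hB1⟩ := h1 _ hJ₁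
  replace hB1 := hB1.resolve_left h0
  have hR2 : ∀ X, (∀ u ∈ U, X ≤ cj u (cj g₀ J)) → X ≤ R := fun X h => le_coreBy.2 fun g hg => by
    obtain ⟨u, hu, a, ha, e⟩ := (mem_sup_of_le_normalizer' hBU).1 (mul_mem hg (inv_mem hg₀))
    have := h u hu
    rwa [← cj_eq_of_mem_normalizer (le_relC' hP1 hB1 ha).1, ← cj_mul, ← e, ← cj_mul,
      inv_mul_cancel_right] at this
  generalize cj g₀ J = J₁ at *
  have hRP : R ≤ P := (hR1 1 (one_mem _)).trans ((cj_one _).le.trans hP1)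
  have hTU := hT.trans inf_le_left
  have hTB := hT.trans inf_le_right
  have hBJ : B ≤ 𝐍(J₁) := fun x hx => (le_relC' hP1 hB1 hx).1
  set S := relCentralizer P J₁ with hS
  have hBS : B ≤ 𝐍(S) := le_normalizer_relCentralizer hBP hBJ
  have hcj : ∀ X u, u ∈ U → (∀ x ∈ X, u⁻¹ * x * u ∈ S) → ⁅P, X⁆ ≤ cj u J₁ := fun X u hu h => by
    rw [le_cj_iff, cj_commutator, cj_eq_of_mem_normalizer (hUP (inv_mem hu))]
    exact comm_le_of_le_relC (cj_le_iff'.2 fun x hx => by simpa using h x hx)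
  have hZUS : ⁅Z, U⁆ ≤ Z ⊓ S := le_inf (commutator_le_of_le_normalizer
    (le_normalizer_of_commutator_le hZU hUZ)) (le_relC' hP1 (hZ.trans hK1))
  have hUZS : U ≤ 𝐍((Z ⊓ S : Subgroup Y)) :=
    le_normalizer_of_comm_le ((commutator_mono inf_le_left le_rfl).trans hZUS)
  have hZR : ⁅P, Z ⊓ S⁆ ≤ R := hR2 _ fun u hu => hcj _ u hu fun x hx =>
    (inv_conj_mem_of_le_normalizer hUZS hu hx).2
  have hPR := hPP.trans hKR
  have hW : ⁅P, T⁆ ⊔ R ≤ P := sup_le (commutator_le_of_le_normalizer (hTU.trans hUP)) hRP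
  have hBW : B ≤ 𝐍((⁅P, T⁆ ⊔ R : Subgroup Y)) := le_normalizer_sup (le_normalizer_commutator hBP
    ((le_centralizer_iff.1 hTB).trans (centralizer_le_normalizer _))) hBR
  have hWC := fix_comm_le hp hPR hRP hBP hBR (hTU.trans hUP) hTB cP
  have main : ∀ D E, D ≤ U → B ≤ 𝐍(D) → ⁅D, T⁆ ≤ Z ⊓ S → E ≤ D → B ≤ 𝐍(E) → D ≤ 𝐍(E) →
      D ⊓ S ≤ D ⊓ 𝐂(B) ⊔ E → ⁅D, B⁆ ≤ E := by
    intro D E d1 d2 d3 d4 d5 d6 d7
    suffices H : D ≤ D ⊓ 𝐂(B) ⊔ E from (commutator_mono H le_rfl).trans (commutator_sup_le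
      (inf_le_left.trans d6) le_normalizer (comm_bot_of_le_centralizer inf_le_right)
      (commutator_le_of_le_normalizer d5))
    intro u hu
    by_contra hu1
    obtain ⟨w, hw, hw1⟩ := SetLike.not_le_iff_exists.1 h0
    have key : ∀ u ∈ D, u ∉ D ⊓ 𝐂(B) ⊔ E → ⁅P ⊓ 𝐂(B), T⁆ ≤ cj u J₁ := fun u hu hu1 => by
      refine (h1 _ (h2 _ hJ₁ u (mem_sup_left (d1 hu)))).2.2.resolve_right fun h => hu1 ?_
      obtain ⟨c, hc, s, hs, rfl⟩ := glaub hp d2 (coprime_of_le_right cU d1) (d1.trans hUP) hP1 hB1 hu h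
      exact mul_mem (mem_sup_left hc) (d7 hs)
    obtain ⟨x, hx, hx1, -⟩ := trick hp (hW.trans (le_normalizer_of_commutator_le hRP hPR))
      ((commutator_mono hW hW).trans hPR) hBW hBR (coprime_of_le_right cP hW)
      (le_normalizer_comm_sup (d1.trans hUP) (d1.trans hUR) hRP (hTU.trans hUP)
        ((commutator_mono le_rfl d3).trans hZR)) (d1.trans hUR) d2
      (le_normalizer_sup (le_normalizer_inf d2 (le_normalizer_centralizer le_normalizer)) d5)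
      (sup_le inf_le_left d4) (coprime_of_le_right cU d1) le_sup_left
      ((hR1 1 (one_mem _)).trans (cj_one _).le) hu hu1 key
      ⟨mem_sup_left (commutator_mono inf_le_left le_rfl hw), (commutator_le_of_le_normalizer
        (le_normalizer_inf (hTU.trans hUP) (le_normalizer_centralizer
          (hTB.trans (centralizer_le_normalizer _)))) hw).2⟩ hw hw1
    exact hx1 (sup_le (key u hu hu1) (hR1 u (d1 hu)) (hWC hx))
  have hBZS := le_normalizer_inf hBZ hBS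
  have b1 : ⁅Z, B⁆ ≤ Z ⊓ S := main Z _ hZU hBZ ((commutator_mono le_rfl hTU).trans hZUS)
    inf_le_left hBZS (hZU.trans hUZS) le_sup_right
  refine ⟨(commutator_mono le_rfl b1).trans hZR, ?_⟩
  have hNC := commutator_fix_le hUZS hBZS ((commutator_mono hUZ le_rfl).trans b1)
  have hNT := (commutator_mono le_rfl hT).trans hNC
  have hN : ⁅U, B⁆ ≤ U := commutator_le_of_le_normalizer hBU
  have hBN : B ≤ 𝐍((⁅U, B⁆ : Subgroup Y)) := le_normalizer_commutator hBU le_normalizer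
  have hNW := le_normalizer_comm_sup (hN.trans hUP) (hN.trans hUR) hRP (hTU.trans hUP)
    ((commutator_mono le_rfl hNT).trans hZR)
  have hBS' := le_normalizer_inf hBN hBS
  have hS'U : ⁅U, B⁆ ⊓ S ≤ U := inf_le_left.trans hN
  have hL := commutator_le_of_le_normalizer hBS'
  have hWL : ⁅⁅P, T⁆ ⊔ R, ⁅⁅U, B⁆ ⊓ S, B⁆⁆ ≤ R := by
    by_contra hne
    refine (wiel_section hp (inf_le_left.trans hNW) hBW hBS' le_sup_right
      ((commutator_mono hW hW).trans hPR) (hS'U.trans hUR) hBR ?_ (coprime_of_le_right cU hS'U)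
      (coprime_of_le_right (coprime_of_le_left cUP hS'U) hW) (coprime_of_le_right cP hW) hne).1
      (relIndex_eq_one.2 (hR2 _ fun u hu => ?_))
    · rw [commutator_comm]
      exact (commutator_mono hW (le_inf ((commutator_mono hS'U hS'U).trans hUZ)
        ((commutator_le_of_le_normalizer le_normalizer).trans inf_le_right))).trans hZR
    rcases (h1 _ (h2 _ hJ₁ u (mem_sup_left hu))).2.2 with h | h
    · exact ((inf_le_inf_right _ (commutator_le_of_le_normalizer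
        ((hL.trans inf_le_left).trans hNW))).trans hWC).trans (sup_le h (hR1 u hu))
    · obtain ⟨c, hc, s, hs, rfl⟩ := glaub hp hBU cU hUP hP1 hB1 hu h
      rw [cj_mul, cj_eq_of_mem_normalizer hs.2.1]
      refine inf_le_left.trans ((commutator_mono hW le_rfl).trans (hcj _ c hc.1 fun x hx => ?_))
      have := mul_mem (hL hx).2 (hNC (commutator_mem_commutator (inv_mem (hL hx).1) (inv_mem hc))).2
      simpa [commutatorElement_def, mul_assoc] using this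
  have b2 := main _ (⁅U, B⁆ ⊓ relCentralizer (⁅P, T⁆ ⊔ R) R) hN hBN hNT inf_le_left
    (le_normalizer_inf hBN (le_normalizer_relCentralizer hBW hBR))
    (le_normalizer_inf le_normalizer (le_normalizer_relCentralizer hNW (hN.trans hUR)))
    ((commutator_sup_centralizer hBS' (coprime_of_le_right cU hS'U) (Or.inl hsB)).ge.trans
      (sup_le (le_sup_of_le_right (le_inf (hL.trans inf_le_left) (le_relC' le_sup_right hWL)))
        (le_sup_of_le_left (inf_le_inf_right _ inf_le_left))))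
  rw [commutator_commutator_eq hBU cU] at b2
  refine three_subgroups_le (le_normalizer_of_commutator_le hRP hPR) (hN.trans hUR) (hTU.trans hUR)
    ?_ ?_
  · rw [commutator_comm]; exact (commutator_mono le_rfl hNT).trans hZR
  · rw [commutator_comm T]
    exact (commutator_mono le_sup_left le_rfl).trans (comm_le_of_le_relC (b2.trans inf_le_right))

theorem sup_step {p : ℕ} [Fact p.Prime] {P K U B T Q : Subgroup Y} (𝓙 : Set (Subgroup Y))
    (hp : (Nat.card B).Prime) (hKP : K ≤ P) (hPP : ⁅P, P⁆ ≤ K) (hUP : U ≤ 𝐍(P)) (hUK : U ≤ 𝐍(K))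
    (hBP : B ≤ 𝐍(P)) (hBK : B ≤ 𝐍(K)) (hBU : B ≤ 𝐍(U)) (hUB : U ≤ ⁅U, B⁆) (hPU : P ≤ ⁅P, U⁆)
    (hU : IsPGroup p U) (cP : (Nat.card B).Coprime (Nat.card P))
    (cU : (Nat.card B).Coprime (Nat.card U)) (hT : T ≤ P ⊓ 𝐂(B)) (hQB : Q ≤ 𝐂(B))
    (hQP : Q ≤ 𝐍(P)) (hQU : Q ≤ 𝐍(U)) (cQ : (Nat.card B).Coprime (Nat.card Q))
    (h1 : ∀ J ∈ 𝓙, K ≤ J ∧ J ≤ P ∧ (T ≤ J ∨ ⁅P, B⁆ ≤ J))
    (h2 : ∀ J ∈ 𝓙, ∀ g ∈ U ⊔ Q, cj g J ∈ 𝓙)
    (h : P ⊓ 𝐂(B) ≤ T ∨ (U ≤ ⁅U, Q⁆ ∧ ⁅P ⊓ 𝐂(B), Q⁆ ≤ T)) {J : Subgroup Y} (hJ : J ∈ 𝓙) :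
    T ≤ J := by
  by_contra h0
  obtain ⟨w, hw, hw1⟩ := SetLike.not_le_iff_exists.1 h0
  obtain ⟨hK1, hP1, hB1⟩ := h1 _ hJ
  replace hB1 := hB1.resolve_left h0
  have hUU : ⁅U, U⁆ ≤ U := commutator_le_of_le_normalizer le_normalizer
  have hC := inf_centralizer_le_commutator hBU cU hUB
  have gl : ∀ J ≤ P, ⁅P, B⁆ ≤ J → ∀ u ∈ U, ⁅P, B⁆ ≤ cj u J →
      u ∈ ⁅U, U⁆ ⊔ U ⊓ relCentralizer P J := fun J a1 a2 u hu a3 => by
    obtain ⟨c, hc, s, hs, rfl⟩ := glaub hp hBU cU hUP a1 a2 hu a3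
    exact mul_mem (mem_sup_left (hC hc)) (mem_sup_right hs)
  set D := ⁅U, U⁆ ⊔ U ⊓ relCentralizer P J with hD
  have hDU : D ≤ U := sup_le hUU inf_le_left
  have hne : ¬ U ≤ D := fun e => hw1 (hPU.trans (comm_le_of_le_relC
    ((le_of_le_comm_sup hU inf_le_left e).trans inf_le_right)) (hT hw).1)
  have hBD : B ≤ 𝐍(D) := le_normalizer_sup (le_normalizer_commutator hBU hBU) (le_normalizer_inf hBU
    (le_normalizer_relCentralizer hBP fun x hx => (le_relC' hP1 hB1 hx).1))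
  have hUD : U ≤ 𝐍(D) := le_normalizer_of_commutator_le hDU le_sup_left
  have key : ∀ u ∈ U, u ∉ D → T ≤ cj u J := fun u hu hu1 =>
    (h1 _ (h2 _ hJ u (mem_sup_left hu))).2.2.resolve_right fun h => hu1 (gl J hP1 hB1 u hu h)
  have tr := fun u hu hu1 => trick (u := u) hp (le_normalizer_of_commutator_le hKP hPP) hPP hBP hBK
    cP hUP hUK hBU hBD hDU cU (hC.trans le_sup_left) hK1 hu hu1 key (hT hw) hw hw1
  rcases h with h | ⟨hUQ, h⟩
  · obtain ⟨u, hu, hu1⟩ := SetLike.not_le_iff_exists.1 hne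
    obtain ⟨x, hx, hx1, -⟩ := tr u hu hu1
    exact hx1 (key u hu hu1 (h hx))
  have step : ∀ u ∈ U, u ∉ D → ∀ t ∈ Q, ∃ a ∈ B, (t * a * u * (t * a)⁻¹)⁻¹ * u ∈ D := by
    intro u hu hu1 t ht
    obtain ⟨x, hx, hx1, hx2⟩ := tr u hu hu1
    have j1 := h2 _ (h2 _ hJ u (mem_sup_left hu)) t⁻¹ (mem_sup_right (inv_mem ht))
    by_contra hc
    push Not at hc
    refine hx1 ?_
    have e1 := mem_cj.1 (hx2 _ (h1 _ j1).1 fun a ha => ?_)
    · have e2 := key u hu hu1 (h (commutator_mem_commutator (inv_mem hx) ht))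
      have := mul_mem e1 (inv_mem e2)
      simpa [commutatorElement_def, mul_assoc] using this
    have hu' : (a * u * a⁻¹)⁻¹ * (t⁻¹ * u * t) ∈ U := mul_mem
      (inv_mem (conj_mem_of_le_normalizer hBU ha hu)) (inv_conj_mem_of_le_normalizer hQU ht hu)
    have j2 := h2 _ hJ t⁻¹ (mem_sup_right (inv_mem ht))
    rcases (h1 _ (h2 _ j2 _ (mem_sup_left hu'))).2.2 with e | e
    · have := mem_cj.1 (mem_cj.1 (e hw))
      rw [mem_cj, mem_cj]
      convert this using 1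
      have h4 : w = a⁻¹ * w * a := by rw [mul_assoc, ← (hT hw).2 a ha]; simp
      conv_lhs => rw [h4]
      group
    · exfalso
      have hPt : cj t P = P := cj_eq_of_mem_normalizer (hQP ht)
      have hUt : cj t U = U := cj_eq_of_mem_normalizer (hQU ht)
      have e1 := gl _ (h1 _ j2).2.1 (by
        rw [le_cj_iff, inv_inv, cj_commutator, hPt,
          cj_eq_of_mem_normalizer (centralizer_le_normalizer _ (hQB ht))]; exact hB1) _ hu' e
      have e2 : cj t (⁅U, U⁆ ⊔ U ⊓ relCentralizer P (cj t⁻¹ J)) ≤ D := by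
        rw [cj_sup, cj_inf, cj_commutator, hUt]
        refine sup_le_sup_left (inf_le_inf_left _ ((cj_relC _ _ _).trans ?_)) _
        rw [hPt, cj_cj_inv]
      refine hc a ha ?_
      convert e2 (conj_mem_cj.2 e1) using 1
      group
  have hQD : Q ≤ 𝐍(D) := le_normalizer_of_forall_cj_le fun t ht => cj_le_iff'.2 fun u hu => by
    by_contra hu1
    have hu' := conj_mem_of_le_normalizer hQU ht (hDU hu)
    obtain ⟨a, ha, e⟩ := step _ hu' hu1 t⁻¹ (inv_mem ht)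
    refine hu1 ((mul_mem_cancel_left (inv_mem (conj_mem_of_le_normalizer hBD ha hu))).1 ?_)
    convert e using 2
    have h4 : t⁻¹ * a = a * t⁻¹ := (inv_mem (hQB ht) a ha).symm
    rw [h4]; group
  refine hne (hUQ.trans (Subgroup.commutator_le.2 fun u hu t ht => ?_))
  by_cases hu1 : u ∈ D
  · exact commutator_le_of_le_normalizer hQD (commutator_mem_commutator hu1 ht)
  obtain ⟨a, ha, e⟩ := step u hu hu1 t ht
  have e1 : ⁅u⁻¹, t * a⁆ ∈ D := by simpa [commutatorElement_def, mul_assoc] using inv_mem e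
  have e2 := commutator_pow_mem (mul_mem (hQD ht) (hBD ha)) e1 (orderOf t)
  rw [(Commute.symm (hQB ht a ha)).mul_pow, pow_orderOf_eq_one, one_mul] at e2
  obtain rfl : a = 1 := by
    by_contra h3
    refine hu1 (fpf_prime hp hBD hDU cU (hC.trans le_sup_left) hu (pow_mem ha _) (fun e3 => h3 ?_) e2)
    exact mem_bot.1 (mem_of_pow_mem_of_coprime (mem_bot.2 e3) ((cQ.coprime_dvd_right
      (H1.orderOf_dvd_card_of_mem ht)).symm.coprime_dvd_right (H1.orderOf_dvd_card_of_mem ha)))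
  have := conj_mem_of_le_normalizer hUD hu (inv_mem e1)
  simpa [commutatorElement_def, mul_assoc] using this

end H83
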