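import Mathlib
import Cfsg.Agent.Base
import Cfsg.Agent.Lib.FGS83.TurD
import Cfsg.Agent.Lib.FGS83.TurE

/-!
# Elementary abelian sections as modules (helper83)
-/

set_option autoImplicit false

namespace H83

open Subgroup H2 H68 Module
open scoped commutatorElement

variable {Y : Type*} [Group Y]

local notation "𝐍(" H ")" => Subgroup.normalizer (SetLike.coe H)
local notation "𝐂(" H ")" => Subgroup.centralizer (SetLike.coe H)

/-- The conjugation action on functions. -/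
def conjRep (k : Type*) [Field k] (Y : Type*) [Group Y] : Representation k Y (Y → k) where
  toFun y := LinearMap.funLeft k k fun x => y⁻¹ * x * y
  map_one' := by ext; simp
  map_mul' a b := by ext f x; simp [LinearMap.funLeft, mul_assoc]

variable {k : Type*} [Field k]

theorem conjRep_apply (y : Y) (f : Y → k) (x : Y) : conjRep k Y y f x = f (y⁻¹ * x * y) := rfl

/-- Homomorphisms `P → k⁺` vanishing on `R`. -/
def ann (k : Type*) [Field k] (P R : Subgroup Y) : Submodule k (Y → k) where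
  carrier := {f | (∀ x ∈ P, ∀ y ∈ P, f (x * y) = f x + f y) ∧ (∀ x ∈ R, f x = 0) ∧
    ∀ x, x ∉ P → f x = 0}
  zero_mem' := ⟨by simp, by simp, by simp⟩
  add_mem' := fun {f g} hf hg => ⟨fun x hx y hy => by
      simp only [Pi.add_apply, hf.1 x hx y hy, hg.1 x hx y hy]; ring,
    fun x hx => by simp [hf.2.1 x hx, hg.2.1 x hx], fun x hx => by simp [hf.2.2 x hx, hg.2.2 x hx]⟩
  smul_mem' := fun c f hf => ⟨fun x hx y hy => by simp [hf.1 x hx y hy, mul_add],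
    fun x hx => by simp [hf.2.1 x hx], fun x hx => by simp [hf.2.2 x hx]⟩

variable {P R R' : Subgroup Y}

theorem ann_anti (h : R ≤ R') : ann k P R' ≤ ann k P R :=
  fun _ hf => ⟨hf.1, fun x hx => hf.2.1 x (h hx), hf.2.2⟩

theorem ann_stab {D : Subgroup Y} (hP : D ≤ 𝐍(P)) (hR : D ≤ 𝐍(R)) :
    D ≤ stabS (conjRep k Y) (ann k P R) :=
  le_stabS fun y hy f hf => ⟨fun a ha b hb => by
      simp only [conjRep_apply]
      rw [← hf.1 _ (inv_conj_mem_of_le_normalizer hP hy ha) _ (inv_conj_mem_of_le_normalizer hP hy hb)]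
      simp [mul_assoc],
    fun x hx => hf.2.1 _ (inv_conj_mem_of_le_normalizer hR hy hx),
    fun x hx => hf.2.2 _ fun h => hx (by simpa [mul_assoc] using conj_mem_of_le_normalizer hP hy h)⟩

theorem comm_inv_mem {y x : Y} (hy : y ∈ 𝐍(P)) (hx : x ∈ P) : ⁅x⁻¹, y⁻¹⁆ ∈ P := by
  simpa [commutatorElement_def, mul_assoc] using
    mul_mem (inv_mem hx) (conj_mem_of_mem_normalizer' hy hx)

theorem ann_sub {f : Y → k} (hf : f ∈ ann k P R) {y x : Y} (hy : y ∈ 𝐍(P)) (hx : x ∈ P) :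
    (conjRep k Y y f - f) x = f ⁅x⁻¹, y⁻¹⁆ := by
  rw [Pi.sub_apply, conjRep_apply, sub_eq_iff_eq_add', ← hf.1 _ hx _ (comm_inv_mem hy hx)]
  simp [commutatorElement_def, mul_assoc]

theorem ann_fix_iff {f : Y → k} (hf : f ∈ ann k P R) {y : Y} (hy : y ∈ 𝐍(P)) :
    conjRep k Y y f = f ↔ ∀ x ∈ P, f ⁅x⁻¹, y⁻¹⁆ = 0 := by
  refine ⟨fun h x hx => by rw [← ann_sub hf hy hx, h, sub_self]; rfl, fun h => funext fun x => ?_⟩
  by_cases hx : x ∈ P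
  · rw [← sub_eq_zero, ← Pi.sub_apply, ann_sub hf hy hx, h x hx]
  · rw [conjRep_apply, hf.2.2 x hx, hf.2.2 _ fun h => hx
      (by simpa [mul_assoc] using conj_mem_of_mem_normalizer hy h)]

theorem le_kerOn_ann {X : Subgroup Y} (hX : X ≤ 𝐍(P)) (h : ⁅P, X⁆ ≤ R) :
    X ≤ kerOn (conjRep k Y) (ann k P R) := fun _ hy _ hf => (ann_fix_iff hf (hX hy)).2 fun _ hx =>
  hf.2.1 _ (h (commutator_mem_commutator (inv_mem hx) (inv_mem hy)))

/-- The kernel of a function in `ann`. -/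
def annKer {f : Y → k} (hf : f ∈ ann k P R) : Subgroup Y where
  carrier := {x | x ∈ P ∧ f x = 0}
  one_mem' := ⟨one_mem _, hf.2.1 _ (one_mem _)⟩
  mul_mem' := fun ha hb => ⟨mul_mem ha.1 hb.1, by rw [hf.1 _ ha.1 _ hb.1, ha.2, hb.2, add_zero]⟩
  inv_mem' := fun {a} ha => ⟨inv_mem ha.1, by
    have := hf.1 _ ha.1 _ (inv_mem ha.1)
    rwa [mul_inv_cancel, hf.2.1 _ (one_mem _), ha.2, zero_add, eq_comm] at this⟩

theorem mem_ann_of_fix {f : Y → k} (hf : f ∈ ann k P R) {B : Subgroup Y} (hB : B ≤ 𝐍(P))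
    (h : ∀ b ∈ B, conjRep k Y b f = f) : f ∈ ann k P ⁅P, B⁆ := by
  have : ⁅P, B⁆ ≤ annKer hf := Subgroup.commutator_le.2 fun x hx b hb =>
    ⟨commutator_le_of_le_normalizer hB (commutator_mem_commutator hx hb), by
      simpa using (ann_fix_iff hf (hB (inv_mem hb))).1 (h _ (inv_mem hb)) _ (inv_mem hx)⟩
  exact ⟨hf.1, fun x hx => (this hx).2, hf.2.2⟩

theorem ann_alpha [Finite Y] {B T : Subgroup Y} (hp : (Nat.card B).Prime) (hB : B ≤ 𝐍(P))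
    (cop : (Nat.card B).Coprime (Nat.card P)) (hT : T ≤ 𝐍(P)) (hTB : T ≤ 𝐂(B))
    (h : ⁅P ⊓ 𝐂(B), T⁆ ≤ R) : ∀ f ∈ ann k P R, (∀ b ∈ B, conjRep k Y b f = f) →
      ∀ t ∈ T, conjRep k Y t f = f := by
  intro f hf h1 t ht
  have h2 := mem_ann_of_fix hf hB h1
  have hg := sub_mem (apply_mem_of_stabS (ann_stab hT (le_normalizer_commutator hT
    (hTB.trans (centralizer_le_normalizer _))) ht) h2) h2
  have h3 : P ≤ annKer hg := (commutator_sup_centralizer hB cop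
    (Or.inl (H47.isSolvable_of_card_prime hp))).ge.trans (sup_le
    (fun x hx => ⟨commutator_le_of_le_normalizer hB hx, hg.2.1 x hx⟩) fun x hx => ⟨hx.1, by
      rw [ann_sub hf (hT ht) hx.1]
      exact hf.2.1 _ (h (commutator_mem_commutator (inv_mem (mem_inf.2 hx)) (inv_mem ht)))⟩)
  exact (ann_fix_iff hf (hT ht)).2 fun x hx => (ann_sub hf (hT ht) hx).symm.trans (h3 hx).2

theorem ann_noFix [Finite Y] {B : Subgroup Y} (hp : (Nat.card B).Prime) (hB : B ≤ 𝐍(P))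
    (cop : (Nat.card B).Coprime (Nat.card P)) (h : P ⊓ 𝐂(B) ≤ R) :
    NoFix (conjRep k Y) B (ann k P R) := by
  intro f hf h1
  have h3 : P ≤ annKer hf := (commutator_sup_centralizer hB cop
    (Or.inl (H47.isSolvable_of_card_prime hp))).ge.trans (sup_le
    (fun x hx => ⟨commutator_le_of_le_normalizer hB hx, (mem_ann_of_fix hf hB h1).2.1 x hx⟩)
    fun x hx => ⟨hx.1, hf.2.1 _ (h hx)⟩)
  exact funext fun x => (em (x ∈ P)).elim (fun hx => (h3 hx).2) (hf.2.2 x)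

theorem ann_beta {N T : Subgroup Y} (hN : N ≤ 𝐍(P)) (hT : T ≤ 𝐍(P)) (hTR : T ≤ 𝐍(R))
    (h : ⁅⁅P, N⁆, T⁆ ≤ R) : ∀ f ∈ ann k P R, ∀ t ∈ T, ∀ n ∈ N,
      conjRep k Y n (conjRep k Y t f - f) = conjRep k Y t f - f := by
  intro f hf t ht n hn
  refine (ann_fix_iff (sub_mem (apply_mem_of_stabS (ann_stab hT hTR ht) hf) hf) (hN hn)).2
    fun x hx => ?_
  rw [ann_sub hf (hT ht) (comm_inv_mem (hN hn) hx)]
  exact hf.2.1 _ (h (commutator_mem_commutator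
    (inv_mem (commutator_mem_commutator (inv_mem hx) (inv_mem hn))) (inv_mem ht)))

/-- `P / R` is an elementary abelian `p`-group. -/
structure El (p : ℕ) (P R : Subgroup Y) : Prop where
  le : R ≤ P
  comm : ⁅P, P⁆ ≤ R
  pw : ∀ x ∈ P, x ^ p ∈ R

variable {p : ℕ}

theorem El.mono (h : El p P R) (h1 : R ≤ R') (h2 : R' ≤ P) : El p P R' :=
  ⟨h2, h.comm.trans h1, fun x hx => h1 (h.pw x hx)⟩

theorem El.quot (h : El p P R) [(R.subgroupOf P).Normal] :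
    IsMulCommutative (P ⧸ R.subgroupOf P) ∧ ∀ x : P ⧸ R.subgroupOf P, x ^ p = 1 :=
  ⟨isMulCommutative_section h.comm, fun x => by
    obtain ⟨x, rfl⟩ := QuotientGroup.mk_surjective x
    exact (QuotientGroup.eq_one_iff (x ^ p)).2 (h.pw x x.2)⟩

open Classical in
theorem extend_mem_ann (g : P → k) (h1 : ∀ x y, g (x * y) = g x + g y)
    (h2 : ∀ x : P, (x : Y) ∈ R → g x = 0) :
    (fun y => if h : y ∈ P then g ⟨y, h⟩ else 0) ∈ ann k P R :=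
  ⟨fun x hx y hy => by simp only [hx, hy, mul_mem hx hy, dif_pos]; exact h1 ⟨x, hx⟩ ⟨y, hy⟩,
    fun x hx => by
      dsimp only
      split_ifs with h
      exacts [h2 ⟨x, h⟩ hx, rfl], fun x hx => dif_neg hx⟩

theorem El.sep [Fact p.Prime] [CharP k p] (h : El p P R) {x : Y} (hx : x ∈ P) (h0 : x ∉ R) :
    ∃ f ∈ ann k P R, f x ≠ 0 := by
  haveI := normal_subgroupOf_of_commutator_le h.comm
  obtain ⟨f, hf, -⟩ := H46.exists_dual_ne_zero (k := k) h.quot ⊥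
    (m := ((⟨x, hx⟩ : P) : P ⧸ R.subgroupOf P))
    fun e => h0 ((QuotientGroup.eq_one_iff (⟨x, hx⟩ : P)).1 e)
  refine ⟨_, extend_mem_ann (fun y => f (Additive.ofMul (y : P ⧸ R.subgroupOf P)))
    (fun a b => by rw [← map_add]; rfl) fun y hy => ?_, by simpa [hx] using hf⟩
  rw [(QuotientGroup.eq_one_iff y).2 hy]; exact map_zero f

theorem El.comm_le [Fact p.Prime] [CharP k p] (h : El p P R) {X : Subgroup Y} (hX : X ≤ 𝐍(P))
    (h1 : X ≤ kerOn (conjRep k Y) (ann k P R)) : ⁅P, X⁆ ≤ R :=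
  Subgroup.commutator_le.2 fun x hx y hy => by
    by_contra h0
    obtain ⟨f, hf, h2⟩ := h.sep (k := k)
      (commutator_le_of_le_normalizer hX (commutator_mem_commutator hx hy)) h0
    exact h2 (by
      simpa using (ann_fix_iff hf (hX (inv_mem hy))).1 (h1 (inv_mem hy) f hf) _ (inv_mem hx))

theorem exists_proj_of_disjoint [Fact p.Prime] {M : Type*} [Group M]
    (h : IsMulCommutative M ∧ ∀ x : M, x ^ p = 1) {A B : Subgroup M} (hd : Disjoint B A) :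
    ∃ π : M → M, (∀ x y, π (x * y) = π x * π y) ∧ (∀ a ∈ A, π a = a) ∧ ∀ b ∈ B, π b = 1 := by
  obtain ⟨C, hC, hc⟩ := (hd.map_orderIso (H46.EA.subgroupEquiv h)).exists_isCompl
  refine ⟨fun m => (H46.EA.of h).symm (Submodule.projection _ _ hc.symm (H46.EA.of h m)),
    fun x y => ?_, fun a ha => ?_, fun b hb => ?_⟩
  · dsimp only
    rw [H46.EA.of_mul, map_add]; rfl
  · dsimp only
    rw [Submodule.projection_apply_of_mem_left hc.symm (x := H46.EA.of h a) ha]; rfl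
  · dsimp only
    rw [Submodule.projection_apply_of_mem_right hc.symm (x := H46.EA.of h b) (hC hb)]; rfl

theorem ann_inf_le [Fact p.Prime] {R₁ R₂ : Subgroup Y} (h : El p P (R₁ ⊓ R₂)) :
    ann k P (R₁ ⊓ R₂) ≤ ann k P R₁ ⊔ ann k P R₂ := by
  haveI := normal_subgroupOf_of_commutator_le h.comm
  intro f hf
  let q := QuotientGroup.mk' ((R₁ ⊓ R₂).subgroupOf P)
  obtain ⟨π, p1, p2, p3⟩ := exists_proj_of_disjoint h.quot (A := (R₁.subgroupOf P).map q)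
    (B := (R₂.subgroupOf P).map q) (by
      rw [Subgroup.disjoint_def]
      rintro _ ⟨x, hx, rfl⟩ ⟨y, hy, e⟩
      have := QuotientGroup.eq.1 e
      exact (QuotientGroup.eq_one_iff x).2 ⟨(mul_mem_cancel_left (inv_mem hy)).1 this.1, hx⟩)
  let g : P ⧸ (R₁ ⊓ R₂).subgroupOf P →* Multiplicative k := QuotientGroup.lift _
    (MonoidHom.mk' (fun x : P => Multiplicative.ofAdd (f x)) fun a b =>
      congrArg Multiplicative.ofAdd (hf.1 _ a.2 _ b.2)) fun x hx =>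
    congrArg Multiplicative.ofAdd (hf.2.1 _ hx)
  have h2 := extend_mem_ann (R := R₂) (fun y => (g (π (q y))).toAdd)
    (fun a b => by rw [map_mul, p1, map_mul]; rfl) fun y hy => by
      rw [p3 _ ⟨y, hy, rfl⟩, map_one]; rfl
  have h3 := sub_mem hf (ann_anti inf_le_right h2)
  refine Submodule.mem_sup.2 ⟨_, ⟨h3.1, fun x hx => ?_, h3.2.2⟩, _, h2, sub_add_cancel _ _⟩
  by_cases hP : x ∈ P
  · simp only [Pi.sub_apply, hP, dif_pos]
    rw [p2 _ ⟨⟨x, hP⟩, hx, rfl⟩]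
    exact sub_self _
  · exact h3.2.2 x hP

variable [Finite Y]

/-- The kernels of the weights of `Z` on `P / Φ`. -/
def Wts (k : Type*) [Field k] (P Φ Z : Subgroup Y) : Set (Subgroup Y) :=
  {J | ∃ W, IsWsp (conjRep k Y) Z W ∧ ann k P Φ ⊓ W ≠ ⊥ ∧ J = Z ⊓ kerOn (conjRep k Y) W}

/-- The invariant carried from level to level. -/
def GG (P Φ U Z T B : Subgroup Y) : Prop := ∀ x ∈ P, x ∉ Φ → ∃ R, Φ ≤ R ∧ R ≤ P ∧ U ≤ 𝐍(R) ∧
  B ≤ 𝐍(R) ∧ x ∉ R ∧ (⁅P ⊓ 𝐂(B), T⁆ ≤ R ∨ (⁅P, ⁅Z, B⁆⁆ ≤ R ∧ ⁅⁅P, ⁅U, B⁆⁆, T⁆ ≤ R))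

/-- A family of weight kernels. -/
structure Fam (U K T B H : Subgroup Y) (𝓙 : Set (Subgroup Y)) : Prop where
  ge : ∀ J ∈ 𝓙, K ≤ J
  le : ∀ J ∈ 𝓙, J ≤ rad U K
  form : ∀ J ∈ 𝓙, ∃ (k : Type) (_ : Field k) (μ : Y → k), Form (rad U K) J μ
  cj : ∀ J ∈ 𝓙, ∀ g ∈ H, cj g J ∈ 𝓙
  sep : ∀ z ∈ rad U K, z ∉ K → ∃ J ∈ 𝓙, z ∉ J
  pr : ∀ J ∈ 𝓙, Pr U (rad U K) T B J

/-- One level of a minimal tower. -/
structure Lev (p : ℕ) (P K A : Subgroup Y) : Prop where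
  pg : IsPGroup p P
  KP : K ≤ P
  PK : P ≤ 𝐍(K)
  AP : A ≤ 𝐍(P)
  AK : A ≤ 𝐍(K)
  comm : P ≤ ⁅P, A⁆
  cl2 : ⁅⁅P, P⁆, P⁆ ≤ K
  cA : ⁅⁅P, P⁆, A⁆ ≤ K
  pw : ∀ x ∈ P, x ^ p ∈ ⁅P, P⁆ ⊔ K
  cen : ⁅P, P⁆ ≤ K ∨ rad P K ≤ ⁅P, P⁆ ⊔ K
  cop : ¬ p ∣ Nat.card A

variable {K U A B T H Q X : Subgroup Y}

namespace Lev

omit [Finite Y] in
theorem el (h : Lev p P K A) : El p P (⁅P, P⁆ ⊔ K) :=
  ⟨sup_le (commutator_le_of_le_normalizer le_normalizer) h.KP, le_sup_left, h.pw⟩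

omit [Finite Y] in
theorem phi_comm (h : Lev p P K A) : ⁅⁅P, P⁆ ⊔ K, A⁆ ≤ K :=
  commutator_sup_le ((commutator_le_of_le_normalizer le_normalizer).trans h.PK) le_normalizer
    h.cA (commutator_le_of_le_normalizer h.AK)

theorem cop' [Fact p.Prime] (h : Lev p P K A) : (Nat.card A).Coprime (Nat.card P) :=
  H47.coprime_of_not_dvd_of_isPGroup h.pg h.cop

theorem comm_le [Fact p.Prime] (h : Lev p P K A) (hX : X ≤ A) (h1 : ⁅P, X⁆ ≤ ⁅P, P⁆ ⊔ K) :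
    ⁅P, X⁆ ≤ K := by
  rw [← commutator_commutator_eq (hX.trans h.AP) (coprime_of_le_left h.cop' hX)]
  exact (commutator_mono h1 hX).trans h.phi_comm

theorem ker_ann [Fact p.Prime] [CharP k p] (h : Lev p P K A) (hX : X ≤ A) :
    X ≤ kerOn (conjRep k Y) (ann k P (⁅P, P⁆ ⊔ K)) ↔ X ≤ A ⊓ relCentralizer P K :=
  ⟨fun h1 => le_inf hX (le_relC (hX.trans h.AK) (h.comm_le hX (h.el.comm_le (hX.trans h.AP) h1))),
    fun h1 => le_kerOn_ann (hX.trans h.AP)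
      ((comm_le_of_le_relC (h1.trans inf_le_right)).trans le_sup_right)⟩

end Lev

omit [Finite Y] in
theorem stab_phi {D : Subgroup Y} (h1 : D ≤ 𝐍(P)) (h2 : D ≤ 𝐍(K)) :
    D ≤ 𝐍((⁅P, P⁆ ⊔ K : Subgroup Y)) := le_normalizer_sup (le_normalizer_commutator h1 h1) h2

theorem exists_fam [hp' : Fact p.Prime] (h : Lev p P K U)
    (hU : ⁅⁅U, U⁆, U⁆ ≤ U ⊓ relCentralizer P K) (hp : (Nat.card B).Prime) (hBP : B ≤ 𝐍(P))
    (hBK : B ≤ 𝐍(K)) (hBU : B ≤ 𝐍(U)) (hpB : ¬ p ∣ Nat.card B)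
    (cU : (Nat.card B).Coprime (Nat.card U)) (hT : T ≤ U ⊓ 𝐂(B)) (hHP : H ≤ 𝐍(P)) (hHK : H ≤ 𝐍(K))
    (hHU : H ≤ 𝐍(U)) (hG : GG P (⁅P, P⁆ ⊔ K) U (rad U (U ⊓ relCentralizer P K)) T B) :
    ∃ 𝓙, Fam U (U ⊓ relCentralizer P K) T B H 𝓙 := by
  let k := AlgebraicClosure (ZMod p)
  set K' := U ⊓ relCentralizer P K with hK'
  set Z := rad U K' with hZ
  have nK : ∀ D, D ≤ 𝐍(P) → D ≤ 𝐍(K) → D ≤ 𝐍(U) → D ≤ 𝐍(K') := fun D a b c =>
    le_normalizer_inf c (le_normalizer_relCentralizer a b)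
  have hUK' := nK U h.AP h.AK le_normalizer
  have hKZ : K' ≤ Z := le_rad hUK' inf_le_left (commutator_le_of_le_normalizer hUK')
  have hkU : (Nat.card U : k) ≠ 0 := H46.natCast_algClosure_ne_zero h.cop
  have hZK : ⁅Z, U⁆ ≤ K' := rad_comm_le
  have hker : K' ≤ kerOn (conjRep k Y) (ann k P (⁅P, P⁆ ⊔ K)) := (h.ker_ann inf_le_left).2 le_rfl
  have cP := H47.coprime_of_not_dvd_of_isPGroup h.pg hpB
  refine ⟨Wts k P (⁅P, P⁆ ⊔ K) Z, ?_, ?_, ?_, ?_, fun z hz h0 => ?_, ?_⟩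
  · rintro _ ⟨W, hW, h0, rfl⟩ x hx
    exact ⟨hKZ hx, (hW.scal.mem_kerOn_iff inf_le_right h0 (hKZ hx)).1
      (kerOn_anti inf_le_left (hker hx))⟩
  · rintro _ ⟨W, -, -, rfl⟩; exact inf_le_left
  · rintro _ ⟨W, hW, -, rfl⟩; exact ⟨k, inferInstance, hW.form⟩
  · rintro _ ⟨W, hW, h0, rfl⟩ g hg
    have hgZ : g ∈ 𝐍(Z) := le_normalizer_rad hHU (nK H hHP hHK hHU) hg
    refine ⟨_, hW.translate hgZ, ?_, by rw [cj_inf, kerOn_tr, cj_eq_of_mem_normalizer hgZ]⟩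
    have := tr_ne_bot (σ := conjRep k Y) g h0
    rwa [tr_inf, mem_stabS.1 (ann_stab hHP (stab_phi hHP hHK) hg)] at this
  · obtain ⟨W, hW, h1, h2⟩ := exists_wsp_rel (σ := conjRep k Y)
      (natCast_card_ne_zero_of_le rad_le hkU)
      (ann_stab (rad_le.trans h.AP) (rad_le.trans (stab_phi h.AP h.AK)))
      (((commutator_mono le_rfl rad_le).trans hZK).trans hker) hz fun e => h0
      ((h.ker_ann ((zpowers_le).2 (rad_le hz))).1 ((zpowers_le).2 e) (mem_zpowers z))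
    exact ⟨_, ⟨W, hW, h1, rfl⟩, fun e => h2 e.2⟩
  rintro _ ⟨W, hW, h0, rfl⟩
  by_contra hPr
  obtain ⟨R₀, ⟨r1, r2, r3, r4⟩, hmin⟩ := (wellFounded_lt (α := Subgroup Y)).has_min
    {R | ⁅P, P⁆ ⊔ K ≤ R ∧ R ≤ P ∧ U ≤ 𝐍(R) ∧ ann k P R ⊓ W = ⊥} ⟨P, h.el.le, le_rfl, h.AP,
      eq_bot_iff.2 fun f hf => funext fun x => (em (x ∈ P)).elim (hf.1.2.1 x) (hf.1.2.2 x)⟩
  refine h0 (eq_bot_iff.2 ((inf_le_inf_right _ (ann_anti fun x hx => ?_)).trans r4.le))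
  by_contra hx0
  obtain ⟨R, s1, s2, s3, s4, s5, s6⟩ := hG x (r2 hx) hx0
  refine hmin (R₀ ⊓ R) ⟨le_inf r1 s1, inf_le_left.trans r2, le_normalizer_inf r3 s3, ?_⟩
    (lt_of_le_of_ne inf_le_left fun e => s5 (e.ge hx).2)
  by_contra h1
  refine (hW.inf_ne_bot_or (natCast_card_ne_zero_of_le rad_le hkU)
    (ann_stab (rad_le.trans h.AP) (rad_le.trans r3)) (ann_stab (rad_le.trans h.AP) (rad_le.trans s3))
    fun e => h1 (eq_bot_iff.2 ((inf_le_inf_right _ (ann_inf_le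
      (h.el.mono (le_inf r1 s1) (inf_le_left.trans r2)))).trans e.le))).elim (fun e => e r4)
    fun h2 => hPr (ana hW h2 (ann_stab h.AP s3) (ann_stab hBP s4) hBU
      (le_normalizer_rad hBU (nK B hBP hBK hBU)) hT rad_le (comm_le_rad hUK' hU)
      (hZK.trans (hker.trans (kerOn_anti (ann_anti s1)))) hp hkU
      (H46.natCast_algClosure_ne_zero hpB) cU (s6.imp (ann_alpha hp hBP cP
        ((hT.trans inf_le_left).trans h.AP) (hT.trans inf_le_right)) fun s => ⟨le_kerOn_ann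
        (((commutator_le_of_le_normalizer (le_normalizer_rad hBU (nK B hBP hBK hBU))).trans
          rad_le).trans h.AP) s.1, ann_beta ((commutator_le_of_le_normalizer hBU).trans h.AP)
        ((hT.trans inf_le_left).trans h.AP) ((hT.trans inf_le_left).trans s3) s.2⟩))

section key

variable [hp' : Fact p.Prime] (h : Lev p P K U) (hp : (Nat.card B).Prime) (hBP : B ≤ 𝐍(P))
  (hBK : B ≤ 𝐍(K)) (hBU : B ≤ 𝐍(U)) (hpB : ¬ p ∣ Nat.card B)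
include h hp hBP hBK hBU hpB

theorem key0_grp (hU : ⁅U, U⁆ ≤ U ⊓ relCentralizer P K) (hC : P ⊓ 𝐂(B) ≤ ⁅P, P⁆ ⊔ K) :
    ⁅U, B⁆ ≤ U ⊓ relCentralizer P K :=
  (h.ker_ann (k := AlgebraicClosure (ZMod p)) (commutator_le_of_le_normalizer hBU)).1
    (commutator_le_kerOn_of_comm (ann_stab h.AP (stab_phi h.AP h.AK))
      (ann_stab hBP (stab_phi hBP hBK)) hBU hp (H46.natCast_algClosure_ne_zero h.cop)
      ((h.ker_ann (commutator_le_of_le_normalizer le_normalizer)).2 hU)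
      (ann_noFix hp hBP (H47.coprime_of_not_dvd_of_isPGroup h.pg hpB) hC))

theorem key1_grp (hQP : Q ≤ 𝐍(P)) (hQK : Q ≤ 𝐍(K)) (hQU : Q ≤ 𝐍(U)) (hQB : Q ≤ 𝐂(B))
    (hUQ : U ≤ ⁅U, Q⁆) (cop : (Nat.card B).Coprime (Nat.card Q))
    (hC : ⁅P ⊓ 𝐂(B), Q⁆ ≤ ⁅P, P⁆ ⊔ K) :
    ⁅rad U (U ⊓ relCentralizer P K), B⁆ ≤ U ⊓ relCentralizer P K := by
  have hBZ := le_normalizer_rad hBU (le_normalizer_inf hBU (le_normalizer_relCentralizer hBP hBK))
  exact (h.ker_ann (k := AlgebraicClosure (ZMod p))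
    ((commutator_le_of_le_normalizer hBZ).trans rad_le)).1
    (key1 (ann_stab h.AP (stab_phi h.AP h.AK)) (ann_stab hBP (stab_phi hBP hBK)) rad_le
      (rad_comm_le.trans ((h.ker_ann inf_le_left).2 le_rfl)) hBZ
      (le_normalizer_rad hQU (le_normalizer_inf hQU (le_normalizer_relCentralizer hQP hQK))) hQB hUQ
      hp (natCast_card_ne_zero_of_le rad_le (H46.natCast_algClosure_ne_zero h.cop)) cop
      (ann_alpha hp hBP (H47.coprime_of_not_dvd_of_isPGroup h.pg hpB) hQP hQB hC))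

theorem key2_grp {q s : ℕ} [Fact q.Prime] [Fact s.Prime]
    (h' : Lev q U (U ⊓ relCentralizer P K) Q) (hQP : Q ≤ 𝐍(P))
    (hQK : Q ≤ 𝐍(K)) (hQB : Q ≤ 𝐂(B)) (hRP : R ≤ 𝐍(P)) (hRK : R ≤ 𝐍(K)) (hRU : R ≤ 𝐍(U))
    (hRB : R ≤ 𝐂(B)) (hZB : ⁅⁅U, U⁆, B⁆ ≤ U ⊓ relCentralizer P K)
    (hZR : ⁅⁅U, U⁆, R⁆ ≤ U ⊓ relCentralizer P K) (hUB : U ≤ ⁅U, B⁆) (hQR : Q ≤ ⁅Q, R⁆)
    (hQ : IsPGroup s Q) (c1 : (Nat.card B).Coprime (Nat.card Q))
    (c3 : (Nat.card B).Coprime (Nat.card U)) (hC : ⁅P ⊓ 𝐂(B), Q⁆ ≤ ⁅P, P⁆ ⊔ K) :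
    ⁅U, U⁆ ≤ U ⊓ relCentralizer P K := by
  have hker := (h.ker_ann (k := AlgebraicClosure (ZMod p)) inf_le_left).2 le_rfl
  haveI := h'.pg.isNilpotent
  exact (h.ker_ann (k := AlgebraicClosure (ZMod p))
    (commutator_le_of_le_normalizer le_normalizer)).1
    (key2 (ann_stab h.AP (stab_phi h.AP h.AK)) (ann_stab hBP (stab_phi hBP hBK))
      (ann_stab hQP (stab_phi hQP hQK)) (ann_stab hRP (stab_phi hRP hRK)) hBU h'.AP hRU hQB hRB
      (h'.cl2.trans hker) (hZB.trans hker) (h'.cA.trans hker) (hZR.trans hker)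
      hUB h'.comm hQR hQ hp (H46.natCast_algClosure_ne_zero h.cop)
      (H46.natCast_algClosure_ne_zero hpB) c1 h'.cop' c3 inferInstance
      (ann_alpha hp hBP (H47.coprime_of_not_dvd_of_isPGroup h.pg hpB) hQP hQB hC))

end key

section steps

variable {𝓙 : Set (Subgroup Y)} [Fact p.Prime] (h : Lev p U K X) (hF : Fam U K T B H 𝓙)
  (hp : (Nat.card B).Prime) (hBU : B ≤ 𝐍(U)) (cU : (Nat.card B).Coprime (Nat.card U))
include h hF

omit [Fact p.Prime] in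
theorem Fam.normU {J : Subgroup Y} (hJ : J ∈ 𝓙) : U ≤ 𝐍(J) := le_normalizer_of_comm_le
  ((commutator_mono (hF.le J hJ) le_rfl).trans (rad_comm_le.trans (hF.ge J hJ)))

omit [Fact p.Prime] in
theorem Fam.normX (hna : rad U K ≤ ⁅U, U⁆ ⊔ K) {J : Subgroup Y} (hJ : J ∈ 𝓙) : X ≤ 𝐍(J) :=
  le_normalizer_of_comm_le ((commutator_mono ((hF.le J hJ).trans hna) le_rfl).trans
    (h.phi_comm.trans (hF.ge J hJ)))

include hp hBU cU

theorem Fam.na (hna : rad U K ≤ ⁅U, U⁆ ⊔ K) (hBX : B ≤ 𝐍(X))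
    (cX : (Nat.card B).Coprime (Nat.card X)) (hX : ⁅⁅X, X⁆, X⁆ ≤ X ⊓ relCentralizer U K)
    {J : Subgroup Y} (hJ : J ∈ 𝓙) :
    ⁅T, U⁆ ≤ J ∨ (B ≤ 𝐍(J) ∧ ⁅U, ⁅X, B⁆⁆ ≤ rad U J) := by
  refine (hF.pr J hJ).imp And.left fun ⟨h1, h2⟩ => ?_
  have hBJ := le_normalizer_of_comm_le ((commutator_mono (hF.le J hJ) le_rfl).trans h1)
  have hUJ := hF.normU h hJ
  have hXJ := hF.normX h hna hJ
  have hUZ := comm_le_rad h.PK h.cl2
  refine ⟨hBJ, h2.elim (fun h2 => comm_le_of_le_relC (commutator_le_of_le_right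
    (le_normalizer_relCentralizer h.AP (le_normalizer_rad h.AP hXJ))
    (le_relC (le_normalizer_rad hBU hBJ) (le_rad hUJ (commutator_le_of_le_normalizer hBU) h2))))
    fun ⟨d, d1, d2, d3⟩ => ?_⟩
  obtain ⟨k, _, μ, hμ⟩ := hF.form J hJ
  haveI := h.pg.isNilpotent
  exact lemL hμ hUZ hUJ (h.cl2.trans (hF.ge J hJ)) hp hBU hBJ ((commutator_mono hUZ le_rfl).trans h1)
    h.AP hXJ (h.cA.trans (hF.ge J hJ)) hBX
    (((comm_le_of_le_relC (hX.trans inf_le_right)).trans (le_inf h.KP (hF.ge J hJ))).trans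
      (inf_le_rad hUJ)) inferInstance cX h.cop' cU d1 d2 d3

omit hp hBU cU [Fact p.Prime] in
theorem Fam.ab (hab : ⁅U, U⁆ ≤ K) (hT : T ≤ U) {J : Subgroup Y} (hJ : J ∈ 𝓙) :
    K ≤ J ∧ J ≤ U ∧ (T ≤ J ∨ ⁅U, B⁆ ≤ J) :=
  have hZ := le_rad h.PK le_rfl hab
  ⟨hF.ge J hJ, (hF.le J hJ).trans rad_le, (hF.pr J hJ).imp
    (fun h1 => (le_inf le_rfl (hT.trans hZ)).trans h1.2)
    fun h1 => (commutator_mono hZ le_rfl).trans h1.1⟩

theorem Fam.step {T' : Subgroup Y} (hBK : B ≤ 𝐍(K)) (hBX : B ≤ 𝐍(X))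
    (cX : (Nat.card B).Coprime (Nat.card X)) (hX : ⁅⁅X, X⁆, X⁆ ≤ X ⊓ relCentralizer U K)
    (hH : X ⊔ B ≤ H) (hT : T ≤ U ⊓ 𝐂(B)) (hT' : T' ≤ X ⊓ 𝐂(B)) (hTT : ⁅U ⊓ 𝐂(B), T'⁆ ≤ T) :
    GG U (⁅U, U⁆ ⊔ K) X (rad X (X ⊓ relCentralizer U K)) T' B := by
  intro x hx hx0
  have hXK := le_normalizer_inf le_normalizer (le_normalizer_relCentralizer h.AP h.AK)
  have hBZ := le_normalizer_rad hBX (le_normalizer_inf hBX (le_normalizer_relCentralizer hBU hBK))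
  rcases h.cen with hab | hna
  · obtain ⟨J, hJ, h1⟩ := hF.sep x (le_rad h.PK le_rfl hab hx) fun e => hx0 (mem_sup_right e)
    obtain ⟨R, r1, r2, r3, r4, r5⟩ := ab_step 𝓙 hp hab h.AP h.AK hBU hBK hBX hBZ rad_le
      (comm_le_rad hXK hX) (comm_le_of_le_relC (rad_comm_le.trans inf_le_right)) hT' cU cX h.cop'
      (fun J hJ => (hF.ab h hab (hT.trans inf_le_left) hJ).imp_right fun a => a.imp_right
        fun b => b.imp_left hTT.trans) (fun J hJ g hg => hF.cj J hJ g (hH hg)) hJ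
    exact ⟨R, sup_le (hab.trans r1) r1, r2.trans ((hF.le J hJ).trans rad_le), r3, r4,
      fun e => h1 (r2 e), r5⟩
  have h1 : ¬ ∀ y ∈ U, ⁅x, y⁆ ∈ K := fun e => hx0 (hna ((mem_rad h.PK).2 ⟨hx, e⟩))
  push Not at h1
  obtain ⟨y, hy, h1⟩ := h1
  obtain ⟨J, hJ, h2⟩ := hF.sep _ (comm_le_rad h.PK h.cl2 (commutator_mem_commutator hx hy)) h1
  have hUJ := hF.normU h hJ
  have hXR := le_normalizer_rad h.AP (hF.normX h hna hJ)
  have h3 : x ∉ rad U J := fun e => h2 (e.2.2 y hy)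
  have h4 : ⁅U, U⁆ ⊔ K ≤ rad U J := sup_le (comm_le_rad hUJ (h.cl2.trans (hF.ge J hJ)))
    ((le_inf h.KP (hF.ge J hJ)).trans (inf_le_rad hUJ))
  rcases hF.na h hp hBU cU hna hBX cX hX hJ with h5 | ⟨h5, h6⟩
  · refine ⟨coreBy B (rad U J), le_coreBy.2 fun a ha => (cj_eq_of_mem_normalizer
      (stab_phi hBU hBK ha)).ge.trans (cj_mono a h4), coreBy_le_self.trans rad_le,
      le_normalizer_of_forall_cj_le fun g hg => le_coreBy.2 fun a ha => (cj_mono g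
        (coreBy_le ha)).trans (le_of_eq ?_), le_normalizer_coreBy, fun e => h3 (coreBy_le_self e),
      Or.inl (hTT.trans (le_coreBy.2 fun a ha t ht => mem_cj.2 ?_))⟩
    · conv_rhs => rw [← cj_eq_of_mem_normalizer (hXR (inv_conj_mem_of_le_normalizer hBX ha hg))]
      rw [← cj_mul, ← cj_mul]
      congr 1; group
    · rw [mul_assoc, ← (hT ht).2 a ha, inv_mul_cancel_left]
      exact le_rad hUJ (hT.trans inf_le_left) h5 ht
  · exact ⟨rad U J, h4, rad_le, hXR, le_normalizer_rad hBU h5, h3, Or.inr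
      ⟨(commutator_mono le_rfl (commutator_mono rad_le le_rfl)).trans h6, (commutator_mono h6
        (hT'.trans inf_le_left)).trans (commutator_le_of_le_normalizer hXR)⟩⟩

theorem Fam.termY {q : ℕ} [Fact q.Prime] (hBK : B ≤ 𝐍(K)) (hBX : B ≤ 𝐍(X))
    (cX : (Nat.card B).Coprime (Nat.card X)) (hX : ⁅⁅X, X⁆, X⁆ ≤ X ⊓ relCentralizer U K)
    (hXq : IsPGroup q X) (hXB : X ≤ ⁅X, B⁆) (hH : X ⊔ Q ≤ H) (hT : T ≤ U ⊓ 𝐂(B)) (hQB : Q ≤ 𝐂(B))
    (hQU : Q ≤ 𝐍(U)) (hQX : Q ≤ 𝐍(X)) (cQ : (Nat.card B).Coprime (Nat.card Q))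
    (hTQ : U ⊓ 𝐂(B) ≤ T ∨ (X ≤ ⁅X, Q⁆ ∧ ⁅U ⊓ 𝐂(B), Q⁆ ≤ T)) : T ≤ ⁅U, U⁆ ⊔ K := by
  have hTU := hT.trans inf_le_left
  rcases h.cen with hab | hna
  · refine le_sup_of_le_right fun t ht => by_contra fun h0 => ?_
    obtain ⟨J, hJ, h1⟩ := hF.sep t (le_rad h.PK le_rfl hab (hTU ht)) h0
    exact h1 (sup_step 𝓙 hp h.KP hab h.AP h.AK hBU hBK hBX hXB h.comm hXq cU cX hT hQB hQU hQX cQ
      (fun J hJ => hF.ab h hab hTU hJ) (fun J hJ g hg => hF.cj J hJ g (hH hg)) hTQ hJ ht)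
  refine fun t ht => hna ((mem_rad h.PK).2 ⟨hTU ht, fun y hy => by_contra fun h0 => ?_⟩)
  have h1 := commutator_mem_commutator (hTU ht) hy
  obtain ⟨J, hJ, h2⟩ := hF.sep _ (comm_le_rad h.PK h.cl2 h1) h0
  rcases hF.na h hp hBU cU hna hBX cX hX hJ with h5 | ⟨-, h6⟩
  · exact h2 (h5 (commutator_mem_commutator ht hy))
  · exact h2 ((commutator_mono (h.comm.trans ((commutator_mono le_rfl hXB).trans h6)) le_rfl).trans
      rad_comm_le h1)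

theorem Fam.termX (hXB : X ≤ 𝐂(B)) (cX : (Nat.card B).Coprime (Nat.card X)) (hUB : U ≤ ⁅U, B⁆)
    (hT : T ≤ U ⊓ 𝐂(B)) : T ≤ K := by
  have hTU := hT.trans (inf_centralizer_le_commutator hBU cU hUB)
  refine h.cen.elim hTU.trans fun hna t ht => by_contra fun h0 => ?_
  have hUZ := comm_le_rad h.PK h.cl2
  obtain ⟨J, hJ, h2⟩ := hF.sep _ (hUZ (hTU ht)) h0
  rcases hF.pr J hJ with h5 | ⟨h5, h6 | ⟨d, d1, d2, d3⟩⟩
  · exact h2 (h5.2 ⟨ht, hUZ (hTU ht)⟩)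
  · exact h2 ((commutator_mono hUB le_rfl).trans h6 (hTU ht))
  · obtain ⟨k, _, μ, hμ⟩ := hF.form J hJ
    have := l0_cent hμ hUZ (hF.normU h hJ) (h.cl2.trans (hF.ge J hJ)) hp hBU
      (le_normalizer_of_comm_le ((commutator_mono (hF.le J hJ) le_rfl).trans h5))
      ((commutator_mono hUZ le_rfl).trans h5) h.AP (hF.normX h hna hJ)
      (h.cA.trans (hF.ge J hJ)) hXB cX cU d1 d2 d3
    exact h2 ((commutator_mono (h.comm.trans ((commutator_mono hUB le_rfl).trans this)) le_rfl).trans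
      rad_comm_le (hTU ht))

end steps

end H83
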