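import Mathlib
import Cfsg.Agent.Base
import Cfsg.Agent.Lib.FGS83.TurF
import Cfsg.Agent.Lib.FGS83.LowFit
import Cfsg.Agent.Lib.BG47.MinAct

/-!
# Towers (helper83)
-/

set_option autoImplicit false

namespace H83

open Subgroup H2 H68 H45 H47 Cfsg
open scoped commutatorElement

variable {Y : Type*} [Group Y]

local notation "𝐍(" H ")" => Subgroup.normalizer (SetLike.coe H)
local notation "𝐂(" H ")" => Subgroup.centralizer (SetLike.coe H)

/-- The levels `m, …, h` of a tower. -/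
structure Tow (X B : Subgroup Y) (m h : ℕ) (p : ℕ → ℕ) (P : ℕ → Subgroup Y) : Prop where
  pr : ∀ j, m ≤ j → (p j).Prime
  cop : ∀ j, m ≤ j → ¬ p j ∣ Nat.card (P (j + 1))
  pg : ∀ j, m ≤ j → IsPGroup (p j) (P j)
  le : ∀ j, m ≤ j → P j ≤ X
  inv : ∀ j, m ≤ j → B ≤ 𝐍(P j)
  nm : ∀ i j, m ≤ i → i ≤ j → P j ≤ 𝐍(P i)
  cm : ∀ i, m ≤ i → i < h → P i ≤ ⁅P i, P (i + 1)⁆
  top : ∀ j, m ≤ j → h < j → P j = ⊥

variable {X B : Subgroup Y} {m h : ℕ} {p : ℕ → ℕ} {P : ℕ → Subgroup Y}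

theorem Tow.mono (t : Tow X B m h p P) {X' : Subgroup Y} (hX : X ≤ X') {m' : ℕ} (hm : m ≤ m') :
    Tow X' B m' h p P :=
  ⟨fun j hj => t.pr j (hm.trans hj), fun j hj => t.cop j (hm.trans hj),
    fun j hj => t.pg j (hm.trans hj), fun j hj => (t.le j (hm.trans hj)).trans hX,
    fun j hj => t.inv j (hm.trans hj), fun i j hj => t.nm i j (hm.trans hj),
    fun j hj => t.cm j (hm.trans hj), fun j hj => t.top j (hm.trans hj)⟩

theorem Tow.cons (t : Tow X B (m + 1) h p P) {s : ℕ} {S : Subgroup Y} (hs : s.Prime)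
    (h1 : ¬ s ∣ Nat.card (P (m + 1))) (h2 : IsPGroup s S) (h3 : S ≤ X) (h4 : B ≤ 𝐍(S))
    (h5 : ∀ j, m < j → P j ≤ 𝐍(S)) (h6 : m < h → S ≤ ⁅S, P (m + 1)⁆) (h7 : m ≤ h) :
    Tow X B m h (Function.update p m s) (Function.update P m S) := by
  have e1 : ∀ j, m < j → Function.update p m s j = p j := fun j hj =>
    Function.update_of_ne hj.ne' _ _
  have e2 : ∀ j, m < j → Function.update P m S j = P j := fun j hj =>
    Function.update_of_ne hj.ne' _ _
  refine ⟨fun j hj => ?_, fun j hj => ?_, fun j hj => ?_, fun j hj => ?_, fun j hj => ?_,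
    fun i j hi hj => ?_, fun j hj => ?_, fun j hj h0 => ?_⟩
  · rcases hj.eq_or_lt with rfl | hj
    exacts [by simpa using hs, by rw [e1 j hj]; exact t.pr j hj]
  · rw [e2 _ (Nat.lt_succ_of_le hj)]
    rcases hj.eq_or_lt with rfl | hj
    exacts [by simpa using h1, by rw [e1 j hj]; exact t.cop j hj]
  · rcases hj.eq_or_lt with rfl | hj
    · rw [Function.update_self, Function.update_self]; exact h2
    · rw [e1 j hj, e2 j hj]; exact t.pg j hj
  · rcases hj.eq_or_lt with rfl | hj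
    exacts [by simpa using h3, by rw [e2 j hj]; exact t.le j hj]
  · rcases hj.eq_or_lt with rfl | hj
    exacts [by simpa using h4, by rw [e2 j hj]; exact t.inv j hj]
  · rcases hj.eq_or_lt with rfl | hj
    · exact le_normalizer
    rw [e2 j (hi.trans_lt hj)]
    rcases hi.eq_or_lt with rfl | hi
    exacts [by simpa using h5 j hj, by rw [e2 i hi]; exact t.nm i j hi hj.le]
  · rw [e2 _ (Nat.lt_succ_of_le hj)]
    rcases hj.eq_or_lt with rfl | hj
    exacts [by simpa using h6, by rw [e2 j hj]; exact t.cm j hj]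
  · rw [e2 j (h7.trans_lt h0)]; exact t.top j (h7.trans_lt h0) h0

variable [Finite Y]

theorem exists_WV {K D : Subgroup Y} (hs : Group.IsSolvable X) (hKX : K ≤ X) (hXD : X ≤ D)
    (hDX : D ≤ 𝐍(X)) (hDK : D ≤ 𝐍(K)) {t k : ℕ} [ht : Fact t.Prime] {y : Y} (hy : y ∉ K)
    (hk : y ^ t ^ k = 1) : ∃ W V, K ≤ W ∧ W ≤ V ∧ V ≤ X ∧ D ≤ 𝐍(W) ∧ D ≤ 𝐍(V) ∧ y ∉ W ∧
      IsPGroup t (V /ₙ W) ∧ ∀ S ≤ X, ⁅V, S⁆ ≤ W → S ≤ V := by
  obtain ⟨W, ⟨w1, w2, w3, w4⟩, hmax⟩ := (wellFounded_gt (α := Subgroup Y)).has_min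
    {W | K ≤ W ∧ W ≤ X ∧ D ≤ 𝐍(W) ∧ y ∉ W} ⟨K, le_rfl, hKX, hDK, hy⟩
  have hXW := hXD.trans w3
  have a1 : ∀ s, qpre W (pCoreOf s (X /ₙ W)) ≤ X := fun s =>
    qpre_le_of_le_quo hXW w2 (H1.pCoreOf_le _)
  have a2 : ∀ s, D ≤ 𝐍(qpre W (pCoreOf s (X /ₙ W))) := fun s => le_normalizer_pre _ w3
    ((im_le_normalizer _ hDX).trans (H1.normalizer_le_normalizer_pCoreOf _))
  have e : fittingOf (X /ₙ W) ≤ pCoreOf t (X /ₙ W) := by
    rw [H1.fittingOf_eq_iSup_pCoreOf]
    refine iSup_le fun s => ?_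
    by_cases hst : (s : ℕ) = t
    · rw [hst]
    by_cases hy' : y ∈ qpre W (pCoreOf s (X /ₙ W))
    · obtain ⟨hyn, hy'⟩ := (mem_pre _).1 hy'
      haveI := Fact.mk s.2
      have h1 : (coset W ⟨y, hyn⟩) ^ t ^ k = 1 := by
        rw [← map_pow, ← map_one (coset W)]; exact congrArg _ (Subtype.ext hk)
      have := IsPGroup.disjoint_of_ne s t hst _ _ (H1.isPGroup_pCoreOf (X /ₙ W))
        (isPGroup_zpowers h1)
      exact (w4 ((QuotientGroup.eq_one_iff (N := W.subgroupOf 𝐍(W)) _).1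
        (Subgroup.disjoint_def.1 this hy' (mem_zpowers _)))).elim
    · have h1 : qpre W (pCoreOf s (X /ₙ W)) ≤ W := by
        by_contra h1
        exact hmax _ ⟨w1.trans (le_qpre _ _), a1 s, a2 s, hy'⟩
          (lt_of_le_not_ge (le_qpre _ _) h1)
      rw [← quo_qpre W (pCoreOf s (X /ₙ W)), (quo_eq_bot_iff (qpre_le_normalizer _ _)).2 h1]
      exact bot_le
  refine ⟨W, _, w1, le_qpre _ _, a1 t, w3, a2 t, w4, by
    rw [quo_qpre]; exact H1.isPGroup_pCoreOf _, fun S hS h1 => ?_⟩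
  rw [le_qpre_iff (hS.trans hXW)]
  refine (le_inf (im_mono _ hS) ?_).trans
    ((H1.inf_centralizer_fittingOf_le (isSolvable_im _ hs)).trans e)
  refine le_centralizer_iff.1 (e.trans ?_)
  rw [← quo_qpre W (pCoreOf t (X /ₙ W))]
  exact (quo_le_centralizer_iff (qpre_le_normalizer _ _) (hS.trans hXW)).2 h1

theorem exists_tow (hp : (Nat.card B).Prime) (d : ℕ) : ∀ (X K : Subgroup Y) (t k : ℕ) (y : Y),
    Group.IsSolvable X → B ≤ 𝐍(X) → (Nat.card B).Coprime (Nat.card X) → K ≤ X → X ≤ 𝐍(K) →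
    B ≤ 𝐍(K) → t.Prime → y ∈ lowFit X d → y ∉ K → y ^ t ^ k = 1 → ∀ m, m + d = h →
    ∃ p P, Tow X B m h p P ∧ p m = t ∧ ¬ P m ≤ K := by
  induction d with
  | zero =>
    intro X K t k y hs hBX cop hKX hXK hBK ht hy hyK hk m hm
    haveI := Fact.mk ht
    obtain ⟨S, hS, hBS⟩ := exists_invariant_sylowIn hBX cop (Or.inr hs) t
    have t0 : Tow X B (m + 1) h (fun _ => t) fun _ => ⊥ :=
      ⟨fun _ _ => ht, fun _ _ => by simpa using ht.ne_one, fun _ _ => IsPGroup.of_bot,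
        fun _ _ => bot_le, fun _ _ => le_normalizer_of_normal, fun _ _ _ _ => bot_le,
        fun _ _ _ => bot_le, fun _ _ _ => rfl⟩
    refine ⟨_, _, t0.cons ht (by simpa using ht.ne_one) hS.isPGroup hS.le hBS (fun _ _ => bot_le)
      (fun e => by omega) (by omega), by simp, fun e => hyK ?_⟩
    obtain ⟨g, hg, h1⟩ := hS.exists_le_cj (isPGroup_zpowers hk) ((zpowers_le).2 hy)
    rw [Function.update_self] at e
    exact (h1.trans ((cj_mono g e).trans (cj_eq_of_mem_normalizer (hXK hg)).le)) (mem_zpowers y)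
  | succ d ih =>
    intro X K t k y hs hBX cop hKX hXK hBK ht hy hyK hk m hm
    haveI := Fact.mk ht
    obtain ⟨W, V, w1, w2, w3, w4, w5, w6, w7, w8⟩ := exists_WV hs hKX (le_sup_left (b := B))
      (sup_le le_normalizer hBX) (sup_le hXK hBK) hyK hk
    have hXW := le_sup_left.trans w4
    have hXV := le_sup_left.trans w5
    have hL := lowFit_le X d
    have h1 : ¬ IsPGroup t (lowFit X d /ₙ V) := fun e => by
      have h2 : IsPGroup t (lowFit X d /ₙ W) := (isPGroup_quo_iff (hL.trans hXW)).2 fun x hx => by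
        obtain ⟨a, ha⟩ := (isPGroup_quo_iff (hL.trans hXV)).1 e x hx
        obtain ⟨b, hb⟩ := (isPGroup_quo_iff (w3.trans hXW)).1 w7 _ ha
        exact ⟨a + b, by rwa [pow_add, pow_mul]⟩
      have h3 := nres_eq_bot_iff.2 h2.isNilpotent
      rw [quo, im_lowFit _ hXW, ← lowFit_succ, ← im_lowFit _ hXW] at h3
      exact w6 ((quo_eq_bot_iff ((lowFit_le _ _).trans hXW)).1 h3 hy)
    obtain ⟨s, hs', hst, z, hz, hz1, hzs⟩ := exists_other_prime h1
    haveI := Fact.mk hs'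
    obtain ⟨S, hS, hBS⟩ := exists_invariant_sylowIn (le_sup_right.trans w5)
      (coprime_of_le_right cop w3) (Or.inl (isSolvable_of_card_prime hp)) t
    have hX1 : X ⊓ 𝐍(S) ≤ 𝐍(V) := inf_le_left.trans hXV
    have e : X /ₙ V = (X ⊓ 𝐍(S)) /ₙ V := by
      conv_lhs => rw [← hS.frattini_sup w3 hXV, sup_comm]
      exact quo_sup_self hX1
    rw [quo, im_lowFit _ hXV, show im (coset V) X = _ from e, ← im_lowFit _ hX1] at hz
    obtain ⟨z, hz', rfl, l, hl⟩ := exists_pElement_lift_mem _ hz hzs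
    obtain ⟨p, P, tw, hp1, hP⟩ := ih (X ⊓ 𝐍(S)) (V ⊓ (X ⊓ 𝐍(S))) s l z
      (H1.isSolvable_of_le hs inf_le_left)
      (le_normalizer_inf hBX (hBS.trans le_normalizer)) (coprime_of_le_right cop inf_le_left)
      inf_le_right (le_normalizer_inf hX1 le_normalizer)
      (le_normalizer_inf (le_sup_right.trans w5)
        (le_normalizer_inf hBX (hBS.trans le_normalizer))) hs' hz'
      (fun e => hz1 ((QuotientGroup.eq_one_iff (N := V.subgroupOf 𝐍(V)) _).2 e.1))
      (congrArg Subtype.val hl) (m + 1) (by omega)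
    have hn : ∀ j, m < j → P j ≤ 𝐍(S) := fun j hj => (tw.le j hj).trans inf_le_right
    have hc : ¬ t ∣ Nat.card (P (m + 1)) := fun e => by
      obtain ⟨a, ha⟩ := IsPGroup.iff_card.1 (hp1 ▸ tw.pg _ le_rfl : IsPGroup s (P (m + 1)))
      exact hst ((Nat.prime_dvd_prime_iff_eq ht hs').1 (ht.dvd_of_dvd_pow (ha ▸ e))).symm
    have h2 := commutator_le_of_le_normalizer (hn _ m.lt_succ_self)
    refine ⟨_, _, (tw.mono inf_le_left le_rfl).cons ht hc (hS.isPGroup.to_le h2)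
      (h2.trans (hS.le.trans w3)) (le_normalizer_commutator hBS (tw.inv _ le_rfl))
      (fun j hj => le_normalizer_commutator (hn j hj) (tw.nm _ j le_rfl hj))
      (fun _ => (commutator_commutator_eq (hn _ m.lt_succ_self)
        (coprime_of_not_dvd_of_isPGroup hS.isPGroup hc)).ge) (by omega), by simp, fun e => hP ?_⟩
    rw [Function.update_self] at e
    have h3 := (tw.le _ le_rfl).trans inf_le_left
    refine le_inf (w8 _ h3 ((commutator_mono (le_sup_of_isSylowIn (isSylowIn_iff_sylowIn.2 hS)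
      (w3.trans hXW) w7) le_rfl).trans (commutator_sup_le ((hS.le.trans w3).trans hXW)
        le_normalizer (e.trans w1) (commutator_le_of_le_normalizer (h3.trans hXW))))) (tw.le _ le_rfl)

end H83
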