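import Mathlib
import Cfsg.Agent.Base
import Cfsg.Agent.Lib.FGS83.TurG

/-!
# Minimal towers (helper83)
-/

set_option autoImplicit false

namespace H83

open Subgroup H2 H68 H45 H47 Cfsg
open scoped commutatorElement

variable {Y : Type*} [Group Y]

local notation "𝐍(" H ")" => Subgroup.normalizer (SetLike.coe H)
local notation "𝐂(" H ")" => Subgroup.centralizer (SetLike.coe H)

/-- The kernels of a tower. -/
def tk (P : ℕ → Subgroup Y) : ℕ → Subgroup Y
  | 0 => ⊥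
  | j + 1 => P (j + 1) ⊓ relCentralizer (P j) (tk P j)

variable {X B : Subgroup Y} {h : ℕ} {p : ℕ → ℕ} {P : ℕ → Subgroup Y}

theorem tk_le (j : ℕ) : tk P j ≤ P j := by
  cases j
  exacts [bot_le, inf_le_left]

variable [Finite Y]

theorem le_normalizer_tk {D : Subgroup Y} (j : ℕ) (hD : ∀ i ≤ j, D ≤ 𝐍(P i)) :
    D ≤ 𝐍(tk P j) := by
  induction j with
  | zero => exact le_normalizer_of_normal (H := ⊥)
  | succ j ih =>
    exact le_normalizer_inf (hD _ le_rfl) (le_normalizer_relCentralizer (hD _ j.le_succ)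
      (ih fun i hi => hD i (hi.trans j.le_succ)))

namespace Tow

variable (t : Tow X B 0 h p P)
include t

theorem nK {i j : ℕ} (hij : i ≤ j) : P j ≤ 𝐍(tk P i) :=
  le_normalizer_tk i fun _ hl => t.nm _ _ (Nat.zero_le _) (hl.trans hij)

theorem bK (i : ℕ) : B ≤ 𝐍(tk P i) := le_normalizer_tk i fun _ _ => t.inv _ (Nat.zero_le _)

omit [Finite Y] in
theorem not_le (h0 : P 0 ≠ ⊥) (j : ℕ) (hj : j ≤ h) : ¬ P j ≤ tk P j := by
  induction j with
  | zero => exact fun e => h0 (eq_bot_iff.2 e)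
  | succ j ih =>
    exact fun e => ih (j.le_succ.trans hj) ((t.cm j j.zero_le hj).trans
      (comm_le_of_le_relC (e.trans inf_le_right)))

theorem cop' (j : ℕ) : (Nat.card (P (j + 1))).Coprime (Nat.card (P j)) :=
  haveI := Fact.mk (t.pr j j.zero_le)
  coprime_of_not_dvd_of_isPGroup (t.pg j j.zero_le) (t.cop j j.zero_le)

theorem rebuild (j : ℕ) : j ≤ h → ∀ Q, Tow X B j h p Q → (∀ i, j ≤ i → Q i ≤ P i) →
    ¬ Q j ≤ tk P j → ∃ P', Tow X B 0 h p P' ∧ P' 0 ≠ ⊥ ∧ (∀ i, P' i ≤ P i) ∧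
      ∀ i, j ≤ i → P' i = Q i := by
  induction j with
  | zero => exact fun _ Q tq h1 h2 => ⟨Q, tq, fun e => h2 (e.le.trans bot_le),
      fun i => h1 i i.zero_le, fun _ _ => rfl⟩
  | succ j ih =>
    intro hj Q tq h1 h2
    have hn : ∀ i, j < i → Q i ≤ 𝐍(P j) := fun i hi => (h1 i hi).trans (t.nm _ _ j.zero_le hi.le)
    have h3 := commutator_le_of_le_normalizer (hn _ j.lt_succ_self)
    have tq' := tq.cons (t.pr j j.zero_le)
      (fun e => t.cop j j.zero_le (e.trans (card_dvd_of_le (h1 _ le_rfl))))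
      ((t.pg j j.zero_le).to_le h3) (h3.trans (t.le j j.zero_le))
      (le_normalizer_commutator (t.inv j j.zero_le) (tq.inv _ le_rfl))
      (fun i hi => le_normalizer_commutator (hn i hi) (tq.nm _ i le_rfl hi))
      (fun _ => (commutator_commutator_eq (hn _ j.lt_succ_self)
        (coprime_of_le_left (t.cop' j) (h1 _ le_rfl))).ge) (j.le_succ.trans hj)
    rw [Function.update_eq_self] at tq'
    obtain ⟨P', a1, a2, a3, a4⟩ := ih (j.le_succ.trans hj) _ tq' (fun i hi => by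
      rcases hi.eq_or_lt with rfl | hi
      exacts [by simpa using h3, by rw [Function.update_of_ne hi.ne']; exact h1 i hi]) fun e => by
      rw [Function.update_self] at e
      exact h2 (le_inf (h1 _ le_rfl) (le_relC ((h1 _ le_rfl).trans (t.nK j.le_succ)) e))
    exact ⟨P', a1, a2, a3, fun i hi => (a4 i (j.le_succ.trans hi)).trans
      (Function.update_of_ne (Nat.lt_of_succ_le hi).ne' _ _)⟩

end Tow

/-- A minimal tower. -/
structure MTow (X B : Subgroup Y) (h : ℕ) (p : ℕ → ℕ) (P : ℕ → Subgroup Y) : Prop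
    extends Tow X B 0 h p P where
  ne : P 0 ≠ ⊥
  min : ∀ j ≤ h, ∀ U ≤ P j, B ≤ 𝐍(U) → (∀ i, j < i → P i ≤ 𝐍(U)) → (j < h → U ≤ ⁅U, P (j + 1)⁆) →
    ¬ U ≤ tk P j → P j ≤ U

theorem Tow.exists_min (t : Tow X B 0 h p P) (h0 : P 0 ≠ ⊥) : ∃ P, MTow X B h p P := by
  obtain ⟨_, ⟨P, ⟨t, h0⟩, rfl⟩, hmin⟩ := (wellFounded_lt (α := Fin (h + 1) → Subgroup Y)).has_min
    ((fun (P : ℕ → Subgroup Y) (i : Fin (h + 1)) => P i) '' {P | Tow X B 0 h p P ∧ P 0 ≠ ⊥})
    ⟨_, P, ⟨t, h0⟩, rfl⟩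
  refine ⟨P, t, h0, fun j hj U h1 h2 h3 h4 h5 => ?_⟩
  have tq := (t.mono le_rfl (j + 1).zero_le).cons (t.pr j j.zero_le) (t.cop j j.zero_le)
    ((t.pg j j.zero_le).to_le h1) (h1.trans (t.le j j.zero_le)) h2 h3 h4 hj
  rw [Function.update_eq_self] at tq
  obtain ⟨P', a1, a2, a3, a4⟩ := t.rebuild j hj _ tq (fun i hi => by
    rcases hi.eq_or_lt with rfl | hi
    exacts [by simpa using h1, by rw [Function.update_of_ne hi.ne']]) (by simpa using h5)
  have := eq_of_le_of_not_lt (fun i : Fin (h + 1) => a3 i) (hmin _ ⟨P', ⟨a1, a2⟩, rfl⟩)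
  have h6 : P' j = P j := congrFun this ⟨j, Nat.lt_succ_of_le hj⟩
  rw [a4 j le_rfl, Function.update_self] at h6
  exact h6.ge

namespace MTow

variable (t : MTow X B h p P)
include t

theorem min' {j : ℕ} (hj : j < h) {U : Subgroup Y} (h1 : U ≤ P j) (h2 : B ≤ 𝐍(U))
    (h3 : ∀ i, j < i → P i ≤ 𝐍(U)) (h4 : ¬ ⁅U, P (j + 1)⁆ ≤ tk P j) : P j ≤ U :=
  have h5 := commutator_le_of_le_normalizer (h3 _ j.lt_succ_self)
  (t.min j hj.le _ (h5.trans h1) (le_normalizer_commutator h2 (t.inv _ (Nat.zero_le _)))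
    (fun i hi => le_normalizer_commutator (h3 i hi) (t.nm _ i (Nat.zero_le _) hi))
    (fun _ => (commutator_commutator_eq (h3 _ j.lt_succ_self)
      (coprime_of_le_right (t.cop' j) h1)).ge) h4).trans h5

theorem lev {j : ℕ} (hj : j < h) : Lev (p j) (P j) (tk P j) (P (j + 1)) := by
  haveI := Fact.mk (t.pr j j.zero_le)
  have n0 := t.nK (le_refl j)
  have n1 := t.nK j.le_succ
  have hD : B ⊔ ⨆ i : {i // j < i}, P i ≤ 𝐍(tk P j) :=
    sup_le (t.bK j) (iSup_le fun i => t.nK i.2.le)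
  have hi : ∀ i, j < i → P i ≤ B ⊔ ⨆ i : {i // j < i}, P i := fun i hi =>
    le_sup_of_le_right (le_iSup (fun i : {i // j < i} => P i) ⟨i, hi⟩)
  have c0 := commutator_le_of_le_normalizer (le_normalizer (H := P j))
  have M : MinAct (p j) ((B ⊔ ⨆ i : {i // j < i}, P i) /ₙ tk P j) (P (j + 1) /ₙ tk P j)
      (P j /ₙ tk P j) := by
    refine ⟨isPGroup_im _ (t.pg j j.zero_le), im_le_normalizer _ (sup_le (t.inv j j.zero_le)
      (iSup_le fun i => t.nm _ _ j.zero_le i.2.le)), im_mono _ (hi _ j.lt_succ_self),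
      im_le_normalizer _ (sup_le (t.inv _ (Nat.zero_le _))
      (iSup_le fun i => t.nm _ _ (Nat.zero_le _) i.2)),
      Nat.Coprime.coprime_dvd_left (card_im_dvd _ _)
        ((Nat.Prime.coprime_iff_not_dvd (t.pr j j.zero_le)).2 (t.cop j j.zero_le)).symm,
      fun e => ?_, fun U hU h1 => ?_⟩
    · rw [← im_commutator _ n0 n1] at e
      exact t.not_le t.ne j hj.le ((t.cm j j.zero_le hj).trans ((quo_eq_bot_iff
        ((commutator_le_of_le_normalizer (t.nm _ _ j.zero_le j.le_succ)).trans n0)).1 e))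
    · have h2 := le_normalizer_pre _ hD h1
      have h3 := qpre_le_of_le_quo n0 (tk_le j) hU.le
      by_contra h4
      refine hU.not_ge ((le_qpre_iff n0).1 (t.min' hj h3 (le_sup_left.trans h2)
        (fun i h => (hi i h).trans h2) fun e => h4 ?_))
      rw [← quo_qpre _ U, commutator_eq_bot_iff_le_centralizer]
      exact (quo_le_centralizer_iff (h3.trans n0) n1).2 e
  have e : ⁅P j /ₙ tk P j, P j /ₙ tk P j⁆ = ⁅P j, P j⁆ /ₙ tk P j := (im_commutator _ n0 n0).symm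
  refine ⟨t.pg j j.zero_le, tk_le j, n0, t.nm _ _ j.zero_le j.le_succ, n1, t.cm j j.zero_le hj,
    (quo_le_centralizer_iff (c0.trans n0) n0).1 (e ▸ M.commutator_le_center),
    (quo_le_centralizer_iff (c0.trans n0) n1).1 (e ▸ M.commutator_le_centralizer), fun x hx => ?_,
    ?_, t.cop j j.zero_le⟩
  · have h1 := M.pow_mem (x := coset _ ⟨x, n0 hx⟩) ((mem_im _).2 ⟨x, n0 hx, hx, rfl⟩)
    rw [e, ← map_pow] at h1
    rw [← qpre_quo (c0.trans n0)]
    exact (mem_pre _).2 ⟨pow_mem (n0 hx) _, h1⟩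
  · refine (em (⁅P j /ₙ tk P j, P j /ₙ tk P j⁆ = ⊥)).imp
      (fun h1 => (quo_eq_bot_iff (c0.trans n0)).1 (e ▸ h1)) fun h1 => ?_
    rw [← quo_le_quo_iff (rad_le.trans n0) (c0.trans n0), ← e, ← M.center_eq h1]
    exact le_inf (im_mono _ rad_le) ((quo_le_centralizer_iff (rad_le.trans n0) n0).2 rad_comm_le)

theorem top_ab : ⁅P h, P h⁆ ≤ tk P h := by
  haveI := Fact.mk (t.pr h h.zero_le)
  by_contra h1
  have h2 := t.min h le_rfl _ (commutator_le_of_le_normalizer le_normalizer)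
    (le_normalizer_commutator (t.inv h h.zero_le) (t.inv h h.zero_le))
    (fun i hi => (t.top i i.zero_le hi).le.trans bot_le) (fun e => (lt_irrefl _ e).elim) h1
  exact t.not_le t.ne h le_rfl ((le_of_le_comm_sup (t.pg h h.zero_le) bot_le
    (h2.trans le_sup_left)).trans bot_le)

theorem cl2 (j : ℕ) : ⁅⁅P j, P j⁆, P j⁆ ≤ tk P j := by
  rcases lt_trichotomy j h with hj | rfl | hj
  · exact (t.lev hj).cl2
  · exact (commutator_mono (commutator_le_of_le_normalizer le_normalizer) le_rfl).trans t.top_ab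
  · rw [t.top j j.zero_le hj, commutator_bot_right]; exact bot_le

variable (hp : (Nat.card B).Prime) (cX : (Nat.card B).Coprime (Nat.card X))
include hp cX

omit hp in
theorem cB (j : ℕ) : (Nat.card B).Coprime (Nat.card (P j)) :=
  coprime_of_le_right cX (t.le j j.zero_le)

theorem fit (j : ℕ) {U : Subgroup Y} (h1 : U ≤ P j) (h2 : B ≤ 𝐍(U)) (h3 : ⁅U, B⁆ ≤ tk P j) :
    U ≤ tk P j ⊔ P j ⊓ 𝐂(B) :=
  (commutator_sup_centralizer h2 (coprime_of_le_right (t.cB cX j) h1)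
    (Or.inl (isSolvable_of_card_prime hp))).ge.trans (sup_le_sup h3 (inf_le_inf_right _ h1))

theorem le_cent {j : ℕ} (hj : j ≤ h) (h1 : ∀ i, j < i → P i ≤ 𝐂(B)) (h2 : ⁅P j, B⁆ ≤ tk P j) :
    P j ≤ 𝐂(B) := by
  have h3 := t.fit hp cX j le_rfl (t.inv j j.zero_le) h2
  have h4 : B ≤ 𝐍((P j ⊓ 𝐂(B) : Subgroup Y)) := le_normalizer_inf (t.inv j j.zero_le)
    (le_normalizer.trans (normalizer_le_normalizer_centralizer B))
  have h5 : ∀ i, j < i → P i ≤ 𝐍((P j ⊓ 𝐂(B) : Subgroup Y)) := fun i hi =>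
    le_normalizer_inf (t.nm _ _ j.zero_le hi.le) ((h1 i hi).trans le_normalizer)
  refine le_trans ?_ (inf_le_right (a := P j))
  rcases hj.eq_or_lt with rfl | hj
  · exact t.min j le_rfl _ inf_le_left h4 h5 (fun e => (lt_irrefl _ e).elim)
      fun e => t.not_le t.ne j le_rfl (h3.trans (sup_le le_rfl e))
  · exact t.min' hj inf_le_left h4 h5 fun e => t.not_le t.ne j hj.le ((t.cm j j.zero_le hj).trans
      ((commutator_mono h3 le_rfl).trans (commutator_sup_le le_normalizer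
        (inf_le_left.trans (t.nK le_rfl)) (commutator_le_of_le_normalizer (t.nK j.le_succ)) e)))

omit hp cX in
theorem le_comm {j : ℕ} (hj : j ≤ h) (h1 : ∀ i, j < i → P i ≤ 𝐂(B)) (h2 : ¬ ⁅P j, B⁆ ≤ tk P j) :
    P j ≤ ⁅P j, B⁆ := by
  have h3 := commutator_le_of_le_normalizer (t.inv j j.zero_le)
  have h4 := le_normalizer_commutator (t.inv j j.zero_le) (le_normalizer (H := B))
  have h5 : ∀ i, j < i → P i ≤ 𝐍((⁅P j, B⁆ : Subgroup Y)) := fun i hi =>
    le_normalizer_commutator (t.nm _ _ j.zero_le hi.le)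
      ((h1 i hi).trans (centralizer_le_normalizer _))
  rcases hj.eq_or_lt with rfl | hj
  · exact t.min j le_rfl _ h3 h4 h5 (fun e => (lt_irrefl _ e).elim) h2
  refine t.min' hj h3 h4 h5 fun e => h2 ((commutator_mono (t.cm j j.zero_le hj) le_rfl).trans ?_)
  refine three_subgroups_le (t.nK le_rfl) (t.nK j.le_succ) (t.bK j) ?_ (by
    rwa [commutator_comm B])
  rw [commutator_eq_bot_iff_le_centralizer.2 (h1 _ j.lt_succ_self), commutator_bot_left]
  exact bot_le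

omit hp cX in
theorem le_lowFit {k : ℕ} (h1 : ∀ i, k < i → P i ≤ 𝐂(B)) (d : ℕ) :
    ∀ i, k < i → i + d = h → P i ≤ lowFit (X ⊓ 𝐂(B)) d := by
  induction d with
  | zero => exact fun i hi _ => le_inf (t.le i i.zero_le) (h1 i hi)
  | succ d ih =>
    exact fun i hi e => le_lowFit_succ (le_inf (t.le i i.zero_le) (h1 i hi))
      (ih (i + 1) (by omega) (by omega)) (t.cm i i.zero_le (by omega))

section main

variable {n : ℕ} (hh : h = n + 2) (hC : lowFit (X ⊓ 𝐂(B)) n = ⊥)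

omit t hp cX in
theorem comm_le_lowFit {S Q : Subgroup Y} {m : ℕ} (hS : S ≤ X) (hQ : Q ≤ lowFit (X ⊓ 𝐂(B)) m) :
    ⁅S ⊓ 𝐂(B), Q⁆ ≤ lowFit (X ⊓ 𝐂(B)) m :=
  commutator_le_of_le_right ((inf_le_inf_right _ hS).trans (le_normalizer_lowFit _ m)) hQ

omit t hp cX [Finite Y] in
theorem inf_le_cent (S : Subgroup Y) (m : ℕ) : S ⊓ lowFit (X ⊓ 𝐂(B)) m ≤ S ⊓ 𝐂(B) :=
  inf_le_inf_left _ ((lowFit_le _ _).trans inf_le_right)

omit hp cX in
theorem tt (n j : ℕ) : ⁅P j ⊓ 𝐂(B), P (j + 1) ⊓ lowFit (X ⊓ 𝐂(B)) (n - (j + 1))⁆ ≤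
    P j ⊓ lowFit (X ⊓ 𝐂(B)) (n - j) := by
  have h1 := inf_le_cent (X := X) (B := B) (P (j + 1)) (n - (j + 1))
  have h2 : P (j + 1) ⊓ lowFit (X ⊓ 𝐂(B)) (n - (j + 1)) ≤ 𝐍((P j ⊓ 𝐂(B) : Subgroup Y)) :=
    le_normalizer_inf (inf_le_left.trans (t.nm _ _ j.zero_le j.le_succ))
      (h1.trans (inf_le_right.trans le_normalizer))
  have h3 := commutator_le_of_le_normalizer h2
  exact le_inf (h3.trans inf_le_left) ((le_lowFit_succ
    (h3.trans (inf_le_inf_right _ (t.le j j.zero_le))) inf_le_right (commutator_commutator_eq h2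
      (coprime_of_le_right (coprime_of_le_left (t.cop' j) inf_le_left) inf_le_left)).ge).trans
    (lowFit_antitone _ (by omega)))

omit hp in
theorem pB (j : ℕ) : ¬ p j ∣ Nat.card B ∨ P j = ⊥ := by
  haveI := Fact.mk (t.pr j j.zero_le)
  refine or_iff_not_imp_right.2 fun h1 h2 => (t.pr j j.zero_le).ne_one
    (Nat.eq_one_of_dvd_coprimes (t.cB cX j) h2 ?_)
  exact ((t.pg j j.zero_le).card_eq_or_dvd).resolve_left fun e => h1 (card_eq_one.1 e)

omit hp in
theorem pB' {j : ℕ} (hj : j ≤ h) : ¬ p j ∣ Nat.card B :=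
  (t.pB cX j).resolve_right fun e => t.not_le t.ne j hj (e.le.trans bot_le)

theorem fam (n : ℕ) {j : ℕ} (hj : j < h)
    (hG : GG (P j) (⁅P j, P j⁆ ⊔ tk P j) (P (j + 1)) (rad (P (j + 1)) (tk P (j + 1)))
      (P (j + 1) ⊓ lowFit (X ⊓ 𝐂(B)) (n - (j + 1))) B) :
    ∃ 𝓙, Fam (P (j + 1)) (tk P (j + 1)) (P (j + 1) ⊓ lowFit (X ⊓ 𝐂(B)) (n - (j + 1))) B
      ((P (j + 2) ⊔ P (j + 3)) ⊔ B) 𝓙 :=
  haveI := Fact.mk (t.pr j j.zero_le)
  exists_fam (t.lev hj) (t.cl2 (j + 1)) hp (t.inv j j.zero_le) (t.bK j) (t.inv _ (Nat.zero_le _))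
    (t.pB' cX hj.le) (t.cB cX _) (inf_le_cent _ _)
    (sup_le (sup_le (t.nm _ _ j.zero_le (by omega)) (t.nm _ _ j.zero_le (by omega)))
      (t.inv j j.zero_le))
    (sup_le (sup_le (t.nK (by omega)) (t.nK (by omega))) (t.bK j))
    (sup_le (sup_le (t.nm _ _ (Nat.zero_le _) (by omega)) (t.nm _ _ (Nat.zero_le _) (by omega)))
      (t.inv _ (Nat.zero_le _))) hG

omit hp cX in
theorem gg_of_le (n : ℕ) {j : ℕ} (hj : j < h)
    (h1 : P j ⊓ lowFit (X ⊓ 𝐂(B)) (n - j) ≤ ⁅P j, P j⁆ ⊔ tk P j) :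
    GG (P j) (⁅P j, P j⁆ ⊔ tk P j) (P (j + 1)) (rad (P (j + 1)) (tk P (j + 1)))
      (P (j + 1) ⊓ lowFit (X ⊓ 𝐂(B)) (n - (j + 1))) B := fun _ _ h0 =>
  ⟨_, le_rfl, (t.lev hj).el.le, stab_phi (t.lev hj).AP (t.lev hj).AK,
    stab_phi (t.inv j j.zero_le) (t.bK j), h0, Or.inl ((t.tt n j).trans h1)⟩

include hC in
theorem gg (j : ℕ) (hj : j < h) :
    GG (P j) (⁅P j, P j⁆ ⊔ tk P j) (P (j + 1)) (rad (P (j + 1)) (tk P (j + 1)))
      (P (j + 1) ⊓ lowFit (X ⊓ 𝐂(B)) (n - (j + 1))) B := by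
  induction j with
  | zero => exact t.gg_of_le n hj (inf_le_right.trans (hC.le.trans bot_le))
  | succ j ih =>
    haveI := Fact.mk (t.pr (j + 1) (Nat.zero_le _))
    obtain ⟨𝓙, hF⟩ := t.fam hp cX n (j.lt_succ_self.trans hj) (ih (j.lt_succ_self.trans hj))
    exact hF.step (t.lev hj) hp (t.inv _ (Nat.zero_le _)) (t.cB cX _) (t.bK _)
      (t.inv _ (Nat.zero_le _)) (t.cB cX _) (t.cl2 (j + 2)) (sup_le_sup_right le_sup_left _)
      (inf_le_cent _ _) (inf_le_cent _ _) (t.tt n _)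

include hh hC in
theorem false : False := by
  classical
  have ex : ∃ k, ∀ i, k < i → P i ≤ 𝐂(B) :=
    ⟨h, fun i hi => (t.top i i.zero_le hi).le.trans bot_le⟩
  have h1 := Nat.find_spec ex
  have hkh : Nat.find ex ≤ h := Nat.find_min' ex
    fun i hi => (t.top i i.zero_le hi).le.trans bot_le
  have h2 := @Nat.find_min _ _ ex
  generalize Nat.find ex = k at h1 hkh h2
  have low := t.le_lowFit h1
  obtain rfl | k := k
  · exact t.not_le t.ne 1 (by omega) ((low (n + 1) 1 (by omega) (by omega)).trans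
      ((lowFit_antitone _ n.le_succ).trans (hC.le.trans bot_le)))
  have h3 : ¬ ⁅P (k + 1), B⁆ ≤ tk P (k + 1) := fun e => h2 k.lt_succ_self fun i hi => by
    rcases (Nat.succ_le_of_lt hi).eq_or_lt with rfl | hi
    exacts [t.le_cent hp cX hkh h1 e, h1 i hi]
  have hUB := t.le_comm hkh h1 h3
  haveI := Fact.mk (t.pr k k.zero_le)
  haveI := Fact.mk (t.pr (k + 1) (Nat.zero_le _))
  haveI := Fact.mk (t.pr (k + 2) (Nat.zero_le _))
  have L := t.lev (j := k) hkh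
  have iv := fun j => t.inv j j.zero_le
  have nm := fun i j (h : i ≤ j) => t.nm i j i.zero_le h
  have hQB := h1 (k + 2) (by omega)
  have hTQ : k + 1 < h → ⁅P k ⊓ 𝐂(B), P (k + 2)⁆ ≤ P k ⊓ lowFit (X ⊓ 𝐂(B)) (n - k) := fun hk =>
    le_inf ((commutator_mono inf_le_left le_rfl).trans (commutator_le_of_le_normalizer
      (nm _ _ (by omega)))) (comm_le_lowFit (t.le k k.zero_le)
        (low (n - k) (k + 2) (by omega) (by omega)))
  have hT0 : ∀ j, n ≤ j → P j ⊓ 𝐂(B) ≤ P j ⊓ lowFit (X ⊓ 𝐂(B)) (n - j) := fun j hj => by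
    rw [Nat.sub_eq_zero_of_le hj]
    exact le_inf inf_le_left (inf_le_inf_right _ (t.le j j.zero_le))
  have h4 : P k ⊓ lowFit (X ⊓ 𝐂(B)) (n - k) ≤ ⁅P k, P k⁆ ⊔ tk P k := by
    obtain rfl | k := k
    · exact inf_le_right.trans (hC.le.trans bot_le)
    obtain ⟨𝓙, hF⟩ := t.fam hp cX n (j := k) (by omega) (t.gg hp cX hC k (by omega))
    refine hF.termY L hp (iv _) (t.cB cX _) (t.bK _) (iv _) (t.cB cX _) (t.cl2 (k + 2))
      (t.pg _ (Nat.zero_le _)) hUB le_sup_left (inf_le_cent _ _) hQB (nm _ _ (by omega))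
      (nm _ _ (by omega)) (t.cB cX _) ?_
    rcases hkh.eq_or_lt with e | e
    exacts [Or.inl (hT0 _ (by omega)), Or.inr ⟨t.cm _ (Nat.zero_le _) e, hTQ e⟩]
  rcases hkh.eq_or_lt with e | hk
  · exact h3 (key0_grp L hp (iv _) (t.bK _) (iv _) (t.pB' cX (by omega))
      (show _ ≤ tk P (k + 1) from e ▸ t.top_ab) ((hT0 _ (by omega)).trans h4))
  have L' := t.lev hk
  have h5 : ⁅rad (P (k + 1)) (tk P (k + 1)), B⁆ ≤ tk P (k + 1) :=
    key1_grp L hp (iv _) (t.bK _) (iv _) (t.pB' cX (by omega)) (nm _ _ (by omega))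
      (t.nK (by omega)) L'.AP hQB L'.comm (t.cB cX _) ((hTQ hk).trans h4)
  have h6 := (commutator_mono (comm_le_rad L'.PK L'.cl2) le_rfl).trans h5
  have h7 := t.fit hp cX (k + 1) (commutator_le_of_le_normalizer le_normalizer)
    (le_normalizer_commutator (iv _) (iv _)) h6
  obtain ⟨𝓙, hF⟩ := t.fam hp cX n (j := k) hkh (t.gg_of_le n hkh h4)
  have h8 := hF.termX L' hp (iv _) (t.cB cX _) hQB (t.cB cX _) hUB (inf_le_cent _ _)
  refine h3 ((commutator_mono (le_rad L'.PK le_rfl ?_) le_rfl).trans h5)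
  rcases (Nat.succ_le_of_lt hk).eq_or_lt with e | hk'
  · exact h7.trans (sup_le le_rfl ((hT0 _ (by omega)).trans h8))
  have hRB := h1 (k + 3) (by omega)
  refine key2_grp L hp (iv _) (t.bK _) (iv _) (t.pB' cX (by omega)) L' (nm _ _ (by omega))
    (t.nK (by omega)) hQB (nm _ _ (by omega)) (t.nK (by omega)) (nm _ _ (by omega)) hRB h6
    ((commutator_mono h7 le_rfl).trans (commutator_sup_le le_normalizer
      (inf_le_left.trans L'.PK) (commutator_le_of_le_normalizer (t.nK (by omega))) ?_)) hUB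
    (t.cm _ (Nat.zero_le _) hk') (t.pg _ (Nat.zero_le _)) (t.cB cX _) (t.cB cX _)
    ((hTQ hk).trans h4)
  exact (le_inf ((commutator_mono inf_le_left le_rfl).trans (commutator_le_of_le_normalizer
      (nm _ _ (by omega)))) (comm_le_lowFit (t.le _ (Nat.zero_le _))
        (low (n - (k + 1)) (k + 3) (by omega) (by omega)))).trans h8

end main

end MTow

theorem lowFit_add_two (hs : Group.IsSolvable X) (hp : (Nat.card B).Prime) (hBX : B ≤ 𝐍(X))
    (cX : (Nat.card B).Coprime (Nat.card X)) {n : ℕ} (hC : lowFit (X ⊓ 𝐂(B)) n = ⊥) :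
    lowFit X (n + 2) = ⊥ := by
  by_contra h0
  obtain ⟨t, ht, hd⟩ := Nat.exists_prime_and_dvd (fun e => h0 (card_eq_one.1 e))
  obtain ⟨y, hy, ho⟩ := H1.exists_mem_orderOf_eq_prime ht hd
  obtain ⟨p, P, tw, -, h1⟩ := exists_tow (h := n + 2) hp (n + 2) X ⊥ t 1 y hs hBX cX bot_le
    le_normalizer_of_normal le_normalizer_of_normal ht hy (fun e => ht.one_lt.ne (by
      rw [← ho, mem_bot.1 e, orderOf_one])) (by rw [pow_one, ← ho, pow_orderOf_eq_one]) 0 (by omega)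
  obtain ⟨P, t⟩ := tw.exists_min fun e => h1 e.le
  exact t.false hp cX rfl hC

end H83
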